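import Groth.Agent.Lib.Lim.OpenImm
import Groth.Agent.Lib.LimTop.Points
import Mathlib.AlgebraicGeometry.Morphisms.UniversallyInjective
import Mathlib.AlgebraicGeometry.Morphisms.FinitePresentation

/-!
# Descent of surjectivity and of properties of the diagonal along limits
-/

set_option autoImplicit false
set_option backward.isDefEq.respectTransparency false

noncomputable section

universe u

open CategoryTheory CategoryTheory.Limits AlgebraicGeometry Groth.Agent.Lib.Lim.Basic
  Groth.Agent.Lib.Lim.Descend Groth.Agent.Lib.Lim.Props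

namespace Groth.Agent.H47.LimDescend

theorem surjective_descends : Descends.{u} @Surjective @LocallyOfFinitePresentation := by
  intro I _ _ D c hc hD i₀ hcD hqD X₀ f₀ hcX hqX hQ X f qX hX hP
  have : ∀ {i j : I} (g : i ⟶ j), IsAffineHom (D.map g) := fun g => hD _ _ g
  have : Surjective f := hP
  have : LocallyOfFinitePresentation f₀ := hQ
  have hcons : Topology.IsConstructible (Set.range f₀) := by
    rw [← Set.image_univ]
    exact f₀.isConstructible_image .univ
  obtain ⟨j, φ, h⟩ := Groth.Agent.Lib.LimTop.Points.exists_map_preimage_eq_empty hc i₀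
    (Groth.Agent.Lib.LimTop.PC.IsPC.compl_of_isConstructible hcons) (by
      rw [Set.eq_empty_iff_forall_notMem]
      intro s hs
      obtain ⟨x, hx⟩ := f.surjective s
      refine hs ⟨qX x, ?_⟩
      rw [← hx, ← Scheme.Hom.comp_apply, hX.w, Scheme.Hom.comp_apply]; rfl)
  refine ⟨j, φ, ⟨fun y => ?_⟩⟩
  have hy : y ∈ Set.range (pullback.snd f₀ (D.map φ)) := by
    rw [Scheme.Pullback.range_snd]
    by_contra hy
    exact Set.eq_empty_iff_forall_notMem.1 h y hy
  exact hy

lemma isPullback_self_product {X₀ S X B : Scheme.{u}} {f₀ : X₀ ⟶ S} {b : B ⟶ S} {fst : X ⟶ X₀}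
    {snd : X ⟶ B} (sq : IsPullback fst snd f₀ b) :
    IsPullback (pullback.map snd snd f₀ f₀ fst fst b sq.w.symm sq.w.symm)
      (pullback.snd snd snd ≫ snd) (pullback.snd f₀ f₀ ≫ f₀) b := by
  have h1 : IsPullback (pullback.fst snd snd ≫ fst) (pullback.snd snd snd) f₀ (snd ≫ b) :=
    (IsPullback.of_hasPullback snd snd).paste_horiz sq
  have h2 : IsPullback (pullback.map snd snd f₀ f₀ fst fst b sq.w.symm sq.w.symm)
      (pullback.snd snd snd) (pullback.snd f₀ f₀) fst := by
    refine IsPullback.of_right ?_ (pullback.lift_snd _ _ _) (IsPullback.of_hasPullback f₀ f₀)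
    convert h1 using 1
    · exact pullback.lift_fst _ _ _
    · exact sq.w
  exact h2.paste_vert sq

/-- If `P` descends then so does "the diagonal has `P`". -/
theorem diagonal_descends {P Q Q' : MorphismProperty Scheme.{u}} [P.IsStableUnderBaseChange]
    [Q.RespectsIso] (H : Descends P Q)
    (hQ : ∀ ⦃X Y : Scheme.{u}⦄ (f : X ⟶ Y), Q' f → Q (pullback.diagonal f)) :
    Descends P.diagonal Q' := by
  intro I _ _ D c hc hD i₀ hcD hqD X₀ f₀ hcX hqX hQ' X f qX hX hP
  have : ∀ (i j : I) (g : i ⟶ j), IsAffineHom (D.map g) := hD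
  have : QuasiCompact f₀ := inferInstance
  have : QuasiSeparated f₀ := inferInstance
  have : CompactSpace ↥(pullback f₀ f₀) := QuasiCompact.compactSpace_of_compactSpace (pullback.fst f₀ f₀)
  have : QuasiSeparatedSpace ↥(pullback f₀ f₀) := quasiSeparatedSpace_of_quasiSeparated (pullback.fst f₀ f₀)
  obtain ⟨i, φ, Xi, Yi, fi, gi, pY, pX, hYi, hXi, hfi⟩ :=
    descend_over H D c hc i₀ (pullback.diagonal f₀) (pullback.snd f₀ f₀ ≫ f₀)
      (pullback.diagonal f) (pullback.snd f f ≫ f)
      (pullback.map f f f₀ f₀ qX qX _ hX.w.symm hX.w.symm) qX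
      (isPullback_self_product hX) (isPullback_diagonal hX) (hQ f₀ hQ') hP
  refine ⟨i, φ, ?_⟩
  let sq := IsPullback.of_hasPullback f₀ (D.map φ)
  let e := (isPullback_self_product sq).isoPullback ≪≫ hYi.isoPullback.symm
  have he : e.hom ≫ pY = pullback.map _ _ f₀ f₀ (pullback.fst f₀ (D.map φ))
      (pullback.fst f₀ (D.map φ)) _ sq.w.symm sq.w.symm := by simp [e]
  have hd := isPullback_diagonal sq
  have sq2 : IsPullback (hXi.lift (pullback.fst f₀ (D.map φ))
      (pullback.diagonal (pullback.snd f₀ (D.map φ)) ≫ e.hom) (by rw [Category.assoc, he]; exact hd.w))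
      (pullback.diagonal (pullback.snd f₀ (D.map φ))) fi e.hom := by
    refine IsPullback.of_right ?_ (hXi.lift_snd _ _ _) hXi
    rw [hXi.lift_fst, he]
    exact hd
  exact P.of_isPullback sq2 hfi

theorem universallyInjective_descends :
    Descends.{u} @UniversallyInjective @LocallyOfFinitePresentation := by
  rw [universallyInjective_eq_diagonal]
  exact diagonal_descends (Q' := @LocallyOfFinitePresentation) surjective_descends
    (fun X Y f (hf : LocallyOfFinitePresentation f) => by
      have : LocallyOfFinitePresentation (pullback.diagonal f ≫ pullback.fst f f) := by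
        rw [pullback.diagonal_fst]; infer_instance
      exact Groth.Agent.Lib.Lim.OpenImm.lfp_of_comp _ (pullback.fst f f))

theorem isIso_descends :
    Descends.{u} (MorphismProperty.isomorphisms Scheme) @LocallyOfFinitePresentation := by
  intro I _ _ D c hc hD i₀ hcD hqD X₀ f₀ hcX hqX hQ X f qX hX hP
  have : IsIso f := hP
  obtain ⟨i, φ, hi⟩ := Groth.Agent.Lib.Lim.OpenImm.isOpenImmersion_descends D c hc hD i₀ hcD hqD f₀
    hcX hqX hQ f qX hX inferInstance
  obtain ⟨j, ψ, hj⟩ := surjective_descends D c hc hD i₀ hcD hqD f₀ hcX hqX hQ f qX hX inferInstance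
  obtain ⟨k, a, b, hab⟩ := IsCofiltered.cospan φ ψ
  refine ⟨k, a ≫ φ, ?_⟩
  have h1 : IsOpenImmersion (pullback.snd f₀ (D.map (a ≫ φ))) :=
    prop_of_factor (P := @IsOpenImmersion) hi (D.map a) (D.map_comp a φ).symm
      (IsPullback.of_hasPullback f₀ _)
  have h2 : Surjective (pullback.snd f₀ (D.map (a ≫ φ))) :=
    prop_of_factor (P := @Surjective) hj (D.map b) (by rw [hab, D.map_comp])
      (IsPullback.of_hasPullback f₀ _)
  show IsIso _
  exact (isIso_iff_isOpenImmersion_and_surjective _).2 ⟨h1, h2⟩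

theorem mono_descends :
    Descends.{u} (MorphismProperty.monomorphisms Scheme) @LocallyOfFinitePresentation := by
  have : MorphismProperty.monomorphisms Scheme.{u} = (MorphismProperty.isomorphisms Scheme.{u}).diagonal := by
    ext X Y f
    exact (pullback.isIso_diagonal_iff f).symm
  rw [this]
  refine @diagonal_descends (MorphismProperty.isomorphisms Scheme.{u}) @LocallyOfFinitePresentation
    @LocallyOfFinitePresentation _ _ @isIso_descends fun X Y f (hf : LocallyOfFinitePresentation f) => ?_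
  have : LocallyOfFinitePresentation (pullback.diagonal f ≫ pullback.fst f f) := by
    rw [pullback.diagonal_fst]; infer_instance
  exact Groth.Agent.Lib.Lim.OpenImm.lfp_of_comp _ (pullback.fst f f)

lemma qcqs_of_stage {X₀ Y₀ S : Scheme.{u}} (f₀ : X₀ ⟶ Y₀) (g₀ : Y₀ ⟶ S) [CompactSpace S]
    [QuasiSeparatedSpace S] [QuasiCompact g₀] [QuasiSeparated g₀] [QuasiCompact (f₀ ≫ g₀)]
    [QuasiSeparated (f₀ ≫ g₀)] :
    (CompactSpace X₀ ∧ QuasiSeparatedSpace X₀) ∧ CompactSpace Y₀ ∧ QuasiSeparatedSpace Y₀ :=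
  ⟨⟨QuasiCompact.compactSpace_of_compactSpace (f₀ ≫ g₀), quasiSeparatedSpace_of_quasiSeparated (f₀ ≫ g₀)⟩,
    QuasiCompact.compactSpace_of_compactSpace g₀, quasiSeparatedSpace_of_quasiSeparated g₀⟩

end Groth.Agent.H47.LimDescend
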