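import Groth.Agent.H47.FibreLocus
import Groth.Agent.H47.LimDescend
import Mathlib.AlgebraicGeometry.Morphisms.UniversallyInjective
import Groth.Prelude
import Mathlib.AlgebraicGeometry.Noetherian

/-!
# From constructibility of loci to constructible properties
-/

set_option autoImplicit false
set_option backward.isDefEq.respectTransparency false

noncomputable section

universe u

open CategoryTheory CategoryTheory.Limits AlgebraicGeometry Groth.Agent.H47.FibreLocus

namespace Groth.Agent.H47.ConsBasic

/-- a generic point of a space lies in the interior of a constructible set or of its complement -/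
theorem mem_interior_of_isConstructible {T : Type*} [TopologicalSpace T] {η : T}
    (hη : IsGenericPoint η Set.univ) {E : Set T} (hE : Topology.IsConstructible E) :
    (η ∈ E → η ∈ interior E) ∧ (η ∉ E → η ∈ interior Eᶜ) := by
  induction hE using Topology.IsConstructible.empty_union_induction with
  | open_retrocompact U hUo hUc =>
    refine ⟨fun h => by rwa [hUo.interior_eq], fun h => ?_⟩
    have hU : U = ∅ := by
      by_contra hne
      exact h ((hη.mem_open_set_iff hUo).2 (by simpa using Set.nonempty_iff_ne_empty.2 hne))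
    simp [hU]
  | union s hs t ht h1 h2 =>
    refine ⟨fun h => ?_, fun h => ?_⟩
    · rcases h with h | h
      · exact interior_mono Set.subset_union_left (h1.1 h)
      · exact interior_mono Set.subset_union_right (h2.1 h)
    · rw [Set.compl_union, interior_inter]
      exact ⟨h1.2 fun e => h (Or.inl e), h2.2 fun e => h (Or.inr e)⟩
  | compl s hs h1 =>
    refine ⟨fun h => h1.2 h, fun h => ?_⟩
    rw [compl_compl]
    exact h1.1 (not_not.1 h)

theorem dichotomy {S : Scheme.{u}} [IsIntegral S] [IsNoetherian S] {E : Set S}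
    (hE : Topology.IsLocallyConstructible E) :
    (interior E).Nonempty ∨ (interior Eᶜ).Nonempty := by
  obtain ⟨h1, h2⟩ := mem_interior_of_isConstructible (genericPoint_spec S)
    (Topology.IsLocallyConstructible.isConstructible hE)
  by_cases h : genericPoint S ∈ E
  · exact Or.inl ⟨_, h1 h⟩
  · exact Or.inr ⟨_, h2 h⟩

theorem interior_nonempty {S : Scheme.{u}} [IsIntegral S] [IsNoetherian S] {E : Set S}
    (hE : ProCons.IsIndConstructible E) (h : genericPoint S ∈ E) : (interior E).Nonempty := by
  obtain ⟨U, hU, hxU, 𝒮, h𝒮, heq⟩ := hE (genericPoint S)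
  obtain ⟨T, hT, hηT⟩ : (⟨_, hxU⟩ : U) ∈ ⋃₀ 𝒮 := heq ▸ (show _ ∈ Subtype.val ⁻¹' E from h)
  obtain ⟨V, hV, hVo, hc⟩ := h𝒮 T hT ⟨_, hxU⟩
  have hη : IsGenericPoint (⟨⟨_, hxU⟩, mem_of_mem_nhds hV⟩ : V) Set.univ := by
    rw [isGenericPoint_iff_forall_closed] <;> try exact trivial
    · intro Z hZ hz
      obtain ⟨C, hC, rfl⟩ := isClosed_induced_iff.1 hZ
      obtain ⟨D, hD, rfl⟩ := isClosed_induced_iff.1 hC
      intro v _
      exact hD.closure_subset_iff.2 (Set.singleton_subset_iff.2 hz)
        (show v.1.1 ∈ closure ({genericPoint S} : Set S) from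
          (genericPoint_spec S).symm.le trivial)
    · exact isClosed_univ
  have := (mem_interior_of_isConstructible hη hc).1 hηT
  rw [mem_interior] at this
  obtain ⟨W, hWsub, hWo, hW⟩ := this
  refine ⟨genericPoint S, mem_interior.2 ⟨Subtype.val '' (Subtype.val '' W), ?_,
    hU.isOpenMap_subtype_val _ (hVo.isOpenMap_subtype_val _ hWo), ⟨_, ⟨_, hW, rfl⟩, rfl⟩⟩⟩
  rintro _ ⟨_, ⟨w, hw, rfl⟩, rfl⟩
  exact (Set.ext_iff.1 heq w.1).2 ⟨T, hT, hWsub hw⟩

theorem snd_iff (P : MorphismProperty Scheme.{u}) [P.RespectsIso] {X S T : Scheme.{u}}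
    (u : X ⟶ S) (a : T ⟶ S) : P (pullback.snd u a) ↔ P (bcMap u (𝟙 S) a) := by
  have h : IsPullback (pullback.fst u (pullback.fst (𝟙 S) a))
      (bcMap u (𝟙 S) a ≫ pullback.snd (𝟙 S) a) u a := by
    simpa using (IsPullback.of_hasPullback u (pullback.fst (𝟙 S) a)).paste_vert
      (IsPullback.of_hasPullback (𝟙 S) a)
  rw [← h.isoPullback_inv_snd, P.cancel_left_of_respectsIso, P.cancel_right_of_respectsIso]

theorem locus_eq (P : MorphismProperty Scheme.{u}) [P.RespectsIso] {X S : Scheme.{u}} (u : X ⟶ S) :
    ConsProp.locus (fun Y T g => P g) u = {s | P (bcMap u (𝟙 S) (S.fromSpecResidueField s))} :=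
  Set.ext fun s => snd_iff P u _

theorem locusMor_eq (P : MorphismProperty Scheme.{u}) [P.RespectsIso] {X Y S : Scheme.{u}}
    (f : X ⟶ Y) (g : Y ⟶ S) :
    ConsProp.locusMor (fun X Y T f g => P f) f g =
      {s | P (bcMap f g (S.fromSpecResidueField s))} :=
  Set.ext fun s => fibreMap_iff f g P _

theorem surjective_of_subsingleton {T T' : Scheme.{u}} (h : T' ⟶ T) [Subsingleton T]
    [IsIntegral T'] : Surjective h :=
  ⟨fun t => ⟨Classical.arbitrary _, Subsingleton.elim _ _⟩⟩

theorem universallyInjective_iff_of_surjective {X X' Y Y' : Scheme.{u}} {f : X ⟶ Y} {f' : X' ⟶ Y'}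
    {eX : X' ⟶ X} {eY : Y' ⟶ Y} (sq : IsPullback eX f' f eY) [Surjective eY] :
    UniversallyInjective f ↔ UniversallyInjective f' := by
  refine ⟨fun h => MorphismProperty.of_isPullback sq h, fun h => ?_⟩
  rw [UniversallyInjective.iff_diagonal] at h ⊢
  have hs : Surjective eX := MorphismProperty.of_isPullback sq.flip inferInstance
  let q : pullback f' f' ⟶ pullback f f :=
    pullback.map f' f' f f eX eX eY sq.w.symm sq.w.symm
  have hq : IsPullback q (pullback.snd f' f' ≫ f') (pullback.snd f f ≫ f) eY :=
    (Groth.Agent.H47.LimDescend.isPullback_self_product sq)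
  have : Surjective q := MorphismProperty.of_isPullback hq.flip inferInstance
  have e : pullback.diagonal f' ≫ q = eX ≫ pullback.diagonal f := by
    apply pullback.hom_ext <;> simp [q]
  have h' : Surjective (pullback.diagonal f) := by
    have : Surjective (eX ≫ pullback.diagonal f) := e ▸ inferInstance
    exact Surjective.of_comp eX _
  exact h'

end Groth.Agent.H47.ConsBasic
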