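import Mathlib.AlgebraicGeometry.Morphisms.QuasiCompact
import Mathlib.AlgebraicGeometry.Morphisms.QuasiSeparated
import Mathlib.Topology.Constructible

/-!
# Preimages of locally constructible sets under morphisms of schemes
-/

namespace Groth.Agent.H47.ConsPreimage

open AlgebraicGeometry CategoryTheory Topology Set

universe u

variable {X Y : Scheme.{u}}

lemma isConstructible_preimage_affine (f : X ⟶ Y) [IsAffine X] [IsAffine Y] {s : Set Y}
    (hs : IsConstructible s) : IsConstructible (f ⁻¹' s) :=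
  hs.preimage f.continuous fun t hto ht ↦
    (QuasiCompact.isCompact_preimage t hto ht.isCompact).isRetrocompact (hto.preimage f.continuous)

lemma isLocallyConstructible_preimage (f : X ⟶ Y) {s : Set Y} (hs : IsLocallyConstructible s) :
    IsLocallyConstructible (f ⁻¹' s) := by
  intro x
  obtain ⟨U, hU, hUo, hc⟩ := hs (f x)
  obtain ⟨_, ⟨V, hV, rfl⟩, hxV, hVU⟩ :=
    Y.isBasis_affineOpens.exists_subset_of_mem_open (mem_of_mem_nhds hU) hUo
  obtain ⟨_, ⟨W, hW, rfl⟩, hxW, hWV⟩ :=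
    X.isBasis_affineOpens.exists_subset_of_mem_open (show x ∈ f ⁻¹ᵁ V from hxV) (f ⁻¹ᵁ V).isOpen
  have h1 : IsConstructible (Subtype.val ⁻¹' s : Set V) := by
    have hinc : IsOpenEmbedding (fun v : V ↦ (⟨v.1, hVU v.2⟩ : U)) :=
      IsOpenEmbedding.of_comp (fun v : V ↦ (⟨v.1, hVU v.2⟩ : U)) (g := (Subtype.val : U → Y))
        hUo.isOpenEmbedding_subtypeVal V.isOpen.isOpenEmbedding_subtypeVal
    exact hc.preimage_of_isOpenEmbedding (f := fun v : V ↦ (⟨v.1, hVU v.2⟩ : U)) hinc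
  have : IsAffine V := hV
  have : IsAffine W := hW
  refine ⟨W, W.isOpen.mem_nhds hxW, W.isOpen, ?_⟩
  have := isConstructible_preimage_affine (f.resLE V W hWV) h1
  have e : ∀ w, ((f.resLE V W hWV) w).1 = f w.1 := fun w ↦ congr($(Scheme.Hom.resLE_comp_ι f hWV) w)
  have e2 : (f.resLE V W hWV) ⁻¹' (Subtype.val ⁻¹' s : Set V) = (fun w : W ↦ w.1) ⁻¹' (f ⁻¹' s) := by
    ext w
    show ((f.resLE V W hWV) w).1 ∈ s ↔ f w.1 ∈ s
    rw [e]
  rw [e2] at this
  exact this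

lemma isLocallyConstructible_restrict (f : X ⟶ Y) (U : Set Y) (hU : IsOpen U) {T : Set U}
    (hT : IsLocallyConstructible T) : IsLocallyConstructible (U.restrictPreimage f ⁻¹' T) := by
  have h := isLocallyConstructible_preimage (f ∣_ (⟨U, hU⟩ : Y.Opens)) (s := T) hT
  have e : (f ∣_ (⟨U, hU⟩ : Y.Opens)) ⁻¹' T =
      (fun w : (f ⁻¹ᵁ (⟨U, hU⟩ : Y.Opens) : X.Opens) ↦ U.restrictPreimage f ⟨w.1, w.2⟩) ⁻¹' T := by
    ext w
    show (f ∣_ (⟨U, hU⟩ : Y.Opens)) w ∈ T ↔ U.restrictPreimage f ⟨w.1, w.2⟩ ∈ T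
    rw [morphismRestrict_base]
    rfl
  rw [e] at h
  exact h

end Groth.Agent.H47.ConsPreimage
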