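import Groth.Agent.H47.SpecLimit
import Groth.Agent.Lib.Lim.Descend
import Groth.Prelude
import Mathlib.AlgebraicGeometry.ResidueField
import Mathlib.AlgebraicGeometry.Morphisms.FinitePresentation
import Mathlib.RingTheory.Localization.Away.AdjoinRoot

/-!
# Ind-constructibility of the loci of points over which the fibre map has a property that descends

The residue field of a prime `p` of `R` is the directed colimit of the rings `R[1/g]/(F)`, `g ∉ p`,
`F ⊆ p` finite.  A property which descends along limits therefore holds over some locally closed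
constructible neighbourhood of every point over which it holds.
-/

set_option autoImplicit false
set_option linter.unusedVariables false
set_option backward.isDefEq.respectTransparency false

noncomputable section

universe u

open CategoryTheory CategoryTheory.Limits AlgebraicGeometry Groth.Agent.Lib.Lim.Basic
  Groth.Agent.Lib.Lim.Descend

namespace Groth.Agent.H47.FibreLocus

/-! ### The residue field as a directed colimit -/

variable {R : Type u} [CommRing R]

/-- an index: an element outside `p` and a finite subset of `p` -/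
structure Ix (p : Ideal R) : Type u where
  g : R
  hg : g ∉ p
  F : Finset R
  hF : ∀ x ∈ F, x ∈ p

instance (p : Ideal R) : Preorder (Ix p) where
  le a b := a.g ∣ b.g ∧ a.F ⊆ b.F
  le_refl a := ⟨dvd_rfl, subset_rfl⟩
  le_trans a b c h h' := ⟨h.1.trans h'.1, h.2.trans h'.2⟩

variable {p : Ideal R} [hp : p.IsPrime]

instance : Nonempty (Ix p) := ⟨⟨1, fun h => hp.ne_top ((Ideal.eq_top_iff_one p).2 h), ∅, by simp⟩⟩

instance : IsDirectedOrder (Ix p) := ⟨fun a b => by
  classical
  exact ⟨⟨a.g * b.g, fun h => (hp.mem_or_mem h).elim a.hg b.hg, a.F ∪ b.F,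
      fun x hx => (Finset.mem_union.1 hx).elim (a.hF x) (b.hF x)⟩,
    ⟨dvd_mul_right _ _, Finset.subset_union_left⟩, ⟨dvd_mul_left _ _, Finset.subset_union_right⟩⟩⟩

/-- the ideal defining a stage inside the localization -/
abbrev stIdeal (i : Ix p) : Ideal (Localization.Away i.g) :=
  (Ideal.span (i.F : Set R)).map (algebraMap R (Localization.Away i.g))

/-- a stage -/
abbrev Stage (i : Ix p) : Type u := Localization.Away i.g ⧸ stIdeal i

omit hp in
theorem ringHom_ext {i : Ix p} {A : Type u} [CommRing A] {φ ψ : Stage i →+* A}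
    (h : ∀ r, φ (algebraMap R (Stage i) r) = ψ (algebraMap R (Stage i) r)) : φ = ψ :=
  Ideal.Quotient.ringHom_ext (IsLocalization.ringHom_ext (Submonoid.powers i.g) (RingHom.ext h))

omit hp in
theorem algebraMap_g_isUnit (i : Ix p) : IsUnit (algebraMap R (Stage i) i.g) :=
  (IsLocalization.Away.algebraMap_isUnit i.g).map (Ideal.Quotient.mk (stIdeal i))

omit hp in
theorem algebraMap_F (i : Ix p) {x : R} (hx : x ∈ i.F) : algebraMap R (Stage i) x = 0 :=
  Ideal.Quotient.eq_zero_iff_mem.2 (Ideal.mem_map_of_mem _ (Ideal.subset_span hx))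

/-- the universal property of a stage -/
def liftHom (i : Ix p) {A : Type u} [CommRing A] (φ : R →+* A) (hg : IsUnit (φ i.g))
    (hF : ∀ x ∈ i.F, φ x = 0) : Stage i →+* A :=
  Ideal.Quotient.lift (stIdeal i) (IsLocalization.Away.lift i.g (g := φ) hg) fun a ha => by
    induction ha using Submodule.span_induction with
    | mem x hx =>
      obtain ⟨r, hr, rfl⟩ := hx
      rw [IsLocalization.Away.lift_eq]
      exact RingHom.mem_ker.1 ((Ideal.span_le.2 fun x hx => RingHom.mem_ker.2 (hF x hx)) hr)
    | zero => simp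
    | add x y _ _ hx hy => simp [hx, hy]
    | smul c x _ hx => simp [hx]

omit hp in
@[simp] theorem liftHom_algebraMap (i : Ix p) {A : Type u} [CommRing A] (φ : R →+* A)
    (hg : IsUnit (φ i.g)) (hF : ∀ x ∈ i.F, φ x = 0) (r : R) :
    liftHom i φ hg hF (algebraMap R (Stage i) r) = φ r :=
  IsLocalization.Away.lift_eq i.g hg r

/-- transition map -/
def trans {i j : Ix p} (h : i ≤ j) : Stage i →+* Stage j :=
  liftHom i (algebraMap R (Stage j))
    (isUnit_of_dvd_unit (map_dvd _ h.1) (algebraMap_g_isUnit j))
    (fun x hx => algebraMap_F j (h.2 hx))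

variable (p) in
/-- the diagram of the stages -/
def stages : Ix p ⥤ CommRingCat.{u} where
  obj i := .of (Stage i)
  map f := CommRingCat.ofHom (trans f.le)
  map_id i := by
    ext1
    refine ringHom_ext fun r => ?_
    simp [trans]
  map_comp f g := by
    ext1
    refine ringHom_ext fun r => ?_
    simp [trans]

/-- the map of a stage to the residue field -/
def toRes (i : Ix p) : Stage i →+* p.ResidueField :=
  liftHom i (algebraMap R p.ResidueField)
    (isUnit_iff_ne_zero.2 fun h => i.hg (Ideal.algebraMap_residueField_eq_zero.1 h))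
    (fun x hx => Ideal.algebraMap_residueField_eq_zero.2 (i.hF x hx))

variable (p) in
/-- the cocone of the stages -/
def resCocone : Cocone (stages p) where
  pt := .of p.ResidueField
  ι := {
    app i := CommRingCat.ofHom (toRes i)
    naturality i j f := by
      ext1
      refine ringHom_ext fun r => ?_
      simp [stages, trans, toRes] }

theorem nonempty_isColimit_resCocone : Nonempty (IsColimit (resCocone p)) := by
  classical
  refine SpecLimit.nonempty_isColimit _ _ ?_ ?_
  · intro (a : p.ResidueField)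
    obtain ⟨x, y, hy, rfl⟩ := IsFractionRing.div_surjective (R ⧸ p) a
    obtain ⟨x, rfl⟩ := Ideal.Quotient.mk_surjective x
    obtain ⟨y, rfl⟩ := Ideal.Quotient.mk_surjective y
    have hyp : y ∉ p := fun h => nonZeroDivisors.ne_zero hy (Ideal.Quotient.eq_zero_iff_mem.2 h)
    let i : Ix p := ⟨y, hyp, ∅, by simp⟩
    obtain ⟨v, hv⟩ := algebraMap_g_isUnit i
    refine ⟨i, (algebraMap R (Stage i) x * ↑v⁻¹ : Stage i), ?_⟩
    show toRes i _ = _
    rw [eq_div_iff (by
      rw [← Ideal.Quotient.algebraMap_eq, ← IsScalarTower.algebraMap_apply]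
      exact fun h => hyp (Ideal.algebraMap_residueField_eq_zero.1 h))]
    have h2 : toRes i ↑v = algebraMap R p.ResidueField y := by
      rw [hv]
      exact liftHom_algebraMap ..
    rw [← Ideal.Quotient.algebraMap_eq, ← IsScalarTower.algebraMap_apply,
      ← IsScalarTower.algebraMap_apply, ← h2, ← map_mul, mul_assoc, Units.inv_mul, mul_one]
    exact liftHom_algebraMap ..
  · intro i x hx
    obtain ⟨x, rfl⟩ := Ideal.Quotient.mk_surjective x
    obtain ⟨⟨a, s⟩, hs⟩ := IsLocalization.surj (Submonoid.powers i.g) x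
    have hs' : Ideal.Quotient.mk (stIdeal i) x * algebraMap R (Stage i) s =
        algebraMap R (Stage i) a := congrArg (Ideal.Quotient.mk (stIdeal i)) hs
    have ha : a ∈ p := by
      have h := congrArg (toRes i) hs'
      rw [map_mul, show toRes i (Ideal.Quotient.mk _ x) = 0 from hx, zero_mul] at h
      exact Ideal.algebraMap_residueField_eq_zero.1 ((liftHom_algebraMap ..).symm.trans h.symm)
    let j : Ix p := ⟨i.g, i.hg, insert a i.F, fun y hy =>
      (Finset.mem_insert.1 hy).elim (fun e => e ▸ ha) (i.hF y)⟩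
    have hij : i ≤ j := ⟨dvd_rfl, Finset.subset_insert _ _⟩
    refine ⟨j, homOfLE hij, ?_⟩
    have h := congrArg (trans hij) hs'
    rw [map_mul] at h
    simp only [trans, liftHom_algebraMap] at h
    rw [algebraMap_F j (Finset.mem_insert_self a i.F)] at h
    have hu : IsUnit (algebraMap R (Stage j) (s : R)) := by
      obtain ⟨n, hn⟩ := s.2
      rw [← hn, map_pow]
      exact (algebraMap_g_isUnit j).pow n
    exact (IsUnit.mul_left_eq_zero hu).1 h

omit hp in
theorem finitePresentation_stage (i : Ix p) :
    (algebraMap R (Stage i)).FinitePresentation := by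
  have : Algebra.FinitePresentation R (Localization.Away i.g) :=
    IsLocalization.Away.finitePresentation i.g
  have := Algebra.FinitePresentation.quotient (R := R) (I := stIdeal i)
    (Ideal.FG.map ⟨i.F, rfl⟩ _)
  exact RingHom.finitePresentation_algebraMap.2 this

/-! ### Fibre maps -/

section

variable {X Y S : Scheme.{u}} (f : X ⟶ Y) (g : Y ⟶ S)

/-- the base change of `f` to a scheme over the base -/
abbrev bcMap {T : Scheme.{u}} (a : T ⟶ S) :
    pullback f (pullback.fst g a) ⟶ pullback g a :=
  pullback.snd f (pullback.fst g a)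

theorem isPullback_fibreMap {T : Scheme.{u}} (a : T ⟶ S) :
    IsPullback (pullback.fst (f ≫ g) a)
      (pullback.lift (pullback.fst (f ≫ g) a ≫ f) (pullback.snd (f ≫ g) a)
        ((Category.assoc _ _ _).trans pullback.condition))
      f (pullback.fst g a) := by
  refine IsPullback.of_bot ?_ (pullback.lift_fst _ _ _).symm (IsPullback.of_hasPullback g a)
  rw [pullback.lift_snd]
  exact IsPullback.of_hasPullback _ _

theorem fibreMap_iff (P : MorphismProperty Scheme.{u}) [P.RespectsIso] {T : Scheme.{u}} (a : T ⟶ S) :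
    P (pullback.lift (pullback.fst (f ≫ g) a ≫ f) (pullback.snd (f ≫ g) a)
        ((Category.assoc _ _ _).trans pullback.condition) :
      pullback (f ≫ g) a ⟶ pullback g a) ↔ P (bcMap f g a) := by
  rw [← (isPullback_fibreMap f g a).isoPullback_hom_snd]
  exact P.cancel_left_of_respectsIso _ _

variable {f g} {P Q : MorphismProperty Scheme.{u}}

theorem bcMap_of_comp [P.IsStableUnderBaseChange] {T T' : Scheme.{u}} {a : T ⟶ S} {a' : T' ⟶ S}
    (m : T' ⟶ T) (e : m ≫ a = a') (h : P (bcMap f g a)) : P (bcMap f g a') :=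
  prop_of_factor (b' := pullback.fst g a') h
    (pullback.lift (pullback.fst g a') (pullback.snd g a' ≫ m)
      (by rw [Category.assoc, e, pullback.condition]))
    (pullback.lift_fst _ _ _) (IsPullback.of_hasPullback f _)

theorem exists_stage [P.IsStableUnderBaseChange] [Q.IsStableUnderBaseChange] (H : Descends P Q)
    [QuasiCompact g] [QuasiSeparated g] [QuasiCompact (f ≫ g)] [QuasiSeparated (f ≫ g)] (hQ : Q f)
    {A : CommRingCat.{u}} (u : Spec A ⟶ S) (q : Ideal A) [q.IsPrime]
    (h : P (bcMap f g (Spec.map (CommRingCat.ofHom (algebraMap A q.ResidueField)) ≫ u))) :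
    ∃ i : Ix q, P (bcMap f g (Spec.map (CommRingCat.ofHom (algebraMap A (Stage i))) ≫ u)) := by
  obtain ⟨i₀⟩ : Nonempty (Ix q) := inferInstance
  let D := SpecLimit.diagram (stages q)
  let c := SpecLimit.cone (stages q) (resCocone q)
  let j : ∀ i : Ix q, Spec (.of (Stage i)) ⟶ S := fun i =>
    Spec.map (CommRingCat.ofHom (algebraMap A (Stage i))) ≫ u
  let w : Spec (CommRingCat.of q.ResidueField) ⟶ S :=
    Spec.map (CommRingCat.ofHom (algebraMap A q.ResidueField)) ≫ u
  have hj : ∀ {i i' : Ix q} (φ : i ⟶ i'), Spec.map ((stages q).map φ) ≫ j i = j i' := by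
    intro i i' φ
    rw [← Category.assoc, ← Spec.map_comp]
    congr 2
    ext1
    refine RingHom.ext fun r => ?_
    simp [stages, trans]
  have hw : Spec.map (CommRingCat.ofHom (toRes i₀)) ≫ j i₀ = w := by
    rw [← Category.assoc, ← Spec.map_comp]
    congr 2
    ext1
    refine RingHom.ext fun r => ?_
    simp [toRes]
  let g₀ : pullback g (j i₀) ⟶ Spec (.of (Stage i₀)) := pullback.snd g (j i₀)
  let f₀ := bcMap f g (j i₀)
  have hfg₀ : IsPullback (pullback.fst f (pullback.fst g (j i₀))) (f₀ ≫ g₀) (f ≫ g) (j i₀) :=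
    (IsPullback.of_hasPullback f (pullback.fst g (j i₀))).paste_vert
      (IsPullback.of_hasPullback g (j i₀))
  have h1 : QuasiCompact g₀ := MorphismProperty.pullback_snd _ _ inferInstance
  have h2 : QuasiSeparated g₀ := MorphismProperty.pullback_snd _ _ inferInstance
  have h3 : QuasiCompact (f₀ ≫ g₀) :=
    MorphismProperty.of_isPullback (P := @QuasiCompact) hfg₀ inferInstance
  have h4 : QuasiSeparated (f₀ ≫ g₀) :=
    MorphismProperty.of_isPullback (P := @QuasiSeparated) hfg₀ inferInstance
  have : CompactSpace ↥(pullback g (j i₀)) := QuasiCompact.compactSpace_of_compactSpace g₀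
  have : QuasiSeparatedSpace ↥(pullback g (j i₀)) := quasiSeparatedSpace_of_quasiSeparated g₀
  have : CompactSpace ↥(pullback f (pullback.fst g (j i₀))) :=
    QuasiCompact.compactSpace_of_compactSpace (f₀ ≫ g₀)
  have : QuasiSeparatedSpace ↥(pullback f (pullback.fst g (j i₀))) :=
    quasiSeparatedSpace_of_quasiSeparated (f₀ ≫ g₀)
  let qY : pullback g w ⟶ pullback g (j i₀) :=
    pullback.lift (pullback.fst g w) (pullback.snd g w ≫ Spec.map (CommRingCat.ofHom (toRes i₀)))
      (by rw [Category.assoc, hw, pullback.condition])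
  have hY : IsPullback qY (pullback.snd g w) g₀ (c.π.app (.op i₀)) := by
    refine IsPullback.of_right ?_ (pullback.lift_snd _ _ _) (IsPullback.of_hasPullback g (j i₀))
    rw [pullback.lift_fst]
    change IsPullback (pullback.fst g w) (pullback.snd g w) g
      (Spec.map (CommRingCat.ofHom (toRes i₀)) ≫ j i₀)
    rw [hw]
    exact IsPullback.of_hasPullback g w
  let qX : pullback f (pullback.fst g w) ⟶ pullback f (pullback.fst g (j i₀)) :=
    pullback.lift (pullback.fst f _) (pullback.snd f _ ≫ qY)
      (by rw [Category.assoc, pullback.lift_fst, pullback.condition])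
  have hX : IsPullback qX (bcMap f g w) f₀ qY := by
    refine IsPullback.of_right ?_ (pullback.lift_snd _ _ _) (IsPullback.of_hasPullback f _)
    rw [pullback.lift_fst, pullback.lift_fst]
    exact IsPullback.of_hasPullback f _
  have hlim : IsLimit c := SpecLimit.isLimitCone _ _ nonempty_isColimit_resCocone.some
  obtain ⟨i, φ, Xi, Yi, fi, gi, pY, pX, hYi, hXi, hP⟩ :=
    descend_over H D c hlim (.op i₀) f₀ g₀ (bcMap f g w) (pullback.snd g w) qY qX hY hX
      (MorphismProperty.pullback_snd _ _ hQ) h
  refine ⟨i.unop, ?_⟩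
  have hYi' : IsPullback (pY ≫ pullback.fst g (j i₀)) gi g (D.map φ ≫ j i₀) :=
    hYi.paste_horiz (IsPullback.of_hasPullback g (j i₀))
  have hXi' : IsPullback (pX ≫ pullback.fst f _) fi f (pY ≫ pullback.fst g (j i₀)) :=
    hXi.paste_horiz (IsPullback.of_hasPullback f _)
  have hP' : P (pullback.snd f (pY ≫ pullback.fst g (j i₀))) := by
    rw [← hXi'.isoPullback_inv_snd]
    exact (P.cancel_left_of_respectsIso _ _).2 hP
  have e : D.map φ ≫ j i₀ = j i.unop := hj φ.unop
  rw [e] at hYi'
  refine prop_of_factor hP' hYi'.isoPullback.inv (b' := pullback.fst g (j i.unop)) ?_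
    (IsPullback.of_hasPullback f _)
  simp

/-- The locus of the points over which the fibre map has a property that descends along limits is
ind-constructible. -/
theorem isIndConstructible_setOf [P.IsStableUnderBaseChange] [Q.IsStableUnderBaseChange]
    (H : Descends P Q)
    [QuasiCompact g] [QuasiSeparated g] [QuasiCompact (f ≫ g)] [QuasiSeparated (f ≫ g)]
    (hQ : Q f) : ProCons.IsIndConstructible {s : S | P (bcMap f g (S.fromSpecResidueField s))} := by
  intro x
  obtain ⟨U, hU, hxU, -⟩ := exists_isAffineOpen_mem_and_subset (X := S) (x := x) (U := ⊤) trivial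
  refine ⟨(U : Set S), U.2, hxU, ?_⟩
  have hUa : IsAffine U := hU
  set E : Set S := {s : S | P (bcMap f g (S.fromSpecResidueField s))} with hE
  refine ⟨{T : Set ↥U | Topology.IsLocallyConstructible T ∧ T ⊆ Subtype.val ⁻¹' E},
    fun T hT => hT.1, ?_⟩
  refine subset_antisymm (fun s hs => ?_) (Set.sUnion_subset fun T hT => hT.2)
  let q := (hU.primeIdealOf s).asIdeal
  let w := Spec.map (CommRingCat.ofHom (algebraMap Γ(S, U) q.ResidueField)) ≫ hU.fromSpec
  have hw : ∀ y, w y = s.1 := fun y => by
    have : Spec.map (CommRingCat.ofHom (algebraMap Γ(S, U) q.ResidueField)) y =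
        hU.primeIdealOf s := by
      refine PrimeSpectrum.ext ?_
      have hy : y.asIdeal = ⊥ := by
        have := y.2
        exact (Ideal.eq_bot_or_top y.asIdeal).resolve_right this.ne_top
      change Ideal.comap (algebraMap Γ(S, U) q.ResidueField) y.asIdeal = q
      rw [hy]
      exact Ideal.ker_algebraMap_residueField q
    rw [Scheme.Hom.comp_apply]
    exact (congrArg hU.fromSpec this).trans (hU.fromSpec_primeIdealOf s)
  have hPw : P (bcMap f g w) := by
    have hs' : P (bcMap f g (S.fromSpecResidueField s.1)) := hs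
    have e := Scheme.descResidueField_stalkClosedPointTo_fromSpecResidueField q.ResidueField S w
    refine bcMap_of_comp _ e ?_
    rw [hw]
    exact hs'
  obtain ⟨i, hi⟩ := exists_stage H hQ hU.fromSpec q hPw
  let k : Spec (CommRingCat.of (Stage i)) ⟶ Spec Γ(S, U) :=
    Spec.map (CommRingCat.ofHom (algebraMap Γ(S, U) (Stage i)))
  have : LocallyOfFinitePresentation k :=
    (HasRingHomProperty.Spec_iff (P := @LocallyOfFinitePresentation)).2 (finitePresentation_stage i)
  have hcons := (k ≫ hU.isoSpec.inv).isLocallyConstructible_image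
    (Topology.IsLocallyConstructible.univ (X := Spec (CommRingCat.of (Stage i))))
  refine ⟨_, ⟨hcons, ?_⟩, ?_⟩
  · rintro _ ⟨z, -, rfl⟩
    obtain ⟨t, ht⟩ : ∃ t : S, (k ≫ hU.fromSpec) z = t := ⟨_, rfl⟩
    have hval : ((k ≫ hU.isoSpec.inv) z).1 = t := by
      rw [← ht, ← hU.isoSpec_inv_ι]
      rfl
    show ((k ≫ hU.isoSpec.inv) z).1 ∈ E
    rw [hval]
    have htU : t ∈ U := hval ▸ ((k ≫ hU.isoSpec.inv) z).2
    obtain ⟨m, hm⟩ : ∃ m : Spec (S.residueField t) ⟶ Spec Γ(S, U),
        m ≫ hU.fromSpec = S.fromSpecResidueField t := by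
      refine ⟨IsOpenImmersion.lift hU.fromSpec (S.fromSpecResidueField t) ?_,
        IsOpenImmersion.lift_fac _ _ _⟩
      rw [Scheme.range_fromSpecResidueField, hU.range_fromSpec]
      exact Set.singleton_subset_iff.2 htU
    obtain ⟨ψ, rfl⟩ := Spec.map_surjective m
    have hker : RingHom.ker ψ.hom = (k z).asIdeal := by
      let pt : Spec (S.residueField t) := (⟨⊥, Ideal.isPrime_bot⟩ : PrimeSpectrum (S.residueField t))
      have h1 : Spec.map ψ pt = k z := by
        refine hU.fromSpec.isOpenEmbedding.injective ?_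
        rw [← Scheme.Hom.comp_apply, hm, Scheme.fromSpecResidueField_apply, ← ht]
        rfl
      rw [← h1]
      rfl
    have hkz : (k z).asIdeal = z.asIdeal.comap (algebraMap Γ(S, U) (Stage i)) := rfl
    have hug : IsUnit (ψ.hom i.g) := by
      refine isUnit_iff_ne_zero.2 fun h0 => ?_
      have : i.g ∈ (k z).asIdeal := hker ▸ RingHom.mem_ker.2 h0
      rw [hkz] at this
      exact z.2.ne_top (Ideal.eq_top_of_isUnit_mem _ this (algebraMap_g_isUnit i))
    have hF0 : ∀ x ∈ i.F, ψ.hom x = 0 := fun x hx => by
      rw [← RingHom.mem_ker, hker, hkz, Ideal.mem_comap, algebraMap_F i hx]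
      exact zero_mem _
    refine bcMap_of_comp (Spec.map (CommRingCat.ofHom (liftHom i ψ.hom hug hF0))) ?_ hi
    rw [← hm, ← Category.assoc, ← Spec.map_comp]
    congr 2
    ext1
    exact RingHom.ext fun r => liftHom_algebraMap i _ hug hF0 r
  · let y : Spec (CommRingCat.of q.ResidueField) :=
      (⟨⊥, Ideal.isPrime_bot⟩ : PrimeSpectrum q.ResidueField)
    refine ⟨Spec.map (CommRingCat.ofHom (toRes i)) y, trivial, Subtype.ext ?_⟩
    rw [← hw y, ← Scheme.Hom.comp_apply]
    show (_ ≫ U.ι) y = _
    congr 1
    rw [Category.assoc, Category.assoc, hU.isoSpec_inv_ι, ← Category.assoc, ← Spec.map_comp]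
    have e : CommRingCat.ofHom (algebraMap Γ(S, U) (Stage i)) ≫ CommRingCat.ofHom (toRes i) =
        CommRingCat.ofHom (algebraMap Γ(S, U) q.ResidueField) := by
      ext1
      refine RingHom.ext fun r => ?_
      simp [toRes]
    rw [e]

end

end Groth.Agent.H47.FibreLocus
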