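import Groth.Agent.H47.NoethModel
import Groth.Agent.H47.ConsPreimage
import Groth.Agent.H47.FibreLocus
import Groth.Agent.Lib.Spectral.Noetherian
import Groth.Agent.Lib.LimTop.PC
import Groth.Agent.Lib.LimTop.Points
import Groth.Prelude

/-!
# Constructible properties of algebraic schemes give constructible loci over an arbitrary base
-/

set_option autoImplicit false
set_option backward.isDefEq.respectTransparency false

noncomputable section

universe u

open CategoryTheory CategoryTheory.Limits AlgebraicGeometry Topology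

namespace Groth.Agent.H47.ConsFormal

/-! ### over a Noetherian ring -/

theorem isConstructible_of_dichotomy {R : CommRingCat.{u}} [IsNoetherianRing R] (E : Set (Spec R))
    (h : ∀ (Z : Scheme.{u}) (c : Z ⟶ Spec R) [IsIntegral Z] [IsNoetherian Z] [IsClosedImmersion c],
      (interior (c ⁻¹' E)).Nonempty ∨ (interior (c ⁻¹' E)ᶜ).Nonempty) : IsConstructible E := by
  refine Groth.Agent.Lib.Spectral.Noetherian.isConstructible_of_forall _ fun Y hY hYi hd => ?_
  obtain ⟨p, hp, rfl⟩ : ∃ p : Ideal R, p.IsPrime ∧ Y = PrimeSpectrum.zeroLocus (p : Set R) :=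
    ⟨PrimeSpectrum.vanishingIdeal Y, PrimeSpectrum.isIrreducible_iff_vanishingIdeal_isPrime.1 hYi,
      (PrimeSpectrum.zeroLocus_vanishingIdeal_eq_closure Y ▸ hY.closure_eq.symm)⟩
  let Z := Spec (CommRingCat.of (R ⧸ p))
  let c : Z ⟶ Spec R := Spec.map (CommRingCat.ofHom (Ideal.Quotient.mk p))
  have : IsClosedImmersion c := IsClosedImmersion.spec_of_surjective _ Ideal.Quotient.mk_surjective
  have hr : Set.range c = PrimeSpectrum.zeroLocus (p : Set R) :=
    (range_comap_of_surjective _ _ Ideal.Quotient.mk_surjective).trans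
      (by rw [Ideal.mk_ker])
  rcases h Z c with ⟨z, hz⟩ | ⟨z, hz⟩ <;> obtain ⟨O, hO, hOo, hzO⟩ := mem_interior.1 hz <;>
    obtain ⟨U, hU, rfl⟩ := c.isEmbedding.isInducing.isOpen_iff.1 hOo
  · refine ⟨U, hU, ⟨c z, hzO, hr ▸ ⟨z, rfl⟩⟩, fun y hy => ?_⟩
    obtain ⟨w, rfl⟩ := hr.symm.subset hy.2
    exact hO hy.1
  · exfalso
    have hzY : c z ∈ closure (E ∩ PrimeSpectrum.zeroLocus (p : Set R)) := hd (hr ▸ ⟨z, rfl⟩)
    obtain ⟨y, hyU, hyE, hyY⟩ := mem_closure_iff.1 hzY U hU hzO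
    obtain ⟨w, rfl⟩ := hr.symm.subset hyY
    exact hO hyU hyE

theorem exists_constructible_subset {R : CommRingCat.{u}} [IsNoetherianRing R] (E : Set (Spec R))
    (h : ∀ (Z : Scheme.{u}) (c : Z ⟶ Spec R) [IsIntegral Z] [IsNoetherian Z] [IsClosedImmersion c],
      genericPoint Z ∈ c ⁻¹' E → (interior (c ⁻¹' E)).Nonempty) :
    ∀ x ∈ E, ∃ T, IsConstructible T ∧ x ∈ T ∧ T ⊆ E := by
  intro x hx
  let p : Ideal R := (x : PrimeSpectrum R).asIdeal
  have hp : p.IsPrime := (x : PrimeSpectrum R).2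
  let Z := Spec (CommRingCat.of (R ⧸ p))
  let c : Z ⟶ Spec R := Spec.map (CommRingCat.ofHom (Ideal.Quotient.mk p))
  have : IsClosedImmersion c := IsClosedImmersion.spec_of_surjective _ Ideal.Quotient.mk_surjective
  have hη : c (genericPoint Z) = x := by
    rw [genericPoint_eq_bot_of_affine]
    refine PrimeSpectrum.ext ?_
    show Ideal.comap (Ideal.Quotient.mk p) ⊥ = p
    rw [← RingHom.ker_eq_comap_bot, Ideal.mk_ker]
  obtain ⟨z, hz⟩ := h Z c (show c (genericPoint Z) ∈ E from hη ▸ hx)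
  obtain ⟨O, hO, hOo, hzO⟩ := mem_interior.1 hz
  obtain ⟨U, hU, rfl⟩ := c.isEmbedding.isInducing.isOpen_iff.1 hOo
  refine ⟨U ∩ Set.range c, (Groth.Agent.Lib.Spectral.Noetherian.isConstructible_of_isOpen hU).inter
    (Groth.Agent.Lib.Spectral.Noetherian.isConstructible_of_isClosed
      c.isClosedEmbedding.isClosed_range), ?_, ?_⟩
  · refine ⟨?_, ⟨_, hη⟩⟩
    rw [← hη]
    exact ((genericPoint_spec Z).mem_open_set_iff (hU.preimage c.continuous)).2
      ⟨z, trivial, hzO⟩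
  · rintro _ ⟨hyU, w, rfl⟩
    exact hO hyU

/-! ### patching over an arbitrary base -/

theorem isConstructible_val {S : Scheme.{u}} {U : S.Opens} (hU : IsAffineOpen U) {E : Set S}
    (hE : IsConstructible (hU.fromSpec ⁻¹' E)) : IsConstructible (Subtype.val ⁻¹' E : Set U) := by
  have : IsAffine U := hU
  have h2 := ConsPreimage.isConstructible_preimage_affine hU.isoSpec.hom hE
  have e : hU.isoSpec.hom ⁻¹' (hU.fromSpec ⁻¹' E) = (Subtype.val ⁻¹' E : Set U) := by
    ext y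
    show hU.fromSpec (hU.isoSpec.hom y) ∈ E ↔ U.ι y ∈ E
    rw [← Scheme.Hom.comp_apply, ← hU.isoSpec_inv_ι, Iso.hom_inv_id_assoc]
  exact e ▸ h2

theorem isLocallyConstructible_of_models {S : Scheme.{u}} (E : Set S)
    (h : ∀ {A : CommRingCat.{u}} (u : Spec A ⟶ S) [IsOpenImmersion u],
      ∃ (A₀ : CommRingCat.{u}) (b : Spec A ⟶ Spec A₀) (E₀ : Set (Spec A₀)),
        IsConstructible E₀ ∧ u ⁻¹' E = b ⁻¹' E₀) : IsLocallyConstructible E := by
  intro x
  obtain ⟨U, hU, hxU, -⟩ := exists_isAffineOpen_mem_and_subset (X := S) (x := x) (U := ⊤) trivial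
  refine ⟨U, U.2.mem_nhds hxU, U.2, isConstructible_val hU ?_⟩
  obtain ⟨A₀, b, E₀, hE₀, he⟩ := h hU.fromSpec
  exact he ▸ ConsPreimage.isConstructible_preimage_affine b hE₀

theorem isIndConstructible_of_models {S : Scheme.{u}} (E : Set S)
    (h : ∀ {A : CommRingCat.{u}} (u : Spec A ⟶ S) [IsOpenImmersion u],
      ∃ (A₀ : CommRingCat.{u}) (b : Spec A ⟶ Spec A₀) (E₀ : Set (Spec A₀)),
        (∀ x ∈ E₀, ∃ T, IsConstructible T ∧ x ∈ T ∧ T ⊆ E₀) ∧ u ⁻¹' E = b ⁻¹' E₀) :
    ProCons.IsIndConstructible E := by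
  intro x
  obtain ⟨U, hU, hxU, -⟩ := exists_isAffineOpen_mem_and_subset (X := S) (x := x) (U := ⊤) trivial
  have : IsAffine U := hU
  refine ⟨U, U.2, hxU, {T : Set U | IsLocallyConstructible T ∧ T ⊆ Subtype.val ⁻¹' E},
    fun T hT => hT.1, subset_antisymm (fun y hy => ?_) (Set.sUnion_subset fun T hT => hT.2)⟩
  obtain ⟨A₀, b, E₀, hE₀, he⟩ := h hU.fromSpec
  have hval : ∀ w : U, hU.fromSpec (hU.isoSpec.hom w) = w.1 := fun w => by
    rw [← Scheme.Hom.comp_apply, ← hU.isoSpec_inv_ι, Iso.hom_inv_id_assoc]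
    rfl
  obtain ⟨T, hT, hyT, hTE⟩ := hE₀ (b (hU.isoSpec.hom y)) (by
    show hU.isoSpec.hom y ∈ b ⁻¹' E₀
    rw [← he, Set.mem_preimage, hval]
    exact hy)
  refine ⟨hU.isoSpec.hom ⁻¹' (b ⁻¹' T), ⟨?_, fun w hw => ?_⟩, hyT⟩
  · exact (ConsPreimage.isConstructible_preimage_affine _
      (ConsPreimage.isConstructible_preimage_affine b hT)).isLocallyConstructible
  · show w.1 ∈ E
    rw [← hval w]
    have : hU.isoSpec.hom w ∈ b ⁻¹' E₀ := hTE hw
    rwa [← he] at this

/-! ### base change of the loci -/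

theorem fiberMap_eq {X Y S : Scheme.{u}} (f : X ⟶ Y) (g : Y ⟶ S) (s : S) :
    MoreMor.fiberMap f g s =
      pullback.lift (pullback.fst (f ≫ g) (S.fromSpecResidueField s) ≫ f)
        (pullback.snd (f ≫ g) (S.fromSpecResidueField s))
        ((Category.assoc _ _ _).trans pullback.condition) := by
  apply pullback.hom_ext <;> simp [MoreMor.fiberMap] <;> rfl

theorem locusMor_preimage {P : ∀ ⦃X Y T : Scheme.{u}⦄, (X ⟶ Y) → (Y ⟶ T) → Prop}
    (hP : ConsProp.IsFieldStableMor P) {X Y S X' Y' S' : Scheme.{u}} {f : X ⟶ Y} {g : Y ⟶ S}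
    {f' : X' ⟶ Y'} {g' : Y' ⟶ S'} {b : S' ⟶ S} {qY : Y' ⟶ Y} {qX : X' ⟶ X}
    [LocallyOfFiniteType g] [QuasiCompact g] [LocallyOfFiniteType (f ≫ g)] [QuasiCompact (f ≫ g)]
    (hY : IsPullback qY g' g b) (hX : IsPullback qX f' f qY) :
    ConsProp.locusMor P f' g' = b ⁻¹' ConsProp.locusMor P f g := by
  ext s
  show P (MoreMor.fiberMap f' g' s) (g'.fiberToSpecResidueField s) ↔
    P (MoreMor.fiberMap f g (b s)) (g.fiberToSpecResidueField (b s))
  set ι := S.fromSpecResidueField (b s)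
  set ι' := S'.fromSpecResidueField s
  let h := Spec.map (b.residueFieldMap s)
  have e : h ≫ ι = ι' ≫ b := Scheme.Hom.SpecMap_residueFieldMap_fromSpecResidueField b s
  let eY : g'.fiber s ⟶ g.fiber (b s) :=
    pullback.lift (pullback.fst g' ι' ≫ qY) (pullback.snd g' ι' ≫ h)
      (by rw [Category.assoc, hY.w, pullback.condition_assoc, Category.assoc, e])
  have heY : eY ≫ pullback.fst g ι = pullback.fst g' ι' ≫ qY := pullback.lift_fst _ _ _
  have hY1 : IsPullback eY (pullback.snd g' ι') (pullback.snd g ι) h := by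
    refine IsPullback.of_right ?_ (pullback.lift_snd _ _ _) (IsPullback.of_hasPullback g ι)
    rw [heY, e]
    exact (IsPullback.of_hasPullback g' ι').paste_horiz hY
  have sq : IsPullback (pullback.fst (f' ≫ g') ι' ≫ qX) (MoreMor.fiberMap f' g' s) f
      (eY ≫ pullback.fst g ι) := by
    rw [heY, fiberMap_eq]
    exact (Groth.Agent.H47.FibreLocus.isPullback_fibreMap f' g' ι').paste_horiz hX
  have base : IsPullback (pullback.fst (f ≫ g) ι) (MoreMor.fiberMap f g (b s)) f (pullback.fst g ι) := by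
    rw [fiberMap_eq]
    exact Groth.Agent.H47.FibreLocus.isPullback_fibreMap f g ι
  have hX1 : IsPullback (base.lift (pullback.fst (f' ≫ g') ι' ≫ qX)
      (MoreMor.fiberMap f' g' s ≫ eY) (by rw [sq.w, Category.assoc]))
      (MoreMor.fiberMap f' g' s) (MoreMor.fiberMap f g (b s)) eY := by
    refine IsPullback.of_right ?_ (base.lift_snd _ _ _) base
    rw [base.lift_fst]
    exact sq
  have hfg : MoreMor.fiberMap f g (b s) ≫ g.fiberToSpecResidueField (b s) =
      (f ≫ g).fiberToSpecResidueField (b s) := by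
    rw [fiberMap_eq]
    exact pullback.lift_snd _ _ _
  haveI : LocallyOfFiniteType (MoreMor.fiberMap f g (b s) ≫ g.fiberToSpecResidueField (b s)) :=
    hfg ▸ (MorphismProperty.pullback_snd (P := @LocallyOfFiniteType) _ _ inferInstance)
  haveI : QuasiCompact (MoreMor.fiberMap f g (b s) ≫ g.fiberToSpecResidueField (b s)) :=
    hfg ▸ (MorphismProperty.pullback_snd (P := @QuasiCompact) _ _ inferInstance)
  haveI : LocallyOfFiniteType (g.fiberToSpecResidueField (b s)) :=
    MorphismProperty.pullback_snd (P := @LocallyOfFiniteType) _ _ inferInstance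
  haveI : QuasiCompact (g.fiberToSpecResidueField (b s)) :=
    MorphismProperty.pullback_snd (P := @QuasiCompact) _ _ inferInstance
  haveI : Subsingleton ↥(Spec (S.residueField (b s))) :=
    inferInstanceAs (Subsingleton (PrimeSpectrum (S.residueField (b s))))
  haveI : Subsingleton ↥(Spec (S'.residueField s)) :=
    inferInstanceAs (Subsingleton (PrimeSpectrum (S'.residueField s)))
  exact (hP (MoreMor.fiberMap f g (b s)) (g.fiberToSpecResidueField (b s))
    (MoreMor.fiberMap f' g' s) (g'.fiberToSpecResidueField s) _ eY h hY1 hX1).symm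

/-! ### relations on morphisms -/

section

variable {P : ∀ ⦃X Y T : Scheme.{u}⦄, (X ⟶ Y) → (Y ⟶ T) → Prop}

theorem locusMor_closed (hP : ConsProp.IsFieldStableMor P) {X Y S Z : Scheme.{u}} (f : X ⟶ Y)
    (g : Y ⟶ S) (c : Z ⟶ S)
    [LocallyOfFiniteType g] [QuasiCompact g] [LocallyOfFiniteType (f ≫ g)] [QuasiCompact (f ≫ g)] :
    ∃ (X' Y' : Scheme.{u}) (f' : X' ⟶ Y') (g' : Y' ⟶ Z),
      LocallyOfFiniteType g' ∧ QuasiCompact g' ∧ LocallyOfFiniteType (f' ≫ g') ∧
        QuasiCompact (f' ≫ g') ∧ ConsProp.locusMor P f' g' = c ⁻¹' ConsProp.locusMor P f g := by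
  have h := (IsPullback.of_hasPullback f (pullback.fst g c)).paste_vert (IsPullback.of_hasPullback g c)
  exact ⟨_, _, pullback.snd f (pullback.fst g c), pullback.snd g c,
    inferInstance, inferInstance, MorphismProperty.of_isPullback h inferInstance,
    MorphismProperty.of_isPullback h inferInstance,
    locusMor_preimage hP (IsPullback.of_hasPullback g c) (IsPullback.of_hasPullback _ _)⟩

theorem isLocallyConstructible_locusMor (hP : ConsProp.IsConsMor P)
    {X Y S : Scheme.{u}} (f : X ⟶ Y) (g : Y ⟶ S)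
    [LocallyOfFinitePresentation g] [QuasiCompact g] [QuasiSeparated g]
    [LocallyOfFinitePresentation (f ≫ g)] [QuasiCompact (f ≫ g)] [QuasiSeparated (f ≫ g)] :
    IsLocallyConstructible (ConsProp.locusMor P f g) := by
  refine isLocallyConstructible_of_models _ fun {A} u _ => ?_
  let f₁ := pullback.snd f (pullback.fst g u)
  let g₁ := pullback.snd g u
  have hY := IsPullback.of_hasPullback g u
  have hX := IsPullback.of_hasPullback f (pullback.fst g u)
  have h := hX.paste_vert hY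
  have : LocallyOfFinitePresentation (f₁ ≫ g₁) := MorphismProperty.of_isPullback h inferInstance
  have : QuasiCompact (f₁ ≫ g₁) := MorphismProperty.of_isPullback h inferInstance
  have : QuasiSeparated (f₁ ≫ g₁) := MorphismProperty.of_isPullback h inferInstance
  obtain ⟨A₀, hA₀, b, X₀, Y₀, f₀, g₀, qY, qX, _, _, _, _, _, _, hY0, hX0⟩ :=
    NoethModel.exists_model f₁ g₁
  refine ⟨A₀, b, ConsProp.locusMor P f₀ g₀, ?_,
    (locusMor_preimage hP.1 hY hX).symm.trans (locusMor_preimage hP.1 hY0 hX0)⟩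
  refine isConstructible_of_dichotomy _ fun Z c _ _ _ => ?_
  obtain ⟨X', Y', f', g', _, _, _, _, he⟩ := locusMor_closed hP.1 f₀ g₀ c
  rw [← he]
  exact hP.2 f' g'

theorem isIndConstructible_locusMor (hP : ConsProp.IsIndConsMor P)
    {X Y S : Scheme.{u}} (f : X ⟶ Y) (g : Y ⟶ S)
    [LocallyOfFinitePresentation g] [QuasiCompact g] [QuasiSeparated g]
    [LocallyOfFinitePresentation (f ≫ g)] [QuasiCompact (f ≫ g)] [QuasiSeparated (f ≫ g)] :
    ProCons.IsIndConstructible (ConsProp.locusMor P f g) := by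
  refine isIndConstructible_of_models _ fun {A} u _ => ?_
  let f₁ := pullback.snd f (pullback.fst g u)
  let g₁ := pullback.snd g u
  have hY := IsPullback.of_hasPullback g u
  have hX := IsPullback.of_hasPullback f (pullback.fst g u)
  have h := hX.paste_vert hY
  have : LocallyOfFinitePresentation (f₁ ≫ g₁) := MorphismProperty.of_isPullback h inferInstance
  have : QuasiCompact (f₁ ≫ g₁) := MorphismProperty.of_isPullback h inferInstance
  have : QuasiSeparated (f₁ ≫ g₁) := MorphismProperty.of_isPullback h inferInstance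
  obtain ⟨A₀, hA₀, b, X₀, Y₀, f₀, g₀, qY, qX, _, _, _, _, _, _, hY0, hX0⟩ :=
    NoethModel.exists_model f₁ g₁
  refine ⟨A₀, b, ConsProp.locusMor P f₀ g₀, ?_,
    (locusMor_preimage hP.1 hY hX).symm.trans (locusMor_preimage hP.1 hY0 hX0)⟩
  refine exists_constructible_subset _ fun Z c _ _ _ hη => ?_
  obtain ⟨X', Y', f', g', _, _, _, _, he⟩ := locusMor_closed hP.1 f₀ g₀ c
  rw [← he] at hη ⊢
  exact hP.2 f' g' hη

end

/-! ### limits -/

theorem exists_stage_eq_univ {I : Type u} [SmallCategory I] [IsCofiltered I]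
    (D : I ⥤ Scheme.{u}) (c : Cone D) (hc : IsLimit c)
    [∀ (i j : I) (a : i ⟶ j), IsAffineHom (D.map a)] (i₀ : I) [CompactSpace ↥(D.obj i₀)]
    {E : Set (D.obj i₀)} (hE : ProCons.IsIndConstructible E) (h : ∀ s, c.π.app i₀ s ∈ E) :
    ∃ (j : I) (φ : j ⟶ i₀), ∀ t, D.map φ t ∈ E := by
  have : ∀ {i j : I} (g : i ⟶ j), IsAffineHom (D.map g) := fun g => inferInstance
  obtain ⟨j, φ, hj⟩ := Groth.Agent.Lib.LimTop.Points.exists_map_preimage_eq_empty hc i₀
    (Groth.Agent.Lib.LimTop.PC.IsPC.compl_of_isIndConstructible hE)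
    (Set.eq_empty_of_forall_notMem fun s hs => hs (h s))
  exact ⟨j, φ, fun t => by_contra fun hn => (Set.eq_empty_iff_forall_notMem.1 hj) t hn⟩

theorem locusMor_limit {P : ∀ ⦃X Y T : Scheme.{u}⦄, (X ⟶ Y) → (Y ⟶ T) → Prop}
    (hP : ConsProp.IsIndConsMor P) {I : Type u} [SmallCategory I] [IsCofiltered I]
    (D : I ⥤ Scheme.{u}) (c : Cone D) (hc : IsLimit c)
    [∀ (i j : I) (a : i ⟶ j), IsAffineHom (D.map a)] (i₀ : I) [CompactSpace ↥(D.obj i₀)]
    {X₀ Y₀ : Scheme.{u}} (f₀ : X₀ ⟶ Y₀) (g₀ : Y₀ ⟶ D.obj i₀)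
    [LocallyOfFinitePresentation g₀] [QuasiCompact g₀] [QuasiSeparated g₀]
    [LocallyOfFinitePresentation (f₀ ≫ g₀)] [QuasiCompact (f₀ ≫ g₀)] [QuasiSeparated (f₀ ≫ g₀)]
    {X Y : Scheme.{u}} (f : X ⟶ Y) (g : Y ⟶ c.pt) (qY : Y ⟶ Y₀) (qX : X ⟶ X₀)
    (hY : IsPullback qY g g₀ (c.π.app i₀)) (hX : IsPullback qX f f₀ qY) :
    (∀ s : ↥c.pt, s ∈ ConsProp.locusMor P f g) ↔
      ∃ (j : I) (φ : j ⟶ i₀) (Xj Yj : Scheme.{u}) (fj : Xj ⟶ Yj) (gj : Yj ⟶ D.obj j)
        (pY : Yj ⟶ Y₀) (pX : Xj ⟶ X₀), IsPullback pY gj g₀ (D.map φ) ∧ IsPullback pX fj f₀ pY ∧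
          ∀ t : ↥(D.obj j), t ∈ ConsProp.locusMor P fj gj := by
  rw [locusMor_preimage hP.1 hY hX]
  constructor
  · intro h
    obtain ⟨j, φ, hj⟩ := exists_stage_eq_univ D c hc i₀ (isIndConstructible_locusMor hP f₀ g₀) h
    refine ⟨j, φ, _, _, pullback.snd f₀ (pullback.fst g₀ (D.map φ)), pullback.snd g₀ (D.map φ),
      _, _, IsPullback.of_hasPullback _ _, IsPullback.of_hasPullback _ _, fun t => ?_⟩
    rw [locusMor_preimage hP.1 (IsPullback.of_hasPullback g₀ (D.map φ)) (IsPullback.of_hasPullback _ _)]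
    exact hj t
  · rintro ⟨j, φ, Xj, Yj, fj, gj, pY, pX, hYj, hXj, hj⟩ s
    have := hj (c.π.app j s)
    rw [locusMor_preimage hP.1 hYj hXj, Set.mem_preimage, ← Scheme.Hom.comp_apply, c.w] at this
    exact this

end Groth.Agent.H47.ConsFormal
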