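import Groth.Agent.H47.GenericFreeDomain
import Groth.Agent.H47.ConsFormal
import Groth.Agent.H47.ConsBasic
import Mathlib.AlgebraicGeometry.Morphisms.Flat

/-!
# Generic flatness, and reduction of constructibility questions to flat families
-/

set_option autoImplicit false
set_option backward.isDefEq.respectTransparency false

noncomputable section

universe u

open CategoryTheory CategoryTheory.Limits AlgebraicGeometry Topology TensorProduct

namespace Groth.Agent.H47.GenericFlat

theorem exists_flat_affine {X S : Scheme.{u}} (h : X ⟶ S) [IsIntegral S]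
    [LocallyOfFiniteType h] [QuasiCompact h] :
    ∃ (A : CommRingCat.{u}) (u : Spec A ⟶ S), IsOpenImmersion u ∧ genericPoint S ∈ Set.range u ∧
      Flat (pullback.snd h u) := by
  classical
  obtain ⟨U, hU, hηU, -⟩ :=
    exists_isAffineOpen_mem_and_subset (X := S) (x := genericPoint S) (U := ⊤) trivial
  have : Nonempty (U : Scheme.{u}) := ⟨⟨_, hηU⟩⟩
  let R := Γ(S, U)
  have hR : IsDomain R := inferInstance
  let h₁ : pullback h hU.fromSpec ⟶ Spec R := pullback.snd h hU.fromSpec
  have : CompactSpace ↥(pullback h hU.fromSpec) := QuasiCompact.compactSpace_of_compactSpace h₁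
  let 𝒰 := (pullback h hU.fromSpec).affineCover.finiteSubcover
  have haff : ∀ k, IsAffine (𝒰.X k) := fun k => inferInstanceAs (IsAffine (Spec _))
  have key : ∀ k, ∃ r : R, r ≠ 0 ∧ ∀ r' : R, r ∣ r' →
      Flat (pullback.snd (𝒰.f k ≫ h₁)
        (Spec.map (CommRingCat.ofHom (algebraMap R (Localization.Away r'))))) := by
    intro k
    have := haff k
    let w := (𝒰.X k).isoSpec.inv ≫ 𝒰.f k ≫ h₁
    obtain ⟨φ, hφ⟩ := Spec.map_surjective w
    have hft : LocallyOfFiniteType (Spec.map φ) := hφ ▸ inferInstance
    have hft' := (HasRingHomProperty.Spec_iff (P := @LocallyOfFiniteType)).1 hft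
    algebraize [φ.hom]
    let B := Γ(𝒰.X k, ⊤)
    obtain ⟨r, hr, hfree⟩ := GenericFreeDomain.gf_of_finiteType (R := R) B B
    refine ⟨r, hr, fun r' hr' => ?_⟩
    have := GenericFree.free_of_dvd (M := B) hr'
    have hflat : Flat (Spec.map (CommRingCat.ofHom (Algebra.TensorProduct.includeLeftRingHom :
        Localization.Away r' →+* Localization.Away r' ⊗[R] B))) :=
      (HasRingHomProperty.Spec_iff (P := @Flat)).2
        (RingHom.flat_algebraMap_iff.2 (inferInstanceAs
          (Module.Flat (Localization.Away r') (Localization.Away r' ⊗[R] B))))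
    have hpb : IsPullback (Spec.map (CommRingCat.ofHom
          (Algebra.TensorProduct.includeRight : B →ₐ[R] Localization.Away r' ⊗[R] B).toRingHom))
        (Spec.map (CommRingCat.ofHom (Algebra.TensorProduct.includeLeftRingHom :
          Localization.Away r' →+* Localization.Away r' ⊗[R] B)))
        (Spec.map φ) (Spec.map (CommRingCat.ofHom (algebraMap R (Localization.Away r')))) :=
      (isPullback_SpecMap_of_isPushout _ _ _ _
        (CommRingCat.isPushout_tensorProduct R (Localization.Away r') B)).flip
    have h1 : Flat (pullback.snd (Spec.map φ)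
        (Spec.map (CommRingCat.ofHom (algebraMap R (Localization.Away r'))))) := by
      rw [← hpb.isoPullback_inv_snd]
      infer_instance
    have h2 := MorphismProperty.of_isPullback (P := @Flat)
      (IsPullback.of_hasPullback (Spec.map φ)
        (Spec.map (CommRingCat.ofHom (algebraMap R (Localization.Away r'))))) 
    have e : 𝒰.f k ≫ h₁ = (𝒰.X k).isoSpec.hom ≫ Spec.map φ := by
      rw [hφ, Iso.hom_inv_id_assoc]
    rw [e, ← pullbackRightPullbackFstIso_inv_snd_snd]
    infer_instance
  choose r hr hflat using key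
  let r₀ : R := ∏ k, r k
  have hr₀ : r₀ ≠ 0 := Finset.prod_ne_zero_iff.2 fun k _ => hr k
  let v : Spec (CommRingCat.of (Localization.Away r₀)) ⟶ Spec R :=
    Spec.map (CommRingCat.ofHom (algebraMap R (Localization.Away r₀)))
  have hv : IsOpenImmersion v := IsOpenImmersion.of_isLocalization r₀
  refine ⟨_, v ≫ hU.fromSpec, inferInstance, ?_, ?_⟩
  · have hne : Nonempty ↥(Spec (CommRingCat.of (Localization.Away r₀))) := by
      have : Nontrivial (Localization.Away r₀) :=
        (IsLocalization.injective (Localization.Away r₀) (powers_le_nonZeroDivisors_of_noZeroDivisors hr₀)).nontrivial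
      exact inferInstanceAs (Nonempty (PrimeSpectrum (Localization.Away r₀)))
    obtain ⟨z⟩ := hne
    exact ((genericPoint_spec S).mem_open_set_iff (v ≫ hU.fromSpec).isOpenEmbedding.isOpen_range).2
      ⟨_, trivial, z, rfl⟩
  · have h1 : Flat (pullback.snd h₁ v) := by
      refine (IsZariskiLocalAtSource.iff_of_openCover (P := @Flat) (𝒰.pullback₁ (pullback.fst h₁ v))).2
        fun k => ?_
      have sq : IsPullback (pullback.snd (pullback.fst h₁ v) (𝒰.f k))
          (pullback.fst (pullback.fst h₁ v) (𝒰.f k) ≫ pullback.snd h₁ v) (𝒰.f k ≫ h₁) v :=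
        (IsPullback.of_hasPullback (pullback.fst h₁ v) (𝒰.f k)).flip.paste_vert
          (IsPullback.of_hasPullback h₁ v)
      show Flat (pullback.fst (pullback.fst h₁ v) (𝒰.f k) ≫ pullback.snd h₁ v)
      have := hflat k r₀ (Finset.dvd_prod_of_mem r (@Finset.mem_univ 𝒰.I₀ _ k))
      rw [← sq.isoPullback_hom_snd]
      infer_instance
    rw [← pullbackLeftPullbackSndIso_inv_snd_snd]
    infer_instance

/-- To prove a dichotomy over integral Noetherian bases we may assume the family is flat. -/
theorem isConsMor_of_flat {P : ∀ ⦃X Y T : Scheme.{u}⦄, (X ⟶ Y) → (Y ⟶ T) → Prop}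
    (hP : ConsProp.IsFieldStableMor P)
    (h : ∀ {X Y S : Scheme.{u}} (f : X ⟶ Y) (g : Y ⟶ S) [IsIntegral S] [IsNoetherian S]
      [LocallyOfFiniteType g] [QuasiCompact g] [LocallyOfFiniteType (f ≫ g)] [QuasiCompact (f ≫ g)],
      Flat (f ≫ g) → (interior (ConsProp.locusMor P f g)).Nonempty ∨
        (interior (ConsProp.locusMor P f g)ᶜ).Nonempty) :
    ConsProp.IsConsMor P := by
  refine ⟨hP, fun X Y S f g _ _ _ _ _ _ => ?_⟩
  obtain ⟨A, u, hu, hη, hflat⟩ := exists_flat_affine (f ≫ g)
  have hY := IsPullback.of_hasPullback g u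
  have hX := IsPullback.of_hasPullback f (pullback.fst g u)
  have hsq := hX.paste_vert hY
  let g' := pullback.snd g u
  let f' := pullback.snd f (pullback.fst g u)
  have : Nonempty ↥(Spec A) := ⟨hη.choose⟩
  have : IsIntegral (Spec A) := isIntegral_of_isOpenImmersion u
  have : IsLocallyNoetherian (Spec A) := isLocallyNoetherian_of_isOpenImmersion u
  have : IsNoetherian (Spec A) := ⟨⟩
  have : LocallyOfFiniteType (f' ≫ g') := MorphismProperty.of_isPullback hsq inferInstance
  have : QuasiCompact (f' ≫ g') := MorphismProperty.of_isPullback hsq inferInstance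
  have hfl : Flat (f' ≫ g') := by
    rw [← hsq.isoPullback_hom_snd]
    infer_instance
  have e : ConsProp.locusMor P f' g' = u ⁻¹' ConsProp.locusMor P f g :=
    ConsFormal.locusMor_preimage hP hY hX
  have hint : ∀ E : Set S, (interior (u ⁻¹' E)).Nonempty → (interior E).Nonempty := by
    rintro E ⟨z, hz⟩
    rw [← u.isOpenEmbedding.isOpenMap.preimage_interior_eq_interior_preimage u.continuous] at hz
    exact ⟨u z, hz⟩
  rcases h f' g' hfl with H | H <;> rw [e] at H
  · exact Or.inl (hint _ H)
  · rw [← Set.preimage_compl] at H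
    exact Or.inr (hint _ H)

end Groth.Agent.H47.GenericFlat
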