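import Mathlib.RingTheory.Localization.Free
import Mathlib.RingTheory.Localization.FractionRing
import Mathlib.RingTheory.Flat.Stability
import Mathlib.RingTheory.Flat.Localization
import Mathlib.RingTheory.TensorProduct.Free
import Mathlib.LinearAlgebra.Basis.VectorSpace
import Mathlib.LinearAlgebra.TensorProduct.RightExactness
import Mathlib.RingTheory.Polynomial.Basic
import Mathlib.RingTheory.Localization.Away.Basic

/-!
# Generic freeness over a Noetherian domain

A finite module over a polynomial ring over a Noetherian domain `R` becomes free over `R` after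
inverting a nonzero element (Hochster-Roberts induction on the number of variables).
-/

set_option autoImplicit false
set_option linter.unusedVariables false

universe u

open TensorProduct

namespace Groth.Agent.H47.GenericFree

variable {R : Type u} [CommRing R]

/-- generically free -/
def GF (R : Type u) [CommRing R] (M : Type u) [AddCommGroup M] [Module R M] : Prop :=
  ∃ f : R, f ≠ 0 ∧ Module.Free (Localization.Away f) (Localization.Away f ⊗[R] M)

theorem free_of_dvd {M : Type u} [AddCommGroup M] [Module R M] {f g : R} (h : f ∣ g)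
    [Module.Free (Localization.Away f) (Localization.Away f ⊗[R] M)] :
    Module.Free (Localization.Away g) (Localization.Away g ⊗[R] M) := by
  let φ : Localization.Away f →+* Localization.Away g :=
    IsLocalization.Away.lift f (g := algebraMap R (Localization.Away g))
      (isUnit_of_dvd_unit (map_dvd _ h) (IsLocalization.Away.algebraMap_isUnit g))
  letI : Algebra (Localization.Away f) (Localization.Away g) := φ.toAlgebra
  have : IsScalarTower R (Localization.Away f) (Localization.Away g) :=
    IsScalarTower.of_algebraMap_eq fun r => (IsLocalization.Away.lift_eq f _ r).symm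
  exact Module.Free.of_equiv
    (AlgebraTensorModule.cancelBaseChange R (Localization.Away f) (Localization.Away g)
      (Localization.Away g) M)

theorem GF.of_equiv {M N : Type u} [AddCommGroup M] [Module R M] [AddCommGroup N] [Module R N]
    (e : M ≃ₗ[R] N) (h : GF R M) : GF R N := by
  obtain ⟨f, hf, hfree⟩ := h
  exact ⟨f, hf, Module.Free.of_equiv
    (LinearEquiv.baseChange R (Localization.Away f) M N e)⟩

/-- An increasing exhaustive filtration with free quotients gives a free module. -/
theorem free_of_filtration {A : Type u} [CommRing A] {M : Type u} [AddCommGroup M] [Module A M]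
    (N : ℕ → Submodule A M) (h0 : N 0 = ⊥) (hmono : ∀ j, N j ≤ N (j + 1))
    (htop : ∀ m, ∃ j, m ∈ N j)
    (Q : ℕ → Type u) [∀ j, AddCommGroup (Q j)] [∀ j, Module A (Q j)] [∀ j, Module.Free A (Q j)]
    (q : ∀ j, N (j + 1) →ₗ[A] Q j) (hq : ∀ j, Function.Surjective (q j))
    (hker : ∀ j (x : N (j + 1)), q j x = 0 ↔ (x : M) ∈ N j) : Module.Free A M := by
  classical
  choose sec hsec using fun j => LinearMap.exists_rightInverse_of_surjective (q j)
    (LinearMap.range_eq_top.2 (hq j))
  have hsec' : ∀ j a, q j (sec j a) = a := fun j a => LinearMap.congr_fun (hsec j) a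
  let s : ∀ j, Q j →ₗ[A] M := fun j => (N (j + 1)).subtype ∘ₗ sec j
  let ψ : (Π₀ j, Q j) →ₗ[A] M := DFinsupp.lsum ℕ s
  have hmono' : Monotone N := monotone_nat_of_le_succ hmono
  have hsmem : ∀ j a, s j a ∈ N (j + 1) := fun j a => (sec j a).2
  have hsurj : Function.Surjective ψ := by
    rw [← LinearMap.range_eq_top, eq_top_iff]
    rintro m -
    obtain ⟨j, hj⟩ := htop m
    suffices ∀ j, N j ≤ LinearMap.range ψ from this j hj
    intro j
    induction j with
    | zero => simp [h0]
    | succ j ih =>
      intro x hx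
      have h1 : q j (⟨x, hx⟩ - sec j (q j ⟨x, hx⟩)) = 0 := by rw [map_sub, hsec', sub_self]
      have h2 : x - s j (q j ⟨x, hx⟩) ∈ N j := (hker j _).1 h1
      have h3 : s j (q j ⟨x, hx⟩) ∈ LinearMap.range ψ :=
        ⟨DFinsupp.single j (q j ⟨x, hx⟩), DFinsupp.lsum_single ℕ s j _⟩
      simpa using add_mem (ih h2) h3
  have hinj : Function.Injective ψ := by
    rw [injective_iff_map_eq_zero]
    intro a ha
    have key : ∀ J, (∑ j ∈ Finset.range J, s j (a j)) = 0 → ∀ j < J, a j = 0 := by
      intro J
      induction J with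
      | zero => intro _ j hj; exact absurd hj (Nat.not_lt_zero j)
      | succ J ih =>
        intro hsum
        rw [Finset.sum_range_succ] at hsum
        have hmem : (∑ j ∈ Finset.range J, s j (a j)) ∈ N J :=
          Submodule.sum_mem _ fun j hj => hmono' (Finset.mem_range.1 hj) (hsmem j (a j))
        have hJ : a J = 0 := by
          rw [← hsec' J (a J), hker]
          show s J (a J) ∈ N J
          rw [eq_neg_of_add_eq_zero_right hsum]
          exact neg_mem hmem
        rw [hJ, map_zero, add_zero] at hsum
        intro j hj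
        rcases Nat.lt_succ_iff_lt_or_eq.1 hj with h | h
        · exact ih hsum j h
        · exact h ▸ hJ
    obtain ⟨J, hJ⟩ : ∃ J, a.support ⊆ Finset.range J := a.support.exists_nat_subset_range
    have hs : ψ a = ∑ j ∈ Finset.range J, s j (a j) := by
      rw [DFinsupp.lsum_apply_apply, DFinsupp.sumAddHom_apply, DFinsupp.sum]
      refine Finset.sum_subset hJ fun j _ hj => ?_
      simp [DFinsupp.notMem_support_iff.1 hj]
    ext j
    by_cases hj : j ∈ a.support
    · exact key J (hs ▸ ha) j (Finset.mem_range.1 (hJ hj))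
    · simpa using DFinsupp.notMem_support_iff.1 hj
  exact Module.Free.of_equiv (LinearEquiv.ofBijective ψ ⟨hinj, hsurj⟩)

section step

variable {M : Type u} [AddCommGroup M] [Module R M]

/-- filtration by submodules of `M` with free quotients after inverting `f` -/
theorem free_localized_of_filtration (f : R) (N : ℕ → Submodule R M) (h0 : N 0 = ⊥)
    (hmono : ∀ j, N j ≤ N (j + 1)) (htop : ∀ m, ∃ j, m ∈ N j)
    (h : ∀ j, Module.Free (Localization.Away f)
      (Localization.Away f ⊗[R] ((N (j + 1)) ⧸ (N j).comap (N (j + 1)).subtype))) :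
    Module.Free (Localization.Away f) (Localization.Away f ⊗[R] M) := by
  let A := Localization.Away f
  have : Module.Flat R A := IsLocalization.flat A (Submonoid.powers f)
  let N' : ℕ → Submodule A (A ⊗[R] M) := fun j => LinearMap.range ((N j).subtype.baseChange A)
  have hinj : ∀ j, Function.Injective ((N j).subtype.baseChange A) := fun j => by
    rw [LinearMap.baseChange_eq_ltensor]
    exact Module.Flat.lTensor_preserves_injective_linearMap _ (N j).subtype_injective
  have hfac : ∀ {i j} (hij : N i ≤ N j) z, ((N j).subtype.baseChange A)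
      ((Submodule.inclusion hij).baseChange A z) = (N i).subtype.baseChange A z := by
    intro i j hij z
    rw [← LinearMap.comp_apply, ← LinearMap.baseChange_comp]
    rfl
  have hmono' : ∀ j, N' j ≤ N' (j + 1) := by
    rintro j _ ⟨z, rfl⟩
    exact ⟨_, hfac (hmono j) z⟩
  let e : ∀ j, (A ⊗[R] N (j + 1)) ≃ₗ[A] N' (j + 1) := fun j =>
    LinearEquiv.ofInjective _ (hinj (j + 1))
  refine free_of_filtration N' ?_ hmono' ?_
    (fun j => A ⊗[R] ((N (j + 1)) ⧸ (N j).comap (N (j + 1)).subtype))
    (fun j => (((N j).comap (N (j + 1)).subtype).mkQ.baseChange A) ∘ₗ (e j).symm.toLinearMap) ?_ ?_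
  · rw [eq_bot_iff]
    rintro _ ⟨z, rfl⟩
    rw [Submodule.mem_bot]
    induction z using TensorProduct.induction_on with
    | zero => simp
    | tmul a x =>
      have hx : (x : M) = 0 := (Submodule.mem_bot R).1 (le_of_eq h0 x.2)
      simp [LinearMap.baseChange_tmul, hx]
    | add x y hx hy => simp [hx, hy]
  · intro z
    induction z using TensorProduct.induction_on with
    | zero => exact ⟨0, zero_mem _⟩
    | tmul a x =>
      obtain ⟨j, hj⟩ := htop x
      exact ⟨j, a ⊗ₜ ⟨x, hj⟩, by simp⟩
    | add x y hx hy =>
      obtain ⟨i, hi⟩ := hx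
      obtain ⟨j, hj⟩ := hy
      have hm : Monotone N' := monotone_nat_of_le_succ hmono'
      exact ⟨max i j, add_mem (hm (le_max_left i j) hi) (hm (le_max_right i j) hj)⟩
  · intro j
    simp only [LinearMap.coe_comp, LinearEquiv.coe_coe]
    refine Function.Surjective.comp ?_ (e j).symm.surjective
    rw [LinearMap.baseChange_eq_ltensor]
    exact LinearMap.lTensor_surjective _ (Submodule.mkQ_surjective _)
  · intro j x
    have hex : Function.Exact (Submodule.inclusion (hmono j))
        ((N j).comap (N (j + 1)).subtype).mkQ := by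
      intro y
      simp only [Submodule.mkQ_apply, Submodule.Quotient.mk_eq_zero, Submodule.mem_comap,
        Submodule.subtype_apply, Set.mem_range]
      exact ⟨fun hy => ⟨⟨y, hy⟩, Subtype.ext rfl⟩, fun ⟨z, hz⟩ => hz ▸ z.2⟩
    have hex' := lTensor_exact A hex (Submodule.mkQ_surjective _)
    constructor
    · intro hx
      have hx' : ((N j).comap (N (j + 1)).subtype).mkQ.lTensor A ((e j).symm x) = 0 := hx
      obtain ⟨z, hz⟩ := (hex' _).1 hx'
      refine ⟨z, ?_⟩
      rw [← hfac (hmono j) z]
      simp only [LinearMap.baseChange_eq_ltensor]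
      rw [hz]
      exact congrArg Subtype.val ((e j).apply_symm_apply x)
    · rintro ⟨z, hz⟩
      show ((N j).comap (N (j + 1)).subtype).mkQ.lTensor A ((e j).symm x) = 0
      refine (hex' _).2 ⟨z, ?_⟩
      refine hinj (j + 1) ?_
      rw [← LinearMap.baseChange_eq_ltensor, hfac, hz]
      exact congrArg Subtype.val ((e j).apply_symm_apply x).symm

end step

/-- the base of the induction -/
theorem gf_of_finitePresentation [IsDomain R] (M : Type u) [AddCommGroup M] [Module R M]
    [Module.FinitePresentation R M] : GF R M := by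
  have : Module.Free (FractionRing R) (LocalizedModule (nonZeroDivisors R) M) := inferInstance
  obtain ⟨r, hr, hfree, -⟩ := Module.FinitePresentation.exists_free_localizedModule_powers
    (nonZeroDivisors R) (LocalizedModule.mkLinearMap (nonZeroDivisors R) M) (FractionRing R)
  refine ⟨r, nonZeroDivisors.ne_zero hr, ?_⟩
  exact Module.Free.of_equiv (LocalizedModule.equivTensorProduct (Submonoid.powers r) M)

variable [IsDomain R] [IsNoetherianRing R]

/-- the induction step: a module generated, by means of one endomorphism, by a finite submodule -/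
theorem gf_of_endomorphism {P : Type u} [CommRing P] [Algebra R P] [IsNoetherianRing P]
    (ih : ∀ (M : Type u) [AddCommGroup M] [Module P M] [Module R M] [IsScalarTower R P M]
      [Module.Finite P M], GF R M)
    (M : Type u) [AddCommGroup M] [Module P M] [Module R M] [IsScalarTower R P M]
    (lx : M →ₗ[P] M) (S₀ : Submodule P M) (hS₀ : S₀.FG)
    (hgen : ∀ U : Submodule P M, S₀ ≤ U → (∀ m ∈ U, lx m ∈ U) → U = ⊤) : GF R M := by
  classical
  obtain ⟨N, hN0, hNsucc⟩ : ∃ N : ℕ → Submodule P M,
      N 0 = S₀ ∧ ∀ j, N (j + 1) = N j ⊔ (N j).map lx :=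
    ⟨fun j => j.rec S₀ (fun _ Nj => Nj ⊔ Nj.map lx), rfl, fun j => rfl⟩
  have hmono : ∀ j, N j ≤ N (j + 1) := fun j => hNsucc j ▸ le_sup_left
  have hmono' : Monotone N := monotone_nat_of_le_succ hmono
  have hx : ∀ {j m}, m ∈ N j → lx m ∈ N (j + 1) := fun {j m} hm =>
    hNsucc j ▸ Submodule.mem_sup_right ⟨m, hm, rfl⟩
  have hU : ∀ m : M, m ∈ ⨆ j, N j ↔ ∃ j, m ∈ N j := fun m =>
    Submodule.mem_iSup_of_chain ⟨N, hmono'⟩ m
  have htop : ∀ m : M, ∃ j, m ∈ N j := fun m => (hU m).1 <| by
    rw [hgen (⨆ j, N j) (hN0 ▸ le_iSup N 0) fun m hm => ?_]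
    · trivial
    · obtain ⟨j, hj⟩ := (hU m).1 hm
      exact (hU _).2 ⟨j + 1, hx hj⟩
  have hfin : ∀ j, (N j).FG := by
    intro j
    induction j with
    | zero => exact hN0 ▸ hS₀
    | succ j ihj => exact hNsucc j ▸ ihj.sup (ihj.map lx)
  -- the successive quotients are quotients of the first one
  have hpow : ∀ j (x : N 1), (lx ^ j) (x : M) ∈ N (j + 1) := by
    intro j
    induction j with
    | zero => exact fun x => x.2
    | succ j ihj => intro x; rw [pow_succ']; exact hx (ihj x)
  let π : ∀ j, N 1 →ₗ[P] (N (j + 1)) ⧸ (N j).comap (N (j + 1)).subtype := fun j =>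
    ((N j).comap (N (j + 1)).subtype).mkQ ∘ₗ
      ((lx ^ j) ∘ₗ (N 1).subtype).codRestrict (N (j + 1)) (hpow j)
  have hπ0 : ∀ j (x : N 1), π j x = 0 ↔ (lx ^ j) (x : M) ∈ N j := fun j x =>
    (Submodule.Quotient.mk_eq_zero _).trans Iff.rfl
  have hle : ∀ j, N (j + 1) ≤ N j ⊔ ((N 1).map (lx ^ j)) := by
    intro j
    induction j with
    | zero =>
      intro y hy
      exact Submodule.mem_sup_right ⟨y, hy, by simp⟩
    | succ j ihj =>
      rw [hNsucc (j + 1)]
      refine sup_le le_sup_left ((Submodule.map_mono ihj).trans ?_)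
      rw [Submodule.map_sup]
      refine sup_le ((hNsucc j ▸ le_sup_right : (N j).map lx ≤ N (j + 1)).trans le_sup_left) ?_
      rintro _ ⟨_, ⟨y, hy, rfl⟩, rfl⟩
      exact Submodule.mem_sup_right ⟨y, hy, by rw [pow_succ']; rfl⟩
  have hπ : ∀ j, Function.Surjective (π j) := by
    intro j q
    obtain ⟨⟨y, hy⟩, rfl⟩ := Submodule.mkQ_surjective _ q
    obtain ⟨a, ha, _, ⟨b, hb, rfl⟩, rfl⟩ := Submodule.mem_sup.1 (hle j hy)
    refine ⟨⟨b, hb⟩, (Submodule.Quotient.eq _).2 ?_⟩
    show (lx ^ j) b - (a + (lx ^ j) b) ∈ N j
    simpa using ha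
  let K : ℕ → Submodule P (N 1) := fun j => LinearMap.ker (π j)
  have hK : Monotone K := monotone_nat_of_le_succ fun j x hxj => by
    have h1 := hx ((hπ0 j x).1 (LinearMap.mem_ker.1 hxj))
    refine LinearMap.mem_ker.2 ((hπ0 (j + 1) x).2 ?_)
    rw [pow_succ']
    exact h1
  have : Module.Finite P (N 1) := Module.Finite.iff_fg.2 (hfin 1)
  obtain ⟨j₀, hj₀⟩ := monotone_stabilizes_iff_noetherian.2
    (inferInstanceAs (IsNoetherian P (N 1))) ⟨K, hK⟩
  have : Module.Finite P (N 0) := Module.Finite.iff_fg.2 (hfin 0)
  obtain ⟨f₀, hf₀, hfree₀⟩ := ih (N 0)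
  have hQ : ∀ j, GF R (N 1 ⧸ K j) := fun j => ih _
  choose f hf hfree using hQ
  refine ⟨f₀ * ∏ j ∈ Finset.range (j₀ + 1), f j,
    mul_ne_zero hf₀ (Finset.prod_ne_zero_iff.2 fun j _ => hf j), ?_⟩
  set F := f₀ * ∏ j ∈ Finset.range (j₀ + 1), f j
  have hF : ∀ j, Module.Free (Localization.Away F) (Localization.Away F ⊗[R] (N 1 ⧸ K j)) := by
    have hle : ∀ j ≤ j₀, Module.Free (Localization.Away F)
        (Localization.Away F ⊗[R] (N 1 ⧸ K j)) := fun j hj =>
      have := hfree j
      free_of_dvd (f := f j) (Dvd.dvd.mul_left (Finset.dvd_prod_of_mem f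
        (Finset.mem_range.2 (Nat.lt_succ_of_le hj))) _)
    intro j
    by_cases hj : j ≤ j₀
    · exact hle j hj
    · have e : K j₀ = K j := hj₀ j (le_of_not_ge hj)
      rw [← e]
      exact hle j₀ le_rfl
  let N' : ℕ → Submodule R M := fun j =>
    Nat.casesOn (motive := fun _ => Submodule R M) j ⊥ (fun i => (N i).restrictScalars R)
  refine free_localized_of_filtration F N' rfl ?_ ?_ ?_
  · intro j
    cases j with
    | zero => exact bot_le
    | succ i => exact hmono i
  · intro m
    obtain ⟨j, hj⟩ := htop m
    exact ⟨j + 1, hj⟩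
  · intro j
    cases j with
    | zero =>
      have := free_of_dvd (M := N 0) (g := F) (dvd_mul_right f₀ _)
      have hb : (N' 0).comap (N' 1).subtype = ⊥ :=
        LinearMap.ker_eq_bot.2 (Submodule.subtype_injective _)
      let q : (N 0) ≃ₗ[R] (N' 1) ⧸ (N' 0).comap (N' 1).subtype :=
        (Submodule.quotEquivOfEqBot _ hb).symm
      exact Module.Free.of_equiv (LinearEquiv.baseChange R (Localization.Away F) _ _ q)
    | succ i =>
      let e : (N 1 ⧸ K i) ≃ₗ[R] (↥((N (i + 1)).restrictScalars R)) ⧸
          ((N i).restrictScalars R).comap ((N (i + 1)).restrictScalars R).subtype :=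
        ((π i).quotKerEquivOfSurjective (hπ i)).restrictScalars R
      have := hF i
      exact Module.Free.of_equiv (LinearEquiv.baseChange R (Localization.Away F) _ _ e)

theorem gf_mvPolynomial : ∀ (n : ℕ) (M : Type u) [AddCommGroup M]
    [Module (MvPolynomial (Fin n) R) M] [Module R M] [IsScalarTower R (MvPolynomial (Fin n) R) M]
    [Module.Finite (MvPolynomial (Fin n) R) M], GF R M := by
  intro n
  induction n with
  | zero =>
    intro M _ _ _ _ _
    have : Module.Finite R (MvPolynomial (Fin 0) R) :=
      Module.Finite.equiv (MvPolynomial.isEmptyAlgEquiv R (Fin 0)).symm.toLinearEquiv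
    have : Module.Finite R M := Module.Finite.trans (MvPolynomial (Fin 0) R) M
    have := Module.finitePresentation_of_finite R M
    exact gf_of_finitePresentation M
  | succ n ih =>
    intro M _ _ _ _ _
    let φ : MvPolynomial (Fin n) R →ₐ[R] MvPolynomial (Fin (n + 1)) R :=
      MvPolynomial.rename Fin.succ
    letI : Module (MvPolynomial (Fin n) R) M := Module.compHom M φ.toRingHom
    have hsmul : ∀ (p : MvPolynomial (Fin n) R) (m : M), p • m = φ p • m := fun p m => rfl
    have : IsScalarTower R (MvPolynomial (Fin n) R) M :=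
      ⟨fun r p m => by rw [hsmul, hsmul, map_smul, smul_assoc]⟩
    let lx : M →ₗ[MvPolynomial (Fin n) R] M :=
      { toFun := fun m => (MvPolynomial.X 0 : MvPolynomial (Fin (n + 1)) R) • m
        map_add' := fun a b => smul_add _ a b
        map_smul' := fun p m => by
          simp only [hsmul, RingHom.id_apply]
          exact smul_comm _ _ _ }
    obtain ⟨s, hs⟩ := Module.Finite.fg_top (R := MvPolynomial (Fin (n + 1)) R) (M := M)
    refine gf_of_endomorphism ih M lx _ (Submodule.fg_span s.finite_toSet) fun U hU hUx => ?_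
    have hstab : ∀ (c : MvPolynomial (Fin (n + 1)) R) (m : M), m ∈ U → c • m ∈ U := by
      intro c
      induction c using MvPolynomial.induction_on with
      | C r =>
        intro m hm
        rw [show (MvPolynomial.C r : MvPolynomial (Fin (n + 1)) R) = φ (MvPolynomial.C r) from
          (MvPolynomial.rename_C _ r).symm, ← hsmul]
        exact U.smul_mem _ hm
      | add a b ha hb =>
        intro m hm
        rw [add_smul]
        exact U.add_mem (ha m hm) (hb m hm)
      | mul_X c i hc =>
        intro m hm
        rw [mul_smul]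
        refine hc _ ?_
        induction i using Fin.cases with
        | zero => exact hUx m hm
        | succ k =>
          rw [show (MvPolynomial.X k.succ : MvPolynomial (Fin (n + 1)) R) = φ (MvPolynomial.X k) from
            (MvPolynomial.rename_X _ k).symm, ← hsmul]
          exact U.smul_mem _ hm
    refine eq_top_iff.2 fun m hm => ?_
    clear hm
    have hm : m ∈ Submodule.span (MvPolynomial (Fin (n + 1)) R) (s : Set M) := hs ▸ trivial
    induction hm using Submodule.span_induction with
    | mem x hx => exact hU (Submodule.subset_span hx)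
    | zero => exact U.zero_mem
    | add a b _ _ ha hb => exact U.add_mem ha hb
    | smul c a _ ha => exact hstab c a ha

/-- Generic freeness. -/
theorem gf_of_finiteType (B : Type u) [CommRing B] [Algebra R B] [Algebra.FiniteType R B]
    (M : Type u) [AddCommGroup M] [Module B M] [Module R M] [IsScalarTower R B M]
    [Module.Finite B M] : GF R M := by
  obtain ⟨n, π, hπ⟩ := Algebra.FiniteType.iff_quotient_mvPolynomial''.1 ‹Algebra.FiniteType R B›
  letI : Module (MvPolynomial (Fin n) R) M := Module.compHom M π.toRingHom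
  have : IsScalarTower R (MvPolynomial (Fin n) R) M :=
    ⟨fun r p m => by
      show π (r • p) • m = r • π p • m
      rw [map_smul, smul_assoc]⟩
  have : Module.Finite (MvPolynomial (Fin n) R) M := by
    obtain ⟨s, hs⟩ := Module.Finite.fg_top (R := B) (M := M)
    refine ⟨⟨s, eq_top_iff.2 fun m hm => ?_⟩⟩
    clear hm
    have hm : m ∈ Submodule.span B (s : Set M) := hs ▸ trivial
    induction hm using Submodule.span_induction with
    | mem x hx => exact Submodule.subset_span hx
    | zero => exact zero_mem _
    | add a b _ _ ha hb => exact add_mem ha hb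
    | smul c a _ ha =>
      obtain ⟨p, rfl⟩ := hπ c
      exact Submodule.smul_mem _ p ha
  exact gf_mvPolynomial n M

end Groth.Agent.H47.GenericFree
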