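import Groth.Agent.Lib.Lim.Descend
import Groth.Agent.Lib.LimTop.Points
import Groth.Agent.H47.LimDescend
import Mathlib.AlgebraicGeometry.ZariskisMainTheorem
import Mathlib.AlgebraicGeometry.Morphisms.UniversallyOpen

/-!
# Quasi-finiteness descends along limits
-/

set_option autoImplicit false
set_option backward.isDefEq.respectTransparency false

noncomputable section

universe u

open CategoryTheory CategoryTheory.Limits AlgebraicGeometry Groth.Agent.Lib.Lim.Basic
  Groth.Agent.Lib.Lim.Descend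

namespace Groth.Agent.H47.LQFDescend

/-- quasi-finiteness at a point descends along an arbitrary change of base -/
theorem quasiFiniteAt_of_isPullback {X X' Y Y' : Scheme.{u}} {f : X ⟶ Y} {f' : X' ⟶ Y'}
    {eX : X' ⟶ X} {b : Y' ⟶ Y} (sq : IsPullback eX f' f b) [LocallyOfFiniteType f] {x' : X'}
    (h : f'.QuasiFiniteAt x') : f.QuasiFiniteAt (eX x') := by
  have : LocallyOfFiniteType f' := MorphismProperty.of_isPullback sq inferInstance
  rw [Scheme.Hom.quasiFiniteAt_iff_isOpen_singleton_asFiber] at h ⊢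
  have hb : f (eX x') = b (f' x') := by
    rw [← Scheme.Hom.comp_apply, sq.w, Scheme.Hom.comp_apply]
  let r : Spec (Y'.residueField (f' x')) ⟶ Spec (Y.residueField (f (eX x'))) :=
    Spec.map ((Y.residueFieldCongr hb).hom ≫ b.residueFieldMap (f' x'))
  have hr : r ≫ Y.fromSpecResidueField (f (eX x')) = Y'.fromSpecResidueField (f' x') ≫ b := by
    simp [r, Spec.map_comp, Category.assoc]
  let π : f'.fiber (f' x') ⟶ f.fiber (f (eX x')) :=
    pullback.lift (f'.fiberι _ ≫ eX) (f'.fiberToSpecResidueField _ ≫ r)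
      (by rw [Category.assoc, Category.assoc, sq.w, hr, ← Category.assoc, ← Category.assoc]
          exact congrArg (· ≫ b) (f'.fiber_fac _))
  have hπ : IsPullback π (f'.fiberToSpecResidueField (f' x'))
      (f.fiberToSpecResidueField (f (eX x'))) r := by
    refine IsPullback.of_right ?_ (pullback.lift_snd _ _ _)
      (IsPullback.of_hasPullback f (Y.fromSpecResidueField (f (eX x'))))
    rw [pullback.lift_fst, hr]
    exact (IsPullback.of_hasPullback f' (Y'.fromSpecResidueField (f' x'))).paste_horiz sq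
  have : UniversallyOpen π := MorphismProperty.of_isPullback hπ.flip inferInstance
  have hx : π (f'.asFiber x') = f.asFiber (eX x') := by
    refine (f.fiberι _).isEmbedding.injective ?_
    rw [Scheme.Hom.fiberι_asFiber, ← Scheme.Hom.comp_apply,
      show π ≫ f.fiberι _ = f'.fiberι _ ≫ eX from pullback.lift_fst _ _ _,
      Scheme.Hom.comp_apply, Scheme.Hom.fiberι_asFiber]
  have := π.isOpenMap _ h
  rwa [Set.image_singleton, hx] at this

theorem locallyQuasiFinite_descends :
    Descends.{u} @LocallyQuasiFinite @LocallyOfFiniteType := by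
  intro I _ _ D c hc hD i₀ hcD hqD X₀ f₀ hcX hqX hQ X f qX hX hP
  have : ∀ {i j : I} (g : i ⟶ j), IsAffineHom (D.map g) := fun g => hD _ _ g
  have : LocallyOfFiniteType f₀ := hQ
  have : LocallyQuasiFinite f := hP
  let U := f₀.quasiFiniteLocus
  let pr : (bcDiagram D f₀).obj (Over.mk (𝟙 i₀)) ⟶ X₀ := pullback.fst f₀ (D.map (𝟙 i₀))
  have : IsIso pr := inferInstanceAs (IsIso (pullback.fst f₀ (D.map (𝟙 i₀))))
  have : ∀ k, CompactSpace ((bcDiagram D f₀).obj k) := fun k => compactSpace_bcDiagram D f₀ k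
  have : ∀ k, QuasiSeparatedSpace ((bcDiagram D f₀).obj k) := fun k =>
    quasiSeparatedSpace_bcDiagram D f₀ k
  have hW : Groth.Agent.Lib.LimTop.PC.IsPC (pr ⁻¹' (U : Set X₀)ᶜ) :=
    Groth.Agent.Lib.LimTop.PC.IsPC.of_isClosed (U.2.isClosed_compl.preimage pr.continuous)
  obtain ⟨k, φ, hk⟩ := Groth.Agent.Lib.LimTop.Points.exists_map_preimage_eq_empty
    (isLimitBcCone hc hX) (Over.mk (𝟙 i₀)) hW (by
      rw [Set.eq_empty_iff_forall_notMem]
      intro x hx
      apply hx
      change ((bcCone hX.w).π.app (Over.mk (𝟙 i₀)) ≫ pr) x ∈ U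
      rw [show (bcCone hX.w).π.app (Over.mk (𝟙 i₀)) ≫ pr = qX from bcCone_π_fst hX.w _]
      exact Scheme.Hom.mem_quasiFiniteLocus.2
        (quasiFiniteAt_of_isPullback hX (f.quasiFiniteAt x)))
  refine ⟨k.left, k.hom, ?_⟩
  let g : (bcDiagram D f₀).obj k ⟶ X₀ := pullback.fst f₀ (D.map k.hom)
  have hg : Set.range g ⊆ Set.range U.ι := by
    rintro _ ⟨x, rfl⟩
    rw [Scheme.Opens.range_ι]
    by_contra hx
    refine Set.eq_empty_iff_forall_notMem.1 hk x ?_
    show (((bcDiagram D f₀).map φ) ≫ pr) x ∈ (U : Set X₀)ᶜ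
    rw [show (bcDiagram D f₀).map φ ≫ pr = g from bcDiagram_map_fst D f₀ φ]
    exact hx
  have sq : IsPullback (IsOpenImmersion.lift U.ι g hg) (pullback.snd f₀ (D.map k.hom))
      (U.ι ≫ f₀) (D.map k.hom) := by
    have h0 : IsPullback (𝟙 _) (IsOpenImmersion.lift U.ι g hg) g U.ι := by
      refine ⟨⟨by simp⟩, ⟨PullbackCone.IsLimit.mk _ (fun s => s.fst) (fun s => by simp)
        (fun s => ?_) (fun s m h1 h2 => by simpa using h1)⟩⟩
      rw [← cancel_mono U.ι, Category.assoc, IsOpenImmersion.lift_fac, s.condition]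
    have := h0.flip.paste_vert (IsPullback.of_hasPullback f₀ (D.map k.hom))
    simpa using this
  exact MorphismProperty.of_isPullback (P := @LocallyQuasiFinite) sq inferInstance

end Groth.Agent.H47.LQFDescend
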