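import Groth.Agent.H47.FlatStage
import Mathlib.RingTheory.Finiteness.ModuleFinitePresentation
import Mathlib.RingTheory.Adjoin.FG

/-!
# Flatness descends along arbitrary directed colimits of rings; Noetherian models
-/

set_option autoImplicit false

universe u

open TensorProduct

namespace Groth.Agent.H47.FlatModel

open FlatStage

variable {R₀ : Type u} [CommRing R₀] [IsNoetherianRing R₀] {n m : ℕ}
  (T₀ : Finset (Fin m → MvPolynomial (Fin n) R₀))

/-- Flatness over some finitely generated subalgebra. -/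
theorem exists_fg_subalgebra_flat (A : Type u) [CommRing A] [Algebra R₀ A]
    (hA : Module.Flat A (A ⊗[R₀] Pres T₀)) :
    ∃ C : Subalgebra R₀ A, C.FG ∧ Module.Flat C (C ⊗[R₀] Pres T₀) := by
  classical
  let ι : Type u := {C : Subalgebra R₀ A // C.FG}
  let G : ι → Type u := fun C => C.1
  have : ∀ C : ι, IsNoetherianRing (G C) := fun C =>
    have : Algebra.FiniteType R₀ C.1 := C.1.fg_iff_finiteType.1 C.2
    Algebra.FiniteType.isNoetherianRing R₀ C.1
  let g : ∀ C D : ι, C ≤ D → G C →ₐ[R₀] G D := fun C D h => Subalgebra.inclusion h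
  have hcolim : FlatCA.IsDirectedColimitRing G (fun C D h => (g C D h).toRingHom) A := by
    refine ⟨⟨fun C D => ⟨⟨C.1 ⊔ D.1, C.2.sup D.2⟩, (le_sup_left : C.1 ≤ _), (le_sup_right : D.1 ≤ _)⟩⟩,
      ⟨⟨⊥, Subalgebra.fg_bot⟩⟩, fun C => RingHom.ext fun x => rfl,
      fun C D E h h' => RingHom.ext fun x => rfl, fun C D h => RingHom.ext fun x => rfl,
      fun a => ⟨⟨Algebra.adjoin R₀ {a}, ⟨{a}, by simp⟩⟩, ⟨a, Algebra.subset_adjoin rfl⟩, rfl⟩,
      fun C x hx => ⟨C, le_rfl, Subtype.ext hx⟩⟩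
  obtain ⟨C, hC⟩ := exists_flat_stage T₀ G g A hcolim hA
  exact ⟨C.1, C.2, hC⟩

/-- A finitely generated subalgebra of a directed colimit maps to a stage. -/
theorem exists_lift {ι : Type u} [Preorder ι] {G : ι → Type u} [∀ i, CommRing (G i)]
    [∀ i, Algebra R₀ (G i)] (g : ∀ i j, i ≤ j → G i →ₐ[R₀] G j)
    (A : Type u) [CommRing A] [Algebra R₀ A] [∀ i, Algebra (G i) A] [∀ i, IsScalarTower R₀ (G i) A]
    (hcolim : FlatCA.IsDirectedColimitRing G (fun i j h => (g i j h).toRingHom) A)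
    (C : Subalgebra R₀ A) (hC : C.FG) :
    ∃ (i : ι) (φ : C →ₐ[R₀] G i), ∀ c, algebraMap (G i) A (φ c) = c := by
  classical
  obtain ⟨hdir, hne, hid, htrans, hcomp, hsurj, hker⟩ := hcolim
  have : IsDirectedOrder ι := hdir
  have : Algebra.FiniteType R₀ C := C.fg_iff_finiteType.1 hC
  obtain ⟨k, π, hπ⟩ := Algebra.FiniteType.iff_quotient_mvPolynomial''.1 ‹Algebra.FiniteType R₀ C›
  choose i x hx using fun l : Fin k => hsurj (π (MvPolynomial.X l) : A)
  obtain ⟨i₁, hi₁⟩ := Finset.exists_le (Finset.univ.image i)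
  have hi : ∀ l, i l ≤ i₁ := fun l => hi₁ _ (Finset.mem_image_of_mem _ (Finset.mem_univ l))
  let φ₁ : MvPolynomial (Fin k) R₀ →ₐ[R₀] G i₁ :=
    MvPolynomial.aeval fun l => g (i l) i₁ (hi l) (x l)
  have hφ₁ : (IsScalarTower.toAlgHom R₀ (G i₁) A).comp φ₁ = C.val.comp π := by
    refine MvPolynomial.algHom_ext fun l => ?_
    simp only [AlgHom.comp_apply, φ₁, MvPolynomial.aeval_X, IsScalarTower.coe_toAlgHom',
      Subalgebra.coe_val]
    exact (RingHom.congr_fun (hcomp (i l) i₁ (hi l)) (x l)).trans (hx l)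
  obtain ⟨s, hs⟩ := IsNoetherian.noetherian (RingHom.ker π)
  choose j hj hj0 using fun r : s => hker i₁ (φ₁ r.1) (by
    have hr : π r.1 = 0 := RingHom.mem_ker.1 (hs ▸ Submodule.subset_span r.2)
    exact (AlgHom.congr_fun hφ₁ r.1).trans (congrArg Subtype.val hr))
  obtain ⟨i₂, hi₂⟩ := Finset.exists_le (insert i₁ (Finset.univ.image j))
  have h12 : i₁ ≤ i₂ := hi₂ _ (Finset.mem_insert_self _ _)
  let φ₂ := (g i₁ i₂ h12).comp φ₁
  have hle : RingHom.ker π ≤ RingHom.ker φ₂ := by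
    rw [← hs]
    refine Ideal.span_le.2 fun r hr => ?_
    have hjr : j ⟨r, hr⟩ ≤ i₂ := hi₂ _ (Finset.mem_insert_of_mem
      (Finset.mem_image_of_mem _ (Finset.mem_univ _)))
    show g i₁ i₂ h12 (φ₁ r) = 0
    refine (RingHom.congr_fun (htrans i₁ (j ⟨r, hr⟩) i₂ (hj _) hjr) (φ₁ r)).symm.trans ?_
    rw [RingHom.comp_apply, hj0 ⟨r, hr⟩, map_zero]
  let φ : C →ₐ[R₀] G i₂ := (Ideal.Quotient.liftₐ (RingHom.ker π) φ₂ hle).comp
    (Ideal.quotientKerAlgEquivOfSurjective hπ).symm.toAlgHom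
  refine ⟨i₂, φ, fun c => ?_⟩
  obtain ⟨P, rfl⟩ := hπ c
  have : (Ideal.quotientKerAlgEquivOfSurjective hπ).symm (π P) = Ideal.Quotient.mk _ P := by
    rw [AlgEquiv.symm_apply_eq]; rfl
  have h2 : φ (π P) = φ₂ P := by
    show Ideal.Quotient.liftₐ (RingHom.ker π) φ₂ hle
      ((Ideal.quotientKerAlgEquivOfSurjective hπ).symm (π P)) = _
    rw [this]; rfl
  rw [h2]
  exact (RingHom.congr_fun (hcomp i₁ i₂ h12) (φ₁ P)).trans (AlgHom.congr_fun hφ₁ P)

/-- Flatness descends to a stage of any directed colimit. -/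
theorem exists_flat_stage {ι : Type u} [Preorder ι] (G : ι → Type u) [∀ i, CommRing (G i)]
    [∀ i, Algebra R₀ (G i)] (g : ∀ i j, i ≤ j → G i →ₐ[R₀] G j)
    (A : Type u) [CommRing A] [Algebra R₀ A] [∀ i, Algebra (G i) A] [∀ i, IsScalarTower R₀ (G i) A]
    (hcolim : FlatCA.IsDirectedColimitRing G (fun i j h => (g i j h).toRingHom) A)
    (hA : Module.Flat A (A ⊗[R₀] Pres T₀)) :
    ∃ i, Module.Flat (G i) (G i ⊗[R₀] Pres T₀) := by
  obtain ⟨C, hCfg, hC⟩ := exists_fg_subalgebra_flat T₀ A hA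
  obtain ⟨i, φ, -⟩ := exists_lift g A hcolim C hCfg
  refine ⟨i, ?_⟩
  let := φ.toRingHom.toAlgebra
  have : IsScalarTower R₀ C (G i) := IsScalarTower.of_algebraMap_eq fun r => (φ.commutes r).symm
  exact FlatAdic.flat_of_tower (A := R₀) C (G i)

omit [IsNoetherianRing R₀]

/-- A finitely presented module over a finitely presented algebra has a Noetherian model. -/
theorem exists_model (A : Type u) [CommRing A] (B : Type u) [CommRing B] [Algebra A B]
    [Algebra.FinitePresentation A B] (M : Type u) [AddCommGroup M] [Module B M] [Module A M]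
    [IsScalarTower A B M] [Module.FinitePresentation B M] :
    ∃ (R₀ : Subalgebra ℤ A) (_ : R₀.FG) (n m : ℕ)
      (T₀ : Finset (Fin m → MvPolynomial (Fin n) R₀)), Nonempty ((A ⊗[R₀] Pres T₀) ≃ₗ[A] M) := by
  classical
  obtain ⟨n, π, hπ, hker⟩ := ‹Algebra.FinitePresentation A B›.out
  let P := MvPolynomial (Fin n) A
  letI : Algebra P B := π.toRingHom.toAlgebra
  letI : Module P M := Module.compHom M π.toRingHom
  have : IsScalarTower P B M := IsScalarTower.of_algebraMap_smul fun p y => rfl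
  have : IsScalarTower A P M := ⟨fun r p y => by
    show π (r • p) • y = r • π p • y
    rw [map_smul, smul_assoc]⟩
  have : Module.FinitePresentation P B :=
    Module.finitePresentation_of_surjective (Algebra.linearMap P B) hπ hker
  have : Module.FinitePresentation P M := Module.FinitePresentation.trans P M B
  obtain ⟨m, K, e, hK⟩ := Module.FinitePresentation.exists_fin P M
  obtain ⟨T, hT⟩ := hK
  let coef : Finset A := T.biUnion fun t => Finset.univ.biUnion fun i =>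
    (t i).support.image fun d => (t i).coeff d
  let R₀ : Subalgebra ℤ A := Algebra.adjoin ℤ (coef : Set A)
  let μ : (Fin m → MvPolynomial (Fin n) R₀) → (Fin m → P) :=
    fun t i => MvPolynomial.map (algebraMap R₀ A) (t i)
  have hlift : (T : Set (Fin m → P)) ⊆ μ '' Set.univ := by
    intro t ht
    have : ∀ i, ∃ p : MvPolynomial (Fin n) R₀, MvPolynomial.map (algebraMap R₀ A) p = t i := fun i => by
      refine MvPolynomial.mem_range_map_iff_coeffs_subset.2 fun a ha => ?_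
      obtain ⟨d, hd, rfl⟩ := MvPolynomial.mem_coeffs_iff.1 ha
      exact ⟨⟨_, Algebra.subset_adjoin (Finset.mem_biUnion.2 ⟨t, ht, Finset.mem_biUnion.2
        ⟨i, Finset.mem_univ _, Finset.mem_image_of_mem _ hd⟩⟩)⟩, rfl⟩
    choose p hp using this
    exact ⟨p, trivial, funext hp⟩
  obtain ⟨T₀, -, hT₀⟩ := Finset.subset_set_image_iff.1 hlift
  have hT₀' : (T : Set (Fin m → P)) = μ '' T₀ := by rw [← hT₀, Finset.coe_image]
  obtain ⟨e'⟩ := GenericFreeDomain.nonempty_quotEquiv (R := A) T₀ (T : Set (Fin m → P)) hT₀'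
  exact ⟨R₀, ⟨coef, rfl⟩, n, m, T₀,
    ⟨e'.trans (((Submodule.quotEquivOfEq _ _ hT).trans e.symm).restrictScalars A)⟩⟩

/-- Flatness descends to a stage: the form with a base ring. -/
theorem flat_baseChange_iff_exists {A₀ : Type u} [CommRing A₀]
    {ι : Type u} [Preorder ι] (G : ι → Type u) [∀ i, CommRing (G i)] [∀ i, Algebra A₀ (G i)]
    (g : ∀ i j, i ≤ j → G i →ₐ[A₀] G j)
    (A : Type u) [CommRing A] [Algebra A₀ A] [∀ i, Algebra (G i) A] [∀ i, IsScalarTower A₀ (G i) A]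
    (hcolim : FlatCA.IsDirectedColimitRing G (fun i j h => (g i j h).toRingHom) A)
    {B₀ : Type u} [CommRing B₀] [Algebra A₀ B₀] [Algebra.FinitePresentation A₀ B₀]
    (M₀ : Type u) [AddCommGroup M₀] [Module B₀ M₀] [Module A₀ M₀] [IsScalarTower A₀ B₀ M₀]
    [Module.FinitePresentation B₀ M₀] :
    Module.Flat A (A ⊗[A₀] M₀) ↔ ∃ i : ι, Module.Flat (G i) (G i ⊗[A₀] M₀) := by
  refine ⟨fun hA => ?_, fun ⟨i, hi⟩ => FlatAdic.flat_of_tower (A := A₀) (G i) A⟩
  obtain ⟨R₀, hfg, n, m, T₀, ⟨e⟩⟩ := exists_model A₀ B₀ M₀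
  have : Algebra.FiniteType ℤ R₀ := R₀.fg_iff_finiteType.1 hfg
  have : IsNoetherianRing R₀ := Algebra.FiniteType.isNoetherianRing ℤ R₀
  have eq : ∀ (E : Type u) [CommRing E] [Algebra A₀ E],
      Nonempty ((E ⊗[R₀] Pres T₀) ≃ₗ[E] (E ⊗[A₀] M₀)) := fun E _ _ =>
    ⟨(AlgebraTensorModule.cancelBaseChange R₀ A₀ E E (Pres T₀)).symm.trans
      (LinearEquiv.baseChange A₀ E _ _ e)⟩
  have hA' : Module.Flat A (A ⊗[R₀] Pres T₀) := Module.Flat.of_linearEquiv (eq A).some
  obtain ⟨i, hi⟩ := exists_flat_stage T₀ G (fun i j h => (g i j h).restrictScalars R₀) A hcolim hA'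
  exact ⟨i, Module.Flat.of_linearEquiv (eq (G i)).some.symm⟩

end Groth.Agent.H47.FlatModel
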