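import Mathlib.AlgebraicGeometry.Morphisms.Affine

/-!
# Pullback squares on affine charts
-/

set_option autoImplicit false
set_option backward.isDefEq.respectTransparency false

universe u

open CategoryTheory CategoryTheory.Limits AlgebraicGeometry

namespace Groth.Agent.H47.ChartPullback

variable {Z' T' Z T : Scheme.{u}} {g' : Z' ⟶ Z} {π' : Z' ⟶ T'} {π : Z ⟶ T} {g : T' ⟶ T}

/-- A pullback square restricted along open immersions. -/
theorem isPullback_of_openImmersion (sq : IsPullback g' π' π g) {W U' U P : Scheme.{u}} (a : W ⟶ Z)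
    [IsOpenImmersion a] (b : U' ⟶ T') [IsOpenImmersion b] (c : U ⟶ T) [Mono c] (j : P ⟶ Z')
    [IsOpenImmersion j] (hrange : Set.range j = g' ⁻¹' Set.range a ∩ π' ⁻¹' Set.range b)
    {p : P ⟶ W} {q : P ⟶ U'} {r : W ⟶ U} {s : U' ⟶ U} (hp : p ≫ a = j ≫ g')
    (hq : q ≫ b = j ≫ π') (hr : r ≫ c = a ≫ π) (hs : s ≫ c = b ≫ g) : IsPullback p q r s := by
  have hcomm : p ≫ r = q ≫ s := by
    rw [← cancel_mono c, Category.assoc, Category.assoc, hr, hs, ← Category.assoc, hp,
      ← Category.assoc, hq, Category.assoc, Category.assoc, sq.w]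
  have key : ∀ (t : PullbackCone r s), (t.fst ≫ a) ≫ π = (t.snd ≫ b) ≫ g := fun t => by
    rw [Category.assoc, Category.assoc, ← hr, ← hs, ← Category.assoc, t.condition, Category.assoc]
  have hle : ∀ (t : PullbackCone r s), Set.range (sq.lift _ _ (key t)) ⊆ Set.range j := fun t => by
    rintro _ ⟨y, rfl⟩
    rw [hrange]
    refine ⟨⟨t.fst y, ?_⟩, ⟨t.snd y, ?_⟩⟩
    · rw [← Scheme.Hom.comp_apply, ← Scheme.Hom.comp_apply, sq.lift_fst]
    · rw [← Scheme.Hom.comp_apply, ← Scheme.Hom.comp_apply, sq.lift_snd]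
  refine IsPullback.of_isLimit' ⟨hcomm⟩ (PullbackCone.IsLimit.mk _
    (fun t => IsOpenImmersion.lift j _ (hle t)) (fun t => ?_) (fun t => ?_) (fun t m h1 h2 => ?_))
  · rw [← cancel_mono a, Category.assoc, hp, ← Category.assoc, IsOpenImmersion.lift_fac, sq.lift_fst]
  · rw [← cancel_mono b, Category.assoc, hq, ← Category.assoc, IsOpenImmersion.lift_fac, sq.lift_snd]
  · rw [← cancel_mono j, IsOpenImmersion.lift_fac]
    refine sq.hom_ext ?_ ?_
    · rw [sq.lift_fst, Category.assoc, ← hp, ← Category.assoc, h1]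
    · rw [sq.lift_snd, Category.assoc, ← hq, ← Category.assoc, h2]

/-- The chart of a pullback square over affine charts is affine. -/
theorem isAffineOpen_chart (sq : IsPullback g' π' π g) {U : T.Opens} (hU : IsAffineOpen U)
    {W : Z.Opens} (hW : IsAffineOpen W) (hWU : W ≤ π ⁻¹ᵁ U) {U' : T'.Opens} (hU' : IsAffineOpen U')
    (e : U' ≤ g ⁻¹ᵁ U) : IsAffineOpen (g' ⁻¹ᵁ W ⊓ π' ⁻¹ᵁ U') := by
  have : IsAffine U.toScheme := hU
  have : IsAffine W.toScheme := hW
  have : IsAffine U'.toScheme := hU'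
  let O := g' ⁻¹ᵁ W ⊓ π' ⁻¹ᵁ U'
  have h := isPullback_of_openImmersion sq W.ι U'.ι U.ι O.ι (by
      simp only [Scheme.Opens.range_ι]; rfl)
    (p := g'.resLE W O inf_le_left) (q := π'.resLE U' O inf_le_right)
    (r := π.resLE U W hWU) (s := g.resLE U U' e) (g'.resLE_comp_ι _) (π'.resLE_comp_ι _)
    (π.resLE_comp_ι _) (g.resLE_comp_ι _)
  exact IsAffine.of_isPullback h

/-- The coordinate rings of a chart of a pullback square form a pushout. -/
theorem isPushout_chart (sq : IsPullback g' π' π g) {U : T.Opens} (hU : IsAffineOpen U)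
    {W : Z.Opens} (hW : IsAffineOpen W) (hWU : W ≤ π ⁻¹ᵁ U) {U' : T'.Opens} (hU' : IsAffineOpen U')
    (e : U' ≤ g ⁻¹ᵁ U) :
    IsPushout (g.appLE U U' e) (π.appLE U W hWU)
      (π'.appLE U' (g' ⁻¹ᵁ W ⊓ π' ⁻¹ᵁ U') inf_le_right)
      (g'.appLE W (g' ⁻¹ᵁ W ⊓ π' ⁻¹ᵁ U') inf_le_left) := by
  have hO := isAffineOpen_chart sq hU hW hWU hU' e
  haveI := hU.isOpenImmersion_fromSpec
  haveI := hW.isOpenImmersion_fromSpec
  haveI := hU'.isOpenImmersion_fromSpec
  haveI := hO.isOpenImmersion_fromSpec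
  have h₃ := isPullback_of_openImmersion sq hW.fromSpec hU'.fromSpec hU.fromSpec hO.fromSpec
    (by rw [hO.range_fromSpec, hW.range_fromSpec, hU'.range_fromSpec]; rfl)
    (IsAffineOpen.SpecMap_appLE_fromSpec g' hW hO inf_le_left)
    (IsAffineOpen.SpecMap_appLE_fromSpec π' hU' hO inf_le_right)
    (IsAffineOpen.SpecMap_appLE_fromSpec π hU hW hWU)
    (IsAffineOpen.SpecMap_appLE_fromSpec g hU hU' e)
  have hw := h₃.w
  exact (IsPullback.of_map Scheme.Spec
    (f := (g'.appLE W _ inf_le_left).op) (g := (π'.appLE U' _ inf_le_right).op)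
    (h := (π.appLE U W hWU).op) (i := (g.appLE U U' e).op)
    (by
      rw [← op_comp, ← op_comp]
      exact congrArg Quiver.Hom.op (Spec.map_injective (by simpa only [Spec.map_comp] using hw))) h₃).unop

end Groth.Agent.H47.ChartPullback
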