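import Groth.Agent.H47.GenericFree
import Mathlib.RingTheory.MvPolynomial.Localization
import Mathlib.RingTheory.TensorProduct.MvPolynomial
import Mathlib.LinearAlgebra.TensorProduct.Pi
import Mathlib.Algebra.Module.FinitePresentation
import Mathlib.RingTheory.FinitePresentation
import Mathlib.RingTheory.FiniteStability

/-!
# Generic freeness over an arbitrary domain

A module of finite type over an algebra of finite type over a domain becomes free after inverting a
nonzero element, and is then presented by finitely many relations.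
-/

set_option autoImplicit false
set_option linter.unusedVariables false

noncomputable section

universe u

open TensorProduct

namespace Groth.Agent.H47.GenericFreeDomain

open GenericFree

variable {R : Type u} [CommRing R] [IsDomain R]

local notation "P" n => MvPolynomial (Fin n) R

omit [IsDomain R] in
/-- clearing denominators in a span -/
theorem exists_mem_span_of_localization {A Q : Type u} [CommRing A] [CommRing Q] [Algebra A Q]
    (M : Submonoid A) [IsLocalization M Q] {m : ℕ} (T : Set (Fin m → A)) {z : Fin m → Q}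
    (hz : z ∈ Submodule.span Q ((fun t : Fin m → A => algebraMap A Q ∘ t) '' T)) :
    ∃ c ∈ M, ∃ y ∈ Submodule.span A T, algebraMap A Q ∘ y = algebraMap A Q c • z := by
  induction hz using Submodule.span_induction with
  | mem z hz =>
    obtain ⟨t, ht, rfl⟩ := hz
    exact ⟨1, M.one_mem, t, Submodule.subset_span ht, by simp⟩
  | zero => exact ⟨1, M.one_mem, 0, zero_mem _, by funext i; simp⟩
  | add z w _ _ hz hw =>
    obtain ⟨c, hc, y, hy, hyz⟩ := hz
    obtain ⟨d, hd, y', hy', hyw⟩ := hw
    refine ⟨c * d, M.mul_mem hc hd, d • y + c • y',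
      add_mem (Submodule.smul_mem _ d hy) (Submodule.smul_mem _ c hy'), funext fun i => ?_⟩
    have h1 := congrFun hyz i
    have h2 := congrFun hyw i
    simp only [Function.comp_apply, Pi.smul_apply, Pi.add_apply, smul_eq_mul, map_add, map_mul] at h1 h2 ⊢
    rw [h1, h2]
    ring
  | smul a z _ hz =>
    obtain ⟨c, hc, y, hy, hyz⟩ := hz
    obtain ⟨⟨a₀, c'⟩, hsur⟩ := IsLocalization.surj M a
    refine ⟨c' * c, M.mul_mem c'.2 hc, a₀ • y, Submodule.smul_mem _ a₀ hy, funext fun i => ?_⟩
    have h1 := congrFun hyz i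
    simp only [Function.comp_apply, Pi.smul_apply, smul_eq_mul, map_mul] at h1 hsur ⊢
    rw [h1, ← hsur]
    ring

theorem exists_finset_torsion (n m : ℕ) (N : Submodule (P n) (Fin m → P n)) :
    ∃ T : Finset (Fin m → P n), ↑T ⊆ (N : Set (Fin m → P n)) ∧
      ∀ x ∈ N, ∃ c : R, c ≠ 0 ∧ c • x ∈ Submodule.span (P n) (T : Set (Fin m → P n)) := by
  classical
  letI := MvPolynomial.algebraMvPolynomial (σ := Fin n) (R := R) (S := FractionRing R)
  let Q := MvPolynomial (Fin n) (FractionRing R)
  have hinj : Function.Injective (algebraMap (P n) Q) :=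
    MvPolynomial.map_injective _ (IsFractionRing.injective R (FractionRing R))
  let μ : (Fin m → P n) → (Fin m → Q) := fun t => algebraMap (P n) Q ∘ t
  obtain ⟨T', hT', hspan⟩ := (Submodule.fg_span_iff_fg_span_finset_subset
    (R := Q) (μ '' (N : Set (Fin m → P n)))).1
    (IsNoetherian.noetherian (Submodule.span Q (μ '' (N : Set (Fin m → P n)))))
  obtain ⟨T, hTN, rfl⟩ := Finset.subset_set_image_iff.1 hT'
  refine ⟨T, hTN, fun x hx => ?_⟩
  have h1 : μ x ∈ Submodule.span Q (μ '' (T : Set (Fin m → P n))) := by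
    rw [← Finset.coe_image, ← hspan]
    exact Submodule.subset_span ⟨x, hx, rfl⟩
  obtain ⟨_, ⟨c, hc, rfl⟩, y, hy, hyx⟩ := exists_mem_span_of_localization
    ((nonZeroDivisors R).map (MvPolynomial.C (σ := Fin n))) (T : Set (Fin m → P n)) h1
  refine ⟨c, nonZeroDivisors.ne_zero hc, ?_⟩
  have : y = c • x := funext fun i => hinj (by
    have := congrFun hyx i
    simp only [μ, Function.comp_apply, Pi.smul_apply, smul_eq_mul] at this
    rw [this, Pi.smul_apply, MvPolynomial.smul_eq_C_mul, map_mul])
  exact this ▸ hy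

section model

variable {R₀ : Type u} [CommRing R₀] [Algebra R₀ R] {n m : ℕ}

omit [IsDomain R] in
/-- base change of polynomial vectors -/
def vecEquiv : R ⊗[R₀] (Fin m → MvPolynomial (Fin n) R₀) ≃ₗ[R] (Fin m → P n) :=
  (TensorProduct.piRight R₀ R R fun _ => MvPolynomial (Fin n) R₀).trans
    (LinearEquiv.piCongrRight fun _ => (MvPolynomial.algebraTensorAlgEquiv R₀ R).toLinearEquiv)

omit [IsDomain R] in
theorem vecEquiv_tmul (r : R) (v : Fin m → MvPolynomial (Fin n) R₀) (i : Fin m) :
    vecEquiv (R := R) (r ⊗ₜ[R₀] v) i = r • MvPolynomial.map (algebraMap R₀ R) (v i) := by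
  simp [vecEquiv]

omit [IsDomain R] in
/-- base change of a quotient -/
theorem nonempty_baseChange_quot {V₀ V : Type u} [AddCommGroup V₀] [Module R₀ V₀] [AddCommGroup V]
    [Module R V] (W₀ : Submodule R₀ V₀) (W : Submodule R V) (e : R ⊗[R₀] V₀ ≃ₗ[R] V)
    (h : ∀ y, y ∈ W ↔ ∃ w, e (W₀.subtype.lTensor R w) = y) :
    Nonempty ((R ⊗[R₀] (V₀ ⧸ W₀)) ≃ₗ[R] (V ⧸ W)) := by
  have hex := lTensor_exact R (LinearMap.exact_subtype_mkQ W₀) (Submodule.mkQ_surjective W₀)
  have hV : (LinearMap.ker (W₀.mkQ.baseChange R)).map e.toLinearMap = W := by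
    ext y
    rw [h]
    constructor
    · rintro ⟨z, hz, rfl⟩
      obtain ⟨w, rfl⟩ := (hex z).1 hz
      exact ⟨w, rfl⟩
    · rintro ⟨w, rfl⟩
      exact ⟨_, (hex _).2 ⟨w, rfl⟩, rfl⟩
  exact ⟨(LinearMap.quotKerEquivOfSurjective (W₀.mkQ.baseChange R)
      (LinearMap.lTensor_surjective R (Submodule.mkQ_surjective W₀))).symm.trans
    (Submodule.Quotient.equiv _ W e hV)⟩

omit [IsDomain R] in
/-- base change of a presented module -/
theorem nonempty_quotEquiv (T₀ : Finset (Fin m → MvPolynomial (Fin n) R₀)) (T : Set (Fin m → P n))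
    (hT : T = (fun (t : Fin m → MvPolynomial (Fin n) R₀) => fun i =>
      MvPolynomial.map (algebraMap R₀ R) (t i)) '' (T₀ : Set (Fin m → MvPolynomial (Fin n) R₀))) :
    Nonempty ((R ⊗[R₀] ((Fin m → MvPolynomial (Fin n) R₀) ⧸
        Submodule.span (MvPolynomial (Fin n) R₀) (T₀ : Set (Fin m → MvPolynomial (Fin n) R₀)))) ≃ₗ[R]
      ((Fin m → P n) ⧸ Submodule.span (P n) T)) := by
  let S₀ := Submodule.span (MvPolynomial (Fin n) R₀) (T₀ : Set (Fin m → MvPolynomial (Fin n) R₀))
  refine Nonempty.map (fun e => (LinearEquiv.baseChange R₀ R _ _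
      (Submodule.Quotient.restrictScalarsEquiv R₀ S₀).symm).trans
        (e.trans (Submodule.Quotient.restrictScalarsEquiv R _)))
    (nonempty_baseChange_quot (S₀.restrictScalars R₀) ((Submodule.span (P n) T).restrictScalars R)
      (vecEquiv (R := R) (R₀ := R₀) (n := n) (m := m)) fun y => ?_)
  have hmem : ∀ {s}, s ∈ S₀ → ∀ r : R, vecEquiv (R := R) (r ⊗ₜ[R₀] s) ∈ Submodule.span (P n) T := by
    intro s hs
    induction hs using Submodule.span_induction with
    | mem s hs =>
      intro r
      have : vecEquiv (R := R) (r ⊗ₜ[R₀] s) =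
          (MvPolynomial.C r : P n) • fun i => MvPolynomial.map (algebraMap R₀ R) (s i) := by
        funext i
        simp [vecEquiv_tmul, MvPolynomial.smul_eq_C_mul]
      rw [this]
      exact Submodule.smul_mem _ _ (Submodule.subset_span (hT ▸ ⟨s, hs, rfl⟩))
    | zero => intro r; simp
    | add a b _ _ ha hb => intro r; rw [tmul_add, map_add]; exact add_mem (ha r) (hb r)
    | smul p a _ ha =>
      intro r
      have : vecEquiv (R := R) (r ⊗ₜ[R₀] (p • a)) =
          MvPolynomial.map (algebraMap R₀ R) p • vecEquiv (R := R) (r ⊗ₜ[R₀] a) := by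
        funext i
        simp [vecEquiv_tmul]
      rw [this]
      exact Submodule.smul_mem _ _ (ha r)
  constructor
  · intro hy
    have key : ∀ y ∈ Submodule.span (P n) T, ∃ w : R ⊗[R₀] ↥(S₀.restrictScalars R₀),
        vecEquiv (R := R) ((S₀.restrictScalars R₀).subtype.lTensor R w) = y := by
      intro y hy
      induction hy using Submodule.span_induction with
      | mem y hy =>
        obtain ⟨s, hs, rfl⟩ := hT ▸ hy
        refine ⟨1 ⊗ₜ (⟨s, Submodule.subset_span hs⟩ : ↥(S₀.restrictScalars R₀)), funext fun i => ?_⟩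
        simp [vecEquiv_tmul]
      | zero => exact ⟨0, by simp⟩
      | add a b _ _ ha hb =>
        obtain ⟨v, rfl⟩ := ha
        obtain ⟨w, rfl⟩ := hb
        exact ⟨v + w, by simp⟩
      | smul p a _ ha =>
        obtain ⟨w, rfl⟩ := ha
        clear * -
        obtain ⟨p, rfl⟩ := (MvPolynomial.algebraTensorAlgEquiv R₀ R).surjective p
        induction p using TensorProduct.induction_on with
        | zero => exact ⟨0, by simp⟩
        | add a b ha hb =>
          obtain ⟨v, hv⟩ := ha
          obtain ⟨v', hv'⟩ := hb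
          exact ⟨v + v', by simp [hv, hv', add_smul]⟩
        | tmul r p₀ =>
          induction w using TensorProduct.induction_on with
          | zero => exact ⟨0, by simp⟩
          | add a b ha hb =>
            obtain ⟨v, hv⟩ := ha
            obtain ⟨v', hv'⟩ := hb
            exact ⟨v + v', by simp [hv, hv', smul_add]⟩
          | tmul r' s =>
            refine ⟨(r * r') ⊗ₜ (⟨p₀ • s.1, S₀.smul_mem _ s.2⟩ : ↥(S₀.restrictScalars R₀)), funext fun i => ?_⟩
            simp [vecEquiv_tmul, MvPolynomial.smul_eq_C_mul]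
            ring
    exact key y hy
  · rintro ⟨w, rfl⟩
    induction w using TensorProduct.induction_on with
    | zero => simp
    | tmul r s => exact hmem s.2 r
    | add a b ha hb =>
      rw [map_add, map_add]
      exact add_mem ha hb

end model

omit [IsDomain R] in
theorem free_of_free_base {R₀ : Type u} [CommRing R₀] [Algebra R₀ R] (M₀ : Type u) [AddCommGroup M₀]
    [Module R₀ M₀] (f₀ : R₀)
    [Module.Free (Localization.Away f₀) (Localization.Away f₀ ⊗[R₀] M₀)] :
    Module.Free (Localization.Away (algebraMap R₀ R f₀))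
      (Localization.Away (algebraMap R₀ R f₀) ⊗[R] (R ⊗[R₀] M₀)) := by
  let f := algebraMap R₀ R f₀
  let φ : Localization.Away f₀ →+* Localization.Away f :=
    IsLocalization.Away.lift f₀ (g := algebraMap R₀ (Localization.Away f))
      (by rw [IsScalarTower.algebraMap_apply R₀ R (Localization.Away f)]
          exact IsLocalization.Away.algebraMap_isUnit f)
  letI : Algebra (Localization.Away f₀) (Localization.Away f) := φ.toAlgebra
  have : IsScalarTower R₀ (Localization.Away f₀) (Localization.Away f) :=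
    IsScalarTower.of_algebraMap_eq fun r => (IsLocalization.Away.lift_eq f₀ _ r).symm
  exact Module.Free.of_equiv
    ((AlgebraTensorModule.cancelBaseChange R₀ (Localization.Away f₀) (Localization.Away f)
      (Localization.Away f) M₀).trans
      (AlgebraTensorModule.cancelBaseChange R₀ R (Localization.Away f) (Localization.Away f) M₀).symm)

/-- Generic freeness for a presented module over a polynomial ring. -/
theorem exists_free_polynomial (n m : ℕ) (N : Submodule (P n) (Fin m → P n)) :
    ∃ f : R, f ≠ 0 ∧ ∃ T : Finset (Fin m → P n), ↑T ⊆ (N : Set (Fin m → P n)) ∧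
      (∀ x ∈ N, ∃ k : ℕ, f ^ k • x ∈ Submodule.span (P n) (T : Set (Fin m → P n))) ∧
      Module.Free (Localization.Away f) (Localization.Away f ⊗[R] ((Fin m → P n) ⧸ N)) := by
  classical
  obtain ⟨T, hTN, htors⟩ := exists_finset_torsion n m N
  let coef : Finset R := T.biUnion fun t => Finset.univ.biUnion fun i =>
    (t i).support.image fun d => (t i).coeff d
  let R₀ : Subalgebra ℤ R := Algebra.adjoin ℤ (coef : Set R)
  have : Algebra.FiniteType ℤ R₀ := .adjoin_of_finite coef.finite_toSet
  have : IsNoetherianRing R₀ := Algebra.FiniteType.isNoetherianRing ℤ R₀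
  let μ : (Fin m → MvPolynomial (Fin n) R₀) → (Fin m → P n) :=
    fun t i => MvPolynomial.map (algebraMap R₀ R) (t i)
  have hlift : (T : Set (Fin m → P n)) ⊆ Set.range μ := by
    intro t ht
    have : ∀ i, ∃ p : MvPolynomial (Fin n) R₀, MvPolynomial.map (algebraMap R₀ R) p = t i := fun i => by
      refine MvPolynomial.mem_range_map_iff_coeffs_subset.2 fun a ha => ?_
      obtain ⟨d, hd, rfl⟩ := MvPolynomial.mem_coeffs_iff.1 ha
      exact ⟨⟨_, Algebra.subset_adjoin (Finset.mem_biUnion.2 ⟨t, ht, Finset.mem_biUnion.2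
        ⟨i, Finset.mem_univ _, Finset.mem_image_of_mem _ hd⟩⟩)⟩, rfl⟩
    choose p hp using this
    exact ⟨p, funext hp⟩
  rw [← Set.image_univ] at hlift
  obtain ⟨T₀, -, hT₀⟩ := Finset.subset_set_image_iff.1 hlift
  have hT₀' : (T : Set (Fin m → P n)) = μ '' T₀ := by rw [← hT₀, Finset.coe_image]
  obtain ⟨e⟩ := nonempty_quotEquiv (R := R) T₀ (T : Set (Fin m → P n)) hT₀'
  obtain ⟨f₀, hf₀, hfree₀⟩ := gf_of_finiteType (R := R₀) (MvPolynomial (Fin n) R₀)
    ((Fin m → MvPolynomial (Fin n) R₀) ⧸ Submodule.span (MvPolynomial (Fin n) R₀)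
      (T₀ : Set (Fin m → MvPolynomial (Fin n) R₀)))
  let f : R := algebraMap R₀ R f₀
  have hf : f ≠ 0 := fun h => hf₀ (Subtype.ext h)
  let A := Localization.Away f
  have : IsDomain A := IsLocalization.isDomain_localization
    (powers_le_nonZeroDivisors_of_noZeroDivisors hf)
  let S := Submodule.span (P n) (T : Set (Fin m → P n))
  have hfree : Module.Free A (A ⊗[R] ((Fin m → P n) ⧸ S)) := by
    have := free_of_free_base (R := R) (R₀ := R₀) ((Fin m → MvPolynomial (Fin n) R₀) ⧸
      Submodule.span (MvPolynomial (Fin n) R₀) (T₀ : Set (Fin m → MvPolynomial (Fin n) R₀))) f₀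
    exact Module.Free.of_equiv (LinearEquiv.baseChange R A _ _ e)
  let mk := TensorProduct.mk R A ((Fin m → P n) ⧸ S) 1
  have hkill : ∀ x ∈ N, mk (Submodule.Quotient.mk x) = 0 := by
    intro x hx
    obtain ⟨c, hc, hcx⟩ := htors x hx
    have h1 : algebraMap R A c • mk (Submodule.Quotient.mk x) = 0 := by
      rw [algebraMap_smul, ← map_smul, ← Submodule.Quotient.mk_smul,
        (Submodule.Quotient.mk_eq_zero S).2 hcx, map_zero]
    exact (smul_eq_zero.1 h1).resolve_left fun h => hc
      (IsLocalization.injective A (powers_le_nonZeroDivisors_of_noZeroDivisors hf)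
        (h.trans (map_zero _).symm))
  have hpow : ∀ x ∈ N, ∃ k : ℕ, f ^ k • x ∈ S := by
    intro x hx
    obtain ⟨⟨_, k, rfl⟩, hk⟩ := (IsLocalizedModule.eq_zero_iff (Submonoid.powers f) mk).1 (hkill x hx)
    exact ⟨k, (Submodule.Quotient.mk_eq_zero S).1 hk⟩
  refine ⟨f, hf, T, hTN, hpow, ?_⟩
  let π : ((Fin m → P n) ⧸ S) →ₗ[R] ((Fin m → P n) ⧸ N) :=
    (Submodule.mapQ S N LinearMap.id (Submodule.span_le.2 hTN)).restrictScalars R
  have hπ : Function.Surjective π := fun y => by
    obtain ⟨y, rfl⟩ := Submodule.mkQ_surjective _ y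
    exact ⟨Submodule.Quotient.mk y, rfl⟩
  have hsurj : Function.Surjective (π.baseChange A) := LinearMap.lTensor_surjective A hπ
  have hex := lTensor_exact A (f := (LinearMap.ker π).subtype) (g := π)
    (LinearMap.exact_subtype_ker_map π) hπ
  have hinj : Function.Injective (π.baseChange A) := by
    rw [injective_iff_map_eq_zero]
    intro z hz
    obtain ⟨w, rfl⟩ := (hex z).1 hz
    clear hz
    induction w using TensorProduct.induction_on with
    | zero => simp
    | tmul a v =>
      obtain ⟨⟨x⟩, hv⟩ := v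
      have hx : x ∈ N := (Submodule.Quotient.mk_eq_zero N).1 (LinearMap.mem_ker.1 hv)
      show a ⊗ₜ[R] (Submodule.Quotient.mk x : (Fin m → P n) ⧸ S) = 0
      rw [show a ⊗ₜ[R] (Submodule.Quotient.mk x : (Fin m → P n) ⧸ S) =
        a • mk (Submodule.Quotient.mk x) by simp [mk, TensorProduct.smul_tmul'], hkill x hx, smul_zero]
    | add u v hu hv => rw [map_add, hu, hv, add_zero]
  exact Module.Free.of_equiv (LinearEquiv.ofBijective (π.baseChange A) ⟨hinj, hsurj⟩)

/-- Generic freeness over a domain. -/
theorem gf_of_finiteType (B : Type u) [CommRing B] [Algebra R B] [Algebra.FiniteType R B]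
    (M : Type u) [AddCommGroup M] [Module B M] [Module R M] [IsScalarTower R B M]
    [Module.Finite B M] : GF R M := by
  obtain ⟨n, π, hπ⟩ := Algebra.FiniteType.iff_quotient_mvPolynomial''.1 ‹Algebra.FiniteType R B›
  letI : Module (P n) M := Module.compHom M π.toRingHom
  have : IsScalarTower R (P n) M :=
    ⟨fun r p m => by
      show π (r • p) • m = r • π p • m
      rw [map_smul, smul_assoc]⟩
  obtain ⟨m, s, hs⟩ := Module.Finite.exists_fin (R := B) (M := M)
  let g : (Fin m → P n) →ₗ[P n] M := Fintype.linearCombination (P n) s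
  have hg : Function.Surjective g := by
    intro x
    obtain ⟨c, hc⟩ := (Submodule.mem_span_range_iff_exists_fun B).1 (hs.symm ▸ trivial :
      x ∈ Submodule.span B (Set.range s))
    choose p hp using fun i => hπ (c i)
    refine ⟨p, ?_⟩
    simp only [g, Fintype.linearCombination_apply]
    rw [← hc]
    exact Finset.sum_congr rfl fun i _ => by
      show π (p i) • s i = _
      rw [hp]
  obtain ⟨f, hf, T, -, -, hfree⟩ := exists_free_polynomial n m (LinearMap.ker g)
  exact GF.of_equiv ((g.quotKerEquivOfSurjective hg).restrictScalars R) ⟨f, hf, hfree⟩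

end Groth.Agent.H47.GenericFreeDomain

namespace Groth.Agent.H47.GenericFreeDomain

open GenericFree

variable {R : Type u} [CommRing R] [IsDomain R]

local notation "P" n => MvPolynomial (Fin n) R

omit [IsDomain R] in
theorem finitePresentation_algebra {P' : Type u} [CommRing P'] [Algebra R P']
    [Algebra.FinitePresentation R P'] {S : Type u} [CommRing S] [Algebra R S]
    (π : P' →ₐ[R] S) (hπ : Function.Surjective π) (f : R) (T : Finset P')
    (hT : ∀ t ∈ T, π t = 0)
    (hpow : ∀ x, π x = 0 → ∃ k : ℕ, f ^ k • x ∈ Submodule.span P' (T : Set P')) :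
    Algebra.FinitePresentation (Localization.Away f) (Localization.Away f ⊗[R] S) := by
  classical
  let A := Localization.Away f
  let Φ : A ⊗[R] P' →ₐ[A] A ⊗[R] S := Algebra.TensorProduct.map (AlgHom.id A A) π
  have hΦ : Function.Surjective Φ := fun z => by
    induction z using TensorProduct.induction_on with
    | zero => exact ⟨0, map_zero _⟩
    | tmul a x =>
      obtain ⟨y, rfl⟩ := hπ x
      exact ⟨a ⊗ₜ y, by simp [Φ]⟩
    | add u v hu hv =>
      obtain ⟨u, rfl⟩ := hu
      obtain ⟨v, rfl⟩ := hv
      exact ⟨u + v, map_add _ _ _⟩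
  refine Algebra.FinitePresentation.of_surjective (R := A) (A := A ⊗[R] P') (B := A ⊗[R] S) hΦ ?_
  let inc : P' →ₐ[R] A ⊗[R] P' := Algebra.TensorProduct.includeRight
  have hΦ' : Φ.toRingHom = (Algebra.TensorProduct.map (AlgHom.id R A) π).toRingHom := by
    refine RingHom.ext fun z => ?_
    induction z using TensorProduct.induction_on with
    | zero => rw [map_zero, map_zero]
    | tmul a x => simp [Φ]
    | add a b ha hb => rw [map_add, map_add, ha, hb]
  have hker : RingHom.ker Φ.toRingHom = (RingHom.ker π).map inc.toRingHom := by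
    rw [hΦ']
    exact Algebra.TensorProduct.lTensor_ker (A := A) (g := π) hπ
  refine ⟨T.image inc, le_antisymm ?_ ?_⟩
  · rw [Finset.coe_image, Submodule.span_le]
    rintro _ ⟨t, ht, rfl⟩
    rw [hker]
    exact Ideal.mem_map_of_mem inc.toRingHom (RingHom.mem_ker.2 (hT t ht))
  · rw [hker, Ideal.map_le_iff_le_comap]
    intro x hx
    obtain ⟨k, hk⟩ := hpow x hx
    rw [Ideal.mem_comap]
    have h1 : inc (f ^ k • x) ∈ Submodule.span (A ⊗[R] P') (↑(T.image inc) : Set _) := by
      rw [Finset.coe_image]
      have : (Ideal.span (T : Set P')).map inc.toRingHom = Ideal.span (inc '' T) :=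
        Ideal.map_span _ _
      exact this.le (Ideal.mem_map_of_mem inc.toRingHom hk)
    have hu : IsUnit (algebraMap R (A ⊗[R] P') (f ^ k)) := by
      rw [IsScalarTower.algebraMap_apply R A (A ⊗[R] P'), map_pow, map_pow]
      exact ((IsLocalization.Away.algebraMap_isUnit f).map (algebraMap A (A ⊗[R] P'))).pow k
    rw [map_smul, ← algebraMap_smul (A ⊗[R] P') (f ^ k) (inc x), smul_eq_mul] at h1
    exact (Ideal.unit_mul_mem_iff_mem _ hu).1 h1

theorem finitePresentation_module {S M : Type u} [CommRing S] [AddCommGroup M]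
    [Module S M] {m : ℕ} (g : (Fin m → S) →ₗ[S] M) (hg : Function.Surjective g) (fS : S)
    (T : Finset (Fin m → S)) (hT : ∀ t ∈ T, g t = 0)
    (hpow : ∀ x, g x = 0 → ∃ k : ℕ, fS ^ k • x ∈ Submodule.span S (T : Set (Fin m → S))) :
    Module.FinitePresentation (Localization.Away fS) (LocalizedModule (Submonoid.powers fS) M) := by
  let W := Submodule.span S (T : Set (Fin m → S))
  have : Module.FinitePresentation S ((Fin m → S) ⧸ W) :=
    Module.finitePresentation_of_surjective W.mkQ (Submodule.mkQ_surjective W)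
      (by rw [Submodule.ker_mkQ]; exact Submodule.fg_span T.finite_toSet)
  let p : ((Fin m → S) ⧸ W) →ₗ[S] M := W.liftQ g (Submodule.span_le.2 fun t ht => hT t ht)
  let mk := LocalizedModule.mkLinearMap (Submonoid.powers fS) M
  let h : ((Fin m → S) ⧸ W) →ₗ[S] LocalizedModule (Submonoid.powers fS) M := mk ∘ₗ p
  have : IsLocalizedModule (Submonoid.powers fS) h := by
    refine ⟨IsLocalizedModule.map_units mk, fun y => ?_, fun {x₁ x₂} e => ?_⟩
    · obtain ⟨⟨m₀, s⟩, hs⟩ := IsLocalizedModule.surj (Submonoid.powers fS) mk y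
      obtain ⟨x, rfl⟩ := hg m₀
      exact ⟨⟨Submodule.Quotient.mk x, s⟩, hs⟩
    · obtain ⟨c, hc⟩ := (IsLocalizedModule.eq_iff_exists (Submonoid.powers fS) mk).1 e
      obtain ⟨x₁, rfl⟩ := Submodule.mkQ_surjective W x₁
      obtain ⟨x₂, rfl⟩ := Submodule.mkQ_surjective W x₂
      have hgx : g ((c : S) • (x₁ - x₂)) = 0 := by
        rw [map_smul, map_sub, smul_sub, sub_eq_zero]
        exact hc
      obtain ⟨k, hk⟩ := hpow _ hgx
      refine ⟨⟨fS ^ k, k, rfl⟩ * c, ?_⟩
      show (fS ^ k * (c : S)) • W.mkQ x₁ = (fS ^ k * (c : S)) • W.mkQ x₂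
      rw [← map_smul, ← map_smul, Submodule.mkQ_apply, Submodule.mkQ_apply, Submodule.Quotient.eq,
        ← smul_sub, mul_smul]
      exact hk
  exact FinitePresentation.of_isBaseChange h
    (IsLocalizedModule.isBaseChange (Submonoid.powers fS) (Localization.Away fS) h)

theorem generic_freeness {S M : Type u} [CommRing S] [Algebra R S] [Algebra.FiniteType R S]
    [AddCommGroup M] [Module S M] [Module R M] [IsScalarTower R S M] [Module.Finite S M] :
    ∃ f : R, f ≠ 0 ∧ Module.Free (Localization.Away f) (Localization.Away f ⊗[R] M) ∧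
      Module.Free (Localization.Away f) (Localization.Away f ⊗[R] S) ∧
      Algebra.FinitePresentation (Localization.Away f) (Localization.Away f ⊗[R] S) ∧
      Module.FinitePresentation (Localization.Away (algebraMap R S f))
        (LocalizedModule (Submonoid.powers (algebraMap R S f)) M) := by
  classical
  obtain ⟨n, π, hπ⟩ := Algebra.FiniteType.iff_quotient_mvPolynomial''.1 ‹Algebra.FiniteType R S›
  letI : Module (P n) M := Module.compHom M π.toRingHom
  have hsmul : ∀ (q : P n) (y : M), q • y = π q • y := fun q y => rfl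
  have : IsScalarTower R (P n) M := ⟨fun r q y => by rw [hsmul, hsmul, map_smul, smul_assoc]⟩
  let ev : (Fin 1 → P n) →ₗ[R] S := π.toLinearMap ∘ₗ LinearMap.proj 0
  let N₁ : Submodule (P n) (Fin 1 → P n) :=
    { carrier := {v | π (v 0) = 0}
      add_mem' := fun {a b} ha hb => by
        simp only [Set.mem_setOf_eq] at ha hb ⊢
        rw [Pi.add_apply, map_add, ha, hb, add_zero]
      zero_mem' := by simp
      smul_mem' := fun q v hv => by
        simp only [Set.mem_setOf_eq] at hv ⊢
        rw [Pi.smul_apply, smul_eq_mul, map_mul, hv, mul_zero] }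
  obtain ⟨f₁, hf₁, T₁, hT₁, hpow₁, hfree₁⟩ :=
    exists_free_polynomial n 1 N₁
  obtain ⟨m, s, hs⟩ := Module.Finite.exists_fin (R := S) (M := M)
  let g : (Fin m → P n) →ₗ[P n] M := Fintype.linearCombination (P n) s
  let gS : (Fin m → S) →ₗ[S] M := Fintype.linearCombination S s
  have hgg : ∀ v : Fin m → P n, g v = gS (fun i => π (v i)) := fun v => by
    simp only [g, gS, Fintype.linearCombination_apply]
    exact Finset.sum_congr rfl fun i _ => hsmul _ _
  have hgS : Function.Surjective gS := fun x => by
    obtain ⟨c, hc⟩ := (Submodule.mem_span_range_iff_exists_fun S).1 (hs.symm ▸ trivial :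
      x ∈ Submodule.span S (Set.range s))
    exact ⟨c, by simpa [gS, Fintype.linearCombination_apply] using hc⟩
  have hlift : ∀ x : Fin m → S, ∃ v : Fin m → P n, (fun i => π (v i)) = x := fun x =>
    ⟨fun i => (hπ (x i)).choose, funext fun i => (hπ (x i)).choose_spec⟩
  have hg : Function.Surjective g := fun y => by
    obtain ⟨x, rfl⟩ := hgS y
    obtain ⟨v, rfl⟩ := hlift x
    exact ⟨v, hgg v⟩
  obtain ⟨f₂, hf₂, T₂, hT₂, hpow₂, hfree₂⟩ := exists_free_polynomial n m (LinearMap.ker g)
  have hS : Module.Free (Localization.Away f₁) (Localization.Away f₁ ⊗[R] S) := by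
    let pS : ((Fin 1 → P n) ⧸ N₁.restrictScalars R) ≃ₗ[R] S :=
      (Submodule.quotEquivOfEq _ _ (by ext v; rfl)).trans
        (LinearMap.quotKerEquivOfSurjective ev fun x => by
          obtain ⟨q, rfl⟩ := hπ x
          exact ⟨fun _ => q, rfl⟩)
    exact Module.Free.of_equiv (LinearEquiv.baseChange R (Localization.Away f₁) _ _
      ((Submodule.Quotient.restrictScalarsEquiv R N₁).symm.trans pS))
  have hM : Module.Free (Localization.Away f₂) (Localization.Away f₂ ⊗[R] M) :=
    Module.Free.of_equiv (LinearEquiv.baseChange R (Localization.Away f₂) _ _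
      ((g.quotKerEquivOfSurjective hg).restrictScalars R))
  refine ⟨f₁ * f₂, mul_ne_zero hf₁ hf₂, free_of_dvd (f := f₂) (dvd_mul_left _ _),
    free_of_dvd (f := f₁) (dvd_mul_right _ _), ?_, ?_⟩
  · refine finitePresentation_algebra π hπ _ (T₁.image fun v => v 0) ?_ ?_
    · intro t ht
      obtain ⟨v, hv, rfl⟩ := Finset.mem_image.1 ht
      exact hT₁ hv
    · intro x hx
      obtain ⟨k, hk⟩ := hpow₁ (fun _ => x) hx
      refine ⟨k, ?_⟩
      rw [mul_pow, mul_comm, mul_smul]
      refine Submodule.smul_of_tower_mem _ _ ?_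
      have := Submodule.mem_map_of_mem (f := (LinearMap.proj 0 : (Fin 1 → P n) →ₗ[P n] (P n))) hk
      rw [Submodule.map_span, ← Finset.coe_image] at this
      exact this
  · refine finitePresentation_module gS hgS _ (T₂.image fun v => fun i => π (v i)) ?_ ?_
    · intro t ht
      obtain ⟨v, hv, rfl⟩ := Finset.mem_image.1 ht
      exact (hgg v).symm.trans (hT₂ hv)
    · intro x hx
      obtain ⟨v, rfl⟩ := hlift x
      obtain ⟨k, hk⟩ := hpow₂ v (LinearMap.mem_ker.2 ((hgg v).trans hx))
      refine ⟨k, ?_⟩
      have key : ∀ y ∈ Submodule.span (P n) (T₂ : Set (Fin m → P n)), (fun i => π (y i)) ∈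
          Submodule.span S (↑(T₂.image fun v => fun i => π (v i)) : Set (Fin m → S)) := by
        intro y hy
        induction hy using Submodule.span_induction with
        | mem y hy => exact Submodule.subset_span (Finset.mem_image_of_mem _ hy)
        | zero => simp only [Pi.zero_apply, map_zero]; exact zero_mem _
        | add a b _ _ ha hb =>
          have : (fun i => π ((a + b) i)) = (fun i => π (a i)) + fun i => π (b i) := by
            funext i; simp
          rw [this]; exact add_mem ha hb
        | smul q a _ ha =>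
          have : (fun i => π ((q • a) i)) = π q • fun i => π (a i) := by funext i; simp
          rw [this]; exact Submodule.smul_mem _ _ ha
      have h2 := Submodule.smul_mem _ (algebraMap R S f₁ ^ k) (key _ hk)
      convert h2 using 1
      funext i
      simp only [Pi.smul_apply, smul_eq_mul, Algebra.smul_def, map_mul, mul_pow, map_pow,
        AlgHom.commutes]
      ring

end Groth.Agent.H47.GenericFreeDomain
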