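import Groth.Agent.H47.FlatKernel
import Groth.Agent.H19.FlatLocus.Scheme
import Groth.Agent.H19.FlatLocus.Model
import Groth.Agent.Lib.DescAlg.FPPush
import Groth.Agent.Lib.QCoh.Closure

/-!
# Sheaf form: kernels of epimorphisms onto flat modules of finite presentation
-/

set_option autoImplicit false
set_option backward.isDefEq.respectTransparency false

universe u

open CategoryTheory CategoryTheory.Limits AlgebraicGeometry

namespace Groth.Agent.H47.FlatKernelScheme

open Groth.Agent.Lib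

variable {X Y : Scheme.{u}}

/-- Two modules of finite presentation have finitely presented sections on a common small affine
neighbourhood. -/
theorem exists_affine_le₂ (G H : X.Modules) [G.IsQuasicoherent] [H.IsQuasicoherent]
    (hG : CohB1.IsFP G) (hH : CohB1.IsFP H) (x : X) (O : X.Opens) (hx : x ∈ O) :
    ∃ U : X.Opens, IsAffineOpen U ∧ x ∈ U ∧ U ≤ O ∧ Module.FinitePresentation Γ(X, U) Γ(G, U) ∧
      Module.FinitePresentation Γ(X, U) Γ(H, U) := by
  have : SheafOfModules.IsFinitePresentation (R := X.ringCatSheaf) G := hG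
  have : SheafOfModules.IsFinitePresentation (R := X.ringCatSheaf) H := hH
  obtain ⟨U, hU, hxU, hUO, hfpU⟩ := Flat55.QCohFP.exists_affine_le G x O hx
  obtain ⟨V, hV, hxV, -, hfpV⟩ := Flat55.QCohFP.exists_affine_le H x U hxU
  obtain ⟨a, b, hab, hxa⟩ := exists_basicOpen_le_affine_inter hU hV x ⟨hxU, hxV⟩
  refine ⟨X.basicOpen a, hU.basicOpen a, hxa, (X.basicOpen_le a).trans hUO,
    Flat55.QCohFP.finitePresentation_basicOpen G hU a, ?_⟩
  rw [hab]
  exact Flat55.QCohFP.finitePresentation_basicOpen H hV b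

/-- Flat modules have flat sections on affine charts. -/
theorem flat_sections (f : X ⟶ Y) (H : X.Modules) [H.IsQuasicoherent] {V : Y.Opens}
    (hV : IsAffineOpen V) {U : X.Opens} (hU : IsAffineOpen U) (hUV : U ≤ f ⁻¹ᵁ V)
    (hflat : FlatMod.IsFlatOver f H) :
    letI := (f.appLE V U hUV).hom.toAlgebra
    letI := Module.compHom Γ(H, U) (f.appLE V U hUV).hom
    Module.Flat Γ(Y, V) Γ(H, U) := by
  letI : Algebra Γ(Y, V) Γ(X, U) := (f.appLE V U hUV).hom.toAlgebra
  letI : Module Γ(Y, V) Γ(H, U) := Module.compHom Γ(H, U) (f.appLE V U hUV).hom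
  haveI : IsScalarTower Γ(Y, V) Γ(X, U) Γ(H, U) := IsScalarTower.of_algebraMap_smul fun _ _ ↦ rfl
  refine H19.FlatLocus.Model.flat_of_forall_prime (S := Γ(X, U)) fun q _ ↦ ?_
  have hy : hU.fromSpec ⟨q, ‹_›⟩ ∈ U := by
    have := Set.mem_range_self (f := hU.fromSpec) (⟨q, ‹_›⟩ : PrimeSpectrum Γ(X, U))
    rwa [hU.range_fromSpec] at this
  have hq : hU.primeIdealOf ⟨_, hy⟩ = ⟨q, ‹_›⟩ :=
    hU.fromSpec.isOpenEmbedding.injective (hU.fromSpec_primeIdealOf ⟨_, hy⟩)
  have h := (H19.FlatLocus.Scheme.isFlatOverAt_iff f H hV hU hUV hy).1 (hflat _)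
  convert h <;> rw [hq]

/-- The kernel of an epimorphism onto a flat module of finite presentation is of finite
presentation. -/
theorem isFP_kernel (f : X ⟶ Y) [LocallyOfFinitePresentation f] (G H : X.Modules)
    [G.IsQuasicoherent] [H.IsQuasicoherent] (hG : CohB1.IsFP G) (hH : CohB1.IsFP H)
    (hflat : FlatMod.IsFlatOver f H) (p : G ⟶ H) [Epi p] : CohB1.IsFP (kernel p) := by
  have : (kernel p).IsQuasicoherent := QCoh.Closure.isQCoh_kernel p
  refine DescAlg.FPPush.isFP_of_sections _ fun x ↦ ?_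
  obtain ⟨V, hV, hxV, -⟩ := exists_isAffineOpen_mem_and_subset (X := Y) (x := f x) (U := ⊤) trivial
  obtain ⟨U, hU, hxU, hUV, hfpG, hfpH⟩ := exists_affine_le₂ G H hG hH x (f ⁻¹ᵁ V) hxV
  letI : Algebra Γ(Y, V) Γ(X, U) := (f.appLE V U hUV).hom.toAlgebra
  letI : Module Γ(Y, V) Γ(H, U) := Module.compHom Γ(H, U) (f.appLE V U hUV).hom
  haveI : IsScalarTower Γ(Y, V) Γ(X, U) Γ(H, U) := IsScalarTower.of_algebraMap_smul fun _ _ ↦ rfl
  have : Algebra.FinitePresentation Γ(Y, V) Γ(X, U) :=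
    HasRingHomProperty.appLE @LocallyOfFinitePresentation f inferInstance ⟨V, hV⟩ ⟨U, hU⟩ hUV
  have : Module.Flat Γ(Y, V) Γ(H, U) := flat_sections f H hV hU hUV hflat
  let pU : Γ(G, U) →ₗ[Γ(X, U)] Γ(H, U) :=
    { toFun := p.app U, map_add' := map_add _, map_smul' := fun r m ↦ p.app_smul r m }
  have hfp := FlatKernel.fp_ker (R := Γ(Y, V)) pU (QCoh.Closure.sections_surjective_of_epi p hU)
  let S := ShortComplex.mk (kernel.ι p) p (kernel.condition p)
  have hS : S.Exact := S.exact_of_f_is_kernel (kernelIsKernel p)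
  have : Mono S.f := inferInstanceAs (Mono (kernel.ι p))
  let i : Γ(kernel p, U) →ₗ[Γ(X, U)] ↥(LinearMap.ker pU) :=
    { toFun := fun y ↦ ⟨(kernel.ι p).app U y, QCoh.Closure.sections_comp (S := S) U y⟩
      map_add' := fun a b ↦ Subtype.ext (map_add _ a b)
      map_smul' := fun r m ↦ Subtype.ext ((kernel.ι p).app_smul r m) }
  have hi : Function.Bijective i :=
    ⟨fun a b hab ↦ QCoh.Closure.sections_injective_of_mono (kernel.ι p) U (congrArg Subtype.val hab),
      fun y ↦ (QCoh.Closure.sections_exact hS U y.1 y.2).imp fun _ h ↦ Subtype.ext h⟩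
  exact ⟨U, hU, hxU, Module.FinitePresentation.of_equiv (LinearEquiv.ofBijective i hi).symm⟩

end Groth.Agent.H47.FlatKernelScheme
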