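import Groth.Agent.H47.FibreLocus
import Groth.Agent.Lib.Lim.OpenImm
import Groth.Agent.H47.LimDescend
import Mathlib.AlgebraicGeometry.Morphisms.UniversallyInjective

/-!
# Constructibility of the loci where the fibre map is surjective, resp. universally injective
-/

set_option autoImplicit false
set_option backward.isDefEq.respectTransparency false

noncomputable section

universe u

open CategoryTheory CategoryTheory.Limits AlgebraicGeometry Groth.Agent.H47.FibreLocus

namespace Groth.Agent.H47.SurjLocus

variable {X Y S : Scheme.{u}} (f : X ⟶ Y) (g : Y ⟶ S)

theorem compl_isLocallyConstructible {T : Type*} [TopologicalSpace T] {Z : Set T}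
    (hZ : Topology.IsLocallyConstructible Z) : Topology.IsLocallyConstructible Zᶜ := fun x => by
  obtain ⟨U, hxU, hU, hc⟩ := hZ x
  exact ⟨U, hxU, hU, by simpa [Set.preimage_compl] using hc.compl⟩

theorem setOf_surjective_eq :
    {s : S | Surjective (bcMap f g (S.fromSpecResidueField s))} = (g '' (Set.range f)ᶜ)ᶜ := by
  ext s
  simp only [Set.mem_setOf_eq, Set.mem_compl_iff, Set.mem_image, not_exists, not_and]
  constructor
  · intro h y hy hys
    obtain ⟨z, hz⟩ : y ∈ Set.range (pullback.fst g (S.fromSpecResidueField s)) := by
      rw [Scheme.Pullback.range_fst, Scheme.range_fromSpecResidueField]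
      exact hys
    obtain ⟨x, hx⟩ := h.surj z
    have hz' : z ∈ Set.range (bcMap f g (S.fromSpecResidueField s)) := ⟨x, hx⟩
    rw [Scheme.Pullback.range_snd] at hz'
    exact hy (hz ▸ hz')
  · intro h
    refine ⟨fun z => ?_⟩
    show z ∈ Set.range (bcMap f g (S.fromSpecResidueField s))
    rw [Scheme.Pullback.range_snd]
    by_contra hc
    refine h (pullback.fst g (S.fromSpecResidueField s) z) hc ?_
    rw [← Scheme.Hom.comp_apply, pullback.condition, Scheme.Hom.comp_apply,
      Scheme.fromSpecResidueField_apply]

theorem isLocallyConstructible_surjective [LocallyOfFinitePresentation f] [QuasiCompact f]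
    [LocallyOfFinitePresentation g] [QuasiCompact g] :
    Topology.IsLocallyConstructible
      {s : S | Surjective (bcMap f g (S.fromSpecResidueField s))} := by
  rw [setOf_surjective_eq]
  refine compl_isLocallyConstructible (g.isLocallyConstructible_image ?_)
  rw [← Set.image_univ]
  exact compl_isLocallyConstructible
    (f.isLocallyConstructible_image Topology.IsLocallyConstructible.univ)

theorem isLocallyConstructible_universallyInjective [QuasiSeparated f]
    [LocallyOfFinitePresentation f] [QuasiCompact f]
    [LocallyOfFinitePresentation g] [QuasiCompact g] :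
    Topology.IsLocallyConstructible
      {s : S | UniversallyInjective (bcMap f g (S.fromSpecResidueField s))} := by
  have hd : LocallyOfFinitePresentation (pullback.diagonal f) := by
    have : LocallyOfFinitePresentation (pullback.diagonal f ≫ pullback.fst f f) := by
      rw [pullback.diagonal_fst]; infer_instance
    exact Groth.Agent.Lib.Lim.OpenImm.lfp_of_comp _ (pullback.fst f f)
  let h := pullback.snd f f ≫ f ≫ g
  have : LocallyOfFinitePresentation h := inferInstance
  have : QuasiCompact h := inferInstance
  suffices e : {s : S | UniversallyInjective (bcMap f g (S.fromSpecResidueField s))} =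
      {s : S | Surjective (bcMap (pullback.diagonal f) h (S.fromSpecResidueField s))} by
    rw [e]
    exact isLocallyConstructible_surjective (pullback.diagonal f) h
  ext s
  simp only [Set.mem_setOf_eq]
  rw [UniversallyInjective.iff_diagonal]
  set a := pullback.fst g (S.fromSpecResidueField s)
  -- compare the two diagonals
  let f' := bcMap f g (S.fromSpecResidueField s)
  let q : pullback f' f' ⟶ pullback f f :=
    pullback.map f' f' f f (pullback.fst f a) (pullback.fst f a) a pullback.condition.symm
      pullback.condition.symm
  have hq : IsPullback q (pullback.snd f' f' ≫ f') (pullback.snd f f ≫ f) a :=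
    Groth.Agent.H47.LimDescend.isPullback_self_product (IsPullback.of_hasPullback f a)
  have hΔ : IsPullback (pullback.fst f a) (pullback.diagonal f') (pullback.diagonal f) q := by
    refine IsPullback.of_bot ?_ ?_ hq
    · simpa [← Category.assoc] using IsPullback.of_hasPullback f a
    · apply pullback.hom_ext <;> simp [q, f']
  have hh : IsPullback q (pullback.snd f' f' ≫ f' ≫ pullback.snd g (S.fromSpecResidueField s)) h
      (S.fromSpecResidueField s) := by
    simpa [h] using hq.paste_vert (IsPullback.of_hasPullback g (S.fromSpecResidueField s))
  have key : IsPullback (pullback.fst f a) (pullback.diagonal f' ≫ hh.isoPullback.hom)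
      (pullback.diagonal f) (pullback.fst h (S.fromSpecResidueField s)) :=
    hΔ.of_iso (Iso.refl _) (Iso.refl _) hh.isoPullback (Iso.refl _)
      (by simp) (by simp) (by simp) (by simp)
  constructor
  · intro H
    show Surjective (pullback.snd (pullback.diagonal f) (pullback.fst h (S.fromSpecResidueField s)))
    rw [← key.isoPullback_inv_snd]
    exact (MorphismProperty.cancel_left_of_respectsIso @Surjective _ _).2
      ((MorphismProperty.cancel_right_of_respectsIso @Surjective _ _).2 H)
  · intro H
    have : Surjective (pullback.diagonal f' ≫ hh.isoPullback.hom) := by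
      rw [← key.isoPullback_hom_snd]
      exact (MorphismProperty.cancel_left_of_respectsIso @Surjective _ _).2 H
    exact (MorphismProperty.cancel_right_of_respectsIso @Surjective _ _).1 this

end Groth.Agent.H47.SurjLocus
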