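import Groth.Agent.H47.LQFDescend
import Groth.Agent.H47.ConsPreimage
import Groth.Agent.H47.SurjLocus
import Mathlib.RingTheory.Extension.Presentation.Core
import Mathlib.AlgebraicGeometry.Noetherian

/-!
# The quasi-finite locus of a morphism locally of finite presentation is locally constructible
-/

set_option autoImplicit false
set_option backward.isDefEq.respectTransparency false

noncomputable section

universe u

open CategoryTheory CategoryTheory.Limits AlgebraicGeometry Topology

namespace Groth.Agent.H47.QFLocus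

theorem quasiFiniteAt_bc {X X' Y Y' : Scheme.{u}} {f : X ⟶ Y} {f' : X' ⟶ Y'}
    {eX : X' ⟶ X} {b : Y' ⟶ Y} (sq : IsPullback eX f' f b) [LocallyOfFiniteType f] {x' : X'}
    (h : f.QuasiFiniteAt (eX x')) : f'.QuasiFiniteAt x' := by
  let V := f.quasiFiniteLocus
  have hV : x' ∈ eX ⁻¹ᵁ V := h
  have sq' : IsPullback (eX ∣_ V) ((eX ⁻¹ᵁ V).ι ≫ f') (V.ι ≫ f) b :=
    (isPullback_morphismRestrict eX V).paste_vert sq
  have : LocallyQuasiFinite ((eX ⁻¹ᵁ V).ι ≫ f') :=
    MorphismProperty.of_isPullback (P := @LocallyQuasiFinite) sq' inferInstance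
  have := Scheme.Hom.quasiFiniteAt ((eX ⁻¹ᵁ V).ι ≫ f') (⟨x', hV⟩ : ↥(eX ⁻¹ᵁ V))
  exact (Scheme.Hom.quasiFiniteAt_comp_iff_of_isOpenImmersion (f := (eX ⁻¹ᵁ V).ι) (g := f')
    (x := ⟨x', hV⟩)).1 this

theorem quasiFiniteAt_iff_bc {X X' Y Y' : Scheme.{u}} {f : X ⟶ Y} {f' : X' ⟶ Y'}
    {eX : X' ⟶ X} {b : Y' ⟶ Y} (sq : IsPullback eX f' f b) [LocallyOfFiniteType f] {x' : X'} :
    f'.QuasiFiniteAt x' ↔ f.QuasiFiniteAt (eX x') :=
  ⟨LQFDescend.quasiFiniteAt_of_isPullback sq, quasiFiniteAt_bc sq⟩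

theorem isConstructible_spec {R S : CommRingCat.{u}} (φ : R ⟶ S)
    (hφ : φ.hom.FinitePresentation) : IsConstructible {x | (Spec.map φ).QuasiFiniteAt x} := by
  algebraize [φ.hom]
  let P := Algebra.Presentation.ofFinitePresentation R S
  let S₀ := P.ModelOfHasCoeffs P.Core
  have : IsNoetherianRing P.Core := Algebra.FiniteType.isNoetherianRing ℤ P.Core
  have : IsNoetherianRing S₀ := Algebra.FiniteType.isNoetherianRing P.Core S₀
  let f₀ : Spec (CommRingCat.of S₀) ⟶ Spec (CommRingCat.of P.Core) :=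
    Spec.map (CommRingCat.ofHom (algebraMap P.Core S₀))
  let b : Spec R ⟶ Spec (CommRingCat.of P.Core) :=
    Spec.map (CommRingCat.ofHom (algebraMap P.Core R))
  have : LocallyOfFiniteType f₀ := (HasRingHomProperty.Spec_iff (P := @LocallyOfFiniteType)).2
    (RingHom.finiteType_algebraMap.2 inferInstance)
  let e : Spec S ≅ pullback b f₀ :=
    Scheme.Spec.mapIso (P.tensorModelOfHasCoeffsEquiv P.Core).toRingEquiv.toCommRingCatIso.op ≪≫
      (pullbackSpecIso P.Core R S₀).symm
  have he : e.hom ≫ pullback.fst b f₀ = Spec.map φ := by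
    simp only [e, Iso.trans_hom, Iso.symm_hom, Category.assoc, b, f₀, pullbackSpecIso_inv_fst]
    show Spec.map _ ≫ Spec.map _ = _
    rw [← Spec.map_comp]
    congr 1
    ext1
    exact RingHom.ext fun r => (P.tensorModelOfHasCoeffsEquiv P.Core).commutes r
  have sq : IsPullback (e.hom ≫ pullback.snd b f₀) (Spec.map φ) f₀ b :=
    (IsPullback.of_hasPullback b f₀).flip.of_iso e.symm (Iso.refl _) (Iso.refl _) (Iso.refl _)
      (by simp) (by simp [← he]) (by simp) (by simp)
  let V := f₀.quasiFiniteLocus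
  have hset : {x | (Spec.map φ).QuasiFiniteAt x} = (e.hom ≫ pullback.snd b f₀) ⁻¹' (V : Set _) :=
    Set.ext fun x => quasiFiniteAt_iff_bc sq
  rw [hset]
  refine ConsPreimage.isConstructible_preimage_affine _ ?_
  exact IsRetrocompact.isConstructible V.2
    ((TopologicalSpace.NoetherianSpace.isCompact _).isRetrocompact V.2)

variable {X Y : Scheme.{u}} (f : X ⟶ Y)

theorem isLocallyConstructible_quasiFiniteAt [LocallyOfFinitePresentation f] :
    IsLocallyConstructible {x | f.QuasiFiniteAt x} := by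
  intro x
  obtain ⟨V, hV, hxV, -⟩ :=
    exists_isAffineOpen_mem_and_subset (X := Y) (x := f x) (U := ⊤) trivial
  obtain ⟨W, hW, hxW, hWV⟩ :=
    exists_isAffineOpen_mem_and_subset (X := X) (x := x) (U := f ⁻¹ᵁ V) hxV
  have hWV' : W ≤ f ⁻¹ᵁ V := hWV
  have : IsAffine V := hV
  have : IsAffine W := hW
  refine ⟨W, W.2.mem_nhds hxW, W.2, ?_⟩
  let g := f.resLE V W hWV'
  have hfp : g.appTop.hom.FinitePresentation :=
    HasRingHomProperty.appTop @LocallyOfFinitePresentation g inferInstance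
  have hg : (Subtype.val ⁻¹' {x | f.QuasiFiniteAt x} : Set W) =
      W.toScheme.isoSpec.hom ⁻¹' {y | (Spec.map g.appTop).QuasiFiniteAt y} := by
    ext w
    have hvi : LocallyQuasiFinite V.ι := inferInstance
    calc f.QuasiFiniteAt (W.ι w) ↔ (W.ι ≫ f).QuasiFiniteAt w :=
          (Scheme.Hom.quasiFiniteAt_comp_iff_of_isOpenImmersion).symm
      _ ↔ (g ≫ V.ι).QuasiFiniteAt w := by rw [Scheme.Hom.resLE_comp_ι]
      _ ↔ g.QuasiFiniteAt w := Scheme.Hom.quasiFiniteAt_comp_iff
      _ ↔ (g ≫ V.toScheme.isoSpec.hom).QuasiFiniteAt w := Scheme.Hom.quasiFiniteAt_comp_iff.symm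
      _ ↔ (W.toScheme.isoSpec.hom ≫ Spec.map g.appTop).QuasiFiniteAt w := by
          rw [Scheme.isoSpec_hom_naturality]
      _ ↔ _ := Scheme.Hom.quasiFiniteAt_comp_iff_of_isOpenImmersion
  refine (congrArg IsConstructible hg).mpr ?_
  exact ConsPreimage.isConstructible_preimage_affine _ (isConstructible_spec _ hfp)

variable {S : Scheme.{u}} (g : Y ⟶ S)

theorem setOf_locallyQuasiFinite_eq [LocallyOfFiniteType f] :
    {s : S | LocallyQuasiFinite (FibreLocus.bcMap f g (S.fromSpecResidueField s))} =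
      ((f ≫ g) '' {x | f.QuasiFiniteAt x}ᶜ)ᶜ := by
  ext s
  set a := pullback.fst g (S.fromSpecResidueField s)
  have sq : IsPullback (pullback.fst f a) (FibreLocus.bcMap f g (S.fromSpecResidueField s)) f a :=
    IsPullback.of_hasPullback _ _
  constructor
  · rintro (h : LocallyQuasiFinite _) ⟨x, hx, hxs⟩
    obtain ⟨z, rfl⟩ : x ∈ Set.range (pullback.fst f a) := by
      rw [Scheme.Pullback.range_fst, Scheme.Pullback.range_fst, Scheme.range_fromSpecResidueField]
      rw [Scheme.Hom.comp_apply] at hxs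
      exact hxs
    exact hx ((quasiFiniteAt_iff_bc sq).1 (Scheme.Hom.quasiFiniteAt _ z))
  · intro h
    have : LocallyOfFiniteType (FibreLocus.bcMap f g (S.fromSpecResidueField s)) :=
      MorphismProperty.of_isPullback (P := @LocallyOfFiniteType) sq inferInstance
    show LocallyQuasiFinite _
    rw [← Scheme.Hom.quasiFiniteLocus_eq_top_iff]
    refine top_le_iff.mp fun z _ => ?_
    refine (quasiFiniteAt_iff_bc sq).2 ?_
    by_contra hc
    refine h ⟨_, hc, ?_⟩
    rw [← Scheme.Hom.comp_apply, ← Category.assoc, sq.w, Category.assoc,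
      show a ≫ g = _ from pullback.condition, Scheme.Hom.comp_apply, Scheme.Hom.comp_apply,
      Scheme.fromSpecResidueField_apply]

theorem isLocallyConstructible_locallyQuasiFinite [LocallyOfFinitePresentation f] [QuasiCompact f]
    [LocallyOfFinitePresentation g] [QuasiCompact g] :
    IsLocallyConstructible
      {s : S | LocallyQuasiFinite (FibreLocus.bcMap f g (S.fromSpecResidueField s))} := by
  rw [setOf_locallyQuasiFinite_eq]
  exact SurjLocus.compl_isLocallyConstructible ((f ≫ g).isLocallyConstructible_image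
    (SurjLocus.compl_isLocallyConstructible (isLocallyConstructible_quasiFiniteAt f)))

end Groth.Agent.H47.QFLocus
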