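import Groth.Agent.H47.SurjLocus
import Groth.Agent.H47.QFLocus
import Groth.Agent.H25.Fitting
import Groth.Agent.Lib.Unram.AtPrime
import Mathlib.RingTheory.Kaehler.TensorProduct
import Mathlib.RingTheory.Extension.Cotangent.Basic

/-!
# The unramified locus and the set of points where the fibre map is formally unramified
-/

set_option autoImplicit false
set_option backward.isDefEq.respectTransparency false

noncomputable section

universe u

open CategoryTheory CategoryTheory.Limits AlgebraicGeometry Topology TensorProduct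
open Groth.Agent.H47.FibreLocus

namespace Groth.Agent.H47.UnramLocus

/-- the support of a finitely presented module is constructible -/
theorem isConstructible_support {A : Type u} [CommRing A] (M : Type u) [AddCommGroup M]
    [Module A M] [Module.FinitePresentation A M] : IsConstructible (Module.support A M) := by
  obtain ⟨n, x, hx⟩ := Module.Finite.exists_fin (R := A) (M := M)
  have hsurj : Function.Surjective (Fintype.linearCombination A x) := by
    rw [← LinearMap.range_eq_top, Fintype.range_linearCombination, hx]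
  have hrel : (Groth.Agent.H25.Fitting.rel (R := A) x).FG :=
    Module.FinitePresentation.fg_ker _ hsurj
  obtain ⟨W, hW⟩ := hrel
  let J := Fitt.ideal A M 0
  have hJ : J.FG := by
    rw [show J = Groth.Agent.H25.Fitting.Mn (W : Set (Fin n → A)) (n - 0) from
      Groth.Agent.H25.Fitting.ideal_eq_of_rel x hx _ hW.symm 0]
    exact Groth.Agent.H25.Fitting.Mn_fg W.finite_toSet _
  have e : Module.support A M = PrimeSpectrum.zeroLocus (J : Set A) := by
    rw [Module.support_eq_zeroLocus]
    refine Set.Subset.antisymm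
      (PrimeSpectrum.zeroLocus_anti_mono_ideal Groth.Agent.H25.Fitting.ideal_zero_le_annihilator) ?_
    intro p hp f hf
    have := hp (Groth.Agent.H25.Fitting.pow_mem_ideal_zero x hx f (Module.mem_annihilator.1 hf))
    exact p.isPrime.mem_of_pow_mem _ this
  rw [e, ← compl_compl (PrimeSpectrum.zeroLocus _)]
  exact ((PrimeSpectrum.isRetrocompact_zeroLocus_compl_of_fg hJ).isConstructible
    (PrimeSpectrum.isClosed_zeroLocus _).isOpen_compl).compl

/-- pointwise fibre criterion -/
theorem isUnramifiedAt_of_fibre (A B : Type u) [CommRing A] [CommRing B] [Algebra A B]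
    [Algebra.FiniteType A B] (q : Ideal B) [q.IsPrime]
    (h : Algebra.FormallyUnramified (q.under A).ResidueField ((q.under A).ResidueField ⊗[A] B)) :
    Algebra.IsUnramifiedAt A q := by
  have : Module.Finite B (Ω[B⁄A]) := inferInstance
  show (⟨q, ‹_›⟩ : PrimeSpectrum B) ∈ Algebra.unramifiedLocus A B
  rw [Algebra.unramifiedLocus_eq_compl_support, Set.mem_compl_iff,
    Module.mem_support_iff_nontrivial_residueField_tensorProduct]
  intro hnt
  let K := (q.under A).ResidueField
  let L := q.ResidueField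
  have hK : Subsingleton (K ⊗[A] Ω[B⁄A]) := by
    have : Subsingleton (Ω[(K ⊗[A] B)⁄K]) :=
      Algebra.FormallyUnramified.subsingleton_kaehlerDifferential
    let _ : Algebra B (K ⊗[A] B) := Algebra.TensorProduct.rightAlgebra
    exact (KaehlerDifferential.tensorKaehlerEquivBase A K B (K ⊗[A] B)).toEquiv.subsingleton
  let g : K →ₐ[A] L := Ideal.ResidueField.mapₐ (q.under A) q (Algebra.ofId A B) rfl
  let φ : K ⊗[A] Ω[B⁄A] →ₗ[A] L ⊗[B] Ω[B⁄A] :=
    TensorProduct.lift
      (((TensorProduct.mk B L Ω[B⁄A]).restrictScalars₁₂ A A).comp g.toLinearMap)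
  refine not_subsingleton (L ⊗[B] Ω[B⁄A]) ⟨fun a b => ?_⟩
  have h0 : ∀ m : Ω[B⁄A], (1 : L) ⊗ₜ[B] m = 0 := fun m => by
    have := congrArg φ (Subsingleton.elim ((1 : K) ⊗ₜ[A] m) 0)
    simpa [φ, g] using this
  suffices ∀ x : L ⊗[B] Ω[B⁄A], x = 0 by rw [this a, this b]
  intro x
  induction x with
  | zero => rfl
  | add x y hx hy => rw [hx, hy, add_zero]
  | tmul c m =>
    rw [show c = c • (1 : L) by rw [smul_eq_mul, mul_one], ← TensorProduct.smul_tmul', h0, smul_zero]

variable {X Y : Scheme.{u}} (f : X ⟶ Y)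

theorem stalkMap_iff_isUnramifiedAt {U : Y.Opens} (hU : IsAffineOpen U) {V : X.Opens}
    (hV : IsAffineOpen V) (e : V ≤ f ⁻¹ᵁ U) {x : X} (hx : x ∈ V) :
    letI := (f.appLE U V e).hom.toAlgebra
    ((f.stalkMap x).hom.FormallyUnramified ↔
      Algebra.IsUnramifiedAt Γ(Y, U) (hV.primeIdealOf ⟨x, hx⟩).asIdeal) := by
  algebraize [(f.appLE U V e).hom]
  let p := (hU.primeIdealOf ⟨f x, e hx⟩).asIdeal
  let q := (hV.primeIdealOf ⟨x, hx⟩).asIdeal
  have : q.LiesOver p :=
    ⟨congr($(IsAffineOpen.comap_primeIdealOf_appLE U hU V hV e hx).1).symm⟩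
  let := Localization.AtPrime.algebraOfLiesOver p q
  rw [Groth.Agent.Lib.Unram.AtPrime.isUnramifiedAt_iff_formallyUnramified_localization _ _ p q,
    ← RingHom.formallyUnramified_algebraMap]
  exact RingHom.FormallyUnramified.respectsIso.arrow_mk_iso_iff
    (IsAffineOpen.arrowStalkMapIso f U hU V hV e hx)

theorem isOpen_unramified [LocallyOfFiniteType f] :
    IsOpen {x | (f.stalkMap x).hom.FormallyUnramified} := by
  refine isOpen_iff_forall_mem_open.2 fun x hx => ?_
  obtain ⟨U, hxU, hU⟩ :=
    (Groth.Agent.Lib.Unram.AtPrime.exists_formallyUnramified_nhd_iff f x).2 hx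
  exact ⟨U, fun y hy => Groth.Agent.Lib.Unram.AtPrime.formallyUnramified_stalkMap_of_nhd f y
    ⟨U, hy, hU⟩, U.2, hxU⟩

theorem isLocallyConstructible_unramified [LocallyOfFinitePresentation f] :
    IsLocallyConstructible {x | (f.stalkMap x).hom.FormallyUnramified} := by
  intro x
  obtain ⟨U, hU, hxU, -⟩ :=
    exists_isAffineOpen_mem_and_subset (X := Y) (x := f x) (U := ⊤) trivial
  obtain ⟨V, hV, hxV, hVU⟩ :=
    exists_isAffineOpen_mem_and_subset (X := X) (x := x) (U := f ⁻¹ᵁ U) hxU
  have hVU' : V ≤ f ⁻¹ᵁ U := hVU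
  refine ⟨V, V.2.mem_nhds hxV, V.2, ?_⟩
  have hfp := f.finitePresentation_appLE hU hV hVU'
  algebraize [(f.appLE U V hVU').hom]
  have : Algebra.FinitePresentation Γ(Y, U) Γ(X, V) := hfp
  have hc : IsConstructible (Algebra.unramifiedLocus Γ(Y, U) Γ(X, V)) := by
    rw [Algebra.unramifiedLocus_eq_compl_support]
    exact (isConstructible_support _).compl
  have hV' : IsAffine V := hV
  have h2 := ConsPreimage.isConstructible_preimage_affine hV.isoSpec.hom hc
  have e : hV.isoSpec.hom ⁻¹' Algebra.unramifiedLocus Γ(Y, U) Γ(X, V) =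
      (Subtype.val ⁻¹' {x | (f.stalkMap x).hom.FormallyUnramified} : Set V) :=
    Set.ext fun y => (stalkMap_iff_isUnramifiedAt f hU hV hVU' y.2).symm
  exact e ▸ h2

/-- unramifiedness at a point from the field-valued points through its image -/
theorem stalkMap_of_field [LocallyOfFiniteType f] (x : X)
    (h : ∀ (K : Type u) [Field K] (y : Spec (CommRingCat.of K) ⟶ Y), (∀ z, y z = f x) →
      FormallyUnramified (pullback.snd f y)) :
    (f.stalkMap x).hom.FormallyUnramified := by
  obtain ⟨U, hU, hxU, -⟩ :=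
    exists_isAffineOpen_mem_and_subset (X := Y) (x := f x) (U := ⊤) trivial
  obtain ⟨V, hV, hxV, hVU⟩ :=
    exists_isAffineOpen_mem_and_subset (X := X) (x := x) (U := f ⁻¹ᵁ U) hxU
  have hVU' : V ≤ f ⁻¹ᵁ U := hVU
  have hft := f.finiteType_appLE hU hV hVU'
  algebraize [(f.appLE U V hVU').hom]
  have : Algebra.FiniteType Γ(Y, U) Γ(X, V) := hft
  refine (stalkMap_iff_isUnramifiedAt f hU hV hVU' hxV).2 (isUnramifiedAt_of_fibre _ _ _ ?_)
  let A := Γ(Y, U)
  let B := Γ(X, V)
  let p := (hV.primeIdealOf ⟨x, hxV⟩).asIdeal.under A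
  let K := p.ResidueField
  let φ : A ⟶ B := CommRingCat.ofHom (algebraMap A B)
  have hA : hV.fromSpec ≫ f = Spec.map φ ≫ hU.fromSpec :=
    (hU.SpecMap_appLE_fromSpec f hV hVU').symm
  let y := Spec.map (CommRingCat.ofHom (algebraMap A K)) ≫ hU.fromSpec
  have hy : ∀ z, y z = f x := fun z => by
    rw [Scheme.Hom.comp_apply]
    have h1 : Spec.map (CommRingCat.ofHom (algebraMap A K)) z =
        hU.primeIdealOf ⟨f x, hVU' hxV⟩ := by
      refine PrimeSpectrum.ext ?_
      show Ideal.comap (algebraMap A K) (z : PrimeSpectrum K).asIdeal = _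
      rw [(Ideal.eq_bot_of_prime (z : PrimeSpectrum K).asIdeal), ← RingHom.ker_eq_comap_bot,
        Ideal.ker_algebraMap_residueField]
      exact congr($(IsAffineOpen.comap_primeIdealOf_appLE U hU V hV hVU' hxV).1)
    rw [h1]
    exact hU.fromSpec_primeIdealOf ⟨f x, hVU' hxV⟩
  have hpb : IsPullback (Spec.map (CommRingCat.ofHom
        (Algebra.TensorProduct.includeRight : B →ₐ[A] K ⊗[A] B).toRingHom))
      (Spec.map (CommRingCat.ofHom (Algebra.TensorProduct.includeLeftRingHom : K →+* K ⊗[A] B)))
      (Spec.map φ) (Spec.map (CommRingCat.ofHom (algebraMap A K))) :=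
    (isPullback_SpecMap_of_isPushout _ _ _ _ (CommRingCat.isPushout_tensorProduct A K B)).flip
  have hbig : IsPullback (Spec.map (CommRingCat.ofHom
        (Algebra.TensorProduct.includeRight : B →ₐ[A] K ⊗[A] B).toRingHom))
      (Spec.map (CommRingCat.ofHom (Algebra.TensorProduct.includeLeftRingHom : K →+* K ⊗[A] B)))
      (hV.fromSpec ≫ f) y := by
    rw [hA]
    refine ⟨⟨?_⟩, ⟨PullbackCone.IsLimit.mk _ (fun c => hpb.lift c.fst c.snd ?_)
      (fun c => hpb.lift_fst _ _ _) (fun c => hpb.lift_snd _ _ _)
      (fun c m h₁ h₂ => hpb.hom_ext ?_ ?_)⟩⟩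
    · rw [hpb.w_assoc]
    · rw [← cancel_mono hU.fromSpec, Category.assoc, Category.assoc]
      exact c.condition
    · rw [hpb.lift_fst]; exact h₁
    · rw [hpb.lift_snd]; exact h₂
  have : FormallyUnramified (pullback.snd f y) := h K y hy
  have h1 : FormallyUnramified (pullback.snd (hV.fromSpec ≫ f) y) := by
    rw [← pullbackRightPullbackFstIso_inv_snd_snd]
    exact MorphismProperty.comp_mem _ _ _ inferInstance
      (MorphismProperty.comp_mem _ _ _ inferInstance inferInstance)
  have h2 : FormallyUnramified (Spec.map (CommRingCat.ofHom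
      (Algebra.TensorProduct.includeLeftRingHom : K →+* K ⊗[A] B))) := by
    rw [← hbig.isoPullback_hom_snd]
    exact MorphismProperty.comp_mem _ _ _ inferInstance h1
  rw [HasRingHomProperty.Spec_iff (P := @FormallyUnramified)] at h2
  exact RingHom.formallyUnramified_algebraMap.mp h2

/-- base change of unramifiedness at a point -/
theorem stalkMap_bc {X' Y' : Scheme.{u}} {f' : X' ⟶ Y'} {eX : X' ⟶ X} {b : Y' ⟶ Y}
    (sq : IsPullback eX f' f b) [LocallyOfFiniteType f] {x' : X'}
    (h : (f.stalkMap (eX x')).hom.FormallyUnramified) :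
    (f'.stalkMap x').hom.FormallyUnramified := by
  obtain ⟨V, hxV, hV⟩ :=
    (Groth.Agent.Lib.Unram.AtPrime.exists_formallyUnramified_nhd_iff f _).2 h
  have sq' : IsPullback (eX ∣_ V) ((eX ⁻¹ᵁ V).ι ≫ f') (V.ι ≫ f) b :=
    (isPullback_morphismRestrict eX V).paste_vert sq
  exact Groth.Agent.Lib.Unram.AtPrime.formallyUnramified_stalkMap_of_nhd f' x'
    ⟨eX ⁻¹ᵁ V, hxV, MorphismProperty.of_isPullback (P := @FormallyUnramified) sq' hV⟩

theorem formallyUnramified_iff_stalk [LocallyOfFiniteType f] :
    FormallyUnramified f ↔ ∀ x, (f.stalkMap x).hom.FormallyUnramified := by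
  refine ⟨fun h x => FormallyUnramified.stalkMap _ x, fun h => ?_⟩
  choose U hxU hU using fun x =>
    (Groth.Agent.Lib.Unram.AtPrime.exists_formallyUnramified_nhd_iff f x).2 (h x)
  refine (IsZariskiLocalAtSource.iff_of_iSup_eq_top (P := @FormallyUnramified) U ?_).2 hU
  exact top_le_iff.1 fun x _ => TopologicalSpace.Opens.mem_iSup.2 ⟨x, hxU x⟩

variable {S : Scheme.{u}} (g : Y ⟶ S)

theorem setOf_formallyUnramified_eq [LocallyOfFiniteType f] :
    {s : S | FormallyUnramified (bcMap f g (S.fromSpecResidueField s))} =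
      ((f ≫ g) '' {x | (f.stalkMap x).hom.FormallyUnramified}ᶜ)ᶜ := by
  ext s
  set ι := pullback.fst g (S.fromSpecResidueField s)
  constructor
  · rintro (h : FormallyUnramified (bcMap f g _)) ⟨x, hx, hxs⟩
    refine hx (stalkMap_of_field f x fun K _ y hy => ?_)
    obtain ⟨⟨s', ψ⟩, hψ⟩ := (Scheme.SpecToEquivOfField K S).symm.surjective (y ≫ g)
    change Spec.map ψ ≫ S.fromSpecResidueField s' = y ≫ g at hψ
    obtain rfl : s' = s := by
      have := congr($hψ (IsLocalRing.closedPoint K))
      rw [Scheme.Hom.comp_apply, Scheme.fromSpecResidueField_apply, Scheme.Hom.comp_apply,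
        hy, ← Scheme.Hom.comp_apply] at this
      exact this.trans hxs
    exact Groth.Agent.Lib.Lim.Descend.prop_of_factor (P := @FormallyUnramified) h
      (pullback.lift y (Spec.map ψ) hψ.symm) (pullback.lift_fst _ _ _)
      (IsPullback.of_hasPullback f y)
  · intro h
    show FormallyUnramified (pullback.snd f ι)
    rw [formallyUnramified_iff_stalk]
    refine fun x' => stalkMap_bc f (IsPullback.of_hasPullback f ι) ?_
    by_contra hc
    refine h ⟨_, hc, ?_⟩
    rw [← Scheme.Hom.comp_apply, ← Category.assoc, pullback.condition, Category.assoc,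
      pullback.condition, ← Category.assoc, Scheme.Hom.comp_apply,
      Scheme.fromSpecResidueField_apply]

theorem isLocallyConstructible_formallyUnramified [LocallyOfFinitePresentation f] [QuasiCompact f]
    [LocallyOfFinitePresentation g] [QuasiCompact g] :
    IsLocallyConstructible
      {s : S | FormallyUnramified (bcMap f g (S.fromSpecResidueField s))} := by
  rw [setOf_formallyUnramified_eq]
  exact SurjLocus.compl_isLocallyConstructible ((f ≫ g).isLocallyConstructible_image
    (SurjLocus.compl_isLocallyConstructible (isLocallyConstructible_unramified f)))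

end Groth.Agent.H47.UnramLocus

namespace Groth.Agent.H47.UnramLocus

theorem mono_iff {X Y : Scheme.{u}} (f : X ⟶ Y) [LocallyOfFiniteType f] :
    Mono f ↔ UniversallyInjective f ∧ FormallyUnramified f := by
  constructor
  · intro h
    haveI := (pullback.isIso_diagonal_iff f).mpr h
    exact ⟨inferInstance, inferInstance⟩
  · rintro ⟨h1, h2⟩
    rw [← pullback.isIso_diagonal_iff, isIso_iff_isOpenImmersion_and_surjective]
    exact ⟨inferInstance, (UniversallyInjective.iff_diagonal f).1 h1⟩

theorem isLocallyConstructible_mono {X Y S : Scheme.{u}} (f : X ⟶ Y) (g : Y ⟶ S)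
    [LocallyOfFinitePresentation f] [QuasiCompact f] [QuasiSeparated f]
    [LocallyOfFinitePresentation g] [QuasiCompact g] :
    IsLocallyConstructible {s : S | Mono (bcMap f g (S.fromSpecResidueField s))} := by
  have e : {s : S | Mono (bcMap f g (S.fromSpecResidueField s))} =
      {s : S | UniversallyInjective (bcMap f g (S.fromSpecResidueField s))} ∩
        {s : S | FormallyUnramified (bcMap f g (S.fromSpecResidueField s))} :=
    Set.ext fun s => mono_iff _
  rw [e]
  exact (SurjLocus.isLocallyConstructible_universallyInjective f g).inter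
    (isLocallyConstructible_formallyUnramified f g)

end Groth.Agent.H47.UnramLocus
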