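import Groth.Agent.Lib.Lim.Approx.Main
import Groth.Agent.Lib.Lim.Basic
import Groth.Agent.Lib.Modules.ExtendFT
import Groth.Agent.Lib.QCAlgSub.Sections
import Groth.Agent.Lib.CohBasics.Closure
import Groth.Agent.Lib.CechRes.AffPull
import Groth.Agent.Lib.ZarCoh.FlatBC.PullbackSections
import Groth.Agent.Lib.QCoh.Pushforward
import Groth.Agent.Lib.DescAlg.FPPush
import Groth.Agent.Lib.Cyc.FP.Stalk
import Groth.Prelude.Def_CohB1

/-!
# Finitely presented modules come from coherent modules on Noetherian stages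

For an approximation of `S` by schemes of finite type over `ℤ` and a finitely presented module `F`
on `S`, some stage carries a coherent module whose inverse image is `F`.
-/

set_option autoImplicit false
set_option backward.isDefEq.respectTransparency false

universe u

open CategoryTheory CategoryTheory.Limits AlgebraicGeometry Opposite TopologicalSpace
open Groth.Agent.Lib Groth.Agent.Lib.Lim.Approx.Basic ZarCoh.FlatBC.PullbackSections

namespace Groth.Agent.H47.FPModel

theorem appLE_eq_of_eq {X Y : Scheme.{u}} {f g : X ⟶ Y} (h : f = g) {U : Y.Opens} {V : X.Opens}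
    (e : V ≤ f ⁻¹ᵁ U) : f.appLE U V e = g.appLE U V (h ▸ e) := by
  subst h; rfl

/-- Finitely many sections of the limit over a preimage come from a stage. -/
theorem exists_stage_section {S : Scheme.{u}} (AS : Approx S) (i₀ : AS.I) {U : (AS.D.obj (op i₀)).Opens}
    (hU : IsAffineOpen U) (a : Γ(S, AS.pr i₀ ⁻¹ᵁ U)) :
    ∃ (i : AS.I) (_ : i₀ ≤ i), ∀ (k : AS.I) (_ : i ≤ k) (hk : i₀ ≤ k),
      a ∈ Set.range ((AS.pr k).appLE (AS.tr hk ⁻¹ᵁ U) (AS.pr i₀ ⁻¹ᵁ U)
        (by rw [← Scheme.Hom.comp_preimage, AS.pr_tr])) := by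
  have : ∀ {i j : AS.Iᵒᵖ} (f : i ⟶ j), IsAffineHom (AS.D.map f) := fun f => inferInstance
  have (j : Over (op i₀)) : IsAffine ((opensDiagram AS.D (op i₀) U).obj j) := hU.preimage (AS.D.map _)
  obtain ⟨j, t, ht⟩ := exists_appTop_π_eq_of_isAffine_of_isLimit _ _
    (isLimitOpensCone AS.D AS.cone AS.isLimit (op i₀) U) ((AS.pr i₀ ⁻¹ᵁ U).topIso.inv a)
  have hi : i₀ ≤ j.left.unop := j.hom.unop.le
  refine ⟨j.left.unop, hi, fun k hk hk₀ => ?_⟩
  let V : (AS.D.obj j.left).Opens := AS.D.map j.hom ⁻¹ᵁ U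
  have e1 : AS.pr i₀ ⁻¹ᵁ U ≤ (AS.π.app j.left) ⁻¹ᵁ V := by
    rw [← Scheme.Hom.comp_preimage]
    exact (congrArg (fun g => g ⁻¹ᵁ U) (AS.cone.w j.hom)).ge
  have h1 : (AS.π.app j.left).appLE V (AS.pr i₀ ⁻¹ᵁ U) e1 (V.topIso.hom t) = a := by
    have := congrArg ((AS.pr i₀ ⁻¹ᵁ U).topIso.hom) ht
    rw [← CommRingCat.comp_apply (AS.pr i₀ ⁻¹ᵁ U).topIso.inv, Iso.inv_hom_id] at this
    refine Eq.trans ?_ this
    show _ = (AS.pr i₀ ⁻¹ᵁ U).topIso.hom (((AS.π.app j.left).resLE V _ e1).app ⊤ t)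
    rw [Scheme.Hom.resLE_app_top]
    simp only [CommRingCat.comp_apply]
    exact (CategoryTheory.Iso.inv_hom_id_apply (AS.pr i₀ ⁻¹ᵁ U).topIso _).symm
  have e2 : AS.tr hk₀ ⁻¹ᵁ U ≤ AS.tr hk ⁻¹ᵁ V := by
    rw [← Scheme.Hom.comp_preimage]
    have : AS.tr hk ≫ AS.D.map j.hom = AS.tr hk₀ := by
      rw [Sys.tr, Sys.tr, ← AS.D.map_comp]
      congr 1
    rw [this]
  refine ⟨(AS.tr hk).appLE V (AS.tr hk₀ ⁻¹ᵁ U) e2 (V.topIso.hom t), ?_⟩
  rw [← CommRingCat.comp_apply, Scheme.Hom.appLE_comp_appLE]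
  refine Eq.trans ?_ h1
  congr 2
  exact appLE_eq_of_eq (AS.cone.w (homOfLE hk).op) _

/-- The value of a map into a direct image. -/
noncomputable def secOf {S W : Scheme.{u}} {π₀ : S ⟶ W} {F : S.Modules} {N : W.Modules}
    (u₀ : N ⟶ (Scheme.Modules.pushforward π₀).obj F) (U : W.Opens) (x : Γ(N, U)) : Γ(F, π₀ ⁻¹ᵁ U) :=
  u₀.app U x

theorem pbRes_le_rfl {X Y : Scheme.{u}} (f : X ⟶ Y) (M : Y.Modules) (U : Y.Opens) (x : Γ(M, U)) :
    pbRes f M (le_refl (f ⁻¹ᵁ U)) x =
      ((Scheme.Modules.pullbackPushforwardAdjunction f).unit.app M).app U x :=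
  ConcreteCategory.congr_hom (((Scheme.Modules.pullback f).obj M).presheaf.map_id (op (f ⁻¹ᵁ U))) _

/-- One stage: a coherent module pulling back to `F` on every open where the generators and the
relations of `F` are defined at the stage. -/
theorem exists_stage_module {S W W' : Scheme.{u}} [IsLocallyNoetherian W'] (p : S ⟶ W') (τ : W' ⟶ W)
    [IsAffineHom p] [IsAffineHom τ] {π₀ : S ⟶ W} (hp : p ≫ τ = π₀) (F : S.Modules) [F.IsQuasicoherent]
    (N : W.Modules) (hN : Coh.IsCoh N) (u₀ : N ⟶ (Scheme.Modules.pushforward π₀).obj F) :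
    ∃ (G : W'.Modules) (v : (Scheme.Modules.pullback p).obj G ⟶ F), Coh.IsCoh G ∧
      ∀ (U : W.Opens) (_ : IsAffineOpen U) (n : ℕ) (h : Fin n → Γ(N, U)),
        Submodule.span Γ(W, U) (Set.range h) = ⊤ →
        Submodule.span Γ(S, π₀ ⁻¹ᵁ U) (Set.range fun j => secOf u₀ U (h j)) = ⊤ →
        (∀ c : Fin n → Γ(S, π₀ ⁻¹ᵁ U), ∑ j, c j • secOf u₀ U (h j) = 0 →
          c ∈ Submodule.span Γ(S, π₀ ⁻¹ᵁ U) {r : Fin n → Γ(S, π₀ ⁻¹ᵁ U) |
            (∀ j, r j ∈ Set.range (p.appLE (τ ⁻¹ᵁ U) (π₀ ⁻¹ᵁ U)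
              (by rw [← Scheme.Hom.comp_preimage, hp]))) ∧
              ∑ j, r j • secOf u₀ U (h j) = 0}) →
        Function.Bijective (v.app (π₀ ⁻¹ᵁ U)) := by
  subst hp
  haveI hP : ((Scheme.Modules.pushforward p).obj F).IsQuasicoherent :=
    QCoh.Pushforward.isQCoh_pushforward p
  haveI := hN.1
  haveI := QCoh.Pullback.isQCoh_pullback τ N
  let u' : (Scheme.Modules.pullback τ).obj N ⟶ (Scheme.Modules.pushforward p).obj F :=
    ((Scheme.Modules.pullbackPushforwardAdjunction τ).homEquiv _ _).symm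
      (u₀ ≫ (Scheme.Modules.pushforwardComp p τ).inv.app F)
  let G := Abelian.image u'
  let ι : G ⟶ (Scheme.Modules.pushforward p).obj F := Abelian.image.ι u'
  let e : (Scheme.Modules.pullback τ).obj N ⟶ G := Abelian.factorThruImage u'
  haveI := QCoh.Closure.isQCoh_cokernel u'
  haveI hG : G.IsQuasicoherent := QCoh.Closure.isQCoh_kernel (cokernel.π u')
  haveI : SheafOfModules.IsFiniteType (R := W.ringCatSheaf) N := hN.2
  let v := ((Scheme.Modules.pullbackPushforwardAdjunction p).homEquiv _ _).symm ι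
  refine ⟨G, v, ?_, fun U hU n h hh hgen hrel => ?_⟩
  · refine CohBasics.Closure.isCoh_of_finite_sections fun V hV => ?_
    have := CohBasics.Closure.finite_sections (Cyc.FP.Stalk.isCoh_pullback τ hN) hV
    exact Module.Finite.of_surjective (CohBasics.Affine.secₗ e V)
      (QCoh.Closure.sections_surjective_of_epi e hV)
  let V := τ ⁻¹ᵁ U
  have hV : IsAffineOpen V := hU.preimage τ
  let V' := p ⁻¹ᵁ V
  have hV' : IsAffineOpen V' := hV.preimage p
  let A := Γ(S, V')
  let m : Fin n → Γ(F, V') := fun j => secOf u₀ U (h j)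
  change Submodule.span A (Set.range m) = ⊤ at hgen
  let l : Fin n → Γ(G, V) := fun j => e.app V (pbRes τ N le_rfl (h j))
  have hu' : ∀ j, u'.app V (pbRes τ N le_rfl (h j)) = u₀.app U (h j) := fun j => by
    have := ((Scheme.Modules.pullbackPushforwardAdjunction τ).homEquiv _ _).apply_symm_apply
      (u₀ ≫ (Scheme.Modules.pushforwardComp p τ).inv.app F)
    rw [Adjunction.homEquiv_unit] at this
    have h2 := congr(($this).app U (h j))
    refine Eq.trans ?_ h2
    rw [pbRes_le_rfl]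
    rfl
  have hl : ∀ j, (ι.app V (l j) : Γ(F, V')) = m j := fun j => by
    show (e ≫ ι).app V (pbRes τ N le_rfl (h j)) = _
    rw [show e ≫ ι = u' from Abelian.image.fac u']
    exact hu' j
  have hv : ∀ x : Γ(G, V), v.app V' (pbRes p G le_rfl x) = ι.app V x := fun x => by
    have := ((Scheme.Modules.pullbackPushforwardAdjunction p).homEquiv _ _).apply_symm_apply ι
    rw [Adjunction.homEquiv_unit] at this
    have h2 := congr(($this).app V x)
    refine Eq.trans ?_ h2
    rw [pbRes_le_rfl]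
    rfl
  -- generators at the stage
  have hspanG : Submodule.span Γ(W', V) (Set.range l) = ⊤ := by
    rw [eq_top_iff]
    intro x _
    obtain ⟨y, rfl⟩ := QCoh.Closure.sections_surjective_of_epi e hV x
    clear ‹e.app V y ∈ _›
    obtain ⟨z, rfl⟩ := (bijective_pbTensor τ N hU hV le_rfl).2 y
    letI := (τ.appLE U V le_rfl).hom.toAlgebra
    induction z using TensorProduct.induction_on with
    | zero => rw [map_zero, map_zero]; exact zero_mem _
    | add a b ha hb => rw [map_add, map_add]; exact add_mem ha hb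
    | tmul a x =>
      rw [pbTensor_tmul, Scheme.Modules.Hom.app_smul]
      refine Submodule.smul_mem _ a ?_
      have hx : x ∈ Submodule.span Γ(W, U) (Set.range h) := hh ▸ Submodule.mem_top
      induction hx using Submodule.span_induction with
      | mem x hx => obtain ⟨j, rfl⟩ := hx; exact Submodule.subset_span ⟨j, rfl⟩
      | zero => rw [map_zero, map_zero]; exact zero_mem _
      | add a b _ _ ha hb => rw [map_add, map_add]; exact add_mem ha hb
      | smul c x _ hx => rw [pbRes_smul, Scheme.Modules.Hom.app_smul]; exact Submodule.smul_mem _ _ hx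
  -- every section of the inverse image is a combination of the generators
  let L : (Fin n → A) →ₗ[A] Γ((Scheme.Modules.pullback p).obj G, V') :=
    Fintype.linearCombination A fun j => pbRes p G le_rfl (l j)
  have hLapp : ∀ c, L c = ∑ j, c j • pbRes p G (le_refl V') (l j) := fun c => rfl
  have hL : Function.Surjective L := by
    intro y
    obtain ⟨z, rfl⟩ := (bijective_pbTensor p G hV hV' le_rfl).2 y
    letI := (p.appLE V V' le_rfl).hom.toAlgebra
    rw [← LinearMap.mem_range]
    induction z using TensorProduct.induction_on with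
    | zero => rw [map_zero]; exact zero_mem _
    | add a b ha hb => rw [map_add]; exact add_mem ha hb
    | tmul a x =>
      rw [pbTensor_tmul]
      refine Submodule.smul_mem _ a ?_
      have hx : x ∈ Submodule.span Γ(W', V) (Set.range l) := hspanG ▸ Submodule.mem_top
      induction hx using Submodule.span_induction with
      | mem x hx =>
        obtain ⟨j, rfl⟩ := hx
        exact ⟨Pi.single j 1, by rw [Fintype.linearCombination_apply_single, one_smul]⟩
      | zero => rw [map_zero]; exact zero_mem _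
      | add a b _ _ ha hb => rw [map_add]; exact add_mem ha hb
      | smul c x _ hx => rw [pbRes_smul]; exact Submodule.smul_mem _ _ hx
  have hvL : ∀ c : Fin n → A, v.app V' (L c) = ∑ j, c j • m j := fun c => by
    rw [hLapp, map_sum]
    refine Finset.sum_congr rfl fun j _ => ?_
    rw [Scheme.Modules.Hom.app_smul, hv, hl]
  refine ⟨?_, ?_⟩
  · refine (injective_iff_map_eq_zero _).2 fun z hz => ?_
    obtain ⟨c, rfl⟩ := hL z
    replace hz : v.app V' (L c) = 0 := hz
    rw [hvL] at hz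
    have hle : Submodule.span A {r : Fin n → A | (∀ j, r j ∈ Set.range (p.appLE V V' le_rfl)) ∧
        ∑ j, r j • m j = 0} ≤ LinearMap.ker L := by
      rw [Submodule.span_le]
      rintro r ⟨hr, hr0⟩
      choose r' hr' using hr
      have h0 : ∑ j, r' j • l j = 0 := by
        refine QCoh.Closure.sections_injective_of_mono ι V ?_
        rw [map_sum, map_zero]
        refine Eq.trans (Finset.sum_congr rfl fun j _ => ?_) hr0
        rw [Scheme.Modules.Hom.app_smul, ← hr' j]
        refine Eq.trans (b := p.app V (r' j) • (show Γ(F, V') from ι.app V (l j))) rfl ?_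
        rw [show (show Γ(F, V') from ι.app V (l j)) = m j from hl j, Scheme.Hom.app_eq_appLE]
      show L r = 0
      rw [hLapp, ← map_zero (pbRes p G (le_refl V')), ← h0, map_sum]
      refine Finset.sum_congr rfl fun j _ => ?_
      rw [pbRes_smul, hr']
    exact hle (hrel c hz)
  · show ∀ y : Γ(F, V'), ∃ x, v.app V' x = y
    intro y
    have hy : y ∈ Submodule.span A (Set.range m) := by rw [hgen]; exact Submodule.mem_top
    obtain ⟨c, rfl⟩ := (Submodule.mem_span_range_iff_exists_fun A).1 hy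
    exact ⟨L c, hvL c⟩

open Classical in
/-- Finitely many sections of a quasi-coherent module come from one coherent module. -/
theorem exists_coh_through {W : Scheme.{u}} [CompactSpace W] [QuasiSeparatedSpace W] (P : W.Modules)
    [P.IsQuasicoherent] (T : Finset (Σ U : W.affineOpens, Γ(P, U.1))) :
    T = ∅ ∨ ∃ (N : W.Modules) (u : N ⟶ P), Coh.IsCoh N ∧ ∀ t ∈ T, ∃ g, u.app t.1.1 g = t.2 := by
  induction T using Finset.induction with
  | empty => exact Or.inl rfl
  | @insert t T _ ih =>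
    refine Or.inr ?_
    obtain ⟨G, i, -, hq, hft, g, hg⟩ :=
      QCAlgSub.Sections.exists_through_section_qcqs (F := P) t.1.2 t.2
    have hG : Coh.IsCoh G := ⟨hq, hft⟩
    rcases ih with rfl | ⟨N, u, hN, hu⟩
    · exact ⟨G, i, hG, fun t' ht' => by
        obtain rfl : t' = t := by simpa using ht'
        exact ⟨g, hg⟩⟩
    · refine ⟨G ⊞ N, biprod.desc i u, CohBasics.Closure.isCoh_biprod hG hN, fun t' ht' => ?_⟩
      rcases Finset.mem_insert.1 ht' with rfl | ht'
      · exact ⟨(biprod.inl : G ⟶ G ⊞ N).app _ g, by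
          exact (congr(($(biprod.inl_desc i u)).app t'.1.1 g)).trans hg⟩
      · obtain ⟨g', hg'⟩ := hu t' ht'
        exact ⟨(biprod.inr : N ⟶ G ⊞ N).app _ g', by
          exact (congr(($(biprod.inr_desc i u)).app t'.1.1 g')).trans hg'⟩

open Classical in
/-- A finitely presented module is the inverse image of a coherent module on some stage. -/
theorem exists_coh_model {S : Scheme.{u}} (AS : Approx S) (F : S.Modules) [F.IsQuasicoherent]
    (hF : CohB1.IsFP F) :
    ∃ (i : AS.I) (G : (AS.D.obj (op i)).Modules), Coh.IsCoh G ∧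
      Nonempty ((Scheme.Modules.pullback (AS.pr i)).obj G ≅ F) := by
  have : ∀ {i j : AS.Iᵒᵖ} (f : i ⟶ j), IsAffineHom (AS.D.map f) := fun f => inferInstance
  have hπ : ∀ i, IsAffineHom (AS.pr i) := fun i => isAffineHom_π_app AS.D AS.cone AS.isLimit (op i)
  obtain ⟨i₀⟩ := AS.ne
  let W := AS.D.obj (op i₀)
  let π₀ := AS.pr i₀
  obtain ⟨K, hK, hcov⟩ := isCompact_and_isOpen_iff_finite_and_eq_biUnion_affineOpens.mp
    (⟨isCompact_univ, isOpen_univ⟩ : IsCompact (Set.univ : Set W) ∧ IsOpen (Set.univ : Set W))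
  haveI := hK.fintype
  have hA : ∀ U : W.affineOpens, IsAffineOpen (π₀ ⁻¹ᵁ U.1) := fun U => U.2.preimage π₀
  haveI hfp : ∀ U : W.affineOpens, Module.FinitePresentation Γ(S, π₀ ⁻¹ᵁ U.1) Γ(F, π₀ ⁻¹ᵁ U.1) :=
    fun U => DescAlg.FPPush.finitePresentation_sections (hA U) F hF
  choose T hT using fun U : W.affineOpens => (hfp U).out
  let P := (Scheme.Modules.pushforward π₀).obj F
  haveI : P.IsQuasicoherent := QCoh.Pushforward.isQCoh_pushforward π₀
  let T' : Finset (Σ U : W.affineOpens, Γ(P, U.1)) :=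
    (Finset.univ : Finset K).biUnion fun U => (T U.1).image fun m => ⟨U.1, m⟩
  obtain ⟨N, u₀, hN, hu⟩ : ∃ (N : W.Modules) (u : N ⟶ P), Coh.IsCoh N ∧
      ∀ t ∈ T', ∃ g, u.app t.1.1 g = t.2 := by
    rcases exists_coh_through P T' with h | h
    · refine ⟨cokernel (𝟙 (Coh.structureModule W)), 0, ?_, fun t ht => by simp [h] at ht⟩
      have hz : IsZero (cokernel (𝟙 (Coh.structureModule W))) := isZero_cokernel_of_epi _
      haveI := QCoh.Closure.isQCoh_of_isColimit (J := Discrete PEmpty.{1})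
        (c := { pt := cokernel (𝟙 (Coh.structureModule W)), ι := Discrete.natTrans fun j => j.as.elim })
        (F := Functor.empty _) ⟨fun s => hz.to_ s.pt, fun _ j => j.as.elim, fun _ _ _ => hz.eq_of_src _ _⟩
        (fun j => j.as.elim)
      refine CohBasics.Closure.isCoh_of_finite_sections fun U _ => ?_
      have : Subsingleton Γ(cokernel (𝟙 (Coh.structureModule W)), U) :=
        subsingleton_of_forall_eq 0 fun z =>
          (congrArg (fun k => k.app U z) (hz.eq_of_src (𝟙 _) 0)).trans rfl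
      infer_instance
    · exact h
  -- generators of `N`, relations of `F`
  haveI := hN.1
  choose n h hh using fun U : W.affineOpens =>
    haveI := CohBasics.Closure.finite_sections hN U.2
    Module.Finite.exists_fin (R := Γ(W, U.1)) (M := Γ(N, U.1))
  let m : ∀ U : W.affineOpens, Fin (n U) → Γ(F, π₀ ⁻¹ᵁ U.1) := fun U j => secOf u₀ U.1 (h U j)
  have hgen : ∀ U ∈ K, Submodule.span Γ(S, π₀ ⁻¹ᵁ U.1) (Set.range (m U)) = ⊤ := by
    intro U hU
    rw [eq_top_iff, ← (hT U).1, Submodule.span_le]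
    intro x hx
    obtain ⟨g, hg⟩ := hu ⟨U, x⟩ (Finset.mem_biUnion.2
      ⟨⟨U, hU⟩, Finset.mem_univ _, Finset.mem_image.2 ⟨x, hx, rfl⟩⟩)
    have hg' : g ∈ Submodule.span Γ(W, U.1) (Set.range (h U)) := (hh U).symm ▸ Submodule.mem_top
    have hx' : secOf u₀ U.1 g = x := hg
    rw [SetLike.mem_coe, ← hx']
    clear hg hx hx'
    induction hg' using Submodule.span_induction with
    | mem z hz => obtain ⟨j, rfl⟩ := hz; exact Submodule.subset_span ⟨j, rfl⟩
    | zero => rw [secOf, map_zero]; exact zero_mem _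
    | add a b _ _ ha hb => rw [secOf, map_add]; exact add_mem ha hb
    | smul c a _ ha =>
      rw [secOf, Scheme.Modules.Hom.app_smul]
      exact Submodule.smul_mem _ (π₀.app U.1 c) ha
  have hrel : ∀ U : W.affineOpens, ∃ (d : ℕ) (r : Fin d → Fin (n U) → Γ(S, π₀ ⁻¹ᵁ U.1)),
      U ∈ K → Submodule.span _ (Set.range r) =
        LinearMap.ker (Fintype.linearCombination Γ(S, π₀ ⁻¹ᵁ U.1) (m U)) := by
    intro U
    by_cases hU : U ∈ K
    · have hs : Function.Surjective (Fintype.linearCombination Γ(S, π₀ ⁻¹ᵁ U.1) (m U)) := by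
        rw [← LinearMap.range_eq_top, Fintype.range_linearCombination, hgen U hU]
      obtain ⟨d, r, hr⟩ := Submodule.fg_iff_exists_fin_generating_family.1
        (Module.FinitePresentation.fg_ker _ hs)
      exact ⟨d, r, fun _ => hr⟩
    · exact ⟨0, Fin.elim0, fun h => absurd h hU⟩
  choose d r hr using hrel
  -- one stage for all the coefficients
  choose st hst₀ hst using fun (z : Σ U : K, Fin (d U.1) × Fin (n U.1)) =>
    exists_stage_section AS i₀ z.1.1.2 (r z.1.1 z.2.1 z.2.2)
  obtain ⟨i, hi⟩ := Finset.exists_le (insert i₀ (Finset.univ.image st))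
  have hi₀ : i₀ ≤ i := hi _ (Finset.mem_insert_self _ _)
  obtain ⟨G, v, hG, hv⟩ := exists_stage_module (AS.pr i) (AS.tr hi₀) (AS.pr_tr hi₀) F N hN u₀
  haveI := hG.1
  haveI := QCoh.Pullback.isQCoh_pullback (AS.pr i) G
  have hiso : IsIso v := by
    refine CechRes.AffPull.isIso_of_app v fun x => ?_
    obtain ⟨U, hU, hxU⟩ := Set.mem_iUnion₂.1 (hcov ▸ Set.mem_univ (π₀ x))
    refine ⟨π₀ ⁻¹ᵁ U.1, hA U, hxU, hv U.1 U.2 (n U) (h U) (hh U) (hgen U hU) fun c hc => ?_⟩
    refine Submodule.span_mono ?_ ((hr U hU).ge (show c ∈ LinearMap.ker _ from hc))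
    rintro _ ⟨k, rfl⟩
    refine ⟨fun j => ?_, ?_⟩
    · exact hst ⟨⟨U, hU⟩, k, j⟩ i (hi _ (Finset.mem_insert_of_mem
        (Finset.mem_image_of_mem _ (Finset.mem_univ _)))) hi₀
    · exact (hr U hU).le (Submodule.subset_span ⟨k, rfl⟩)
  exact ⟨i, G, hG, ⟨asIso v⟩⟩

/-- A finitely presented module over a qcqs scheme is pulled back from a coherent module on a
scheme of finite type over `ℤ`. -/
theorem exists_ft_model (S : Scheme.{u}) [CompactSpace S] [QuasiSeparatedSpace S] (F : S.Modules)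
    [F.IsQuasicoherent] (hF : CohB1.IsFP F) :
    ∃ (W : Scheme.{u}) (_ : CompactSpace W) (_ : IsLocallyNoetherian W)
      (_ : LocallyOfFinitePresentation (specULiftZIsTerminal.from W)) (q : S ⟶ W) (G : W.Modules),
      Coh.IsCoh G ∧ Nonempty ((Scheme.Modules.pullback q).obj G ≅ F) := by
  obtain ⟨AS⟩ := Lim.Approx.Main.exists_approx (S := S)
  obtain ⟨i, G, hG, hiso⟩ := exists_coh_model AS F hF
  have := Sys.isNoetherianRing_ulift.{u}
  exact ⟨_, inferInstance, inferInstance,
    LocallyOfFinitePresentation.iff_locallyOfFiniteType.2 (AS.lft (op i)), AS.pr i, G, hG, hiso⟩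

/-- Finitely presented modules descend along cofiltered limits. -/
theorem exists_descend {I : Type u} [SmallCategory I] [IsCofiltered I] (D : I ⥤ Scheme.{u})
    (c : Cone D) (hc : IsLimit c) [∀ {i j : I} (f : i ⟶ j), IsAffineHom (D.map f)] (i₀ : I)
    [CompactSpace (D.obj i₀)] [QuasiSeparatedSpace (D.obj i₀)] (F : c.pt.Modules)
    [F.IsQuasicoherent] (hF : CohB1.IsFP F) :
    ∃ (i : I) (_ : i ⟶ i₀) (W : Scheme.{u}) (_ : IsLocallyNoetherian W) (G : W.Modules)
      (g : D.obj i ⟶ W), Coh.IsCoh G ∧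
      Nonempty ((Scheme.Modules.pullback (c.π.app i)).obj ((Scheme.Modules.pullback g).obj G) ≅ F) := by
  have := Lim.Basic.compactSpace_pt hc i₀
  have := Lim.Basic.quasiSeparatedSpace_pt hc i₀
  obtain ⟨W, _, _, _, q, G, hG, ⟨e⟩⟩ := exists_ft_model c.pt F hF
  have hP : IsPullback (c.π.app i₀) (𝟙 c.pt) (𝟙 (D.obj i₀)) (c.π.app i₀) :=
    haveI : IsIso (𝟙 c.pt) := IsIso.id _
    IsPullback.of_vert_isIso ⟨by simp⟩
  obtain ⟨j, φ, g', -, hg'⟩ := Lim.Basic.exists_bc_hom hc hP (specULiftZIsTerminal.from W)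
    (specULiftZIsTerminal.from (D.obj i₀)) q (specULiftZIsTerminal.hom_ext _ _)
  let g : D.obj j ⟶ W := pullback.lift (D.map φ) (𝟙 _) (by simp) ≫ g'
  refine ⟨j, φ, W, inferInstance, G, g, hG, ⟨(Scheme.Modules.pullbackComp _ _).app G ≪≫
    (Scheme.Modules.pullbackCongr ?_).app G ≪≫ e⟩⟩
  rw [← hg', ← Category.assoc]
  congr 1
  apply pullback.hom_ext <;> simp

end Groth.Agent.H47.FPModel
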