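import Groth.Agent.H47.InjCokerLimit

/-!
# Flatness at a point and global flatness descend to a stage of a limit of schemes
-/

set_option autoImplicit false
set_option backward.isDefEq.respectTransparency false

universe u

open CategoryTheory CategoryTheory.Limits AlgebraicGeometry Opposite

namespace Groth.Agent.H47.FlatLimit

open Groth.Agent.Lib Groth.Agent.H47.InjCokerChart Groth.Agent.H47.InjCokerLimit

/-- Flatness at a point along composed pullbacks. -/
theorem flat_of_comp {X Y X₀ X₁ Y₁ : Scheme.{u}} {f : X ⟶ Y} {vX : X ⟶ X₁} {vY : Y ⟶ Y₁}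
    {f₁ : X₁ ⟶ Y₁} {pX : X₁ ⟶ X₀} {qX : X ⟶ X₀} (sq : IsPullback vX f f₁ vY) (F₀ : X₀.Modules)
    (hq : vX ≫ pX = qX) (x : X)
    (h : FlatMod.IsFlatOverAt f₁ ((Scheme.Modules.pullback pX).obj F₀) (vX x)) :
    FlatMod.IsFlatOverAt f ((Scheme.Modules.pullback qX).obj F₀) x := by
  subst hq
  exact Flat55.FlatOverAt.of_iso f ((Scheme.Modules.pullbackComp vX pX).app F₀) x
    (Flat55.FlatOverAt.isFlatOverAt_baseChange f₁ f vX vY sq _ x h)

theorem subsingleton_sections {X : Scheme.{u}} {M : X.Modules} (h : IsZero M) (U : X.Opens) :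
    Subsingleton Γ(M, U) :=
  subsingleton_of_forall_eq 0 fun z =>
    (congrArg (fun k : M ⟶ M => k.app U z) (h.eq_of_src (𝟙 M) 0)).trans rfl

theorem good_zero_iff {X Y : Scheme.{u}} (f : X ⟶ Y) {N M : X.Modules} [N.IsQuasicoherent]
    [M.IsQuasicoherent] (hN : IsZero N) (u : N ⟶ M) (x : X) :
    Good f u x ↔ FlatMod.IsFlatOverAt f M x := by
  have hu : u = 0 := hN.eq_of_src _ _
  subst hu
  refine ⟨fun h => Flat55.FlatOverAt.of_iso f cokernelZeroIsoTarget x h.2,
    fun h => ⟨?_, Flat55.FlatOverAt.of_iso f cokernelZeroIsoTarget.symm x h⟩⟩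
  obtain ⟨U, hU, hxU, -⟩ := exists_isAffineOpen_mem_and_subset (X := X) (x := x) (U := ⊤) trivial
  refine (InjCokerScheme.injective_stalk_iff (0 : N ⟶ M) hU hxU).2 fun z _ => ⟨1, ?_, ?_⟩
  · exact (hU.primeIdealOf ⟨x, hxU⟩).isPrime.ne_top ∘ (Ideal.eq_top_iff_one _).2
  · exact @Subsingleton.elim _ (subsingleton_sections hN U) _ _

/-- the zero module -/
noncomputable abbrev Z {X : Scheme.{u}} (F : X.Modules) : X.Modules := cokernel (𝟙 F)

theorem isZero_Z {X : Scheme.{u}} (F : X.Modules) : IsZero (Z F) := isZero_cokernel_of_epi _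

theorem isFP_Z {X : Scheme.{u}} (F : X.Modules) [F.IsQuasicoherent] : CohB1.IsFP (Z F) := by
  have : (Z F).IsQuasicoherent := QCoh.Closure.isQCoh_cokernel _
  refine DescAlg.FPPush.isFP_of_sections _ fun x => ?_
  obtain ⟨U, hU, hxU, -⟩ := exists_isAffineOpen_mem_and_subset (X := X) (x := x) (U := ⊤) trivial
  have := subsingleton_sections (isZero_Z F) U
  exact ⟨U, hU, hxU, inferInstance⟩

theorem good_pullback_iff {X Y X₀ : Scheme.{u}} (f : X ⟶ Y) (q : X ⟶ X₀) (F : X₀.Modules)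
    [F.IsQuasicoherent] (x : X) :
    Good f ((Scheme.Modules.pullback q).map (0 : Z F ⟶ F)) x ↔
      FlatMod.IsFlatOverAt f ((Scheme.Modules.pullback q).obj F) x := by
  have : (Z F).IsQuasicoherent := QCoh.Closure.isQCoh_cokernel _
  have := QCoh.Pullback.isQCoh_pullback q F
  have := QCoh.Pullback.isQCoh_pullback q (Z F)
  exact good_zero_iff f ((Scheme.Modules.pullback q).map_isZero (isZero_Z F)) _ x

/-- Inverse images preserve finite presentation. -/
theorem isFP_pullback {X Y : Scheme.{u}} (q : X ⟶ Y) (M : Y.Modules) [M.IsQuasicoherent]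
    (hM : CohB1.IsFP M) : CohB1.IsFP ((Scheme.Modules.pullback q).obj M) := by
  have := QCoh.Pullback.isQCoh_pullback q M
  refine DescAlg.FPPush.isFP_of_sections _ fun x => ?_
  obtain ⟨V, hV, hxV, -, hfp, -⟩ :=
    FlatKernelScheme.exists_affine_le₂ M M hM hM (q x) ⊤ trivial
  obtain ⟨U, hU, hxU, hUV⟩ := exists_isAffineOpen_mem_and_subset (X := X) (x := x) (U := q ⁻¹ᵁ V) hxV
  letI : Algebra Γ(Y, V) Γ(X, U) := (q.appLE V U hUV).hom.toAlgebra
  letI : Module Γ(Y, V) Γ((Scheme.Modules.pullback q).obj M, U) :=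
    Module.compHom _ (q.appLE V U hUV).hom
  haveI : IsScalarTower Γ(Y, V) Γ(X, U) Γ((Scheme.Modules.pullback q).obj M, U) :=
    IsScalarTower.of_algebraMap_smul fun _ _ => rfl
  exact ⟨U, hU, hxU, FinitePresentation.of_isBaseChange _
    (CechRes.PullSec.isBaseChange_mu q M hV hU hUV)⟩

variable {I : Type u} [SmallCategory I] [IsCofiltered I] {D : I ⥤ Scheme.{u}} {c : Limits.Cone D}
  {i₀ : I} {X₀ Y₀ : Scheme.{u}} {f₀ : X₀ ⟶ Y₀} {g₀ : Y₀ ⟶ D.obj i₀}
  {X Y : Scheme.{u}} {f : X ⟶ Y} {g : Y ⟶ c.pt} {qY : Y ⟶ Y₀} {qX : X ⟶ X₀}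

theorem exists_stage_flatAt (hc : IsLimit c) [∀ (i j : I) (φ : i ⟶ j), IsAffineHom (D.map φ)]
    [LocallyOfFinitePresentation f₀] (F₀ : X₀.Modules) [F₀.IsQuasicoherent] (hF₀ : CohB1.IsFP F₀)
    (hY : IsPullback qY g g₀ (c.π.app i₀)) (hX : IsPullback qX f f₀ qY) (x : X)
    (h : FlatMod.IsFlatOverAt f ((Scheme.Modules.pullback qX).obj F₀) x) :
    ∃ (i : I) (φ : i ⟶ i₀) (Xi Yi : Scheme.{u}) (fi : Xi ⟶ Yi) (gi : Yi ⟶ D.obj i)
      (pY : Yi ⟶ Y₀) (pX : Xi ⟶ X₀) (vY : Y ⟶ Yi) (vX : X ⟶ Xi),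
      IsPullback pY gi g₀ (D.map φ) ∧ IsPullback pX fi f₀ pY ∧
        vY ≫ pY = qY ∧ vY ≫ gi = g ≫ c.π.app i ∧ vX ≫ pX = qX ∧ vX ≫ fi = f ≫ vY ∧
        FlatMod.IsFlatOverAt fi ((Scheme.Modules.pullback pX).obj F₀) (vX x) := by
  have : (Z F₀).IsQuasicoherent := QCoh.Closure.isQCoh_cokernel _
  obtain ⟨i, φ, Xi, Yi, fi, gi, pY, pX, vY, vX, h1, h2, h3, h4, h5, h6, h7⟩ :=
    exists_stage hc (isFP_Z F₀) hF₀ (0 : Z F₀ ⟶ F₀) hY hX x ((good_pullback_iff f qX F₀ x).2 h)
  exact ⟨i, φ, Xi, Yi, fi, gi, pY, pX, vY, vX, h1, h2, h3, h4, h5, h6,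
    (good_pullback_iff fi pX F₀ _).1 h7⟩

section global

/-- The base change of `f₀` to a stage, as a map between canonical stage objects. -/
noncomputable def stageMap (f₀ : X₀ ⟶ Y₀) (g₀ : Y₀ ⟶ D.obj i₀) (j : Over i₀) :
    (Lim.Basic.bcDiagram D (f₀ ≫ g₀)).obj j ⟶ pullback g₀ (D.map j.hom) :=
  pullback.lift (pullback.fst (f₀ ≫ g₀) (D.map j.hom) ≫ f₀) (pullback.snd (f₀ ≫ g₀) (D.map j.hom))
    (by rw [Category.assoc]; exact pullback.condition)

theorem isPullback_stageMap (f₀ : X₀ ⟶ Y₀) (g₀ : Y₀ ⟶ D.obj i₀) (j : Over i₀) :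
    IsPullback (pullback.fst (f₀ ≫ g₀) (D.map j.hom)) (stageMap f₀ g₀ j) f₀
      (pullback.fst g₀ (D.map j.hom)) := by
  have hb := IsPullback.of_hasPullback g₀ (D.map j.hom)
  refine IsPullback.of_bot ?_ (pullback.lift_fst _ _ _).symm hb
  rw [show stageMap f₀ g₀ j ≫ pullback.snd g₀ (D.map j.hom) = pullback.snd (f₀ ≫ g₀) (D.map j.hom)
    from pullback.lift_snd _ _ _]
  exact IsPullback.of_hasPullback _ _

set_option maxHeartbeats 1000000 in
theorem exists_stage_flat (hc : IsLimit c) [∀ (i j : I) (φ : i ⟶ j), IsAffineHom (D.map φ)]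
    [LocallyOfFinitePresentation f₀] [CompactSpace X₀] (F₀ : X₀.Modules) [F₀.IsQuasicoherent]
    (hF₀ : CohB1.IsFP F₀) (hY : IsPullback qY g g₀ (c.π.app i₀)) (hX : IsPullback qX f f₀ qY)
    (h : ∀ x, FlatMod.IsFlatOverAt f ((Scheme.Modules.pullback qX).obj F₀) x) :
    ∃ (i : I) (φ : i ⟶ i₀) (Xi Yi : Scheme.{u}) (fi : Xi ⟶ Yi) (gi : Yi ⟶ D.obj i)
      (pY : Yi ⟶ Y₀) (pX : Xi ⟶ X₀), IsPullback pY gi g₀ (D.map φ) ∧ IsPullback pX fi f₀ pY ∧
        FlatMod.IsFlatOver fi ((Scheme.Modules.pullback pX).obj F₀) := by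
  classical
  have : ∀ {i j : I} (φ : i ⟶ j), IsAffineHom (D.map φ) := fun φ => inferInstance
  let a := f₀ ≫ g₀
  let E := Lim.Basic.bcDiagram D a
  have hP : IsPullback qX (f ≫ g) a (c.π.app i₀) := hX.paste_vert hY
  let K := Lim.Basic.bcCone hP.w
  have hK : IsLimit K := Lim.Basic.isLimitBcCone hc hP
  let pXj := fun j : Over i₀ => pullback.fst a (D.map j.hom)
  let M := fun j : Over i₀ => (Scheme.Modules.pullback (pXj j)).obj F₀
  have hlfp : ∀ j, LocallyOfFinitePresentation (stageMap f₀ g₀ j) := fun j =>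
    MorphismProperty.of_isPullback (P := @LocallyOfFinitePresentation) (isPullback_stageMap f₀ g₀ j)
      inferInstance
  have : ∀ j, (M j).IsQuasicoherent := fun j => QCoh.Pullback.isQCoh_pullback _ F₀
  have : ∀ j, SheafOfModules.IsFinitePresentation (R := (E.obj j).ringCatSheaf) (M j) := fun j =>
    isFP_pullback (pXj j) F₀ hF₀
  let W := fun j : Over i₀ => {z | FlatMod.IsFlatOverAt (stageMap f₀ g₀ j) (M j) z}
  have hW : ∀ j, IsOpen (W j) := fun j =>
    H19.FlatLocus.Scheme.isOpen_isFlatOverAt (stageMap f₀ g₀ j) (M j)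
  -- transition
  have htr : ∀ (j k : Over i₀) (t : k ⟶ j) (z : E.obj k), E.map t z ∈ W j → z ∈ W k := by
    intro j k t z hz
    refine flat_of_comp (f₁ := stageMap f₀ g₀ j) (vX := E.map t)
      (vY := pullback.map g₀ (D.map k.hom) g₀ (D.map j.hom) (𝟙 _) (D.map t.left) (𝟙 _)
        (by simp) (by rw [Category.comp_id, ← D.map_comp, Over.w t]))
      (IsPullback.of_right ?_ ?_ (isPullback_stageMap f₀ g₀ j)) F₀
      (Lim.Basic.bcDiagram_map_fst D a t) z hz
    · rw [Lim.Basic.bcDiagram_map_fst, pullback.map, pullback.lift_fst, Category.comp_id]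
      exact isPullback_stageMap f₀ g₀ k
    · apply pullback.hom_ext
      · simp only [stageMap, pullback.map, Category.assoc, pullback.lift_fst, Category.comp_id,
          pullback.lift_fst_assoc]
        exact Lim.Basic.bcDiagram_map_fst_assoc D a t f₀
      · simp only [stageMap, pullback.map, Category.assoc, pullback.lift_snd, Category.comp_id,
          pullback.lift_snd_assoc]
        exact Lim.Basic.bcDiagram_map_snd D a t
  -- every point reaches some locus
  have hcov : ∀ x : X, ∃ j, K.π.app j x ∈ W j := by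
    intro x
    obtain ⟨i, φ, Xi, Yi, fi, gi, pY, pX, vY, vX, h1, h2, h3, h4, h5, h6, h7⟩ :=
      exists_stage_flatAt hc F₀ hF₀ hY hX x (h x)
    refine ⟨Over.mk φ, ?_⟩
    let j := Over.mk φ
    let eY := h1.isoPullback
    have hsq := isPullback_stageMap f₀ g₀ j
    let v : E.obj j ⟶ Xi := h2.lift (pXj j) (stageMap f₀ g₀ j ≫ eY.inv) (by
      rw [Category.assoc, h1.isoPullback_inv_fst]
      exact hsq.w)
    have hv1 : v ≫ pX = pXj j := h2.lift_fst _ _ _
    have hv2 : v ≫ fi = stageMap f₀ g₀ j ≫ eY.inv := h2.lift_snd _ _ _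
    have hs1 : stageMap f₀ g₀ j ≫ pullback.fst g₀ (D.map φ) = pXj j ≫ f₀ := pullback.lift_fst _ _ _
    have hs2 : stageMap f₀ g₀ j ≫ pullback.snd g₀ (D.map φ) = pullback.snd a (D.map j.hom) :=
      pullback.lift_snd _ _ _
    have hvx : K.π.app j ≫ v = vX := by
      apply h2.hom_ext
      · rw [Category.assoc, hv1, h5]
        exact Lim.Basic.bcCone_π_fst hP.w j
      · rw [Category.assoc, hv2, h6]
        apply h1.hom_ext
        · rw [Category.assoc, Category.assoc, h1.isoPullback_inv_fst, Category.assoc, h3, ← hX.w,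
            hs1, ← Category.assoc]
          exact congrArg (· ≫ f₀) (Lim.Basic.bcCone_π_fst hP.w j)
        · rw [Category.assoc, Category.assoc, h1.isoPullback_inv_snd, Category.assoc, h4,
            hs2, ← Category.assoc]
          exact Lim.Basic.bcCone_π_snd hP.w j
    refine flat_of_comp (f₁ := fi) (vY := eY.inv) (IsPullback.of_right ?_ hv2 h2) F₀ hv1 _ ?_
    · rw [hv1, h1.isoPullback_inv_fst]
      exact hsq
    · show FlatMod.IsFlatOverAt fi _ (v (K.π.app j x))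
      rw [← Scheme.Hom.comp_apply, hvx]
      exact h7
  choose J hJ using hcov
  have : QuasiCompact qX := by
    have : IsAffineHom (c.π.app i₀) := Lim.Basic.isAffineHom_π hc i₀
    have : IsAffineHom qX := MorphismProperty.of_isPullback (P := @IsAffineHom) hP.flip inferInstance
    infer_instance
  have : CompactSpace X := QuasiCompact.compactSpace_of_compactSpace qX
  obtain ⟨T, hT⟩ := isCompact_univ.elim_finite_subcover
    (fun x : X => (fun z : X => K.π.app (J x) z) ⁻¹' W (J x))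
    (fun x => (hW _).preimage (K.π.app (J x)).continuous)
    (fun x _ => Set.mem_iUnion.2 ⟨x, hJ x⟩)
  obtain ⟨k, hk⟩ := IsCofiltered.inf_objs_exists (T.image J ∪ {Over.mk (𝟙 i₀)})
  have : ∀ j, CompactSpace (E.obj j) := fun j => Lim.Basic.compactSpace_bcDiagram D a j
  obtain ⟨l, t, ht⟩ := exists_map_eq_top E K hK (i := k) ⟨W k, hW k⟩
    (TopologicalSpace.Opens.ext (Set.eq_univ_of_forall fun x => by
      obtain ⟨y, hy, hxy⟩ := Set.mem_iUnion₂.1 (hT (Set.mem_univ x))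
      obtain ⟨s⟩ := hk (Finset.mem_union_left _ (Finset.mem_image_of_mem J hy))
      refine htr (J y) k s _ ?_
      rw [← Scheme.Hom.comp_apply, K.w s]
      exact hxy))
  refine ⟨l.left, l.hom, _, _, stageMap f₀ g₀ l, pullback.snd _ _, pullback.fst _ _, pXj l,
    IsPullback.of_hasPullback _ _, isPullback_stageMap f₀ g₀ l, fun z => htr k l t z ?_⟩
  exact ht.ge (Set.mem_univ z)

end global

end Groth.Agent.H47.FlatLimit
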