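import Groth.Agent.H47.ConsFormal
import Groth.Agent.H47.ConsBasic
import Groth.Agent.H47.FPModel
import Groth.Agent.H2.Rigid.SubDiagram
import Groth.Agent.Lib.Lim.FPDescend
import Groth.Agent.H47.FlatLimit

/-!
# Constructible properties of algebraic schemes with a module give constructible loci
-/

set_option autoImplicit false
set_option backward.isDefEq.respectTransparency false

noncomputable section

universe u

open CategoryTheory CategoryTheory.Limits AlgebraicGeometry Topology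
open Groth.Agent.Lib Groth.Agent.Lib.Lim.Basic

namespace Groth.Agent.H47.ConsFormalMod

/-- quasi-coherent and of finite type -/
theorem isCoh_of_isFP {X : Scheme.{u}} (F : X.Modules) [F.IsQuasicoherent] (hF : CohB1.IsFP F) :
    Coh.IsCoh F := by
  have : SheafOfModules.IsFinitePresentation (R := X.ringCatSheaf) F := hF
  exact ⟨inferInstance, inferInstance⟩

/-- A finitely presented morphism and module over an affine base come from a Noetherian one. -/
theorem exists_model {A : CommRingCat.{u}} {X : Scheme.{u}} (u : X ⟶ Spec A)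
    [LocallyOfFinitePresentation u] [QuasiCompact u] [QuasiSeparated u]
    (F : X.Modules) [F.IsQuasicoherent] (hF : CohB1.IsFP F) :
    ∃ (A₀ : CommRingCat.{u}) (_ : IsNoetherianRing A₀) (b : Spec A ⟶ Spec A₀) (X₀ : Scheme.{u})
      (u₀ : X₀ ⟶ Spec A₀) (q : X ⟶ X₀) (_ : LocallyOfFinitePresentation u₀) (_ : QuasiCompact u₀)
      (_ : QuasiSeparated u₀) (F₀ : X₀.Modules), IsPullback q u u₀ b ∧ Coh.IsCoh F₀ ∧
        Nonempty (F ≅ (Scheme.Modules.pullback q).obj F₀) := by
  let D := Groth.Agent.H2.Rigid.SubDiagram.diagram A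
  let c := Groth.Agent.H2.Rigid.SubDiagram.cone A
  have hc : IsLimit c := Groth.Agent.H2.Rigid.SubDiagram.isLimitCone A
  have : ∀ {i j : (Finset A)ᵒᵖ} (g : i ⟶ j), IsAffineHom (D.map g) := fun g => inferInstance
  have : ∀ i, IsAffine (D.obj i) := fun i => inferInstance
  have : CompactSpace X := QuasiCompact.compactSpace_of_compactSpace u
  have : QuasiSeparatedSpace X := quasiSeparatedSpace_of_quasiSeparated u
  obtain ⟨i, Xi, ui, qi, hXc, hXq, hui, hi⟩ := Lim.FPDescend.exists_descent (D := D) hc (c := c) u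
  have := fun j => compactSpace_bcDiagram D ui j
  have := fun j => quasiSeparatedSpace_bcDiagram D ui j
  have : ∀ {j k : Over i} (φ : j ⟶ k), IsAffineHom ((bcDiagram D ui).map φ) := fun φ =>
    bcDiagram_map_prop D ui @IsAffineHom (fun f => inferInstance) φ
  let cX := bcCone (D := D) (a := ui) hi.w
  obtain ⟨j, -, W, _, G, g, hG, ⟨e⟩⟩ :=
    FPModel.exists_descend (bcDiagram D ui) cX (isLimitBcCone hc hi) (Over.mk (𝟙 i)) F hF
  let A₀ : CommRingCat.{u} := (Groth.Agent.H2.Rigid.SubDiagram.ringDiagram A).obj j.left.unop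
  have hA₀ : IsNoetherianRing A₀ := by
    have := Groth.Agent.H2.Rigid.SubDiagram.isLocallyNoetherian_obj A j.left
    exact (isLocallyNoetherian_Spec (R := A₀)).1 this
  let u₀ : (bcDiagram D ui).obj j ⟶ Spec A₀ := pullback.snd ui (D.map j.hom)
  have hX0 : IsPullback (cX.π.app j) u u₀ (c.π.app j.left) := isPullback_bcCone_π hi j
  refine ⟨A₀, hA₀, c.π.app j.left, (bcDiagram D ui).obj j, u₀, cX.π.app j,
    MorphismProperty.pullback_snd (P := @LocallyOfFinitePresentation) ui (D.map j.hom) hui,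
    (quasiCompact_iff_compactSpace _).2 inferInstance,
    (quasiSeparated_iff_quasiSeparatedSpace _).2 inferInstance,
    (Scheme.Modules.pullback g).obj G, hX0, Cyc.FP.Stalk.isCoh_pullback g hG, ⟨e.symm⟩⟩

variable {P : ∀ ⦃Y T : Scheme.{u}⦄, (Y ⟶ T) → Y.Modules → Prop}

theorem locusMod_preimage (hP : ConsProp.IsFieldStableMod P) {X S X' S' : Scheme.{u}} {u : X ⟶ S}
    {u' : X' ⟶ S'} {b : S' ⟶ S} {q : X' ⟶ X} [LocallyOfFiniteType u] [QuasiCompact u]
    (hX : IsPullback q u' u b) {F : X.Modules} (hF : Coh.IsCoh F) {F' : X'.Modules}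
    (e : F' ≅ (Scheme.Modules.pullback q).obj F) :
    ConsProp.locusMod P u' F' = b ⁻¹' ConsProp.locusMod P u F := by
  ext s
  set ι := S.fromSpecResidueField (b s)
  set ι' := S'.fromSpecResidueField s
  let h := Spec.map (b.residueFieldMap s)
  have he : h ≫ ι = ι' ≫ b := Scheme.Hom.SpecMap_residueFieldMap_fromSpecResidueField b s
  let eX : u'.fiber s ⟶ u.fiber (b s) :=
    pullback.lift (pullback.fst u' ι' ≫ q) (pullback.snd u' ι' ≫ h)
      (by rw [Category.assoc, hX.w, pullback.condition_assoc, Category.assoc, he])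
  have heX : eX ≫ u.fiberι (b s) = u'.fiberι s ≫ q := pullback.lift_fst _ _ _
  have hX1 : IsPullback eX (pullback.snd u' ι') (pullback.snd u ι) h := by
    refine IsPullback.of_right ?_ (pullback.lift_snd _ _ _) (IsPullback.of_hasPullback u ι)
    erw [pullback.lift_fst, he]
    exact (IsPullback.of_hasPullback u' ι').paste_horiz hX
  haveI : LocallyOfFiniteType (u.fiberToSpecResidueField (b s)) :=
    MorphismProperty.pullback_snd (P := @LocallyOfFiniteType) _ _ inferInstance
  haveI : QuasiCompact (u.fiberToSpecResidueField (b s)) :=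
    MorphismProperty.pullback_snd (P := @QuasiCompact) _ _ inferInstance
  haveI : Subsingleton ↥(Spec (S.residueField (b s))) :=
    inferInstanceAs (Subsingleton (PrimeSpectrum (S.residueField (b s))))
  haveI : Subsingleton ↥(Spec (S'.residueField s)) :=
    inferInstanceAs (Subsingleton (PrimeSpectrum (S'.residueField s)))
  exact (hP (u.fiberToSpecResidueField (b s)) (u'.fiberToSpecResidueField s) eX h hX1
    ((Scheme.Modules.pullback (u.fiberι (b s))).obj F)
    ((Scheme.Modules.pullback (u'.fiberι s)).obj F') (Cyc.FP.Stalk.isCoh_pullback _ hF)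
    ((Scheme.Modules.pullback (u'.fiberι s)).mapIso e ≪≫
      (Scheme.Modules.pullbackComp _ _).app F ≪≫ (Scheme.Modules.pullbackCongr heX.symm).app F ≪≫
      ((Scheme.Modules.pullbackComp _ _).app F).symm)).symm

/-- A closed subscheme of the base sees the same locus. -/
theorem locusMod_closed (hP : ConsProp.IsFieldStableMod P) {X S Z : Scheme.{u}} (u : X ⟶ S)
    [LocallyOfFiniteType u] [QuasiCompact u] {F : X.Modules} (hF : Coh.IsCoh F) (c : Z ⟶ S) :
    ∃ (X' : Scheme.{u}) (u' : X' ⟶ Z) (_ : LocallyOfFiniteType u') (_ : QuasiCompact u')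
      (F' : X'.Modules), Coh.IsCoh F' ∧
        ConsProp.locusMod P u' F' = c ⁻¹' ConsProp.locusMod P u F :=
  ⟨_, pullback.snd u c, inferInstance, inferInstance,
    (Scheme.Modules.pullback (pullback.fst u c)).obj F, Cyc.FP.Stalk.isCoh_pullback _ hF,
    locusMod_preimage hP (IsPullback.of_hasPullback u c) hF (Iso.refl _)⟩

/-- The model over an affine open of the base. -/
theorem exists_model_open (hP : ConsProp.IsFieldStableMod P) {X S : Scheme.{u}} (u : X ⟶ S)
    [LocallyOfFinitePresentation u] [QuasiCompact u] [QuasiSeparated u]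
    (F : X.Modules) [F.IsQuasicoherent] (hF : CohB1.IsFP F) {A : CommRingCat.{u}} (v : Spec A ⟶ S) :
    ∃ (A₀ : CommRingCat.{u}) (_ : IsNoetherianRing A₀) (b : Spec A ⟶ Spec A₀) (X₀ : Scheme.{u})
      (u₀ : X₀ ⟶ Spec A₀) (_ : LocallyOfFiniteType u₀) (_ : QuasiCompact u₀) (F₀ : X₀.Modules),
      Coh.IsCoh F₀ ∧ v ⁻¹' ConsProp.locusMod P u F = b ⁻¹' ConsProp.locusMod P u₀ F₀ := by
  have := QCoh.Pullback.isQCoh_pullback (pullback.fst u v) F
  obtain ⟨A₀, hA₀, b, X₀, u₀, q, _, _, _, F₀, hX0, hF₀, ⟨e⟩⟩ :=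
    exists_model (pullback.snd u v) ((Scheme.Modules.pullback (pullback.fst u v)).obj F)
      (FlatLimit.isFP_pullback _ F hF)
  exact ⟨A₀, hA₀, b, X₀, u₀, inferInstance, inferInstance, F₀, hF₀,
    (locusMod_preimage hP (IsPullback.of_hasPullback u v) (isCoh_of_isFP F hF) (Iso.refl _)).symm.trans
      (locusMod_preimage hP hX0 hF₀ e)⟩

theorem isLocallyConstructible_locusMod (hP : ConsProp.IsConsMod P) {X S : Scheme.{u}} (u : X ⟶ S)
    [LocallyOfFinitePresentation u] [QuasiCompact u] [QuasiSeparated u]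
    (F : X.Modules) [F.IsQuasicoherent] (hF : CohB1.IsFP F) :
    IsLocallyConstructible (ConsProp.locusMod P u F) := by
  refine ConsFormal.isLocallyConstructible_of_models _ fun {A} v _ => ?_
  obtain ⟨A₀, hA₀, b, X₀, u₀, _, _, F₀, hF₀, he⟩ := exists_model_open hP.1 u F hF v
  refine ⟨A₀, b, ConsProp.locusMod P u₀ F₀,
    ConsFormal.isConstructible_of_dichotomy _ fun Z c _ _ _ => ?_, he⟩
  obtain ⟨X', u', _, _, F', hF', h'⟩ := locusMod_closed hP.1 u₀ hF₀ c
  rw [← h']
  exact hP.2 u' F' hF'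

theorem isIndConstructible_locusMod (hP : ConsProp.IsIndConsMod P) {X S : Scheme.{u}} (u : X ⟶ S)
    [LocallyOfFinitePresentation u] [QuasiCompact u] [QuasiSeparated u]
    (F : X.Modules) [F.IsQuasicoherent] (hF : CohB1.IsFP F) :
    ProCons.IsIndConstructible (ConsProp.locusMod P u F) := by
  refine ConsFormal.isIndConstructible_of_models _ fun {A} v _ => ?_
  obtain ⟨A₀, hA₀, b, X₀, u₀, _, _, F₀, hF₀, he⟩ := exists_model_open hP.1 u F hF v
  refine ⟨A₀, b, ConsProp.locusMod P u₀ F₀,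
    ConsFormal.exists_constructible_subset _ fun Z c _ _ _ hη => ?_, he⟩
  obtain ⟨X', u', _, _, F', hF', h'⟩ := locusMod_closed hP.1 u₀ hF₀ c
  rw [← h'] at hη ⊢
  exact hP.2 u' F' hF' hη

theorem locusMod_limit (hP : ConsProp.IsIndConsMod P) {I : Type u} [SmallCategory I] [IsCofiltered I]
    (D : I ⥤ Scheme.{u}) (c : Cone D) (hc : IsLimit c)
    [∀ (i j : I) (a : i ⟶ j), IsAffineHom (D.map a)] (i₀ : I) [CompactSpace ↥(D.obj i₀)]
    {X₀ : Scheme.{u}} (u₀ : X₀ ⟶ D.obj i₀)
    [LocallyOfFinitePresentation u₀] [QuasiCompact u₀] [QuasiSeparated u₀]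
    (F₀ : X₀.Modules) [F₀.IsQuasicoherent] (hF₀ : CohB1.IsFP F₀)
    {X : Scheme.{u}} (u : X ⟶ c.pt) (q : X ⟶ X₀) (hX : IsPullback q u u₀ (c.π.app i₀)) :
    (∀ s : ↥c.pt, s ∈ ConsProp.locusMod P u ((Scheme.Modules.pullback q).obj F₀)) ↔
      ∃ (j : I) (φ : j ⟶ i₀) (Xj : Scheme.{u}) (uj : Xj ⟶ D.obj j) (p : Xj ⟶ X₀),
        IsPullback p uj u₀ (D.map φ) ∧
          ∀ t : ↥(D.obj j), t ∈ ConsProp.locusMod P uj ((Scheme.Modules.pullback p).obj F₀) := by
  have hcoh := isCoh_of_isFP F₀ hF₀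
  rw [locusMod_preimage hP.1 hX hcoh (Iso.refl _)]
  constructor
  · intro h
    obtain ⟨j, φ, hj⟩ := ConsFormal.exists_stage_eq_univ D c hc i₀
      (isIndConstructible_locusMod hP u₀ F₀ hF₀) h
    refine ⟨j, φ, _, _, pullback.fst u₀ (D.map φ), IsPullback.of_hasPullback _ _, fun t => ?_⟩
    rw [locusMod_preimage hP.1 (IsPullback.of_hasPullback u₀ (D.map φ)) hcoh (Iso.refl _)]
    exact hj t
  · rintro ⟨j, φ, Xj, uj, p, hXj, hj⟩ s
    have := hj (c.π.app j s)
    rw [locusMod_preimage hP.1 hXj hcoh (Iso.refl _), Set.mem_preimage, ← Scheme.Hom.comp_apply,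
      c.w] at this
    exact this

/-- The generic point of an ind-constructible set is interior. -/
theorem genericPoint_mem_interior {S : Scheme.{u}} [IrreducibleSpace S] {E : Set S}
    (hE : ProCons.IsIndConstructible E) (h : genericPoint S ∈ E) : genericPoint S ∈ interior E := by
  obtain ⟨U, hU, hxU, 𝒮, h𝒮, heq⟩ := hE (genericPoint S)
  obtain ⟨T, hT, hηT⟩ : (⟨_, hxU⟩ : U) ∈ ⋃₀ 𝒮 := heq ▸ (show _ ∈ Subtype.val ⁻¹' E from h)
  obtain ⟨V, hV, hVo, hc⟩ := h𝒮 T hT ⟨_, hxU⟩
  have hη : IsGenericPoint (⟨⟨_, hxU⟩, mem_of_mem_nhds hV⟩ : V) Set.univ := by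
    rw [isGenericPoint_iff_forall_closed] <;> try exact trivial
    · intro Z hZ hz
      obtain ⟨C, hC, rfl⟩ := isClosed_induced_iff.1 hZ
      obtain ⟨D, hD, rfl⟩ := isClosed_induced_iff.1 hC
      intro v _
      exact hD.closure_subset_iff.2 (Set.singleton_subset_iff.2 hz)
        (show v.1.1 ∈ closure ({genericPoint S} : Set S) from
          (genericPoint_spec S).symm.le trivial)
    · exact isClosed_univ
  have := (ConsBasic.mem_interior_of_isConstructible hη hc).1 hηT
  rw [mem_interior] at this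
  obtain ⟨W, hWsub, hWo, hW⟩ := this
  refine mem_interior.2 ⟨Subtype.val '' (Subtype.val '' W), ?_,
    hU.isOpenMap_subtype_val _ (hVo.isOpenMap_subtype_val _ hWo), ⟨_, ⟨_, hW, rfl⟩, rfl⟩⟩
  rintro _ ⟨_, ⟨w, hw, rfl⟩, rfl⟩
  exact (Set.ext_iff.1 heq w.1).2 ⟨T, hT, hWsub hw⟩

/-- Locally constructible sets are ind-constructible. -/
theorem isIndConstructible_of_isLocallyConstructible {S : Scheme.{u}} {E : Set S}
    (hE : IsLocallyConstructible E) : ProCons.IsIndConstructible E := by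
  intro x
  obtain ⟨U, hU, hUo, hc⟩ := hE x
  exact ⟨U, hUo, mem_of_mem_nhds hU, {Subtype.val ⁻¹' E},
    fun T hT => hT ▸ hc.isLocallyConstructible, (Set.sUnion_singleton _).symm⟩

end Groth.Agent.H47.ConsFormalMod
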