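import Groth.Agent.H47.ConsFormalMod
import Groth.Agent.Lib.ZarCoh.FP

/-!
# A finitely presented morphism with a module over a limit of affine schemes comes from a stage
-/

set_option autoImplicit false
set_option backward.isDefEq.respectTransparency false

universe u

open CategoryTheory CategoryTheory.Limits AlgebraicGeometry
open Groth.Agent.Lib

namespace Groth.Agent.H47.NoethModule

variable {I : Type u} [SmallCategory I] [IsCofiltered I] {D : I ⥤ Scheme.{u}} {c : Cone D}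
  [∀ i, IsAffine (D.obj i)] [∀ (i j : I) (g : i ⟶ j), IsAffineHom (D.map g)]

theorem exists_model (hc : IsLimit c) {X : Scheme.{u}} (f : X ⟶ c.pt)
    [LocallyOfFinitePresentation f] [CompactSpace X] [QuasiSeparatedSpace X]
    (F : X.Modules) [F.IsQuasicoherent] (hF : CohB1.IsFP F) :
    ∃ (k : I) (X₀ : Scheme.{u}) (f₀ : X₀ ⟶ D.obj k) (q : X ⟶ X₀)
      (_ : LocallyOfFinitePresentation f₀) (_ : CompactSpace X₀) (_ : QuasiSeparatedSpace X₀)
      (F₀ : X₀.Modules), Coh.IsCoh F₀ ∧ CohB1.IsFP F₀ ∧ IsPullback q f f₀ (c.π.app k) ∧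
        Nonempty ((Scheme.Modules.pullback q).obj F₀ ≅ F) := by
  have : ∀ {i j : I} (g : i ⟶ j), IsAffineHom (D.map g) := fun g => inferInstance
  obtain ⟨i, Xi, ui, qi, hXc, hXq, hui, hi⟩ := Lim.FPDescend.exists_descent (D := D) hc (c := c) f
  have := fun j => Lim.Basic.compactSpace_bcDiagram D ui j
  have := fun j => Lim.Basic.quasiSeparatedSpace_bcDiagram D ui j
  have : ∀ {j k : Over i} (φ : j ⟶ k), IsAffineHom ((Lim.Basic.bcDiagram D ui).map φ) := fun φ =>
    Lim.Basic.bcDiagram_map_prop D ui @IsAffineHom (fun f => inferInstance) φ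
  let cX := Lim.Basic.bcCone (D := D) (a := ui) hi.w
  obtain ⟨j, -, W, _, G, g, hG, ⟨e⟩⟩ := FPModel.exists_descend (Lim.Basic.bcDiagram D ui) cX
    (Lim.Basic.isLimitBcCone hc hi) (Over.mk (𝟙 i)) F hF
  have hG' := hG.1
  exact ⟨j.left, _, pullback.snd ui (D.map j.hom), cX.π.app j,
    MorphismProperty.pullback_snd (P := @LocallyOfFinitePresentation) ui (D.map j.hom) hui,
    Lim.Basic.compactSpace_bcDiagram D ui j, Lim.Basic.quasiSeparatedSpace_bcDiagram D ui j,
    (Scheme.Modules.pullback g).obj G, Cyc.FP.Stalk.isCoh_pullback g hG,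
    FlatLimit.isFP_pullback g G (ZarCoh.FP.isFP_of_isCoh G hG),
    Lim.Basic.isPullback_bcCone_π hi j, ⟨e⟩⟩

theorem flat_iso_comp {X Y Z : Scheme.{u}} (f : X ⟶ Y) (g : Y ⟶ Z) [IsIso g] (M : X.Modules)
    (x : X) (h : FlatMod.IsFlatOverAt f M x) : FlatMod.IsFlatOverAt (f ≫ g) M x :=
  Flat55.FlatOverAt.of_comp f g M x (Flat.stalkMap g (f x)) h

/-- Flatness at a point, and flatness, are visible on a stage model. -/
theorem exists_flat_model (hc : IsLimit c) {X : Scheme.{u}} (f : X ⟶ c.pt)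
    [LocallyOfFinitePresentation f] [CompactSpace X] [QuasiSeparatedSpace X]
    (F : X.Modules) [F.IsQuasicoherent] (hF : CohB1.IsFP F) :
    (∀ x : X, FlatMod.IsFlatOverAt f F x →
      ∃ (i : I) (X₀ : Scheme.{u}) (f₀ : X₀ ⟶ D.obj i) (_ : LocallyOfFiniteType f₀)
        (_ : QuasiCompact f₀) (F₀ : X₀.Modules) (_ : Coh.IsCoh F₀) (q : X ⟶ X₀)
        (_ : IsPullback q f f₀ (c.π.app i)) (_ : (Scheme.Modules.pullback q).obj F₀ ≅ F),
        FlatMod.IsFlatOverAt f₀ F₀ (q x)) ∧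
    (FlatMod.IsFlatOver f F →
      ∃ (i : I) (X₀ : Scheme.{u}) (f₀ : X₀ ⟶ D.obj i) (_ : LocallyOfFiniteType f₀)
        (_ : QuasiCompact f₀) (F₀ : X₀.Modules) (_ : Coh.IsCoh F₀) (q : X ⟶ X₀)
        (_ : IsPullback q f f₀ (c.π.app i)) (_ : (Scheme.Modules.pullback q).obj F₀ ≅ F),
        FlatMod.IsFlatOver f₀ F₀) := by
  obtain ⟨k, X₀, f₀, q, _, _, _, F₀, hcoh, hfp, hsq, ⟨e⟩⟩ := exists_model hc f F hF
  have := hcoh.1
  haveI : IsIso (𝟙 c.pt) := IsIso.id _
  haveI : IsIso (𝟙 (D.obj k)) := IsIso.id _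
  have hY : IsPullback (c.π.app k) (𝟙 c.pt) (𝟙 (D.obj k)) (c.π.app k) :=
    IsPullback.of_vert_isIso ⟨by rw [Category.comp_id]; exact (Category.id_comp _).symm⟩
  haveI : QuasiCompact f₀ := (quasiCompact_iff_compactSpace _).2 inferInstance
  refine ⟨fun x hx => ?_, fun hflat => ?_⟩
  · obtain ⟨i, φ, Xi, Yi, fi, gi, pY, pX, vY, vX, h1, h2, h3, h4, h5, h6, h7⟩ :=
      FlatLimit.exists_stage_flatAt hc F₀ hfp hY hsq x (Flat55.FlatOverAt.of_iso f e.symm x hx)
    haveI : IsIso gi := h1.isIso_snd_of_isIso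
    have h2' : IsPullback pX (fi ≫ gi) f₀ (D.map φ) := by
      have := h2.paste_vert h1
      rwa [Category.comp_id] at this
    have : LocallyOfFiniteType (fi ≫ gi) := MorphismProperty.of_isPullback h2' inferInstance
    have : QuasiCompact (fi ≫ gi) := MorphismProperty.of_isPullback h2' inferInstance
    have hq : IsPullback vX f (fi ≫ gi) (c.π.app i) := by
      refine IsPullback.of_right ?_ ?_ h2'
      · rw [h5, c.w]; exact hsq
      · rw [reassoc_of% h6, h4]
        exact congrArg (f ≫ ·) (Category.id_comp _)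
    exact ⟨i, Xi, fi ≫ gi, inferInstance, inferInstance, _, Cyc.FP.Stalk.isCoh_pullback pX hcoh,
      vX, hq,
      (Scheme.Modules.pullbackComp vX pX).app F₀ ≪≫ (Scheme.Modules.pullbackCongr h5).app F₀ ≪≫ e,
      flat_iso_comp fi gi _ _ h7⟩
  · obtain ⟨i, φ, Xi, Yi, fi, gi, pY, pX, h1, h2, h7⟩ :=
      FlatLimit.exists_stage_flat hc F₀ hfp hY hsq
        (fun y => Flat55.FlatOverAt.of_iso f e.symm y (hflat y))
    haveI : IsIso gi := h1.isIso_snd_of_isIso
    have h2' : IsPullback pX (fi ≫ gi) f₀ (D.map φ) := by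
      have := h2.paste_vert h1
      rwa [Category.comp_id] at this
    have : LocallyOfFiniteType (fi ≫ gi) := MorphismProperty.of_isPullback h2' inferInstance
    have : QuasiCompact (fi ≫ gi) := MorphismProperty.of_isPullback h2' inferInstance
    let vX : X ⟶ Xi := h2'.lift q (f ≫ c.π.app i) (by rw [Category.assoc, c.w, hsq.w])
    have h5 : vX ≫ pX = q := h2'.lift_fst _ _ _
    have hq : IsPullback vX f (fi ≫ gi) (c.π.app i) := by
      refine IsPullback.of_right ?_ (h2'.lift_snd _ _ _) h2'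
      rw [h5, c.w]; exact hsq
    exact ⟨i, Xi, fi ≫ gi, inferInstance, inferInstance, _, Cyc.FP.Stalk.isCoh_pullback pX hcoh,
      vX, hq,
      (Scheme.Modules.pullbackComp vX pX).app F₀ ≪≫ (Scheme.Modules.pullbackCongr h5).app F₀ ≪≫ e,
      fun y => flat_iso_comp fi gi _ _ (h7 y)⟩

end Groth.Agent.H47.NoethModule
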