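import Groth.Agent.H47.ModStage
import Groth.Agent.H47.FlatLimit
import Groth.Agent.Lib.TensorMod.LocFree
import Groth.Agent.Lib.CurveBundle.Coherent
import Groth.Agent.Lib.Flat55.FibrewiseScheme

/-!
# Local freeness descends to a stage of a limit
-/

set_option autoImplicit false
set_option linter.style.haveILetI false
set_option backward.isDefEq.respectTransparency false

universe u

open CategoryTheory CategoryTheory.Limits AlgebraicGeometry
open Groth.Agent.Lib Groth.Agent.Lib.Flat55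

namespace Groth.Agent.H47.ModStageFree

theorem isFlatOverAt_id_iff {Z : Scheme.{u}} (M : Z.Modules) (z : Z) :
    FlatMod.IsFlatOverAt (𝟙 Z) M z ↔ FlatMod.IsFlatAt M z := by
  have h : ∀ (a : Z.presheaf.stalk z) (m : M.presheaf.stalk z),
      ((𝟙 Z : Z ⟶ Z).stalkMap z).hom a • m = a • m := fun a m => by
    rw [Scheme.Hom.stalkMap_id]; rfl
  exact ⟨@FibrewiseScheme.flat_congr (Z.presheaf.stalk z) (M.presheaf.stalk z) _ _
      (FlatMod.moduleStalk M z) (FlatMod.moduleStalkOver (𝟙 Z) M z) (fun a m => (h a m).symm),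
    @FibrewiseScheme.flat_congr (Z.presheaf.stalk z) (M.presheaf.stalk z) _ _
      (FlatMod.moduleStalkOver (𝟙 Z) M z) (FlatMod.moduleStalk M z) h⟩

theorem isFinLocFree_iff {X : Scheme.{u}} (M : X.Modules) [M.IsQuasicoherent] (hM : CohB1.IsFP M) :
    FlatMod.IsFinLocFree M ↔ FlatMod.IsFlat M := by
  refine ⟨TensorMod.FPConv.isFlat_of_isFinLocFree, fun h => ?_⟩
  refine Modules.AffineSections.isFinLocFree_of_sections fun x => ?_
  obtain ⟨U, hU, hx, -⟩ := exists_isAffineOpen_mem_and_subset (X := X) (x := x) (U := ⊤) trivial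
  haveI := Modules.AffineSections.finitePresentation_sections hM hU
  haveI := Modules.AffineSections.flat_sections h hU
  exact ⟨U, hU, hx, inferInstance, Module.Flat.projective_of_finitePresentation⟩

theorem isFlat_pullback_flat_iff {X Y : Scheme.{u}} (g : Y ⟶ X) (M : X.Modules) (y : Y)
    (hg : (g.stalkMap y).hom.Flat) :
    FlatMod.IsFlatAt ((Scheme.Modules.pullback g).obj M) y → FlatMod.IsFlatAt M (g y) := by
  intro h
  have h2 : FlatMod.IsFlatOverAt (𝟙 X) M (g y) := by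
    refine (FlatOverAt.isFlatOverAt_pullback_iff g (𝟙 X) M y hg).1 ?_
    rw [Category.comp_id]
    have h1 := FlatOverAt.of_comp (𝟙 Y) g ((Scheme.Modules.pullback g).obj M) y hg
      ((isFlatOverAt_id_iff _ y).2 h)
    rwa [Category.id_comp] at h1
  exact (isFlatOverAt_id_iff M (g y)).1 h2

variable {I : Type u} [SmallCategory I] [IsCofiltered I] {D : I ⥤ Scheme.{u}} {c : Cone D}
  [∀ (i j : I) (f : i ⟶ j), IsAffineHom (D.map f)] (i₀ : I) [CompactSpace (D.obj i₀)]
  (F₀ : (D.obj i₀).Modules) [F₀.IsQuasicoherent]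

/-- A finitely presented module, locally free at the limit, is locally free at some stage. -/
theorem locFree_iff (hc : IsLimit c) (hF : CohB1.IsFP F₀) :
    FlatMod.IsFinLocFree ((Scheme.Modules.pullback (c.π.app i₀)).obj F₀) ↔
      ∃ (j : I) (φ : j ⟶ i₀), FlatMod.IsFinLocFree ((Scheme.Modules.pullback (D.map φ)).obj F₀) := by
  have hq : ∀ {T : Scheme.{u}} (g : T ⟶ D.obj i₀), FlatMod.IsFinLocFree ((Scheme.Modules.pullback g).obj F₀) ↔
      FlatMod.IsFlat ((Scheme.Modules.pullback g).obj F₀) := fun g => by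
    haveI := Lib.QCoh.Pullback.isQCoh_pullback g F₀
    exact isFinLocFree_iff _ (H47.FlatLimit.isFP_pullback g F₀ hF)
  let P : Over (D.obj i₀) → Prop := fun T =>
    FlatMod.IsFinLocFree ((Scheme.Modules.pullback T.hom).obj F₀)
  have hmono : ∀ {T T₀ : Scheme.{u}} (g : T ⟶ T₀) (f : T₀ ⟶ D.obj i₀) (h : T ⟶ D.obj i₀),
      g ≫ f = h → FlatMod.IsFinLocFree ((Scheme.Modules.pullback f).obj F₀) →
        FlatMod.IsFinLocFree ((Scheme.Modules.pullback h).obj F₀) := fun g f h w hf => by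
    subst w
    exact TensorMod.LocFree.of_iso ((Scheme.Modules.pullbackComp g f).app F₀)
      (TensorMod.LocFree.isFinLocFree_pullback g hf)
  refine ⟨fun h => ModStage.exists_stage_local hc i₀ P (fun T T₀ g => hmono g.left _ _ (Over.w g))
    (fun T κ Ti g hopen hsurj h => (hq T.hom).2 fun t => ?_) (fun J _ _ E e hlim hE he h => ?_) h,
    fun ⟨j, φ, h⟩ => hmono _ _ _ (c.w φ) h⟩
  · obtain ⟨k, t', rfl⟩ := hsurj t
    haveI := hopen k
    refine isFlat_pullback_flat_iff (g k).left _ t' (Flat.stalkMap _ _) ?_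
    have h1 := h k
    exact TensorMod.FPConv.isFlat_of_isFinLocFree
      (TensorMod.LocFree.of_iso (((Scheme.Modules.pullbackCongr (Over.w (g k)).symm).app F₀) ≪≫
        ((Scheme.Modules.pullbackComp (g k).left T.hom).app F₀).symm) h1) t'
  · haveI := hE
    haveI := he
    have key : ∀ T : Over (D.obj i₀),
        FlatMod.IsFlatOver (PicF.XTproj (𝟙 (D.obj i₀)) T) (FGA.ET (𝟙 (D.obj i₀)) F₀ T) ↔ P T := by
      intro T
      show _ ↔ FlatMod.IsFinLocFree ((Scheme.Modules.pullback T.hom).obj F₀)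
      rw [hq T.hom]
      let p := pullback.snd (𝟙 (D.obj i₀)) T.hom
      let e : (Scheme.Modules.pullback p).obj ((Scheme.Modules.pullback T.hom).obj F₀) ≅
          FGA.ET (𝟙 (D.obj i₀)) F₀ T :=
        (Scheme.Modules.pullbackComp p T.hom).app F₀ ≪≫
          (Scheme.Modules.pullbackCongr (by rw [← pullback.condition, Category.comp_id])).app F₀
      have hiff : ∀ z, FlatMod.IsFlatOverAt p (FGA.ET (𝟙 (D.obj i₀)) F₀ T) z ↔
          FlatMod.IsFlatAt ((Scheme.Modules.pullback T.hom).obj F₀) (p z) := fun z => by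
        rw [← isFlatOverAt_id_iff, ← FlatOverAt.isFlatOverAt_pullback_iff p (𝟙 T.left) _ z
          (Flat.stalkMap _ _), Category.comp_id]
        exact ⟨FlatOverAt.of_iso p e.symm z, FlatOverAt.of_iso p e z⟩
      refine ⟨fun h t => ?_, fun h z => (hiff z).2 (h _)⟩
      obtain ⟨z, rfl⟩ : ∃ z, p z = t := ⟨inv p t, by rw [← Scheme.Hom.comp_apply, IsIso.inv_hom_id]; rfl⟩
      exact (hiff z).1 (h z)
    obtain ⟨j, hj⟩ := FlatFunLimit.exists_stage_flat (f := 𝟙 (D.obj i₀)) hlim hF ((key e.pt).2 h)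
    exact ⟨j, (key _).1 hj⟩

theorem rank_eq {X : Scheme.{u}} {M : X.Modules} {U V : X.Opens} {m n : ℕ} {x : X} (hU : x ∈ U)
    (hV : x ∈ V) (i : M.restrict U.ι ≅ FlatMod.freeMod (↑U) m)
    (i' : M.restrict V.ι ≅ FlatMod.freeMod (↑V) n) : m = n := by
  obtain ⟨s, hs⟩ := CurveBundle.Coherent.exists_basis_sections i
  obtain ⟨t, ht⟩ := CurveBundle.Coherent.exists_basis_sections i'
  let b := Module.Basis.mk (hs x hU).1 (hs x hU).2.ge
  let b' := Module.Basis.mk (ht x hV).1 (ht x hV).2.ge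
  simpa using Fintype.card_congr (b.indexEquiv b')

/-- A finitely presented module, locally free of rank `n` at the limit, is so at some stage. -/
theorem rank_iff (hc : IsLimit c) (hF : CohB1.IsFP F₀) (n : ℕ) :
    FlatMod.IsFinLocFreeOfRank n ((Scheme.Modules.pullback (c.π.app i₀)).obj F₀) ↔
      ∃ (j : I) (φ : j ⟶ i₀),
        FlatMod.IsFinLocFreeOfRank n ((Scheme.Modules.pullback (D.map φ)).obj F₀) := by
  haveI : ∀ {i j : I} (f : i ⟶ j), IsAffineHom (D.map f) := fun f => inferInstance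
  refine ⟨fun h => ?_, fun ⟨j, φ, h⟩ => TensorMod.LocFree.rank_of_iso
    ((Scheme.Modules.pullbackComp (c.π.app j) (D.map φ)).app F₀ ≪≫
      (Scheme.Modules.pullbackCongr (c.w φ)).app F₀) (TensorMod.LocFree.rank_pullback _ h)⟩
  obtain ⟨j, φ, hj⟩ := (locFree_iff i₀ F₀ hc hF).1 (TensorMod.LocFree.of_rank h)
  let M := (Scheme.Modules.pullback (D.map φ)).obj F₀
  haveI : CompactSpace (D.obj j) := QuasiCompact.compactSpace_of_compactSpace (D.map φ)
  let W : (D.obj j).Opens := ⨆ U : {U : (D.obj j).Opens //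
    Nonempty (M.restrict U.ι ≅ FlatMod.freeMod (↑U) n)}, U.1
  have hW : c.π.app j ⁻¹ᵁ ⊤ ≤ c.π.app j ⁻¹ᵁ W := fun s _ => by
    obtain ⟨U, m, hsU, ⟨i⟩⟩ := hj (c.π.app j s)
    obtain ⟨i1⟩ := TensorMod.LocFree.pullback_iso_of_restrict_iso (c.π.app j) i
    obtain ⟨V, hsV, ⟨i2⟩⟩ := TensorMod.LocFree.rank_of_iso
      ((Scheme.Modules.pullbackComp (c.π.app j) (D.map φ)).app F₀ ≪≫
        (Scheme.Modules.pullbackCongr (c.w φ)).app F₀).symm h s
    obtain rfl := rank_eq (x := s) hsU hsV i1 i2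
    exact TopologicalSpace.Opens.mem_iSup.mpr ⟨⟨U, ⟨i⟩⟩, hsU⟩
  obtain ⟨k, ψ, hk⟩ := exists_map_preimage_le_map_preimage D c hc (U := ⊤) (V := W) isCompact_univ hW
  refine ⟨k, ψ ≫ φ, TensorMod.LocFree.rank_of_iso
    ((Scheme.Modules.pullbackComp (D.map ψ) (D.map φ)).app F₀ ≪≫
      (Scheme.Modules.pullbackCongr (D.map_comp ψ φ).symm).app F₀) fun x => ?_⟩
  obtain ⟨⟨U, ⟨i⟩⟩, hxU⟩ := TopologicalSpace.Opens.mem_iSup.mp (hk (show x ∈ D.map ψ ⁻¹ᵁ ⊤ from trivial))
  exact ⟨D.map ψ ⁻¹ᵁ U, hxU, TensorMod.LocFree.pullback_iso_of_restrict_iso (D.map ψ) i⟩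

end Groth.Agent.H47.ModStageFree
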