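import Groth.Agent.Lib.Flat55.FlatFunLimit
import Groth.Agent.Lib.Lim.Eventual

/-!
# A property of pullbacks descends to a stage of a limit with quasi-compact base
-/

set_option autoImplicit false
set_option linter.style.haveILetI false
set_option backward.isDefEq.respectTransparency false

universe u

open CategoryTheory CategoryTheory.Limits AlgebraicGeometry
open Groth.Agent.Lib Groth.Agent.Lib.Flat55

namespace Groth.Agent.H47.ModStage

variable {I : Type u} [SmallCategory I] [IsCofiltered I] {D : I ⥤ Scheme.{u}} {c : Cone D}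

/-- A property which is stable, local, and descends along affine systems over `D i₀`, descends. -/
theorem exists_stage_local (hc : IsLimit c) [∀ (i j : I) (f : i ⟶ j), IsAffineHom (D.map f)] (i₀ : I)
    [CompactSpace (D.obj i₀)] (P : Over (D.obj i₀) → Prop)
    (hP : ∀ ⦃T T₀ : Over (D.obj i₀)⦄ (_ : T ⟶ T₀), P T₀ → P T)
    (hloc : ∀ (T : Over (D.obj i₀)) {κ : Type u} (Ti : κ → Over (D.obj i₀)) (g : ∀ k, Ti k ⟶ T),
      (∀ k, IsOpenImmersion (g k).left) → (∀ t : T.left, ∃ k, ∃ t', (g k).left t' = t) →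
      (∀ k, P (Ti k)) → P T)
    (hstage : ∀ ⦃J : Type u⦄ [SmallCategory J] [IsCofiltered J] (E : J ⥤ Over (D.obj i₀)) (e : Cone E),
      IsLimit ((Over.forget _).mapCone e) → (∀ j, IsAffine (E.obj j).left) → IsAffine e.pt.left →
        P e.pt → ∃ j, P (E.obj j))
    (h : P (Over.mk (c.π.app i₀))) :
    ∃ (j : I) (φ : j ⟶ i₀), P (Over.mk (D.map φ)) := by
  classical
  haveI : ∀ {i j : I} (f : i ⟶ j), IsAffineHom (D.map f) := fun f => inferInstance
  obtain ⟨𝒮, h𝒮⟩ := Lim.Eventual.exists_finite_affine_cover (D.obj i₀)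
  let E : ↥𝒮 → (Over i₀ ⥤ Over (D.obj i₀)) := fun k =>
    { obj := fun j => Over.mk ((D.map j.hom ⁻¹ᵁ k.1.1).ι ≫ D.map j.hom)
      map := fun {j l} f => Over.homMk ((opensDiagram D i₀ k.1.1).map f) (by
        simp [opensDiagram, ← Functor.map_comp, Over.w f])
      map_id := fun j => Over.OverMorphism.ext ((opensDiagram D i₀ k.1.1).map_id j)
      map_comp := fun f g => Over.OverMorphism.ext ((opensDiagram D i₀ k.1.1).map_comp f g) }
  let e : ∀ k, Cone (E k) := fun k =>
    { pt := Over.mk ((c.π.app i₀ ⁻¹ᵁ k.1.1).ι ≫ c.π.app i₀)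
      π :=
        { app := fun j => Over.homMk ((opensCone D c i₀ k.1.1).π.app j) (by
            show (opensCone D c i₀ k.1.1).π.app j ≫ (D.map j.hom ⁻¹ᵁ k.1.1).ι ≫ D.map j.hom = _
            simp [opensCone, c.w j.hom])
          naturality := fun j l f => Over.OverMorphism.ext ((opensCone D c i₀ k.1.1).π.naturality f) } }
  have hst : ∀ k : ↥𝒮, ∃ j : Over i₀, P ((E k).obj j) := fun k => by
    have hlim : IsLimit ((Over.forget (D.obj i₀)).mapCone (e k)) := isLimitOpensCone D c hc i₀ k.1.1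
    have haff : ∀ j, IsAffine ((E k).obj j).left := fun j => k.1.2.preimage (D.map j.hom)
    have hpt : IsAffine (e k).pt.left := by
      haveI : ∀ j, IsAffine ((opensDiagram D i₀ k.1.1).obj j) := haff
      exact Scheme.isAffine_of_isLimit _ (isLimitOpensCone D c hc i₀ k.1.1)
    exact hstage (E k) (e k) hlim haff hpt
      (hP (T₀ := Over.mk (c.π.app i₀)) (Over.homMk (U := (e k).pt) (V := Over.mk (c.π.app i₀)) (c.π.app i₀ ⁻¹ᵁ k.1.1).ι rfl) h)
  choose jk hjk using hst
  obtain ⟨j, hj⟩ := IsCofiltered.inf_objs_exists (Finset.univ.image jk)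
  refine ⟨j.left, j.hom, hloc _ (fun k => (E k).obj j)
    (fun k => Over.homMk (U := (E k).obj j) (V := Over.mk (D.map j.hom)) (D.map j.hom ⁻¹ᵁ k.1.1).ι rfl)
    (fun k => inferInstanceAs (IsOpenImmersion (D.map j.hom ⁻¹ᵁ k.1.1).ι)) (fun t => ?_) fun k => ?_⟩
  · have ht : D.map j.hom t ∈ ⨆ U : ↥𝒮, (U.1.1 : (D.obj i₀).Opens) := h𝒮 ▸ trivial
    obtain ⟨k, hk⟩ := TopologicalSpace.Opens.mem_iSup.mp ht
    exact ⟨k, ⟨t, hk⟩, rfl⟩
  · exact hP ((E k).map (hj (Finset.mem_image_of_mem jk (Finset.mem_univ k))).some) (hjk k)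

section Hom

variable {S : Scheme.{u}} {F G : S.Modules} (v : F ⟶ G)

theorem pullback_iff {X : Scheme.{u}} {Y : Scheme.{u}} (g : Y ⟶ X) (f : X ⟶ S) (h : Y ⟶ S)
    (w : g ≫ f = h) (Q : MorphismProperty Y.Modules) [Q.RespectsIso] :
    Q ((Scheme.Modules.pullback g).map ((Scheme.Modules.pullback f).map v)) ↔
      Q ((Scheme.Modules.pullback h).map v) := by
  subst w
  exact FlatFunSheaf.prop_map_map_iff' (Scheme.Modules.pullbackComp g f) v

/-- Translate to the product with the identity. -/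
theorem id_iff (T : Over S) (Q : ∀ Z : Scheme.{u}, MorphismProperty Z.Modules)
    [∀ Z, (Q Z).RespectsIso]
    (hQ : ∀ {X Y : Scheme.{u}} (g : Y ⟶ X) {A B : X.Modules} (w : A ⟶ B),
      Q X w → Q Y ((Scheme.Modules.pullback g).map w)) :
    Q _ ((Scheme.Modules.pullback (pullback.fst (𝟙 S) T.hom)).map v) ↔
      Q _ ((Scheme.Modules.pullback T.hom).map v) := by
  refine ⟨fun h => (pullback_iff v (inv (pullback.snd (𝟙 S) T.hom)) (pullback.fst (𝟙 S) T.hom) T.hom
    (by rw [IsIso.inv_comp_eq, ← pullback.condition, Category.comp_id]) _).1 (hQ _ _ h), fun h =>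
    (pullback_iff v (pullback.snd (𝟙 S) T.hom) T.hom (pullback.fst (𝟙 S) T.hom)
      (by rw [← pullback.condition, Category.comp_id]) _).1 (hQ _ _ h)⟩

end Hom

variable [∀ (i j : I) (f : i ⟶ j), IsAffineHom (D.map f)] (i₀ : I) [CompactSpace (D.obj i₀)]
  {F₀ G₀ : (D.obj i₀).Modules} [F₀.IsQuasicoherent] [G₀.IsQuasicoherent] (f₀ : F₀ ⟶ G₀)

theorem epi_pullback {X Y : Scheme.{u}} (g : Y ⟶ X) {A B : X.Modules} (w : A ⟶ B) (h : Epi w) :
    Epi ((Scheme.Modules.pullback g).map w) :=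
  haveI := h
  inferInstance

/-- An epimorphism at the limit is one at some stage. -/
theorem epi_iff (hc : IsLimit c) (hG : CohB1.IsFT G₀) :
    Epi ((Scheme.Modules.pullback (c.π.app i₀)).map f₀) ↔
      ∃ (j : I) (φ : j ⟶ i₀), Epi ((Scheme.Modules.pullback (D.map φ)).map f₀) := by
  let Q : ∀ Z : Scheme.{u}, MorphismProperty Z.Modules := fun Z => MorphismProperty.epimorphisms _
  haveI : ∀ Z, (Q Z).RespectsIso := fun Z => inferInstanceAs (MorphismProperty.epimorphisms _).RespectsIso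
  refine ⟨fun h => exists_stage_local hc i₀ (fun T => Q _ ((Scheme.Modules.pullback T.hom).map f₀))
    (fun T T₀ g h => (pullback_iff f₀ g.left T₀.hom T.hom (Over.w g) _).1 (epi_pullback _ _ h))
    (fun T κ Ti g hopen hsurj h => FlatFunSheaf.epi_of_pullback (fun k => (g k).left)
      (fun k => have := hopen k; inferInstance) hsurj _
      fun k => (pullback_iff f₀ (g k).left T.hom (Ti k).hom (Over.w (g k)) (Q _)).2 (h k))
    (fun J _ _ E e hlim hE he h => ?_) h, fun ⟨j, φ, h⟩ =>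
      (pullback_iff f₀ (c.π.app j) (D.map φ) (c.π.app i₀) (c.w φ) (Q _)).1 (epi_pullback _ _ h)⟩
  haveI := hE
  haveI := he
  obtain ⟨j, hj⟩ := FlatFunLimit.exists_stage_epi (f := 𝟙 (D.obj i₀)) hlim hG f₀
    ((id_iff f₀ e.pt Q epi_pullback).2 h)
  exact ⟨j, (id_iff f₀ (E.obj j) Q epi_pullback).1 hj⟩

theorem isIso_pullback {X Y : Scheme.{u}} (g : Y ⟶ X) {A B : X.Modules} (w : A ⟶ B) (h : IsIso w) :
    IsIso ((Scheme.Modules.pullback g).map w) :=
  haveI := h
  inferInstance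

/-- An isomorphism at the limit is one at some stage. -/
theorem isIso_iff (hc : IsLimit c) (hF : CohB1.IsFT F₀) (hG : CohB1.IsFP G₀) :
    IsIso ((Scheme.Modules.pullback (c.π.app i₀)).map f₀) ↔
      ∃ (j : I) (φ : j ⟶ i₀), IsIso ((Scheme.Modules.pullback (D.map φ)).map f₀) := by
  let Q : ∀ Z : Scheme.{u}, MorphismProperty Z.Modules := fun Z => MorphismProperty.isomorphisms _
  haveI : ∀ Z, (Q Z).RespectsIso := fun Z => inferInstanceAs (MorphismProperty.isomorphisms _).RespectsIso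
  refine ⟨fun h => exists_stage_local hc i₀ (fun T => Q _ ((Scheme.Modules.pullback T.hom).map f₀))
    (fun T T₀ g h => (pullback_iff f₀ g.left T₀.hom T.hom (Over.w g) _).1 (isIso_pullback _ _ h))
    (fun T κ Ti g hopen hsurj h => FlatFunSheaf.isIso_of_pullback (fun k => (g k).left)
      (fun k => have := hopen k; inferInstance) hsurj _
      fun k => (pullback_iff f₀ (g k).left T.hom (Ti k).hom (Over.w (g k)) (Q _)).2 (h k))
    (fun J _ _ E e hlim hE he h => ?_) h, fun ⟨j, φ, h⟩ =>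
      (pullback_iff f₀ (c.π.app j) (D.map φ) (c.π.app i₀) (c.w φ) (Q _)).1 (isIso_pullback _ _ h)⟩
  haveI := hE
  haveI := he
  obtain ⟨j, hj⟩ := FlatFunLimit.exists_stage_isIso (f := 𝟙 (D.obj i₀)) hlim hF hG f₀
    ((id_iff f₀ e.pt Q isIso_pullback).2 h)
  exact ⟨j, (id_iff f₀ (E.obj j) Q isIso_pullback).1 hj⟩

end Groth.Agent.H47.ModStage
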