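import Groth.Agent.H47.FibreClosureAlg
import Groth.Agent.H47.ConsPreimage
import Groth.Agent.H47.SurjLocus
import Mathlib.Topology.LocallyClosed
import Mathlib.AlgebraicGeometry.Morphisms.UniversallyOpen
import Mathlib.RingTheory.TensorProduct.MvPolynomial
import Mathlib.RingTheory.Spectrum.Prime.Chevalley

/-!
# The union of the closures in the fibres of a constructible set is constructible
-/

set_option autoImplicit false
set_option backward.isDefEq.respectTransparency false

noncomputable section

universe u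

open CategoryTheory CategoryTheory.Limits AlgebraicGeometry Topology TensorProduct

namespace Groth.Agent.H47.FibreClosure

theorem mem_closure_inter_range {F X : Type*} [TopologicalSpace F] [TopologicalSpace X] {i : F → X}
    (hi : IsEmbedding i) (Z : Set X) (y : F) :
    i y ∈ closure (Z ∩ Set.range i) ↔ y ∈ closure (i ⁻¹' Z) := by
  rw [hi.closure_eq_preimage_closure_image, Set.mem_preimage, Set.image_preimage_eq_inter_range]

theorem mem_fibClosure_iff {X S : Scheme.{u}} (f : X ⟶ S) (Z : Set X) (x : X) :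
    x ∈ fibClosure f Z ↔ f.asFiber x ∈ closure (f.fiberι (f x) ⁻¹' Z) := by
  rw [← mem_closure_inter_range (f.fiberι (f x)).isEmbedding, Scheme.Hom.range_fiberι,
    Scheme.Hom.fiberι_asFiber]
  rfl

theorem fibClosure_preimage {X X' Y Y' : Scheme.{u}} {f : X ⟶ Y} {f' : X' ⟶ Y'}
    {eX : X' ⟶ X} {b : Y' ⟶ Y} (sq : IsPullback eX f' f b) (Z : Set X) :
    fibClosure f' (eX ⁻¹' Z) = eX ⁻¹' fibClosure f Z := by
  ext x'
  have hb : f (eX x') = b (f' x') := by
    rw [← Scheme.Hom.comp_apply, sq.w, Scheme.Hom.comp_apply]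
  let r : Spec (Y'.residueField (f' x')) ⟶ Spec (Y.residueField (f (eX x'))) :=
    Spec.map ((Y.residueFieldCongr hb).hom ≫ b.residueFieldMap (f' x'))
  have hr : r ≫ Y.fromSpecResidueField (f (eX x')) = Y'.fromSpecResidueField (f' x') ≫ b := by
    simp [r, Spec.map_comp, Category.assoc]
  let π : f'.fiber (f' x') ⟶ f.fiber (f (eX x')) :=
    pullback.lift (f'.fiberι _ ≫ eX) (f'.fiberToSpecResidueField _ ≫ r)
      (by rw [Category.assoc, Category.assoc, sq.w, hr, ← Category.assoc, ← Category.assoc]
          exact congrArg (· ≫ b) (f'.fiber_fac _))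
  have hπ : IsPullback π (f'.fiberToSpecResidueField (f' x'))
      (f.fiberToSpecResidueField (f (eX x'))) r := by
    refine IsPullback.of_right ?_ (pullback.lift_snd _ _ _)
      (IsPullback.of_hasPullback f (Y.fromSpecResidueField (f (eX x'))))
    rw [pullback.lift_fst, hr]
    exact (IsPullback.of_hasPullback f' (Y'.fromSpecResidueField (f' x'))).paste_horiz sq
  have : UniversallyOpen π := MorphismProperty.of_isPullback hπ.flip inferInstance
  have hπι : π ≫ f.fiberι _ = f'.fiberι _ ≫ eX := pullback.lift_fst _ _ _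
  have hx : π (f'.asFiber x') = f.asFiber (eX x') := by
    refine (f.fiberι _).isEmbedding.injective ?_
    rw [Scheme.Hom.fiberι_asFiber, ← Scheme.Hom.comp_apply, hπι,
      Scheme.Hom.comp_apply, Scheme.Hom.fiberι_asFiber]
  have hpre : π ⁻¹' (f.fiberι _ ⁻¹' Z) = f'.fiberι _ ⁻¹' (eX ⁻¹' Z) := by
    ext z
    simp only [Set.mem_preimage]
    rw [← Scheme.Hom.comp_apply, hπι, Scheme.Hom.comp_apply]
  rw [Set.mem_preimage, mem_fibClosure_iff, mem_fibClosure_iff, ← hx, ← hpre,
    ← π.isOpenMap.preimage_closure_eq_closure_preimage π.continuous]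
  rfl

open PrimeSpectrum in
theorem isConstructible_fibClosure_map {A : Type u} [CommRing A] (A₀ : Type u) [CommRing A₀]
    [IsNoetherianRing A₀] [Algebra A₀ A] (n : ℕ)
    (c₀ : BasicConstructibleSetData (MvPolynomial (Fin n) A₀)) :
    IsConstructible (fibClosure (comap (algebraMap A (MvPolynomial (Fin n) A)))
      (c₀.map (MvPolynomial.map (algebraMap A₀ A))).toSet) := by
  let b : Spec (CommRingCat.of A) ⟶ Spec (CommRingCat.of A₀) :=
    Spec.map (CommRingCat.ofHom (algebraMap A₀ A))
  let f' : Spec (CommRingCat.of (MvPolynomial (Fin n) A)) ⟶ Spec (CommRingCat.of A) :=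
    Spec.map (CommRingCat.ofHom (algebraMap A (MvPolynomial (Fin n) A)))
  let φ₀ : Spec (CommRingCat.of (MvPolynomial (Fin n) A₀)) ⟶ Spec (CommRingCat.of A₀) :=
    Spec.map (CommRingCat.ofHom (algebraMap A₀ (MvPolynomial (Fin n) A₀)))
  let eX : Spec (CommRingCat.of (MvPolynomial (Fin n) A)) ⟶
      Spec (CommRingCat.of (MvPolynomial (Fin n) A₀)) :=
    Spec.map (CommRingCat.ofHom (MvPolynomial.map (algebraMap A₀ A)))
  let e : Spec (CommRingCat.of (MvPolynomial (Fin n) A)) ≅ pullback b φ₀ :=
    Scheme.Spec.mapIso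
      (MvPolynomial.algebraTensorAlgEquiv A₀ A).toRingEquiv.toCommRingCatIso.op ≪≫
      (pullbackSpecIso A₀ A (MvPolynomial (Fin n) A₀)).symm
  have he1 : e.hom ≫ pullback.fst b φ₀ = f' := by
    simp only [e, Iso.trans_hom, Iso.symm_hom, Category.assoc, b, φ₀, pullbackSpecIso_inv_fst]
    show Spec.map _ ≫ Spec.map _ = _
    rw [← Spec.map_comp]
    congr 1
    ext1
    exact RingHom.ext fun r => (MvPolynomial.algebraTensorAlgEquiv A₀ A).commutes r
  have he2 : e.hom ≫ pullback.snd b φ₀ = eX := by
    simp only [e, Iso.trans_hom, Iso.symm_hom, Category.assoc, b, φ₀, pullbackSpecIso_inv_snd]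
    show Spec.map _ ≫ Spec.map _ = _
    rw [← Spec.map_comp]
    congr 1
    ext1
    refine RingHom.ext fun P => ?_
    show MvPolynomial.algebraTensorAlgEquiv A₀ A ((1 : A) ⊗ₜ[A₀] P) = _
    rw [MvPolynomial.algebraTensorAlgEquiv_tmul, one_smul]
    rfl
  have sq : IsPullback eX f' φ₀ b := by
    rw [← he1, ← he2]
    exact (IsPullback.of_hasPullback b φ₀).flip.of_iso e.symm (Iso.refl _) (Iso.refl _)
      (Iso.refl _) (by simp) (by simp) (by simp) (by simp)
  rw [BasicConstructibleSetData.toSet_map]
  have h1 := fibClosure_preimage sq (c₀.toSet : Set (PrimeSpectrum (MvPolynomial (Fin n) A₀)))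
  refine (congrArg IsConstructible h1).mpr ?_
  refine ConsPreimage.isConstructible_preimage_affine eX ?_
  have := isConstructible_fibClosure_basic (A := A₀) (B := MvPolynomial (Fin n) A₀) c₀.f
    (Ideal.span (Set.range c₀.g))
  rwa [zeroLocus_span] at this

open PrimeSpectrum in
theorem isConstructible_fibClosure_mvPolynomial {A : Type u} [CommRing A] (n : ℕ)
    {Z : Set (PrimeSpectrum (MvPolynomial (Fin n) A))} (hZ : IsConstructible Z) :
    IsConstructible (fibClosure (comap (algebraMap A (MvPolynomial (Fin n) A))) Z) := by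
  classical
  obtain ⟨Sd, rfl⟩ := exists_constructibleSetData_iff.2 hZ
  induction Sd using Finset.induction with
  | empty => simp [ConstructibleSetData.toSet, fibClosure_empty]
  | insert c t _ ih =>
    have e : ConstructibleSetData.toSet (insert c t) = c.toSet ∪ ConstructibleSetData.toSet t := by
      simp [ConstructibleSetData.toSet]
    rw [e, fibClosure_union]
    refine IsConstructible.union ?_ (ih (ConstructibleSetData.isConstructible_toSet t))
    -- the coefficients
    let coef : Finset A := c.f.support.image (fun m => c.f.coeff m) ∪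
      Finset.univ.biUnion (fun i => (c.g i).support.image (fun m => (c.g i).coeff m))
    let A₀ : Subalgebra ℤ A := Algebra.adjoin ℤ (coef : Set A)
    have : Algebra.FiniteType ℤ A₀ := .adjoin_of_finite coef.finite_toSet
    have : IsNoetherianRing A₀ := Algebra.FiniteType.isNoetherianRing ℤ A₀
    have hlift : ∀ P : MvPolynomial (Fin n) A, P.support.image (fun m => P.coeff m) ⊆ coef →
        ∃ P₀ : MvPolynomial (Fin n) A₀, MvPolynomial.map (algebraMap A₀ A) P₀ = P := by
      intro P hP
      refine MvPolynomial.mem_range_map_iff_coeffs_subset.2 fun a ha => ?_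
      obtain ⟨m, hm, rfl⟩ := MvPolynomial.mem_coeffs_iff.1 ha
      exact ⟨⟨_, Algebra.subset_adjoin (hP (Finset.mem_image_of_mem _ hm))⟩, rfl⟩
    obtain ⟨f₀, hf₀⟩ := hlift c.f Finset.subset_union_left
    choose g₀ hg₀ using fun i => hlift (c.g i) ((Finset.subset_biUnion_of_mem
      (fun i => (c.g i).support.image (fun m => (c.g i).coeff m)) (Finset.mem_univ i)).trans
        Finset.subset_union_right)
    rw [show c = (⟨f₀, c.n, g₀⟩ : BasicConstructibleSetData (MvPolynomial (Fin n) A₀)).map
        (MvPolynomial.map (algebraMap A₀ A)) from BasicConstructibleSetData.ext hf₀.symm rfl (by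
          simp only [BasicConstructibleSetData.map_g, heq_eq_eq]
          exact funext fun i => (hg₀ i).symm)]
    exact isConstructible_fibClosure_map A₀ n _

open PrimeSpectrum in
theorem isConstructible_fibClosure_spec {A B : Type u} [CommRing A] [CommRing B] [Algebra A B]
    [Algebra.FinitePresentation A B] {Z : Set (PrimeSpectrum B)} (hZ : IsConstructible Z) :
    IsConstructible (fibClosure (comap (algebraMap A B)) Z) := by
  obtain ⟨n, π, hπ, hker⟩ := ‹Algebra.FinitePresentation A B›.out
  have hi : IsClosedEmbedding (comap π.toRingHom) :=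
    isClosedEmbedding_comap_of_surjective _ π.toRingHom hπ
  have hcomp : comap (algebraMap A B) =
      comap (algebraMap A (MvPolynomial (Fin n) A)) ∘ comap π.toRingHom := by
    rw [← π.comp_algebraMap]
    exact funext fun x => comap_comp_apply _ _ x
  rw [hcomp, fibClosure_image_isClosedEmbedding hi]
  have himg : IsConstructible (comap π.toRingHom '' Z) :=
    isConstructible_comap_image (RingHom.FinitePresentation.of_surjective _ hπ hker) hZ
  have h := isConstructible_fibClosure_mvPolynomial n himg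
  exact h.preimage (continuous_comap _) fun t hto ht => by
    have := ht.isCompact
    exact (hi.isCompact_preimage this).isRetrocompact (hto.preimage (continuous_comap _))

variable {X S : Scheme.{u}} (f : X ⟶ S)

theorem isLocallyConstructible_fibClosure [LocallyOfFinitePresentation f] {Z : Set X}
    (hZ : IsLocallyConstructible Z) : IsLocallyConstructible (fibClosure f Z) := by
  intro x
  obtain ⟨V, hV, hxV, -⟩ :=
    exists_isAffineOpen_mem_and_subset (X := S) (x := f x) (U := ⊤) trivial
  obtain ⟨W, hW, hxW, hWV⟩ :=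
    exists_isAffineOpen_mem_and_subset (X := X) (x := x) (U := f ⁻¹ᵁ V) hxV
  have hWV' : W ≤ f ⁻¹ᵁ V := hWV
  have : IsAffine V := hV
  have : IsAffine W := hW
  refine ⟨W, W.2.mem_nhds hxW, W.2, ?_⟩
  let g := f.resLE V W hWV'
  have hfp : g.appTop.hom.FinitePresentation :=
    HasRingHomProperty.appTop @LocallyOfFinitePresentation g inferInstance
  let i : Spec Γ(W, ⊤) ⟶ X := W.toScheme.isoSpec.inv ≫ W.ι
  let Z' : Set (Spec Γ(W, ⊤)) := i ⁻¹' Z
  have hZ' : IsLocallyConstructible Z' := ConsPreimage.isLocallyConstructible_preimage i hZ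
  have h2 : IsConstructible (fibClosure (Spec.map g.appTop) Z') := by
    letI : Algebra Γ(V, ⊤) Γ(W, ⊤) := g.appTop.hom.toAlgebra
    have : Algebra.FinitePresentation Γ(V, ⊤) Γ(W, ⊤) := hfp
    exact isConstructible_fibClosure_spec hZ'.isConstructible
  have h3 : fibClosure (Spec.map g.appTop) Z' = i ⁻¹' fibClosure f Z := by
    rw [← fibClosure_preimage_isOpenEmbedding i.isOpenEmbedding f Z,
      ← fibClosure_comp_injective (g := (V.toScheme.isoSpec.inv ≫ V.ι))
        (V.toScheme.isoSpec.inv ≫ V.ι).isOpenEmbedding.injective (Spec.map g.appTop) _]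
    congr 1
    funext z
    show (V.toScheme.isoSpec.inv ≫ V.ι) (Spec.map g.appTop z) = f (i z)
    rw [← Scheme.Hom.comp_apply, ← Scheme.Hom.comp_apply, Scheme.isoSpec_inv_naturality_assoc,
      Category.assoc, Scheme.Hom.resLE_comp_ι]
  rw [h3] at h2
  have h4 := ConsPreimage.isConstructible_preimage_affine W.toScheme.isoSpec.hom h2
  have h5 : W.toScheme.isoSpec.hom ⁻¹' (i ⁻¹' fibClosure f Z) =
      (Subtype.val ⁻¹' fibClosure f Z : Set W) := by
    ext w
    show i (W.toScheme.isoSpec.hom w) ∈ fibClosure f Z ↔ W.ι w ∈ fibClosure f Z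
    rw [← Scheme.Hom.comp_apply, Iso.hom_inv_id_assoc]
  exact h5 ▸ h4

theorem setOf_subset_closure_eq (Z Z' : Set X) :
    {s : S | Z' ∩ f ⁻¹' {s} ⊆ closure (Z ∩ f ⁻¹' {s})} = (f '' (Z' \ fibClosure f Z))ᶜ := by
  ext s
  constructor
  · rintro h ⟨x, ⟨hx, hxC⟩, rfl⟩
    exact hxC (h ⟨hx, rfl⟩)
  · rintro h x ⟨hx, rfl⟩
    by_contra hc
    exact h ⟨x, ⟨hx, hc⟩, rfl⟩

theorem isLocallyConstructible_setOf_subset_closure [LocallyOfFinitePresentation f] [QuasiCompact f]
    {Z Z' : Set X} (hZ : IsLocallyConstructible Z) (hZ' : IsLocallyConstructible Z') :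
    IsLocallyConstructible {s : S | Z' ∩ f ⁻¹' {s} ⊆ closure (Z ∩ f ⁻¹' {s})} := by
  rw [setOf_subset_closure_eq]
  refine SurjLocus.compl_isLocallyConstructible (f.isLocallyConstructible_image ?_)
  exact hZ'.inter (SurjLocus.compl_isLocallyConstructible (isLocallyConstructible_fibClosure f hZ))

end Groth.Agent.H47.FibreClosure

namespace Groth.Agent.H47.FibreClosure

variable {X S : Scheme.{u}} (f : X ⟶ S)

theorem closure_val_preimage (Z : Set X) (s : S) :
    closure (Subtype.val ⁻¹' Z : Set ↥(f ⁻¹' {s})) = Subtype.val ⁻¹' fibClosure f Z := by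
  ext ⟨x, hx⟩
  rw [Set.mem_preimage, ← mem_closure_inter_range IsEmbedding.subtypeVal, Subtype.range_coe_subtype]
  show x ∈ closure (Z ∩ f ⁻¹' {s}) ↔ x ∈ closure (Z ∩ f ⁻¹' {f x})
  rw [show f x = s from hx]

theorem isLocallyConstructible_setOf_isClosed [LocallyOfFinitePresentation f] [QuasiCompact f]
    {Z : Set X} (hZ : IsLocallyConstructible Z) :
    IsLocallyConstructible {s : S | IsClosed (Subtype.val ⁻¹' Z : Set ↥(f ⁻¹' {s}))} := by
  have e : {s : S | IsClosed (Subtype.val ⁻¹' Z : Set ↥(f ⁻¹' {s}))} =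
      (f '' (fibClosure f Z \ Z))ᶜ := by
    ext s
    show IsClosed (Subtype.val ⁻¹' Z : Set ↥(f ⁻¹' {s})) ↔ _
    rw [← closure_subset_iff_isClosed, closure_val_preimage]
    constructor
    · rintro h ⟨x, ⟨hxC, hx⟩, hxs⟩
      exact hx (h (show (⟨x, hxs⟩ : ↥(f ⁻¹' {s})) ∈ Subtype.val ⁻¹' fibClosure f Z from hxC))
    · rintro h ⟨x, hxs⟩ hxC
      by_contra hc
      exact h ⟨x, ⟨hxC, hc⟩, hxs⟩
  rw [e]
  refine SurjLocus.compl_isLocallyConstructible (f.isLocallyConstructible_image ?_)
  exact (isLocallyConstructible_fibClosure f hZ).inter (SurjLocus.compl_isLocallyConstructible hZ)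

theorem isLocallyConstructible_setOf_isOpen [LocallyOfFinitePresentation f] [QuasiCompact f]
    {Z : Set X} (hZ : IsLocallyConstructible Z) :
    IsLocallyConstructible {s : S | IsOpen (Subtype.val ⁻¹' Z : Set ↥(f ⁻¹' {s}))} := by
  simpa [Set.preimage_compl, isClosed_compl_iff] using
    isLocallyConstructible_setOf_isClosed f (SurjLocus.compl_isLocallyConstructible hZ)

theorem isLocallyConstructible_setOf_isLocallyClosed [LocallyOfFinitePresentation f]
    [QuasiCompact f] {Z : Set X} (hZ : IsLocallyConstructible Z) :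
    IsLocallyConstructible {s : S | IsLocallyClosed (Subtype.val ⁻¹' Z : Set ↥(f ⁻¹' {s}))} := by
  have e : ∀ s : S, IsLocallyClosed (Subtype.val ⁻¹' Z : Set ↥(f ⁻¹' {s})) ↔
      IsClosed (Subtype.val ⁻¹' (fibClosure f Z \ Z) : Set ↥(f ⁻¹' {s})) := by
    intro s
    rw [isLocallyClosed_iff_isOpen_coborder, coborder, isOpen_compl_iff, Set.preimage_sdiff,
      closure_val_preimage]
  simp only [e]
  exact isLocallyConstructible_setOf_isClosed f
    ((isLocallyConstructible_fibClosure f hZ).inter (SurjLocus.compl_isLocallyConstructible hZ))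

/-- dominance of the fibre maps -/
theorem isLocallyConstructible_isDominant {Y : Scheme.{u}} (h : X ⟶ Y) (g : Y ⟶ S)
    [LocallyOfFinitePresentation h] [QuasiCompact h]
    [LocallyOfFinitePresentation g] [QuasiCompact g] :
    IsLocallyConstructible
      {s : S | IsDominant (FibreLocus.bcMap h g (S.fromSpecResidueField s))} := by
  have e : {s : S | IsDominant (FibreLocus.bcMap h g (S.fromSpecResidueField s))} =
      {s : S | Set.univ ∩ g ⁻¹' {s} ⊆ closure (Set.range h ∩ g ⁻¹' {s})} := by
    ext s
    set ι := S.fromSpecResidueField s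
    have hr : Set.range (pullback.fst g ι) = g ⁻¹' {s} := by
      rw [Scheme.Pullback.range_fst, Scheme.range_fromSpecResidueField]
    show IsDominant _ ↔ _
    rw [isDominant_iff, DenseRange, Scheme.Pullback.range_snd]
    constructor
    · intro hd y hy
      obtain ⟨z, rfl⟩ := hr.symm.subset hy.2
      rw [← hr, mem_closure_inter_range (pullback.fst g ι).isEmbedding]
      exact hd z
    · intro hd z
      rw [← mem_closure_inter_range (pullback.fst g ι).isEmbedding, hr]
      exact hd ⟨trivial, hr.subset ⟨z, rfl⟩⟩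
  rw [e]
  refine isLocallyConstructible_setOf_subset_closure g ?_ IsLocallyConstructible.univ
  rw [← Set.image_univ]
  exact h.isLocallyConstructible_image IsLocallyConstructible.univ

end Groth.Agent.H47.FibreClosure
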