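import Groth.Agent.H47.ArtinFamily
import Groth.Agent.H52.FDesc.BaseChangeFlat
import Groth.Agent.Lib.Modules.GenStalk
import Mathlib.AlgebraicGeometry.Morphisms.UniversallyInjective
import Mathlib.AlgebraicGeometry.Morphisms.FiniteType

/-!
# Flatness at a point tested on a family of points of schemes over the base
-/

set_option autoImplicit false
set_option backward.isDefEq.respectTransparency false

universe u

open CategoryTheory CategoryTheory.Limits AlgebraicGeometry TensorProduct

namespace Groth.Agent.H47.ArtinScheme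

open Groth.Agent.H47.GrFlat Groth.Agent.H47.ArtinFamily Groth.Agent.H47.ArtinReg

noncomputable section

section algebra

variable {A P E : Type u} [CommRing A] [CommRing P] [Algebra A P] [CommRing E] [Algebra A E]
  {W : Type u} [AddCommGroup W] [Module A W] [Module P W] [IsScalarTower A P W]
  {L : Type u} [CommRing L] [Algebra P L] [Algebra (E ⊗[A] P) L]

set_option maxHeartbeats 1000000 in
/-- If `L` is a local flat algebra over `E ⊗ P` and `L ⊗ W` is flat over `E`, then `W` is flat over
`E` at the prime of `E ⊗ P` under the maximal ideal of `L`. -/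
theorem flatAt_of_flat_local [IsLocalRing L] [Module.Flat (E ⊗[A] P) L] [Module E (L ⊗[P] W)]
    (hP : ∀ p : P, algebraMap P L p = algebraMap (E ⊗[A] P) L (1 ⊗ₜ p))
    (hE : ∀ (e : E) (l : L) (w : W),
      e • (l ⊗ₜ[P] w) = (algebraMap (E ⊗[A] P) L (e ⊗ₜ 1) * l) ⊗ₜ[P] w)
    [Module.Flat E (L ⊗[P] W)] :
    FlatAt A W E ((IsLocalRing.maximalIdeal L).comap (algebraMap (E ⊗[A] P) L)) := by
  intro X Y _ _ _ _ _ _ _ _ f hf z hz
  let C := E ⊗[A] P
  have hlift : ∀ (V : Type u) [AddCommGroup V] [Module A V] [Module E V] [IsScalarTower A E V],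
      ∃ Ψ : V ⊗[A] W →+ (L ⊗[P] W) ⊗[E] V, ∀ v w, Ψ (v ⊗ₜ w) = ((1 : L) ⊗ₜ[P] w) ⊗ₜ[E] v := by
    intro V _ _ _ _
    refine ⟨TensorProduct.liftAddHom
      (AddMonoidHom.mk' (fun v => AddMonoidHom.mk' (fun w => ((1 : L) ⊗ₜ[P] w) ⊗ₜ[E] v)
          (fun a b => by rw [tmul_add, add_tmul]))
        (fun a b => by ext w; exact tmul_add _ _ _))
      (fun r v w => ?_), fun v w => rfl⟩
    show ((1 : L) ⊗ₜ[P] w) ⊗ₜ[E] (r • v) = ((1 : L) ⊗ₜ[P] (r • w)) ⊗ₜ[E] v
    rw [← algebraMap_smul E r v, ← TensorProduct.smul_tmul, hE, ← algebraMap_smul P r w,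
      TensorProduct.tmul_smul, TensorProduct.smul_tmul', Algebra.smul_def (R := P) (A := L), hP,
      Algebra.algebraMap_eq_smul_one (A := E) r, Algebra.algebraMap_eq_smul_one (A := P) r,
      TensorProduct.smul_tmul]
  obtain ⟨ΨX, hΨX⟩ := hlift X
  obtain ⟨ΨY, hΨY⟩ := hlift Y
  have hnat : ∀ y, ΨY (wmap (R := A) f (LinearMap.id : W →ₗ[P] W) y) =
      f.lTensor (L ⊗[P] W) (ΨX y) := by
    intro y
    induction y using TensorProduct.induction_on with
    | zero => simp
    | add a b ha hb => simp only [map_add, ha, hb]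
    | tmul v w => rw [wmap_tmul, LinearMap.id_apply, hΨY, hΨX, LinearMap.lTensor_tmul]
  have h0 : ΨX z = 0 := Module.Flat.lTensor_preserves_injective_linearMap f hf
    (by rw [← hnat, hz, map_zero, map_zero])
  -- back to `L ⊗ (X ⊗ W)`
  let Φ1 : X → (L ⊗[P] W →+ L ⊗[C] (X ⊗[A] W)) := fun v =>
    TensorProduct.liftAddHom
      (AddMonoidHom.mk' (fun l : L => AddMonoidHom.mk' (fun w => l ⊗ₜ[C] (v ⊗ₜ[A] w))
          (fun a b => by rw [tmul_add, tmul_add]))
        (fun a b => by ext w; exact add_tmul _ _ _))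
      (fun p l w => by
        show (p • l) ⊗ₜ[C] (v ⊗ₜ[A] w) = l ⊗ₜ[C] (v ⊗ₜ[A] (p • w))
        have e1 : (p • l : L) = ((1 : E) ⊗ₜ[A] p : C) • l := by
          rw [Algebra.smul_def, hP, Algebra.smul_def]
        rw [e1, TensorProduct.smul_tmul, tmul_smul_tmul, one_smul])
  have hΦ1 : ∀ v v' u, Φ1 (v + v') u = Φ1 v u + Φ1 v' u := by
    intro v v' u
    induction u using TensorProduct.induction_on with
    | zero => simp
    | add a b ha hb => simp only [map_add, ha, hb]; abel
    | tmul l w =>
      show l ⊗ₜ[C] ((v + v') ⊗ₜ[A] w) = l ⊗ₜ[C] (v ⊗ₜ[A] w) + l ⊗ₜ[C] (v' ⊗ₜ[A] w)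
      rw [add_tmul, tmul_add]
  let Φ : (L ⊗[P] W) ⊗[E] X →+ L ⊗[C] (X ⊗[A] W) :=
    TensorProduct.liftAddHom
      (AddMonoidHom.mk' (fun u : L ⊗[P] W => AddMonoidHom.mk' (fun v => Φ1 v u)
          (fun a b => hΦ1 a b u))
        (fun a b => by ext v; exact map_add (Φ1 v) a b))
      (fun e u v => by
        show Φ1 v (e • u) = Φ1 (e • v) u
        induction u using TensorProduct.induction_on with
        | zero => rw [smul_zero, map_zero, map_zero]
        | add a b ha hb => rw [smul_add, map_add, map_add, ha, hb]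
        | tmul l w =>
          rw [hE]
          show _ ⊗ₜ[C] (v ⊗ₜ[A] w) = l ⊗ₜ[C] ((e • v) ⊗ₜ[A] w)
          rw [← Algebra.smul_def, TensorProduct.smul_tmul, tmul_smul_tmul, one_smul])
  have h1 : ((1 : L) ⊗ₜ[C] z) = 0 := by
    have key : ∀ y, Φ (ΨX y) = (1 : L) ⊗ₜ[C] y := by
      intro y
      induction y using TensorProduct.induction_on with
      | zero => simp
      | add a b ha hb => simp only [map_add, ha, hb, tmul_add]
      | tmul v w => rw [hΨX]; rfl
    rw [← key, h0, map_zero]
  -- the cyclic submodule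
  by_contra! hne
  let I := Ideal.torsionOf C (X ⊗[A] W) z
  have hI : I ≤ (IsLocalRing.maximalIdeal L).comap (algebraMap C L) := fun s hs => by
    by_contra h
    exact hne s h hs
  let φ : C ⧸ I →ₗ[C] X ⊗[A] W := I.liftQ (LinearMap.toSpanSingleton C _ z) le_rfl
  have hφ : Function.Injective φ := by
    rw [← LinearMap.ker_eq_bot, Submodule.ker_liftQ_eq_bot]
    exact le_rfl
  have h2 : (1 : L) ⊗ₜ[C] (Submodule.Quotient.mk (1 : C) : C ⧸ I) = 0 :=
    Module.Flat.lTensor_preserves_injective_linearMap φ hφ (by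
      rw [map_zero, LinearMap.lTensor_tmul]
      show (1 : L) ⊗ₜ[C] ((1 : C) • z) = 0
      rw [one_smul]
      exact h1)
  let ev : L ⊗[C] (C ⧸ I) →ₗ[C] L ⧸ I.map (algebraMap C L) :=
    TensorProduct.lift (LinearMap.mk₂ C
      (fun (l : L) (c : C ⧸ I) => Ideal.Quotient.mk (I.map (algebraMap C L)) l *
        Ideal.Quotient.lift I ((Ideal.Quotient.mk _).comp (algebraMap C L))
          (fun a ha => Ideal.Quotient.eq_zero_iff_mem.2 (Ideal.mem_map_of_mem _ ha)) c)
      (fun a b c => by rw [map_add, add_mul])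
      (fun r a c => by
        rw [Algebra.smul_def, Algebra.smul_def, map_mul, mul_assoc]
        rfl)
      (fun a b c => by rw [map_add, mul_add])
      (fun r a c => by
        obtain ⟨c, rfl⟩ := Ideal.Quotient.mk_surjective c
        show Ideal.Quotient.mk (I.map (algebraMap C L)) a *
            Ideal.Quotient.lift I ((Ideal.Quotient.mk _).comp (algebraMap C L))
              (fun a ha => Ideal.Quotient.eq_zero_iff_mem.2 (Ideal.mem_map_of_mem _ ha))
              (Ideal.Quotient.mk I (r * c)) = _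
        rw [Algebra.smul_def, Ideal.Quotient.lift_mk, Ideal.Quotient.lift_mk, RingHom.comp_apply,
          RingHom.comp_apply, map_mul (algebraMap C L),
          map_mul (Ideal.Quotient.mk (I.map (algebraMap C L)))]
        exact mul_left_comm _ _ _))
  have h3 := congrArg ev h2
  rw [map_zero] at h3
  simp [ev] at h3
  have h4 : (1 : L) ∈ I.map (algebraMap C L) := by
    rw [← Ideal.Quotient.eq_zero_iff_mem]
    simpa using h3
  exact (IsLocalRing.maximalIdeal.isMaximal L).ne_top
    ((Ideal.eq_top_iff_one _).2 (Ideal.map_le_iff_le_comap.2 hI h4))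

end algebra

variable {X S Y : Scheme.{u}} (f : X ⟶ S) (g : Y ⟶ S)

/-- the map between local rings induced by `g` -/
def psi (x : X) (y : Y) (h : g y = f x) : S.presheaf.stalk (f x) ⟶ Y.presheaf.stalk y :=
  S.presheaf.stalkSpecializes (specializes_of_eq h) ≫ g.stalkMap y

theorem isLocalHom_psi (x : X) (y : Y) (h : g y = f x) : IsLocalHom (psi f g x y h).hom := by
  have : IsIso (S.presheaf.stalkSpecializes (specializes_of_eq h)) :=
    inferInstanceAs (IsIso (S.presheaf.stalkCongr (Inseparable.of_eq h.symm)).hom)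
  refine ⟨fun a ha => ?_⟩
  have h1 : IsUnit ((S.presheaf.stalkSpecializes (specializes_of_eq h)).hom a) :=
    (isUnit_map_iff (g.stalkMap y).hom _).1 ha
  exact (isUnit_map_iff (asIso (S.presheaf.stalkSpecializes (specializes_of_eq h))).commRingCatIsoToRingEquiv a).1 h1

theorem specMap_psi (x : X) (y : Y) (h : g y = f x) :
    Spec.map (psi f g x y h) ≫ S.fromSpecStalk (f x) = Y.fromSpecStalk y ≫ g := by
  rw [psi, Spec.map_comp, Category.assoc, Scheme.SpecMap_stalkSpecializes_fromSpecStalk,
    Scheme.SpecMap_stalkMap_fromSpecStalk]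

/-- `Spec (O_{Y,y} ⊗ O_{X,x})` -/
abbrev stalkTensor (x : X) (y : Y) (h : g y = f x) : Type u :=
  letI := (f.stalkMap x).hom.toAlgebra
  letI := (psi f g x y h).hom.toAlgebra
  Y.presheaf.stalk y ⊗[S.presheaf.stalk (f x)] X.presheaf.stalk x

set_option maxHeartbeats 1000000 in
/-- The local rings of a fibre product and flatness at primes of the tensor product of local rings. -/
theorem flatAt_of_isFlatOverAt (M : X.Modules) (x : X) (y : Y) (h : g y = f x) :
    letI := (f.stalkMap x).hom.toAlgebra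
    letI := (psi f g x y h).hom.toAlgebra
    letI := FlatMod.moduleStalkOver f M x
    haveI : IsScalarTower (S.presheaf.stalk (f x)) (X.presheaf.stalk x) (M.presheaf.stalk x) :=
      ⟨fun r a w => mul_smul ((f.stalkMap x).hom r) a w⟩
    (∀ Q : Ideal (Y.presheaf.stalk y ⊗[S.presheaf.stalk (f x)] X.presheaf.stalk x), Q.IsPrime →
      closedIdeal (X.presheaf.stalk x) (Y.presheaf.stalk y) ≤ Q →
        ∃ x' : ↥(pullback f g), pullback.fst f g x' = x ∧ pullback.snd f g x' = y ∧
          (FlatMod.IsFlatOverAt (pullback.snd f g)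
              ((Scheme.Modules.pullback (pullback.fst f g)).obj M) x' →
            FlatAt (S.presheaf.stalk (f x)) (M.presheaf.stalk x) (Y.presheaf.stalk y) Q)) ∧
    (∀ x' : ↥(pullback f g), pullback.fst f g x' = x → pullback.snd f g x' = y →
      FlatMod.IsFlatOverAt (pullback.snd f g)
          ((Scheme.Modules.pullback (pullback.fst f g)).obj M) x' →
      ∃ Q : Ideal (Y.presheaf.stalk y ⊗[S.presheaf.stalk (f x)] X.presheaf.stalk x), Q.IsPrime ∧
        closedIdeal (X.presheaf.stalk x) (Y.presheaf.stalk y) ≤ Q ∧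
          FlatAt (S.presheaf.stalk (f x)) (M.presheaf.stalk x) (Y.presheaf.stalk y) Q) := by
  let R := S.presheaf.stalk (f x)
  let P := X.presheaf.stalk x
  let E := Y.presheaf.stalk y
  let _ : Algebra R P := (f.stalkMap x).hom.toAlgebra
  let _ : Algebra R E := (psi f g x y h).hom.toAlgebra
  let _ : Module R (M.presheaf.stalk x) := FlatMod.moduleStalkOver f M x
  have : IsScalarTower R P (M.presheaf.stalk x) := ⟨fun r a w => mul_smul ((f.stalkMap x).hom r) a w⟩
  let inl : Spec (CommRingCat.of (E ⊗[R] P)) ⟶ Spec E :=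
    Spec.map (CommRingCat.ofHom (Algebra.TensorProduct.includeLeftRingHom : E →+* E ⊗[R] P))
  let inr : Spec (CommRingCat.of (E ⊗[R] P)) ⟶ Spec P :=
    Spec.map (CommRingCat.ofHom (Algebra.TensorProduct.includeRight : P →ₐ[R] E ⊗[R] P).toRingHom)
  have hin : inl ≫ Spec.map (psi f g x y h) = inr ≫ Spec.map (f.stalkMap x) := by
    refine (Spec.map_comp (psi f g x y h) _).symm.trans
      ((congrArg Spec.map ?_).trans (Spec.map_comp (f.stalkMap x) _))
    ext r
    exact Algebra.TensorProduct.tmul_one_eq_one_tmul (A := E) (B := P) r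
  let j : Spec (CommRingCat.of (E ⊗[R] P)) ⟶ pullback f g :=
    pullback.lift (inr ≫ X.fromSpecStalk x) (inl ≫ Y.fromSpecStalk y) (by
      rw [Category.assoc, Category.assoc, ← Scheme.SpecMap_stalkMap_fromSpecStalk,
        ← specMap_psi f g x y h, ← Category.assoc inl, hin, Category.assoc])
  have hj : Mono j := ⟨fun {W} u v huv => by
    have h1 := congr($huv ≫ pullback.fst f g)
    have h2 := congr($huv ≫ pullback.snd f g)
    simp only [Category.assoc, j, pullback.lift_fst, pullback.lift_snd] at h1 h2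
    rw [← Category.assoc, ← Category.assoc, cancel_mono] at h1 h2
    rw [← cancel_mono (pullbackSpecIso R E P).inv]
    ext1 <;> rw [Category.assoc, Category.assoc]
    · rw [pullbackSpecIso_inv_fst]; exact h2
    · rw [pullbackSpecIso_inv_snd]; exact h1⟩
  -- the point of the fibre product attached to a prime
  have hpts : ∀ Q : PrimeSpectrum (E ⊗[R] P), closedIdeal P E ≤ Q.asIdeal →
      pullback.fst f g (j Q) = x ∧ pullback.snd f g (j Q) = y := by
    intro Q hQ
    have hr : inr Q = IsLocalRing.closedPoint P := PrimeSpectrum.ext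
      (((IsLocalRing.maximalIdeal.isMaximal P).eq_of_le (Ideal.IsPrime.comap _).ne_top fun p hp => hQ (by
        show resMap (A := R) _ _ (1 ⊗ₜ[R] p) = 0
        rw [Algebra.TensorProduct.map_tmul, Ideal.Quotient.mkₐ_eq_mk, Ideal.Quotient.mkₐ_eq_mk,
          Ideal.Quotient.eq_zero_iff_mem.2 hp, TensorProduct.tmul_zero])).symm)
    have hl : inl Q = IsLocalRing.closedPoint E := PrimeSpectrum.ext
      (((IsLocalRing.maximalIdeal.isMaximal E).eq_of_le (Ideal.IsPrime.comap _).ne_top fun p hp => hQ (by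
        show resMap (A := R) _ _ (p ⊗ₜ[R] 1) = 0
        rw [Algebra.TensorProduct.map_tmul, Ideal.Quotient.mkₐ_eq_mk, Ideal.Quotient.mkₐ_eq_mk,
          Ideal.Quotient.eq_zero_iff_mem.2 hp, TensorProduct.zero_tmul])).symm)
    constructor
    · rw [← Scheme.Hom.comp_apply, pullback.lift_fst, Scheme.Hom.comp_apply, hr,
        Scheme.fromSpecStalk_closedPoint]
    · rw [← Scheme.Hom.comp_apply, pullback.lift_snd, Scheme.Hom.comp_apply, hl,
        Scheme.fromSpecStalk_closedPoint]
  -- the prime attached to a point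
  have hmain : ∀ x' : ↥(pullback f g), pullback.fst f g x' = x → pullback.snd f g x' = y →
      ∃ Q : PrimeSpectrum (E ⊗[R] P), closedIdeal P E ≤ Q.asIdeal ∧ j Q = x' ∧
        (FlatMod.IsFlatOverAt (pullback.snd f g)
            ((Scheme.Modules.pullback (pullback.fst f g)).obj M) x' →
          FlatAt R (M.presheaf.stalk x) E Q.asIdeal) := by
    intro x' hx hy
    subst hx hy
    let L := (pullback f g).presheaf.stalk x'
    let πP : P ⟶ L := (pullback.fst f g).stalkMap x'
    let πE : E ⟶ L := (pullback.snd f g).stalkMap x'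
    have hcomm : f.stalkMap (pullback.fst f g x') ≫ πP =
        psi f g _ (pullback.snd f g x') h ≫ πE := by
      apply Spec.map_injective
      rw [← cancel_mono (S.fromSpecStalk (f (pullback.fst f g x'))), Spec.map_comp, Spec.map_comp,
        Category.assoc, Category.assoc, specMap_psi, Scheme.SpecMap_stalkMap_fromSpecStalk,
        ← Category.assoc, ← Category.assoc, Scheme.SpecMap_stalkMap_fromSpecStalk,
        Scheme.SpecMap_stalkMap_fromSpecStalk, Category.assoc, Category.assoc, pullback.condition]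
    let _ : Algebra P L := πP.hom.toAlgebra
    let _ : Algebra R L := (πP.hom.comp (f.stalkMap (pullback.fst f g x')).hom).toAlgebra
    let iP : P →ₐ[R] L := { πP.hom with commutes' := fun r => rfl }
    let iE : E →ₐ[R] L := { πE.hom with commutes' := fun r => (congr($(hcomm).hom r)).symm }
    let θ : E ⊗[R] P →ₐ[R] L := Algebra.TensorProduct.lift iE iP fun _ _ => Commute.all _ _
    let _ : Algebra (E ⊗[R] P) L := θ.toRingHom.toAlgebra
    let a : Spec L ⟶ Spec (CommRingCat.of (E ⊗[R] P)) :=
      Spec.map (CommRingCat.ofHom θ.toRingHom : CommRingCat.of (E ⊗[R] P) ⟶ L)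
    have hP : a ≫ inr = Spec.map πP := by
      refine (Spec.map_comp (_ : P ⟶ CommRingCat.of (E ⊗[R] P)) _).symm.trans (congrArg Spec.map ?_)
      ext z; show θ (1 ⊗ₜ z) = πP.hom z; simp [θ, iP]
    have hE : a ≫ inl = Spec.map πE := by
      refine (Spec.map_comp (_ : E ⟶ CommRingCat.of (E ⊗[R] P)) _).symm.trans (congrArg Spec.map ?_)
      ext z; show θ (z ⊗ₜ 1) = πE.hom z; simp [θ, iE]
    have haj : a ≫ j = (pullback f g).fromSpecStalk x' := by
      apply pullback.hom_ext
      · rw [Category.assoc, pullback.lift_fst, ← Category.assoc, hP,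
          Scheme.SpecMap_stalkMap_fromSpecStalk]
      · rw [Category.assoc, pullback.lift_snd, ← Category.assoc, hE,
          Scheme.SpecMap_stalkMap_fromSpecStalk]
    refine ⟨a (IsLocalRing.closedPoint L), ?_, ?_, fun hflat => ?_⟩
    · refine closedIdeal_le (P := P) (E := E) _ ?_ ?_
      · intro e he
        show θ (e ⊗ₜ 1) ∈ IsLocalRing.maximalIdeal L
        rw [show θ (e ⊗ₜ 1) = πE.hom e by simp [θ, iE]]
        exact map_nonunit πE.hom e he
      · intro p hp
        show θ (1 ⊗ₜ p) ∈ IsLocalRing.maximalIdeal L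
        rw [show θ (1 ⊗ₜ p) = πP.hom p by simp [θ, iP]]
        exact map_nonunit πP.hom p hp
    · rw [← Scheme.Hom.comp_apply, haj, Scheme.fromSpecStalk_closedPoint]
    have : Flat a := MorphismProperty.of_isPullback (P := @Flat)
      (H52.FDesc.BaseChangeFlat.isPullback_of_mono a j _ haj).flip
      (Groth.Agent.H52.FBase.StalkBC.flat_fromSpecStalk x')
    have : Module.Flat (E ⊗[R] P) L := (HasRingHomProperty.Spec_iff (P := @Flat)).mp this
    let W := M.presheaf.stalk (pullback.fst f g x')
    let _ : Module E (L ⊗[P] W) := Module.compHom _ πE.hom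
    let V := ((Scheme.Modules.pullback (pullback.fst f g)).obj M).presheaf.stalk x'
    let _ : Module E V := FlatMod.moduleStalkOver (pullback.snd f g) _ x'
    let e : L ⊗[P] W ≃ₗ[L] V :=
      ((Lib.DerivedOX.PullbackStalk.pullbackStalkIso (pullback.fst f g) x').app M).toLinearEquiv
    let e' : (L ⊗[P] W) ≃ₗ[E] V :=
      { e with
        map_smul' := fun s z => by
          show e (πE.hom s • z) = πE.hom s • e z
          rw [map_smul] }
    have : Module.Flat E V := hflat
    have : Module.Flat E (L ⊗[P] W) := Module.Flat.of_linearEquiv e'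
    exact flatAt_of_flat_local (A := R) (P := P) (E := E) (L := L) (W := W)
      (fun p => (show θ (1 ⊗ₜ p) = πP.hom p by simp [θ, iP]).symm) (fun s l w => by
        show (πE.hom s • l) ⊗ₜ[P] w = _
        congr 1
        show πE.hom s * l = θ (s ⊗ₜ 1) * l
        rw [show θ (s ⊗ₜ 1) = πE.hom s by simp [θ, iE]])
  refine ⟨fun Q hQ hle => ?_, fun x' hx hy hflat => ?_⟩
  · obtain ⟨hx, hy⟩ := hpts ⟨Q, hQ⟩ hle
    obtain ⟨Q', -, hjQ, hQ'⟩ := hmain _ hx hy
    refine ⟨_, hx, hy, fun hflat => ?_⟩
    have := hQ' hflat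
    rwa [j.injective hjQ] at this
  · obtain ⟨Q, hle, -, hQ⟩ := hmain x' hx hy
    exact ⟨Q.asIdeal, Q.isPrime, hle, hQ hflat⟩

/-- Primary residue extension: relatively separably closed. -/
def Primary (x : X) : Prop :=
  letI := (f.residueFieldMap x).hom.toAlgebra
  ∀ a : ↑(X.residueField x), IsSeparable ↑(S.residueField (f x)) a →
    a ∈ (f.residueFieldMap x).hom.range

set_option maxHeartbeats 1000000 in
/-- Flatness at a point from a separating family of points of schemes over the base. -/
theorem isFlatOverAt_of_family [IsLocallyNoetherian S] [LocallyOfFiniteType f] (F : X.Modules)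
    (hF : Coh.IsCoh F) (x : X) {ι : Type u} (Y : ι → Scheme.{u}) (g : ∀ i, Y i ⟶ S)
    (y : ∀ i, Y i) (h : ∀ i, g i (y i) = f x)
    (hfam : ∀ N : ℕ, ∃ (κ : Type u) (_ : Finite κ) (i : κ → ι)
        (I : ∀ j, Ideal ((Y (i j)).presheaf.stalk (y (i j)))),
      (⨅ j, (I j).comap (psi f (g (i j)) x (y (i j)) (h _)).hom) ≤
          IsLocalRing.maximalIdeal (S.presheaf.stalk (f x)) ^ N ∧
        ∃ c, IsLocalRing.maximalIdeal (S.presheaf.stalk (f x)) ^ c ≤
          ⨅ j, (I j).comap (psi f (g (i j)) x (y (i j)) (h _)).hom)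
    (hflat : ∀ i,
      (∀ x' : ↥(pullback f (g i)), pullback.fst f (g i) x' = x → pullback.snd f (g i) x' = y i →
        FlatMod.IsFlatOverAt (pullback.snd f (g i))
          ((Scheme.Modules.pullback (pullback.fst f (g i))).obj F) x') ∨
      (Primary f x ∧ ∃ x' : ↥(pullback f (g i)), pullback.fst f (g i) x' = x ∧
        pullback.snd f (g i) x' = y i ∧ FlatMod.IsFlatOverAt (pullback.snd f (g i))
          ((Scheme.Modules.pullback (pullback.fst f (g i))).obj F) x')) :
    FlatMod.IsFlatOverAt f F x := by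
  have : IsLocallyNoetherian X := LocallyOfFiniteType.isLocallyNoetherian f
  have := hF.2
  have : Module.Finite (X.presheaf.stalk x) (F.presheaf.stalk x) :=
    Lib.Modules.GenStalk.finite_stalk F x
  let R := S.presheaf.stalk (f x)
  let P := X.presheaf.stalk x
  let _ : Algebra R P := (f.stalkMap x).hom.toAlgebra
  let _ : Module R (F.presheaf.stalk x) := FlatMod.moduleStalkOver f F x
  have : IsScalarTower R P (F.presheaf.stalk x) := ⟨fun r a w => mul_smul ((f.stalkMap x).hom r) a w⟩
  have hlocP : IsLocalHom (algebraMap R P) := inferInstanceAs (IsLocalHom (f.stalkMap x).hom)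
  let E : ι → Type u := fun i => (Y i).presheaf.stalk (y i)
  let _ : ∀ i, Algebra R (E i) := fun i => (psi f (g i) x (y i) (h i)).hom.toAlgebra
  show Module.Flat R (F.presheaf.stalk x)
  refine flat_of_family (P := P) E (fun i => ?_) hfam
  have hJE : (IsLocalRing.maximalIdeal R).map (algebraMap R (E i)) ≤ IsLocalRing.maximalIdeal (E i) :=
    Ideal.map_le_iff_le_comap.2 fun r hr => by
      have := isLocalHom_psi f (g i) x (y i) (h i)
      exact map_nonunit (psi f (g i) x (y i) (h i)).hom r hr
  obtain ⟨hA, hB⟩ := flatAt_of_isFlatOverAt f (g i) F x (y i) (h i)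
  rcases hflat i with hall | ⟨hprim, x', hx, hy, hfl⟩
  · refine good_of_forall _ hJE fun Q hQ hle => ?_
    obtain ⟨x', hx, hy, hQ'⟩ := hA Q hQ hle
    exact hQ' (hall x' hx hy)
  · obtain ⟨Q, hQ, hle, hfA⟩ := hB x' hx hy hfl
    refine good_of_exists _ hJE (Ideal.map_le_iff_le_comap.2 fun r hr => map_nonunit _ r hr)
      (fun l ⟨p, hp, hp0⟩ => ?_) Q hle hfA
    obtain ⟨c, hc⟩ := hprim l (by
      letI : Algebra ↑(S.residueField (f x)) ↑(X.residueField x) := (f.residueFieldMap x).hom.toAlgebra
      refine Polynomial.Separable.of_dvd hp (minpoly.dvd _ _ ?_)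
      rw [← hp0, Polynomial.aeval_def]
      congr 1)
    obtain ⟨r, rfl⟩ := Ideal.Quotient.mk_surjective c
    exact ⟨r, hc⟩

end

end Groth.Agent.H47.ArtinScheme
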