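import Mathlib.RingTheory.Filtration
import Mathlib.RingTheory.QuasiFinite.Basic
import Mathlib.RingTheory.Ideal.GoingUp
import Mathlib.RingTheory.Localization.AtPrime.Basic
import Mathlib.RingTheory.Finiteness.Ideal
import Mathlib.RingTheory.IntegralClosure.IsIntegralClosure.Basic

/-!
# The maximal localisations of a finite extension separate the adic topology
-/

set_option autoImplicit false
set_option linter.style.haveILetI false

universe u

open IsLocalRing

namespace Groth.Agent.H47.FiniteInj

theorem comap_maximalIdeal_pow {A : Type u} [CommRing A] (p : Ideal A) [p.IsMaximal] (M : ℕ) :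
    Ideal.comap (algebraMap A (Localization.AtPrime p))
      (maximalIdeal (Localization.AtPrime p) ^ M) = p ^ M := by
  rw [← Localization.AtPrime.map_eq_maximalIdeal, ← Ideal.map_pow]
  refine le_antisymm (fun x hx => ?_) Ideal.le_comap_map
  obtain ⟨s, hs, hsx⟩ := (IsLocalization.algebraMap_mem_map_algebraMap_iff p.primeCompl
    (Localization.AtPrime p) _ x).mp hx
  rcases Nat.eq_zero_or_pos M with rfl | hM
  · simp
  have htop : Ideal.span {s} ⊔ p = ⊤ := by
    refine (show p.IsMaximal from inferInstance).out.2 _ (lt_of_le_not_ge le_sup_right fun h => hs ?_)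
    exact h (Ideal.mem_sup_left (Ideal.mem_span_singleton_self s))
  have htop' : Ideal.span {s} ⊔ p ^ M = ⊤ := Ideal.sup_pow_eq_top htop
  obtain ⟨a, ha, b, hb, hab⟩ := Submodule.mem_sup.mp ((Ideal.eq_top_iff_one _).mp htop')
  obtain ⟨c, rfl⟩ := Ideal.mem_span_singleton'.mp ha
  have : x = c * (s * x) + b * x := by rw [← mul_assoc, ← add_mul, hab, one_mul]
  rw [this]
  exact add_mem (Ideal.mul_mem_left _ _ hsx) (Ideal.mul_mem_right _ _ hb)

variable {R A : Type u} [CommRing R] [IsLocalRing R] [IsNoetherianRing R] [CommRing A]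
  [Algebra R A] [Module.Finite R A]

theorem under_eq (p : Ideal A) [p.IsMaximal] : p.comap (algebraMap R A) = maximalIdeal R :=
  eq_maximalIdeal (Ideal.isMaximal_comap_of_isIntegral_of_isMaximal p)

theorem exists_pow (hinj : Function.Injective (algebraMap R A)) (N : ℕ) :
    ∃ (s : Finset (MaximalSpectrum A)) (M : ℕ), ∀ r : R,
      (∀ p ∈ s, algebraMap R A r ∈ p.asIdeal ^ M) → r ∈ maximalIdeal R ^ N := by
  classical
  haveI : IsNoetherianRing A := IsNoetherianRing.of_finite R A
  have hfin : {p : MaximalSpectrum A | True}.Finite := by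
    refine Set.Finite.of_finite_image
      ((Algebra.QuasiFinite.finite_primesOver (S := A) (maximalIdeal R)).subset ?_)
      (fun a _ b _ h => MaximalSpectrum.ext h)
    rintro _ ⟨p, -, rfl⟩
    exact ⟨p.isMaximal.isPrime, ⟨(under_eq p.asIdeal).symm⟩⟩
  let s := hfin.toFinset
  have hs : ∀ p, p ∈ s := fun p => hfin.mem_toFinset.mpr trivial
  let I : Ideal A := (maximalIdeal R).map (algebraMap R A)
  obtain ⟨k, hk⟩ := Ideal.exists_radical_pow_le_of_fg I (IsNoetherian.noetherian _)
  obtain ⟨c, hc⟩ := Ideal.exists_pow_inf_eq_pow_smul (maximalIdeal R)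
    (LinearMap.range (Algebra.linearMap R A))
  refine ⟨s, k * (N + c), fun r hr => ?_⟩
  have hJ : (⨅ p ∈ s, p.asIdeal) ≤ I.radical := by
    intro a ha
    rw [Ideal.radical_eq_sInf, Submodule.mem_sInf]
    rintro q ⟨hIq, hq⟩
    haveI := hq
    have hq' : Ideal.comap (algebraMap R A) q = maximalIdeal R :=
      ((maximalIdeal.isMaximal R).eq_of_le (Ideal.IsPrime.ne_top')
        (Ideal.map_le_iff_le_comap.mp hIq)).symm
    haveI : Ideal.IsMaximal q := Ideal.isMaximal_of_isIntegral_of_isMaximal_comap q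
      (hq'.symm ▸ maximalIdeal.isMaximal R)
    simp only [Submodule.mem_iInf] at ha
    exact ha ⟨q, inferInstance⟩ (hs _)
  have hcop : ∀ n : ℕ, (s : Set (MaximalSpectrum A)).Pairwise
      (Function.onFun IsCoprime fun p => p.asIdeal ^ n) := fun n p _ q _ hpq => by
    have : IsCoprime p.asIdeal q.asIdeal :=
      Ideal.isCoprime_iff_sup_eq.mpr (p.isMaximal.coprime_of_ne q.isMaximal
        fun h => hpq (MaximalSpectrum.ext h))
    exact this.pow
  have h1 : algebraMap R A r ∈ ∏ p ∈ s, p.asIdeal ^ (k * (N + c)) := by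
    rw [Ideal.prod_eq_iInf_of_pairwise_isCoprime (hcop _)]
    simpa only [Submodule.mem_iInf] using hr
  have h2 : algebraMap R A r ∈ I ^ (N + c) := by
    rw [Finset.prod_pow] at h1
    have hle : ∏ p ∈ s, p.asIdeal ≤ I.radical :=
      le_trans (Ideal.prod_le_inf.trans (le_of_eq (Finset.inf_eq_iInf _ _))) hJ
    have := Ideal.pow_right_mono hle (k * (N + c)) h1
    rw [pow_mul] at this
    exact Ideal.pow_right_mono hk (N + c) this
  have h3 : algebraMap R A r ∈ maximalIdeal R ^ (N + c) • (⊤ : Submodule R A) ⊓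
      LinearMap.range (Algebra.linearMap R A) := by
    refine ⟨?_, r, rfl⟩
    rw [Ideal.smul_top_eq_map, SetLike.mem_coe, Submodule.restrictScalars_mem, Ideal.map_pow]
    exact h2
  rw [hc (N + c) (Nat.le_add_left _ _), Nat.add_sub_cancel] at h3
  have h4 : algebraMap R A r ∈ maximalIdeal R ^ N • LinearMap.range (Algebra.linearMap R A) :=
    Submodule.smul_mono le_rfl inf_le_right h3
  rw [LinearMap.range_eq_map, ← Submodule.map_smul''] at h4
  obtain ⟨r', hr', he⟩ := h4
  rw [← hinj he]
  simpa using hr'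

theorem htop (hinj : Function.Injective (algebraMap R A)) (N : ℕ) :
    ∃ s : Finset (MaximalSpectrum A × ℕ),
      ⨅ p ∈ s, Ideal.comap ((algebraMap A (Localization.AtPrime p.1.asIdeal)).comp (algebraMap R A))
        (maximalIdeal (Localization.AtPrime p.1.asIdeal) ^ p.2) ≤ maximalIdeal R ^ N := by
  obtain ⟨s, M, hM⟩ := exists_pow hinj N
  refine ⟨s.map ⟨fun p => (p, M), fun a b h => (Prod.ext_iff.mp h).1⟩, fun r hr => hM r fun p hp => ?_⟩
  simp only [Submodule.mem_iInf] at hr
  have := hr (p, M) (Finset.mem_map.mpr ⟨p, hp, rfl⟩)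
  rw [← Ideal.comap_comap, comap_maximalIdeal_pow] at this
  exact this

end Groth.Agent.H47.FiniteInj
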