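import Groth.Agent.H47.FlatLocusColim
import Groth.Agent.H47.ArtinScheme
import Groth.Agent.H47.FiniteInj
import Mathlib.RingTheory.RingHom.Flat
import Mathlib.RingTheory.Localization.Finiteness
import Mathlib.RingTheory.Localization.AtPrime.Extension

/-!
# Flatness descends along finite injective maps of Noetherian rings
-/

set_option autoImplicit false
set_option linter.style.haveILetI false

universe u

open TensorProduct

attribute [local instance] Algebra.TensorProduct.rightAlgebra

namespace Groth.Agent.H47.FlatFiniteInj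

open Groth.Agent.H47.FlatLocusColim

section tensor

variable {R E F S : Type u} [CommRing R] [CommRing E] [CommRing F] [CommRing S] [Algebra R E]
  [Algebra R F] [Algebra R S]

/-- Base change of a flat map along a tensor product. -/
theorem flat_stageMap (φ : E →ₐ[R] F) (hφ : φ.toRingHom.Flat) :
    (stageMap (S₀ := S) φ).toRingHom.Flat := by
  letI : Algebra E F := φ.toRingHom.toAlgebra
  have : Module.Flat E F := hφ
  have : IsScalarTower R E F := IsScalarTower.of_algebraMap_eq fun a => (φ.commutes a).symm
  letI : Algebra (E ⊗[R] S) (F ⊗[R] S) := (stageMap (S₀ := S) φ).toRingHom.toAlgebra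
  have : IsScalarTower E (E ⊗[R] S) (F ⊗[R] S) :=
    IsScalarTower.of_algebraMap_eq (R := E) (S := E ⊗[R] S) (A := F ⊗[R] S) fun c => by
    show (algebraMap E F c) ⊗ₜ[R] (1 : S) = stageMap (S₀ := S) φ (c ⊗ₜ 1)
    simp [stageMap]
    rfl
  have : IsScalarTower S (E ⊗[R] S) (F ⊗[R] S) :=
    IsScalarTower.of_algebraMap_eq (R := S) (S := E ⊗[R] S) (A := F ⊗[R] S) fun b => by
    show (1 : F) ⊗ₜ[R] b = stageMap (S₀ := S) φ (1 ⊗ₜ b)
    simp [stageMap]
  have : IsScalarTower R (E ⊗[R] S) (F ⊗[R] S) :=
    IsScalarTower.of_algebraMap_eq (R := R) (S := E ⊗[R] S) (A := F ⊗[R] S) fun a =>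
      ((stageMap (S₀ := S) φ).commutes a).symm
  have : Algebra.IsPushout E F (E ⊗[R] S) (F ⊗[R] S) :=
    (Algebra.IsPushout.comp_iff R E S (E ⊗[R] S)).1 inferInstance
  have hp : Algebra.IsPushout E (E ⊗[R] S) F (F ⊗[R] S) := Algebra.IsPushout.symm inferInstance
  exact Module.Flat.isBaseChange E (E ⊗[R] S) F (F ⊗[R] S) hp.out

/-- A tensor product of flat maps is flat. -/
theorem flat_map {G : Type u} [CommRing G] [Algebra R G] (φ : E →ₐ[R] F) (hφ : φ.toRingHom.Flat)
    (γ : S →ₐ[R] G) (hγ : γ.toRingHom.Flat) :
    (Algebra.TensorProduct.map φ γ).toRingHom.Flat := by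
  have e : Algebra.TensorProduct.map φ γ =
      (stageMap (S₀ := G) φ).comp ((Algebra.TensorProduct.comm R G E).toAlgHom.comp
        ((stageMap (S₀ := E) γ).comp (Algebra.TensorProduct.comm R E S).toAlgHom)) :=
    Algebra.TensorProduct.ext' fun a b => by simp [stageMap]
  rw [e]
  exact RingHom.Flat.comp (RingHom.Flat.comp (RingHom.Flat.comp
    (RingHom.Flat.of_bijective (Algebra.TensorProduct.comm R E S).bijective) (flat_stageMap γ hγ))
    (RingHom.Flat.of_bijective (Algebra.TensorProduct.comm R G E).bijective)) (flat_stageMap φ hφ)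

end tensor

set_option maxHeartbeats 800000 in
/-- Flatness at the points of `A' ⊗ B` over `q` gives flatness, in the sense of tensor products, at
the closed points of `E ⊗ P` for localizations `E`, `P` of `A'`, `B`. -/
theorem flatAt_of_flat {A Ap A' E B P : Type u} [CommRing A] [CommRing Ap] [CommRing A'] [CommRing E]
    [CommRing B] [CommRing P] [Algebra A Ap] [Algebra A A'] [Algebra A' E] [Algebra A E] [Algebra Ap E]
    [IsScalarTower A A' E] [IsScalarTower A Ap E] [Algebra A B] [Algebra B P] [Algebra A P]
    [Algebra Ap P] [IsScalarTower A B P] [IsScalarTower A Ap P]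
    (S : Submonoid A) [IsLocalization S Ap] [IsLocalRing E] [IsLocalRing P]
    [Module.Flat A' E] [Module.Flat B P] (n₀ : Ideal A') [n₀.IsPrime] [IsLocalization.AtPrime E n₀]
    (q : PrimeSpectrum B) (hq : (IsLocalRing.maximalIdeal P).comap (algebraMap B P) = q.asIdeal)
    (h : ∀ q'' : PrimeSpectrum (A' ⊗[A] B),
      q''.comap (algebraMap B (A' ⊗[A] B)) = q → q''.asIdeal.comap (algebraMap A' (A' ⊗[A] B)) = n₀ →
      Module.Flat A' (LocalizedModule q''.asIdeal.primeCompl (A' ⊗[A] B)))
    (Q : Ideal (E ⊗[Ap] P)) [Q.IsPrime] (hle : ArtinFamily.closedIdeal P E ≤ Q) :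
    GrFlat.FlatAt Ap P E Q := by
  let C := E ⊗[Ap] P
  let T := A' ⊗[A] B
  let ιE : A' →ₐ[A] E := IsScalarTower.toAlgHom A A' E
  let ιP : B →ₐ[A] P := IsScalarTower.toAlgHom A B P
  have hιE : ιE.toRingHom.Flat := by
    show (algebraMap A' E).Flat
    rw [RingHom.flat_algebraMap_iff]
    infer_instance
  have hιP : ιP.toRingHom.Flat := by
    show (algebraMap B P).Flat
    rw [RingHom.flat_algebraMap_iff]
    infer_instance
  haveI : CompatibleSMul A Ap E P := IsLocalization.tensorProduct_compatibleSMul S Ap E P
  let ω : E ⊗[A] P →+* C :=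
    (Algebra.TensorProduct.mapOfCompatibleSMul Ap A A E P).toRingHom
  have hω : Function.Bijective ω :=
    ⟨(TensorProduct.equivOfCompatibleSMul Ap A A E P).injective,
      Algebra.TensorProduct.mapOfCompatibleSMul_surjective _ _ _ _ _⟩
  let θ : T →+* C := ω.comp (Algebra.TensorProduct.map ιE ιP).toRingHom
  have hθ : θ.Flat := RingHom.Flat.comp (flat_map ιE hιE ιP hιP) (RingHom.Flat.of_bijective hω)
  have hθE : ∀ a : A', θ (a ⊗ₜ 1) = algebraMap A' E a ⊗ₜ[Ap] (1 : P) := fun a => by
    show Algebra.TensorProduct.mapOfCompatibleSMul Ap A A E P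
      (algebraMap A' E a ⊗ₜ[A] algebraMap B P 1) = _
    rw [map_one]
    rfl
  have hθB : ∀ b : B, θ (1 ⊗ₜ b) = (1 : E) ⊗ₜ[Ap] algebraMap B P b := fun b => by
    show Algebra.TensorProduct.mapOfCompatibleSMul Ap A A E P
      (algebraMap A' E 1 ⊗ₜ[A] algebraMap B P b) = _
    rw [map_one]
    rfl
  letI : Algebra T C := θ.toAlgebra
  haveI : Module.Flat T C := hθ
  haveI : IsScalarTower A' T C :=
    IsScalarTower.of_algebraMap_eq (R := A') (S := T) (A := C) fun a => (hθE a).symm
  -- the point of `T` under `Q`
  let q'' : PrimeSpectrum T := ⟨Q.comap (algebraMap T C), inferInstance⟩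
  have hq'' : q''.comap (algebraMap B T) = q := by
    have hP : IsLocalRing.maximalIdeal P =
        Q.comap (Algebra.TensorProduct.includeRight : P →ₐ[Ap] C) := by
      refine (IsLocalRing.maximalIdeal.isMaximal P).eq_of_le (Ideal.IsPrime.ne_top') fun x hx => ?_
      refine hle ?_
      rw [ArtinFamily.closedIdeal, RingHom.mem_ker]
      simp [ArtinReg.resMap, Ideal.Quotient.eq_zero_iff_mem.2 hx]
    refine PrimeSpectrum.ext (Ideal.ext fun b => ?_)
    show θ (1 ⊗ₜ b) ∈ Q ↔ b ∈ q.asIdeal
    rw [hθB, ← hq, hP]
    rfl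
  have hn'' : q''.asIdeal.comap (algebraMap A' T) = n₀ := by
    have hE : IsLocalRing.maximalIdeal E =
        Q.comap (Algebra.TensorProduct.includeLeft : E →ₐ[Ap] C) := by
      refine (IsLocalRing.maximalIdeal.isMaximal E).eq_of_le (Ideal.IsPrime.ne_top') fun x hx => ?_
      refine hle ?_
      rw [ArtinFamily.closedIdeal, RingHom.mem_ker]
      simp [ArtinReg.resMap, Ideal.Quotient.eq_zero_iff_mem.2 hx]
    refine Ideal.ext fun a => ?_
    show θ (a ⊗ₜ 1) ∈ Q ↔ a ∈ n₀
    rw [hθE, ← IsLocalization.AtPrime.to_map_mem_maximal_iff E n₀ a, hE]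
    rfl
  have hflat := (Lib.FlatCA.LocalDescent.flatAt_iff (R := A') (Algebra.linearMap T C)
    (IsBaseChange.linearMap T C) Q).2 (h q'' hq'' hn'')
  let L := Localization.AtPrime Q
  haveI : Module.Flat A' L := Module.Flat.of_linearEquiv
    (((IsLocalizedModule.iso Q.primeCompl (Algebra.linearMap C L)).symm).restrictScalars A')
  haveI : Module.Flat E L :=
    (Module.flat_iff_of_isLocalization E n₀.primeCompl L).2 inferInstance
  let e0 : L ⊗[P] P ≃ₗ[P] L := TensorProduct.rid P L
  let e : L ⊗[P] P ≃ₗ[E] L :=
    { e0.toAddEquiv with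
      map_smul' := fun c z => by
        show e0 (c • z) = c • e0 z
        induction z using TensorProduct.induction_on with
        | zero => simp
        | add a b ha hb => simp only [smul_add, map_add, ha, hb]
        | tmul l w => simp [e0, TensorProduct.smul_tmul', smul_comm c w l] }
  haveI : Module.Flat E (L ⊗[P] P) := Module.Flat.of_linearEquiv e
  have hQ : (IsLocalRing.maximalIdeal L).comap (algebraMap C L) = Q :=
    Localization.AtPrime.under_maximalIdeal
  rw [← hQ]
  refine ArtinScheme.flatAt_of_flat_local (W := P) (L := L) (fun x => ?_) fun c l w => ?_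
  · exact IsScalarTower.algebraMap_apply P C L x
  · rw [TensorProduct.smul_tmul', Algebra.smul_def, IsScalarTower.algebraMap_apply E C L]
    rfl

/-- The maximal localizations of a finite algebra over a local ring dominate it. -/
theorem map_maximal_le {R A : Type u} [CommRing R] [IsLocalRing R] [IsNoetherianRing R] [CommRing A]
    [Algebra R A] [Module.Finite R A] (n : Ideal A) [n.IsMaximal] :
    (IsLocalRing.maximalIdeal R).map (algebraMap R (Localization.AtPrime n)) ≤
      IsLocalRing.maximalIdeal (Localization.AtPrime n) := by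
  refine Ideal.map_le_iff_le_comap.2 fun r hr => ?_
  rw [Ideal.mem_comap, IsScalarTower.algebraMap_apply R A (Localization.AtPrime n),
    ← Localization.AtPrime.map_eq_maximalIdeal]
  exact Ideal.mem_map_of_mem _ ((FiniteInj.under_eq (R := R) n).ge hr)

set_option maxHeartbeats 800000 in
/-- The descent statement over abstract localizations. -/
theorem flat_core {A Ap A' Ap' B P : Type u} [CommRing A] [CommRing Ap] [CommRing A'] [CommRing Ap']
    [CommRing B] [CommRing P] [Algebra A Ap] [Algebra A A'] [Algebra A' Ap'] [Algebra A Ap']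
    [Algebra Ap Ap'] [IsScalarTower A A' Ap'] [IsScalarTower A Ap Ap'] [Algebra A B] [Algebra B P]
    [Algebra A P] [Algebra Ap P] [IsScalarTower A B P] [IsScalarTower A Ap P]
    (S : Submonoid A) [IsLocalization S Ap] (S' : Submonoid A') [IsLocalization S' Ap']
    [IsLocalRing Ap] [IsNoetherianRing Ap] [IsNoetherianRing P] [IsLocalRing P]
    [IsLocalHom (algebraMap Ap P)] [Module.Finite Ap Ap']
    [Module.Flat B P] (hinj : Function.Injective (algebraMap Ap Ap'))
    (q : PrimeSpectrum B) (hq : (IsLocalRing.maximalIdeal P).comap (algebraMap B P) = q.asIdeal)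
    (h : ∀ q'' : PrimeSpectrum (A' ⊗[A] B),
      q''.comap (algebraMap B (A' ⊗[A] B)) = q →
      Module.Flat A' (LocalizedModule q''.asIdeal.primeCompl (A' ⊗[A] B))) :
    Module.Flat Ap P := by
  refine ArtinFamily.flat_of_family (A := Ap) (P := P) (M := P)
    (fun n : MaximalSpectrum Ap' => Localization.AtPrime n.asIdeal) (fun n => ?_) fun N => ?_
  · refine ArtinFamily.good_of_forall (IsLocalRing.maximalIdeal Ap) (map_maximal_le n.asIdeal)
      fun Q hQ hle => ?_
    haveI := hQ
    haveI := IsLocalization.flat Ap' S'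
    haveI : Module.Flat Ap' (Localization.AtPrime n.asIdeal) :=
      IsLocalization.flat _ n.asIdeal.primeCompl
    haveI : Module.Flat A' (Localization.AtPrime n.asIdeal) := Module.Flat.trans A' Ap' _
    haveI : IsLocalization.AtPrime (Localization.AtPrime n.asIdeal)
        (n.asIdeal.comap (algebraMap A' Ap')) :=
      IsLocalization.isLocalization_isLocalization_atPrime_isLocalization S' _ n.asIdeal
    exact flatAt_of_flat S (n.asIdeal.comap (algebraMap A' Ap')) q hq (fun q'' hq'' _ => h q'' hq'') Q hle
  · obtain ⟨s, hs⟩ := FiniteInj.htop hinj N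
    refine ⟨↥s, inferInstance, fun j => j.1.1,
      fun j => IsLocalRing.maximalIdeal (Localization.AtPrime j.1.1.asIdeal) ^ j.1.2, ?_,
      s.sup Prod.snd, ?_⟩
    · intro r hr
      refine hs ((Submodule.mem_iInf _).2 fun j => (Submodule.mem_iInf _).2 fun hj => ?_)
      have := (Submodule.mem_iInf _).1 hr ⟨j, hj⟩
      rwa [IsScalarTower.algebraMap_eq Ap Ap' (Localization.AtPrime j.1.asIdeal)] at this
    · refine le_iInf fun j => Ideal.map_le_iff_le_comap.1 ?_
      rw [Ideal.map_pow]
      exact le_trans (Ideal.pow_le_pow_right (Finset.le_sup (f := Prod.snd) j.2))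
        (Ideal.pow_right_mono (map_maximal_le j.1.1.asIdeal) _)

set_option maxHeartbeats 1600000 in
/-- Flatness at a prime is detected after a finite injective extension of a Noetherian base. -/
theorem flat_of_finite_injective {A A' B : Type u} [CommRing A] [IsNoetherianRing A] [CommRing A']
    [CommRing B] [Algebra A A'] [Module.Finite A A'] [Algebra A B] [Algebra.FiniteType A B]
    (hinj : Function.Injective (algebraMap A A')) (q : PrimeSpectrum B)
    (h : ∀ q'' : PrimeSpectrum (A' ⊗[A] B),
      q''.comap (algebraMap B (A' ⊗[A] B)) = q →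
      Module.Flat A' (LocalizedModule q''.asIdeal.primeCompl (A' ⊗[A] B))) :
    Module.Flat A (LocalizedModule q.asIdeal.primeCompl B) := by
  classical
  haveI : IsNoetherianRing B := Algebra.FiniteType.isNoetherianRing A B
  let p := q.asIdeal.comap (algebraMap A B)
  let Ap := Localization.AtPrime p
  let P := Localization.AtPrime q.asIdeal
  let φP : Ap →+* P := Localization.localRingHom p q.asIdeal (algebraMap A B) rfl
  letI : Algebra Ap P := φP.toAlgebra
  have : IsScalarTower A Ap P := IsScalarTower.of_algebraMap_eq fun a => by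
    show algebraMap A P a = φP (algebraMap A Ap a)
    rw [Localization.localRingHom_to_map, ← IsScalarTower.algebraMap_apply]
  haveI : IsLocalHom (algebraMap Ap P) := Localization.isLocalHom_localRingHom _ _ _ rfl
  haveI : IsNoetherianRing Ap := IsLocalization.isNoetherianRing p.primeCompl Ap inferInstance
  haveI : IsNoetherianRing P := IsLocalization.isNoetherianRing q.asIdeal.primeCompl P inferInstance
  -- the extension localized at `p`
  let Ap' := Localization (Algebra.algebraMapSubmonoid A' p.primeCompl)
  have hinj' : Function.Injective (algebraMap Ap Ap') :=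
    localizationAlgebra_injective Ap Ap' hinj
  haveI : Module.Flat B P := IsLocalization.flat P q.asIdeal.primeCompl
  have key : Module.Flat Ap P := flat_core p.primeCompl (Algebra.algebraMapSubmonoid A' p.primeCompl)
    hinj' q Localization.AtPrime.under_maximalIdeal h
  haveI := IsLocalization.flat Ap p.primeCompl
  haveI := key
  haveI : Module.Flat A P := Module.Flat.trans A Ap P
  exact Module.Flat.of_linearEquiv
    ((IsLocalizedModule.iso q.asIdeal.primeCompl (Algebra.linearMap B P)).restrictScalars A)

end Groth.Agent.H47.FlatFiniteInj
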