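import Groth.Prelude.Def_EGA4b
import Groth.Agent.S1735
import Groth.Agent.H47.FlatFiniteInj
import Groth.Agent.Lib.Excellent.CompletionNoetherian
import Mathlib.RingTheory.EssentialFiniteness
import Mathlib.RingTheory.Flat.FaithfullyFlat.Algebra
import Mathlib.RingTheory.AdicCompletion.AsTensorProduct
import Mathlib.RingTheory.AdicCompletion.LocalRing
import Mathlib.RingTheory.AdicCompletion.Noetherian
import Mathlib.RingTheory.Filtration

/-!
# Dominating local algebras over analytically irreducible rings
-/

set_option autoImplicit false
set_option linter.style.haveILetI false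

universe u

open TensorProduct IsLocalRing

namespace Groth.Agent.H47.AnalyticFamily

theorem krull {T : Type u} [CommRing T] [IsNoetherianRing T] [IsLocalRing T] {x : T}
    (h : ∀ n, x ∈ maximalIdeal T ^ n) : x = 0 := by
  have := (Submodule.mem_iInf _).2 h
  rwa [Ideal.iInf_pow_eq_bot_of_isLocalRing _ (maximalIdeal.isMaximal T).ne_top, Submodule.mem_bot] at this

set_option maxHeartbeats 800000 in
/-- The adic topology of an analytically irreducible local ring is induced by any dominating local
domain essentially of finite type. -/
theorem htop {L E : Type u} [CommRing L] [IsLocalRing L] [IsNoetherianRing L] [IsDomain (EGA4.Cpl L)]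
    [CommRing E] [IsDomain E] [IsLocalRing E] [Algebra L E] [IsLocalHom (algebraMap L E)]
    [Algebra.EssFiniteType L E] (hinj : Function.Injective (algebraMap L E)) (N : ℕ) :
    ∃ M, (maximalIdeal E ^ M).comap (algebraMap L E) ≤ maximalIdeal L ^ N := by
  classical
  let S := EGA4.Cpl L
  haveI : Module.FaithfullyFlat L S := Module.FaithfullyFlat.of_flat_of_isLocalHom
  haveI : IsDomain L :=
    Function.Injective.isDomain (algebraMap L S) (FaithfulSMul.algebraMap_injective L S)
  let T := S ⊗[L] E
  letI : Algebra E T := Algebra.TensorProduct.rightAlgebra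
  haveI : IsNoetherianRing T := Algebra.EssFiniteType.isNoetherianRing S T
  -- a prime over the closed point
  obtain ⟨P, hP⟩ : ∃ P : PrimeSpectrum T,
      P.asIdeal.comap (algebraMap E T) = maximalIdeal E := by
    haveI : Module.FaithfullyFlat E (E ⊗[L] S) := inferInstance
    obtain ⟨P, hP⟩ := PrimeSpectrum.comap_surjective_of_faithfullyFlat (A := E) (B := E ⊗[L] S)
      ⟨maximalIdeal E, inferInstance⟩
    refine ⟨P.comap (Algebra.TensorProduct.comm L S E).toRingEquiv.toRingHom, Ideal.ext fun e => ?_⟩
    show Algebra.TensorProduct.comm L S E ((1 : S) ⊗ₜ[L] e) ∈ P.asIdeal ↔ _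
    rw [Algebra.TensorProduct.comm_tmul]
    exact Iff.of_eq (congrArg (fun I : Ideal E => e ∈ I) (congrArg PrimeSpectrum.asIdeal hP))
  let TP := Localization.AtPrime P.asIdeal
  haveI : IsNoetherianRing TP := IsLocalization.isNoetherianRing P.asIdeal.primeCompl TP inferInstance
  -- the completion embeds
  let ι : S →+* TP := (algebraMap T TP).comp (algebraMap S T)
  have hι : Function.Injective ι := by
    rw [injective_iff_map_eq_zero]
    intro x hx
    by_contra hx0
    obtain ⟨⟨s, hs⟩, hsx⟩ := (IsLocalization.map_eq_zero_iff P.asIdeal.primeCompl TP _).1 hx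
    let F := FractionRing E
    letI : Algebra (FractionRing L) F := by
      haveI : FaithfulSMul L F := (faithfulSMul_iff_algebraMap_injective _ _).2
        (by rw [IsScalarTower.algebraMap_eq L E F]; exact (IsFractionRing.injective E F).comp hinj)
      exact FractionRing.liftAlgebra L F
    haveI : FaithfulSMul L F := (faithfulSMul_iff_algebraMap_injective _ _).2
      (by rw [IsScalarTower.algebraMap_eq L E F]; exact (IsFractionRing.injective E F).comp hinj)
    haveI : IsScalarTower L (FractionRing L) F := FractionRing.isScalarTower_liftAlgebra L F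
    haveI := IsLocalization.flat (FractionRing L) (nonZeroDivisors L)
    haveI : Module.Flat L F := Module.Flat.trans L (FractionRing L) F
    have hemb : Function.Injective ((IsScalarTower.toAlgHom L E F).toLinearMap.lTensor S) :=
      Module.Flat.lTensor_preserves_injective_linearMap _ (IsFractionRing.injective E F)
    have hmul : Function.Injective ((LinearMap.mulLeft L x).rTensor F) :=
      Module.Flat.rTensor_preserves_injective_linearMap _ fun a b hab => mul_left_cancel₀ hx0 hab
    have hnat : ∀ z : T, (IsScalarTower.toAlgHom L E F).toLinearMap.lTensor S (algebraMap S T x * z) =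
        (LinearMap.mulLeft L x).rTensor F ((IsScalarTower.toAlgHom L E F).toLinearMap.lTensor S z) := by
      intro z
      induction z using TensorProduct.induction_on with
      | zero => rw [mul_zero, map_zero, map_zero]
      | tmul a e =>
        rw [Algebra.TensorProduct.algebraMap_apply, Algebra.TensorProduct.tmul_mul_tmul, one_mul]
        rfl
      | add a b ha hb => rw [mul_add, map_add, ha, hb, map_add, map_add]
    have h1 : (LinearMap.mulLeft L x).rTensor F
        ((IsScalarTower.toAlgHom L E F).toLinearMap.lTensor S s) = 0 := by
      rw [← hnat, mul_comm]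
      exact (congrArg _ hsx).trans (map_zero _)
    have : s = 0 := hemb (by rw [map_zero]; exact hmul (h1.trans (map_zero _).symm))
    exact hs (this ▸ P.asIdeal.zero_mem)
  -- the induced filtration is separated, so it defines the adic topology
  let J : ℕ → Ideal S := fun n => (maximalIdeal TP ^ n).comap ι
  have hJ : Antitone J := fun a b hab => Ideal.comap_mono (Ideal.pow_le_pow_right hab)
  have h0 : ⨅ n, J n = ⊥ := by
    rw [eq_bot_iff]
    intro x hx
    have h3 := krull (T := TP) (x := ι x) fun n => (Submodule.mem_iInf _).1 hx n
    exact hι (h3.trans (map_zero ι).symm)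
  haveI : IsNoetherianRing S := Lib.Excellent.CompletionNoetherian.isNoetherianRing_adicCompletion _
  obtain ⟨M, hM⟩ := Groth.Agent.S1735.chevalley J hJ h0 N
  refine ⟨M, fun a ha => ?_⟩
  rw [← Ideal.comap_map_eq_self_of_faithfullyFlat (B := S) (maximalIdeal L ^ N), Ideal.map_pow,
    ← AdicCompletion.maximalIdeal_eq_map, Ideal.mem_comap]
  refine hM (?_ : ι (algebraMap L S a) ∈ maximalIdeal TP ^ M)
  have e : ι (algebraMap L S a) = algebraMap T TP (algebraMap E T (algebraMap L E a)) := by
    show algebraMap T TP (algebraMap S T (algebraMap L S a)) = _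
    congr 1
    exact (Algebra.TensorProduct.includeLeft : S →ₐ[L] T).commutes a |>.trans
      ((Algebra.TensorProduct.includeRight : E →ₐ[L] T).commutes a).symm
  rw [e]
  have hle : (maximalIdeal E).map ((algebraMap T TP).comp (algebraMap E T)) ≤ maximalIdeal TP := by
    rw [← Ideal.map_map, ← Localization.AtPrime.map_eq_maximalIdeal]
    exact Ideal.map_mono (Ideal.map_le_iff_le_comap.2 hP.ge)
  exact Ideal.pow_right_mono hle M (Ideal.map_pow ((algebraMap T TP).comp (algebraMap E T)) _ M ▸
    Ideal.mem_map_of_mem _ ha)

end Groth.Agent.H47.AnalyticFamily
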