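import Groth.Agent.H47.ArtinScheme
import Mathlib.AlgebraicGeometry.Morphisms.Affine

/-!
# Separating families over an Artinian base and over the local ring of a point
-/

set_option autoImplicit false
set_option backward.isDefEq.respectTransparency false

universe u

open CategoryTheory CategoryTheory.Limits AlgebraicGeometry

namespace Groth.Agent.H47.ArtinCases

open Groth.Agent.H47.ArtinScheme

variable {X S Y : Scheme.{u}} (f : X ⟶ S) (g : Y ⟶ S)

theorem psi_germ (x : X) (y : Y) (h : g y = f x) (s : Γ(S, ⊤)) :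
    (psi f g x y h).hom (S.presheaf.germ ⊤ (f x) trivial s) =
      Y.presheaf.germ ⊤ y trivial (g.appTop s) := by
  show g.stalkMap y (S.presheaf.stalkSpecializes (specializes_of_eq h)
    (S.presheaf.germ ⊤ (f x) trivial s)) = _
  rw [TopCat.Presheaf.germ_stalkSpecializes_apply, Scheme.Hom.germ_stalkMap_apply]
  rfl

/-- A finite subfamily of ideals has the same intersection in an Artinian ring. -/
theorem exists_finset_eq_bot {R : Type u} [CommRing R] [IsArtinianRing R] {ι : Type u}
    (K : ι → Ideal R) (hK : ∀ r, (∀ i, r ∈ K i) → r = 0) :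
    ∃ s : Finset ι, ∀ r, (∀ i ∈ s, r ∈ K i) → r = 0 := by
  classical
  obtain ⟨_, ⟨s, rfl⟩, hmin⟩ := IsArtinian.set_has_minimal
    (Set.range fun s : Finset ι => s.inf K) (Set.range_nonempty _)
  refine ⟨s, fun r hr => hK r fun i => ?_⟩
  have hle : (insert i s).inf K ≤ s.inf K := Finset.inf_mono (Finset.subset_insert i s)
  have heq : (insert i s).inf K = s.inf K :=
    eq_of_le_of_not_lt hle (hmin _ ⟨insert i s, rfl⟩)
  have : r ∈ (insert i s).inf K := heq ▸ (Submodule.mem_finsetInf.2 hr)
  exact Submodule.mem_finsetInf.1 this i (Finset.mem_insert_self i s)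

/-- A separating family of points of schemes over an Artinian local base tests flatness. -/
theorem isFlatOverAt_artinian {A : Type u} [CommRing A] [IsArtinianRing A] [IsLocalRing A]
    (f : X ⟶ Spec (CommRingCat.of A)) [LocallyOfFiniteType f] (F : X.Modules) (hF : Coh.IsCoh F)
    (x : X) {ι : Type u} (Y : ι → Scheme.{u}) (g : ∀ i, Y i ⟶ Spec (CommRingCat.of A))
    (y : ∀ i, Y i)
    (hsep : ∀ a : A, (∀ i, (Y i).presheaf.germ ⊤ (y i) trivial
      ((g i).appTop ((Scheme.ΓSpecIso (CommRingCat.of A)).inv a)) = 0) → a = 0)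
    (hflat : ∀ i,
      (∀ x' : ↥(pullback f (g i)), pullback.fst f (g i) x' = x → pullback.snd f (g i) x' = y i →
        FlatMod.IsFlatOverAt (pullback.snd f (g i))
          ((Scheme.Modules.pullback (pullback.fst f (g i))).obj F) x') ∨
      (Primary f x ∧ ∃ x' : ↥(pullback f (g i)), pullback.fst f (g i) x' = x ∧
        pullback.snd f (g i) x' = y i ∧ FlatMod.IsFlatOverAt (pullback.snd f (g i))
          ((Scheme.Modules.pullback (pullback.fst f (g i))).obj F) x')) :
    FlatMod.IsFlatOverAt f F x := by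
  classical
  have : Subsingleton ↥(Spec (CommRingCat.of A)) := inferInstanceAs (Subsingleton (PrimeSpectrum A))
  have : IsNoetherianRing (CommRingCat.of A) := inferInstanceAs (IsNoetherianRing A)
  have h : ∀ i, g i (y i) = f x := fun i => Subsingleton.elim _ _
  refine isFlatOverAt_of_family f F hF x Y g y h (fun N => ?_) hflat
  -- the local ring at the point is `A`
  obtain ⟨e, he⟩ : ∃ e : A ≃+* (Spec (CommRingCat.of A)).presheaf.stalk (f x),
      ∀ a, e a = (Spec (CommRingCat.of A)).presheaf.germ ⊤ (f x) trivial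
        ((Scheme.ΓSpecIso (CommRingCat.of A)).inv a) := by
    have hcl : f x = IsLocalRing.closedPoint A := Subsingleton.elim _ _
    refine ⟨RingEquiv.ofBijective ((Scheme.ΓSpecIso (CommRingCat.of A)).inv ≫
      (Spec (CommRingCat.of A)).presheaf.germ ⊤ (f x) trivial).hom ?_, fun a => rfl⟩
    generalize hp : f x = p at hcl ⊢
    subst hcl
    have : (Scheme.ΓSpecIso (CommRingCat.of A)).inv ≫
        (Spec (CommRingCat.of A)).presheaf.germ ⊤ (IsLocalRing.closedPoint A) trivial =
          (stalkClosedPointIso (CommRingCat.of A)).inv := by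
      rw [Iso.inv_comp_eq]
      exact (ΓSpecIso_hom_stalkClosedPointIso_inv (CommRingCat.of A)).symm
    rw [this]
    exact ConcreteCategory.bijective_of_isIso _
  have : IsArtinianRing ((Spec (CommRingCat.of A)).presheaf.stalk (f x)) :=
    e.surjective.isArtinianRing
  obtain ⟨s, hs⟩ := exists_finset_eq_bot
    (fun i => RingHom.ker ((psi f (g i) x (y i) (h i)).hom.comp e.toRingHom)) fun a ha =>
      hsep a fun i => by
        have := ha i
        rw [RingHom.mem_ker, RingHom.comp_apply, RingEquiv.toRingHom_eq_coe, RingEquiv.coe_toRingHom, he, psi_germ] at this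
        exact this
  obtain ⟨c, hc⟩ := IsArtinianRing.isNilpotent_jacobson_bot
    (R := (Spec (CommRingCat.of A)).presheaf.stalk (f x))
  refine ⟨↥s, inferInstance, fun j => j.1, fun j => ⊥, ?_, c, ?_⟩
  · intro r hr
    obtain ⟨a, rfl⟩ := e.surjective r
    have : a = 0 := hs a fun i hi => (Submodule.mem_iInf _).1 hr ⟨i, hi⟩
    rw [this, map_zero]
    exact zero_mem _
  · rw [IsLocalRing.jacobson_eq_maximalIdeal ⊥ bot_ne_top] at hc
    rw [hc]
    exact bot_le

/-- The map between local rings for a local ring mapping to the stalk. -/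
theorem psi_spec {A : Type u} [CommRing A] [IsLocalRing A] (x : X)
    (φ : (S.presheaf.stalk (f x) : Type u) →+* A)
    (h : (Spec.map (CommRingCat.ofHom φ) ≫ S.fromSpecStalk (f x)) (IsLocalRing.closedPoint A) = f x) :
    psi f (Spec.map (CommRingCat.ofHom φ) ≫ S.fromSpecStalk (f x)) x (IsLocalRing.closedPoint A) h =
      CommRingCat.ofHom φ ≫ (stalkClosedPointIso (CommRingCat.of A)).inv := by
  apply Spec.map_injective
  rw [← cancel_mono (S.fromSpecStalk (f x)), specMap_psi, Spec.map_comp, Category.assoc,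
    Spec_stalkClosedPointIso]

/-- A family of local rings over the local ring, with separating topology, tests flatness. -/
theorem isFlatOverAt_local [IsLocallyNoetherian S] [LocallyOfFiniteType f] (F : X.Modules)
    (hF : Coh.IsCoh F) (x : X) {ι : Type u} (A : ι → Type u) [∀ i, CommRing (A i)]
    [∀ i, IsLocalRing (A i)] (φ : ∀ i, (S.presheaf.stalk (f x) : Type u) →+* A i)
    [∀ i, IsLocalHom (φ i)]
    (htop : ∀ N : ℕ, ∃ s : Finset (ι × ℕ),
      ⨅ p ∈ s, Ideal.comap (φ p.1) (IsLocalRing.maximalIdeal (A p.1) ^ p.2) ≤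
        IsLocalRing.maximalIdeal ↑(S.presheaf.stalk (f x)) ^ N)
    (g : ∀ i, Spec (CommRingCat.of (A i)) ⟶ S)
    (hg : ∀ i, g i = Spec.map (CommRingCat.ofHom (φ i)) ≫ S.fromSpecStalk (f x))
    (hflat : ∀ i,
      (∀ x' : ↥(pullback f (g i)), pullback.fst f (g i) x' = x →
        pullback.snd f (g i) x' = IsLocalRing.closedPoint (A i) →
        FlatMod.IsFlatOverAt (pullback.snd f (g i))
          ((Scheme.Modules.pullback (pullback.fst f (g i))).obj F) x') ∨
      (Primary f x ∧ ∃ x' : ↥(pullback f (g i)), pullback.fst f (g i) x' = x ∧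
        pullback.snd f (g i) x' = IsLocalRing.closedPoint (A i) ∧
        FlatMod.IsFlatOverAt (pullback.snd f (g i))
          ((Scheme.Modules.pullback (pullback.fst f (g i))).obj F) x')) :
    FlatMod.IsFlatOverAt f F x := by
  obtain rfl : g = fun i => Spec.map (CommRingCat.ofHom (φ i)) ≫ S.fromSpecStalk (f x) := funext hg
  have h : ∀ i, (Spec.map (CommRingCat.ofHom (φ i)) ≫ S.fromSpecStalk (f x))
      (IsLocalRing.closedPoint (A i)) = f x := fun i => by
    rw [Scheme.Hom.comp_apply]
    have : (Spec.map (CommRingCat.ofHom (φ i))) (IsLocalRing.closedPoint (A i)) =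
        IsLocalRing.closedPoint (S.presheaf.stalk (f x)) := IsLocalRing.comap_closedPoint (φ i)
    exact (congrArg (fun z => S.fromSpecStalk (f x) z) this).trans Scheme.fromSpecStalk_closedPoint
  refine isFlatOverAt_of_family f F hF x _ _ _ h (fun N => ?_) hflat
  obtain ⟨s, hs⟩ := htop N
  let σ := fun i => (stalkClosedPointIso (CommRingCat.of (A i))).commRingCatIsoToRingEquiv.symm
  refine ⟨↥s, inferInstance, fun j => j.1.1,
    fun j => (IsLocalRing.maximalIdeal (A j.1.1) ^ j.1.2).map (σ j.1.1).toRingHom, ?_,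
    s.sup Prod.snd, ?_⟩
  · intro r hr
    refine hs (Submodule.mem_iInf _ |>.2 fun p => (Submodule.mem_iInf _).2 fun hp => ?_)
    have := (Submodule.mem_iInf _).1 hr ⟨p, hp⟩
    rw [Ideal.mem_comap, psi_spec] at this
    change σ p.1 (φ p.1 r) ∈ Ideal.map (σ p.1).toRingHom _ at this
    obtain ⟨b, hb, hbe⟩ := (Ideal.mem_map_iff_of_surjective _ (σ p.1).surjective).1 this
    rw [Ideal.mem_comap, ← (σ p.1).injective hbe]
    exact hb
  · intro r hr
    refine (Submodule.mem_iInf _).2 fun j => ?_
    rw [Ideal.mem_comap, psi_spec]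
    refine Ideal.mem_map_of_mem _ ?_
    have h1 : IsLocalRing.maximalIdeal (S.presheaf.stalk (f x)) ^ j.1.2 ≤
        (IsLocalRing.maximalIdeal (A j.1.1) ^ j.1.2).comap (φ j.1.1) := by
      rw [← Ideal.map_le_iff_le_comap, Ideal.map_pow]
      exact Ideal.pow_right_mono (Ideal.map_le_iff_le_comap.2 fun a ha => map_nonunit _ a ha) _
    exact h1 (Ideal.pow_le_pow_right (Finset.le_sup (f := Prod.snd) j.2) hr)

end Groth.Agent.H47.ArtinCases
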