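import Groth.Agent.H20.GeomIrred
import Mathlib.FieldTheory.LinearDisjoint
import Mathlib.FieldTheory.PrimitiveElement
import Mathlib.FieldTheory.SeparableClosure
import Mathlib.RingTheory.AlgebraicIndependent.TranscendenceBasis
import Mathlib.RingTheory.AlgebraicIndependent.Adjoin
import Mathlib.RingTheory.TensorProduct.MvPolynomial
import Mathlib.RingTheory.TensorProduct.Free
import Mathlib.RingTheory.IntegralClosure.Algebra.Basic

/-!
# Tensor products of fields

* a non-nilpotent element of a tensor product of fields with irreducible spectrum is regular;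
* a tensor product with a primary extension has irreducible spectrum.
-/

set_option autoImplicit false
set_option backward.isDefEq.respectTransparency false

universe u

open TensorProduct

namespace Groth.Agent.H47.FieldTensor

variable {k : Type u} [Field k]

/-- An element integral over a domain `D`, not in a prime nilradical of a `D`-torsion-free algebra,
is not a zero divisor. -/
theorem regular_of_integral {D R : Type*} [CommRing D] [IsDomain D] [CommRing R] [Algebra D R]
    [Module.IsTorsionFree D R] (hN : (nilradical R).IsPrime) {t : R} (ht : IsIntegral D t)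
    (htN : ¬ IsNilpotent t) {z : R} (hz : t * z = 0) : z = 0 := by
  have key : ∀ (n : ℕ) (q : Polynomial D), q.natDegree ≤ n → q ≠ 0 →
      Polynomial.aeval t q ∈ nilradical R → ∃ c : D, c ≠ 0 ∧ ∃ u : R, ∃ m ∈ nilradical R,
        algebraMap D R c = u * t + m := by
    intro n
    induction n with
    | zero =>
      intro q hq hq0 hmem
      rw [Polynomial.eq_C_of_natDegree_le_zero hq] at hq0 hmem
      rw [Polynomial.aeval_C] at hmem
      exact ⟨q.coeff 0, fun h => hq0 (by rw [h, map_zero]), 0, _, hmem, by rw [zero_mul, zero_add]⟩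
    | succ n ih =>
      intro q hq hq0 hmem
      have hdec := q.X_mul_divX_add
      by_cases hc : q.coeff 0 = 0
      · rw [hc, map_zero, add_zero] at hdec
        rw [← hdec, map_mul, Polynomial.aeval_X] at hmem
        have hd : q.divX ≠ 0 := fun h => hq0 (by rw [← hdec, h, mul_zero])
        exact ih q.divX (by rw [Polynomial.natDegree_divX_eq_natDegree_tsub_one]; omega) hd
          ((hN.mem_or_mem hmem).resolve_left fun h => htN (mem_nilradical.1 h))
      · refine ⟨q.coeff 0, hc, -Polynomial.aeval t q.divX, _, hmem, ?_⟩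
        nth_rw 3 [← hdec]
        simp only [map_add, map_mul, Polynomial.aeval_X, Polynomial.aeval_C]
        ring
  obtain ⟨p, hp, hp0⟩ := ht
  obtain ⟨c, hc, u, m, hm, hcm⟩ := key _ p le_rfl hp.ne_zero
    (by rw [Polynomial.aeval_def, hp0]; exact zero_mem _)
  obtain ⟨N, hN'⟩ := mem_nilradical.1 hm
  have h1 : algebraMap D R c * z = m * z := by
    rw [hcm, add_mul, mul_assoc, hz, mul_zero, zero_add]
  have h2 : ∀ j : ℕ, algebraMap D R c ^ j * z = m ^ j * z := by
    intro j
    induction j with
    | zero => simp
    | succ j ih => rw [pow_succ, mul_assoc, h1, mul_left_comm, ih, ← mul_assoc, ← pow_succ']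
  have h3 := h2 N
  rw [hN', zero_mul, ← map_pow, ← Algebra.smul_def] at h3
  exact (smul_eq_zero.1 h3).resolve_left (pow_ne_zero _ hc)

/-- The tensor product of a field with a field of rational functions is a domain. -/
theorem isDomain_tensor_fractions {K F : Type u} [Field K] [Algebra k K] [Field F]
    [Algebra k F] {ι : Type u} (j : MvPolynomial ι k →ₐ[k] F) (hj : Function.Injective j)
    (hgen : ∀ a : F, ∃ r s, s ≠ 0 ∧ j s * a = j r) : IsDomain (F ⊗[k] K) := by
  let J : MvPolynomial ι k ⊗[k] K →ₐ[k] F ⊗[k] K := Algebra.TensorProduct.map j (AlgHom.id k K)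
  have hJ : Function.Injective J := H20.GeomIrred.tensor_map_injective j hj _ Function.injective_id
  have : IsDomain (MvPolynomial ι k ⊗[k] K) :=
    ((Algebra.TensorProduct.comm k _ K).toMulEquiv.trans
      (MvPolynomial.algebraTensorAlgEquiv k K).toMulEquiv).isDomain
  have key : ∀ z : F ⊗[k] K, ∃ p : MvPolynomial ι k, p ≠ 0 ∧ ∃ w, (j p ⊗ₜ[k] (1 : K)) * z = J w := by
    intro z
    induction z using TensorProduct.induction_on with
    | zero => exact ⟨1, one_ne_zero, 0, by simp⟩
    | tmul a b =>
      obtain ⟨r, s, hs, hrs⟩ := hgen a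
      refine ⟨s, hs, r ⊗ₜ b, ?_⟩
      rw [Algebra.TensorProduct.tmul_mul_tmul, one_mul, hrs]
      rfl
    | add a b ha hb =>
      obtain ⟨p, hp, v, hv⟩ := ha
      obtain ⟨q, hq, w, hw⟩ := hb
      refine ⟨p * q, mul_ne_zero hp hq, (q ⊗ₜ 1) * v + (p ⊗ₜ 1) * w, ?_⟩
      rw [map_add J, map_mul J, map_mul J, ← hv, ← hw]
      simp only [J, Algebra.TensorProduct.map_tmul, AlgHom.coe_id, id_eq, map_mul, map_one]
      rw [← mul_assoc, ← mul_assoc, Algebra.TensorProduct.tmul_mul_tmul,
        Algebra.TensorProduct.tmul_mul_tmul, mul_one, mul_comm (j q), mul_add]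
  have hcancel : ∀ (p : MvPolynomial ι k), p ≠ 0 → ∀ z : F ⊗[k] K,
      (j p ⊗ₜ[k] (1 : K)) * z = 0 → z = 0 := by
    intro p hp z hz
    have hu : j p ≠ 0 := fun h => hp (hj (h.trans (map_zero j).symm))
    have := congrArg (((j p)⁻¹ ⊗ₜ[k] (1 : K)) * ·) hz
    simp only [← mul_assoc, Algebra.TensorProduct.tmul_mul_tmul, inv_mul_cancel₀ hu, mul_one,
      mul_zero] at this
    rwa [← Algebra.TensorProduct.one_def, one_mul] at this
  have : Nontrivial (F ⊗[k] K) := H20.GeomIrred.nontrivial_tensor k F K
  have : NoZeroDivisors (F ⊗[k] K) := by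
    refine ⟨fun {a b} hab => ?_⟩
    obtain ⟨p, hp, v, hv⟩ := key a
    obtain ⟨q, hq, w, hw⟩ := key b
    have h0 : J (v * w) = J 0 := by
      rw [map_mul, map_zero, ← hv, ← hw, mul_mul_mul_comm, hab, mul_zero]
    rcases mul_eq_zero.1 (hJ h0) with h | h
    · exact Or.inl (hcancel p hp a (by rw [hv, h, map_zero]))
    · exact Or.inr (hcancel q hq b (by rw [hw, h, map_zero]))
  exact NoZeroDivisors.to_isDomain _

/-- A non-nilpotent element of `L ⊗ K` is regular, `L` being integral over `F` with `F ⊗ K` a
domain. -/
theorem regular_aux {K F L : Type u} [Field K] [Algebra k K] [Field F] [Algebra k F] [Field L]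
    [Algebra k L] [Algebra F L] [IsScalarTower k F L] [Algebra.IsIntegral F L] [IsDomain (F ⊗[k] K)]
    [IrreducibleSpace (PrimeSpectrum (L ⊗[k] K))] {t : L ⊗[k] K} (ht : ¬ IsNilpotent t)
    {z : L ⊗[k] K} (hz : t * z = 0) : z = 0 := by
  let e : (F ⊗[k] K) ⊗[F] L ≃+* L ⊗[k] K :=
    (Algebra.TensorProduct.comm F (F ⊗[k] K) L).toRingEquiv.trans
      (Algebra.TensorProduct.cancelBaseChange k F F L K).toRingEquiv
  have : IrreducibleSpace (PrimeSpectrum ((F ⊗[k] K) ⊗[F] L)) :=
    H20.GeomIrred.irreducible_of_ringEquiv e.symm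
  have hN : (nilradical ((F ⊗[k] K) ⊗[F] L)).IsPrime :=
    PrimeSpectrum.irreducibleSpace_iff_isPrime_nilradical.1 inferInstance
  have h0 : e.symm z = 0 := regular_of_integral (D := F ⊗[k] K) hN
    (Algebra.IsIntegral.isIntegral (e.symm t))
    (fun h => ht (by simpa using h.map e)) (by rw [← map_mul, hz, map_zero])
  exact e.symm.injective (h0.trans (map_zero _).symm)

/-- In a tensor product of fields with irreducible spectrum a non-nilpotent element is regular. -/
theorem regular_of_not_isNilpotent {K L : Type u} [Field K] [Algebra k K] [Field L] [Algebra k L]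
    [IrreducibleSpace (PrimeSpectrum (L ⊗[k] K))] {t : L ⊗[k] K} (ht : ¬ IsNilpotent t)
    {z : L ⊗[k] K} (hz : t * z = 0) : z = 0 := by
  obtain ⟨s, hs⟩ := exists_isTranscendenceBasis k L
  let x : s → L := Subtype.val
  let F := IntermediateField.adjoin k (Set.range x)
  have : Algebra.IsAlgebraic F L := hs.isAlgebraic_field
  have : Algebra.IsIntegral F L := Algebra.IsAlgebraic.isIntegral
  let j : MvPolynomial s k →ₐ[k] F := (MvPolynomial.aeval x).codRestrict F.toSubalgebra fun p =>
    (IntermediateField.mem_adjoin_range_iff k x _).2 ⟨p, 1, by simp⟩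
  have hj : Function.Injective j := fun a b h => hs.1 (congrArg Subtype.val h)
  have : IsDomain (F ⊗[k] K) := isDomain_tensor_fractions j hj fun a => by
    obtain ⟨r, q, hrq⟩ := (IntermediateField.mem_adjoin_range_iff k x _).1 a.2
    by_cases hq : MvPolynomial.aeval x q = 0
    · refine ⟨0, 1, one_ne_zero, ?_⟩
      rw [hq, div_zero] at hrq
      rw [show a = 0 from Subtype.ext hrq, mul_zero, map_zero]
    · refine ⟨r, q, fun h => hq (by rw [h, map_zero]), Subtype.ext ?_⟩
      show MvPolynomial.aeval x q * (a : L) = MvPolynomial.aeval x r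
      rw [hrq]
      field_simp
  exact regular_aux (F := F) ht hz

/-- A minimal polynomial of a separable element stays irreducible over a primary extension. -/
theorem linearIndependent_pow_of_primary {L Ω : Type u} [Field L] [Algebra k L] [Field Ω]
    [IsAlgClosed Ω] [Algebra k Ω] [Algebra L Ω] [IsScalarTower k L Ω]
    (hL : ∀ a : L, IsSeparable k a → a ∈ (algebraMap k L).range) {α : Ω} (hα : IsSeparable k α) :
    LinearIndependent L fun i : Fin (minpoly k α).natDegree => α ^ (i : ℕ) := by
  classical
  have hint : IsIntegral k α := hα.isIntegral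
  have hintL : IsIntegral L α := hint.tower_top
  let g := minpoly L α
  let f := minpoly k α
  have hgf : g ∣ f.map (algebraMap k L) := minpoly.dvd_map_of_isScalarTower k L α
  let S := separableClosure k Ω
  have hroots : ∀ r ∈ (g.map (algebraMap L Ω)).roots, r ∈ S := by
    intro r hr
    have h1 : Polynomial.aeval r g = 0 := by
      rw [Polynomial.mem_roots'] at hr
      rw [Polynomial.aeval_def, Polynomial.eval₂_eq_eval_map]
      exact hr.2
    have h2 : Polynomial.aeval r f = 0 := by
      have := Polynomial.aeval_eq_zero_of_dvd_aeval_eq_zero hgf h1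
      rwa [Polynomial.aeval_map_algebraMap] at this
    exact mem_separableClosure_iff.2 (Polynomial.Separable.of_dvd hα (minpoly.dvd k r h2))
  have hsplit : (g.map (algebraMap L Ω)).Splits := IsAlgClosed.splits _
  have hcoef : ∀ n, algebraMap L Ω (g.coeff n) ∈ S := by
    intro n
    have hl : g.map (algebraMap L Ω) ∈ Polynomial.lifts (algebraMap S Ω) := by
      rw [hsplit.eq_prod_roots, ((minpoly.monic hintL).map _).leadingCoeff, map_one, one_mul]
      refine multiset_prod_mem (S := Polynomial.lifts (algebraMap S Ω)) _ ?_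
      intro p hp
      obtain ⟨r, hr, rfl⟩ := Multiset.mem_map.1 hp
      rw [sub_eq_add_neg, ← Polynomial.C_neg]
      exact add_mem (Polynomial.X_mem_lifts _) (Polynomial.C_mem_lifts (algebraMap S Ω) (-⟨r, hroots r hr⟩))
    obtain ⟨c, hc⟩ := (Polynomial.lifts_iff_coeff_lifts _).1 hl n
    rw [Polynomial.coeff_map] at hc
    exact hc ▸ c.2
  have hlift : g ∈ Polynomial.lifts (algebraMap k L) := by
    refine (Polynomial.lifts_iff_coeff_lifts _).2 fun n => ?_
    refine hL _ ?_
    have := mem_separableClosure_iff.1 (hcoef n)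
    rwa [IsSeparable, minpoly.algebraMap_eq (algebraMap L Ω).injective] at this
  obtain ⟨g0, hg0, hdeg, hmon⟩ := Polynomial.lifts_and_degree_eq_and_monic hlift (minpoly.monic hintL)
  have h0 : Polynomial.aeval α g0 = 0 := by
    rw [← Polynomial.aeval_map_algebraMap L α g0, hg0]
    exact minpoly.aeval L α
  have hle : (minpoly k α).natDegree ≤ g.natDegree := by
    rw [← hg0, Polynomial.natDegree_map]
    exact Polynomial.natDegree_le_of_dvd (minpoly.dvd k α h0) hmon.ne_zero
  exact (linearIndependent_pow α).comp (Fin.castLE hle) (Fin.castLE_injective hle)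

/-- A finite separable extension tensored with a primary extension is a domain. -/
theorem isDomain_tensor_of_primary {E L : Type u} [Field E] [Algebra k E] [FiniteDimensional k E]
    [Algebra.IsSeparable k E] [Field L] [Algebra k L]
    (hL : ∀ a : L, IsSeparable k a → a ∈ (algebraMap k L).range) : IsDomain (E ⊗[k] L) := by
  obtain ⟨a, ha⟩ := Field.exists_primitive_element k E
  let Ω := AlgebraicClosure L
  let i : E →ₐ[k] Ω := IsAlgClosed.lift
  let α := i a
  have hα : IsSeparable k α := by
    rw [IsSeparable, minpoly.algHom_eq i i.injective]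
    exact Algebra.IsSeparable.isSeparable k a
  have hrange : IntermediateField.adjoin k {α} = i.fieldRange := by
    rw [AlgHom.fieldRange_eq_map, ← ha, IntermediateField.adjoin_map, Set.image_singleton]
  let A := IntermediateField.adjoin k {α}
  let b := IntermediateField.adjoin.powerBasis hα.isIntegral
  have hld : A.LinearDisjoint L := IntermediateField.LinearDisjoint.of_basis_left b.basis (by
    have := linearIndependent_pow_of_primary (L := L) hL hα
    have he : (A.val ∘ b.basis) = fun i : Fin b.dim => α ^ (i : ℕ) := by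
      funext i
      simp [b, A, PowerBasis.basis_eq_pow, IntermediateField.adjoin.powerBasis_gen]
    rw [he]
    exact this)
  have := hld.isDomain
  let e : E ≃ₐ[k] A := (AlgEquiv.ofInjectiveField i).trans
    (IntermediateField.equivOfEq hrange.symm)
  exact (Algebra.TensorProduct.congr e (AlgEquiv.refl : L ≃ₐ[k] L)).toMulEquiv.isDomain

/-- Primary extensions are geometrically irreducible. -/
theorem irreducibleSpace_of_primary {L : Type u} [Field L] [Algebra k L]
    (hL : ∀ a : L, IsSeparable k a → a ∈ (algebraMap k L).range)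
    (K : Type u) [Field K] [Algebra k K] : IrreducibleSpace (PrimeSpectrum (L ⊗[k] K)) := by
  have : IrreducibleSpace (PrimeSpectrum (SeparableClosure k ⊗[k] L)) :=
    H20.GeomIrred.irreducible_of_algebraic fun E _ => by
      have : Algebra.IsSeparable k E := Algebra.isSeparable_tower_bot_of_isSeparable k E (SeparableClosure k)
      have := isDomain_tensor_of_primary (E := E) hL
      infer_instance
  let i : SeparableClosure k →ₐ[k] AlgebraicClosure K := IsAlgClosed.lift
  letI := i.toRingHom.toAlgebra
  haveI : IsScalarTower k (SeparableClosure k) (AlgebraicClosure K) :=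
    .of_algebraMap_eq fun c => (i.commutes c).symm
  haveI := H20.GeomIrred.irreducible_bc k (SeparableClosure k) (AlgebraicClosure K) L
  haveI : IrreducibleSpace (PrimeSpectrum (K ⊗[k] L)) := H20.GeomIrred.irreducible_of_injective
    (Algebra.TensorProduct.map (IsScalarTower.toAlgHom k K (AlgebraicClosure K)) (AlgHom.id k L)).toRingHom
    (H20.GeomIrred.tensor_map_injective _ (algebraMap K (AlgebraicClosure K)).injective _
      Function.injective_id)
  exact H20.GeomIrred.irreducible_of_ringEquiv (Algebra.TensorProduct.comm k K L).toRingEquiv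

end Groth.Agent.H47.FieldTensor
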