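import Groth.Agent.Lib.LocalFlat.Fibre
import Mathlib.RingTheory.Flat.Stability
import Mathlib.LinearAlgebra.TensorProduct.Pi
import Mathlib.RingTheory.Ideal.Quotient.Operations

/-!
# Flatness along nilpotent ideals tested on a finite separating family of algebras
-/

namespace Groth.Agent.H47.FlatFamily

open TensorProduct
open Groth.Agent.Lib.LocalFlat.Basic

universe u v

variable {A : Type u} [CommRing A] {M : Type v} [AddCommGroup M] [Module A M]

lemma flat_quotient_of_le {J K : Ideal A} (h : J ≤ K) [Module.Flat (A ⧸ J) ((A ⧸ J) ⊗[A] M)] :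
    Module.Flat (A ⧸ K) ((A ⧸ K) ⊗[A] M) := by
  let : Algebra (A ⧸ J) (A ⧸ K) := (Ideal.Quotient.factor h).toAlgebra
  have : IsScalarTower A (A ⧸ J) (A ⧸ K) := IsScalarTower.of_algebraMap_eq fun _ ↦ rfl
  exact Module.Flat.of_linearEquiv
    (AlgebraTensorModule.cancelBaseChange A (A ⧸ J) (A ⧸ K) (A ⧸ K) M).symm

section

variable (J : Ideal A) {ι : Type*} (B : ι → Type u) [∀ i, CommRing (B i)] [∀ i, Algebra A (B i)]

/-- pullback of the `J`-adic filtrations of the members of the family -/
def filt (k : ℕ) : Ideal A :=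
  ⨅ i, (J.map (algebraMap A (B i)) ^ k).comap (algebraMap A (B i))

lemma mem_filt {k : ℕ} {a : A} :
    a ∈ filt J B k ↔ ∀ i, algebraMap A (B i) a ∈ J.map (algebraMap A (B i)) ^ k := by
  simp [filt]

lemma le_filt_one : J ≤ filt J B 1 := fun a ha ↦
  (mem_filt J B).2 fun i ↦ by rw [pow_one]; exact Ideal.mem_map_of_mem _ ha

lemma filt_anti {k l : ℕ} (h : k ≤ l) : filt J B l ≤ filt J B k := fun a ha ↦
  (mem_filt J B).2 fun i ↦ Ideal.pow_le_pow_right h ((mem_filt J B).1 ha i)

variable {J B}

lemma filt_eq_bot {N : ℕ} (hN : J ^ N = ⊥) (hinj : ∀ a : A, (∀ i, algebraMap A (B i) a = 0) → a = 0) :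
    filt J B N = ⊥ := le_bot_iff.1 fun a ha ↦ hinj a fun i ↦ by
  have := (mem_filt J B).1 ha i
  rwa [← Ideal.map_pow, hN, Ideal.map_bot, Ideal.mem_bot] at this

lemma smul_mem_filt_succ {k : ℕ} {r a : A} (hr : r ∈ J) (ha : a ∈ filt J B k) :
    r * a ∈ filt J B (k + 1) := (mem_filt J B).2 fun i ↦ by
  rw [map_mul, pow_succ']
  exact Ideal.mul_mem_mul (Ideal.mem_map_of_mem _ hr) ((mem_filt J B).1 ha i)

variable (B)

lemma injective_filt_step [Finite ι] [Module.Flat (A ⧸ J) ((A ⧸ J) ⊗[A] M)]
    (hinjW : ∀ i (V : Type u) [AddCommGroup V] [Module A V] [Module (B i) V] [IsScalarTower A (B i) V]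
      (W : Submodule (B i) V), (∀ r ∈ J, ∀ w ∈ W, r • w = 0) →
      Function.Injective ((W.subtype.restrictScalars A).lTensor M)) (k : ℕ)
    (h : Function.Injective ((filt J B (k + 1)).subtype.lTensor M)) :
    Function.Injective ((filt J B k).subtype.lTensor M) := by
  classical
  cases nonempty_fintype ι
  let K := filt J B k
  let P : Submodule A ↥K := Submodule.comap K.subtype (filt J B (k + 1))
  let V := fun i ↦ B i ⧸ (J.map (algebraMap A (B i))) ^ (k + 1)
  let W := fun i ↦ Submodule.map ((J.map (algebraMap A (B i))) ^ (k + 1)).mkQ ((J.map (algebraMap A (B i))) ^ k)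
  let g : ∀ i, ↥K →ₗ[A] ↥(W i) := fun i ↦
    { toFun := fun a ↦ ⟨Submodule.Quotient.mk (algebraMap A (B i) a),
        Submodule.mem_map_of_mem ((mem_filt J B).1 a.2 i)⟩
      map_add' := fun a b ↦ Subtype.ext (by simp)
      map_smul' := fun r a ↦ Subtype.ext (by
        show Submodule.Quotient.mk (algebraMap A (B i) (r * a)) =
          r • (Submodule.Quotient.mk (algebraMap A (B i) a) : V i)
        rw [← Submodule.Quotient.mk_smul, Algebra.smul_def, map_mul]) }
  let G : ↥K ⧸ P →ₗ[A] (∀ i, ↥(W i)) := P.liftQ (LinearMap.pi g) fun a ha ↦ by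
    rw [LinearMap.mem_ker]
    funext i
    exact Subtype.ext ((Submodule.Quotient.mk_eq_zero _).2 ((mem_filt J B).1 ha i))
  have hG : Function.Injective G := by
    rw [← LinearMap.ker_eq_bot, Submodule.ker_liftQ_eq_bot]
    intro a ha
    rw [LinearMap.mem_ker] at ha
    exact (mem_filt J B).2 fun i ↦ (Submodule.Quotient.mk_eq_zero _).1 (congrArg Subtype.val (congrFun ha i))
  have hW : ∀ r ∈ J, ∀ w : (∀ i, ↥(W i)), r • w = 0 := by
    intro r hr w
    funext i
    obtain ⟨b, hb, hbw⟩ := Submodule.mem_map.1 (w i).2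
    refine Subtype.ext ?_
    show r • ((w i : V i)) = 0
    rw [← hbw, Submodule.mkQ_apply, ← Submodule.Quotient.mk_smul, Submodule.Quotient.mk_eq_zero,
      Algebra.smul_def, pow_succ']
    exact Ideal.mul_mem_mul (Ideal.mem_map_of_mem _ hr) hb
  have hGM := lTensor_injective_of_smul_eq_zero (M := M) G hG hW
  have hWV : ∀ i, Function.Injective (((W i).subtype.restrictScalars A).lTensor M) := fun i ↦
    hinjW i _ (W i) fun r hr w hw ↦ by
      have := hW r hr (Pi.single i ⟨w, hw⟩)
      simpa using congrArg Subtype.val (congrFun this i)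
  rw [injective_iff_map_eq_zero]
  intro x hx
  have hxG : P.mkQ.lTensor M x = 0 := by
    apply hGM
    rw [map_zero, ← LinearMap.comp_apply, ← LinearMap.lTensor_comp, Submodule.liftQ_mkQ]
    apply (TensorProduct.piRight A A M (fun i ↦ ↥(W i))).injective
    rw [map_zero]
    funext i
    apply hWV i
    have e1 : ∀ z : M ⊗[A] ↥K,
        (TensorProduct.piRight A A M (fun i ↦ ↥(W i))) ((LinearMap.pi g).lTensor M z) i = (g i).lTensor M z := by
      intro z
      induction z using TensorProduct.induction_on with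
      | zero => simp
      | add p q hp hq => simp only [map_add, Pi.add_apply, hp, hq]
      | tmul m a => simp
    rw [e1, Pi.zero_apply, map_zero, ← LinearMap.comp_apply, ← LinearMap.lTensor_comp]
    let π : A →ₗ[A] V i :=
      (((J.map (algebraMap A (B i))) ^ (k + 1)).mkQ.restrictScalars A).comp (Algebra.linearMap A (B i))
    have : ((W i).subtype.restrictScalars A).comp (g i) = π.comp K.subtype := rfl
    rw [this, LinearMap.lTensor_comp, LinearMap.comp_apply, hx, map_zero]
  obtain ⟨y, rfl⟩ := ((lTensor_exact (R := A) M (LinearMap.exact_subtype_mkQ P) P.mkQ_surjective) x).1 hxG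
  let e : ↥P →ₗ[A] ↥(filt J B (k + 1)) :=
    { toFun := fun a ↦ ⟨a.1.1, a.2⟩
      map_add' := fun _ _ ↦ rfl
      map_smul' := fun _ _ ↦ rfl }
  have e2 : (filt J B (k + 1)).subtype.comp e = K.subtype.comp P.subtype := rfl
  have h2 : e.lTensor M y = 0 := by
    apply h
    rw [map_zero, ← LinearMap.comp_apply, ← LinearMap.lTensor_comp, e2, LinearMap.lTensor_comp,
      LinearMap.comp_apply, hx]
  let e' : ↥(filt J B (k + 1)) →ₗ[A] ↥K := Submodule.inclusion (filt_anti J B k.le_succ)
  have e3 : e'.comp e = P.subtype := rfl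
  rw [← e3, LinearMap.lTensor_comp, LinearMap.comp_apply, h2, map_zero]

variable {B}

/-- `J` nilpotent, `M/JM` flat, and a finite separating family of algebras over which `M` becomes
flat: then `M` is flat. -/
theorem flat_of_finite_family' [Finite ι] (hJ : IsNilpotent J)
    [Module.Flat (A ⧸ J) ((A ⧸ J) ⊗[A] M)]
    (hinj : ∀ a : A, (∀ i, algebraMap A (B i) a = 0) → a = 0)
    (hinjW : ∀ i (V : Type u) [AddCommGroup V] [Module A V] [Module (B i) V] [IsScalarTower A (B i) V]
      (W : Submodule (B i) V), (∀ r ∈ J, ∀ w ∈ W, r • w = 0) →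
      Function.Injective ((W.subtype.restrictScalars A).lTensor M)) : Module.Flat A M := by
  obtain ⟨N, hN⟩ := hJ
  have hbot := filt_eq_bot (B := B) hN hinj
  have key : ∀ d k, N ≤ k + d → Function.Injective ((filt J B k).subtype.lTensor M) := by
    intro d
    induction d with
    | zero =>
      intro k hk
      have : filt J B k = ⊥ := le_bot_iff.1 ((filt_anti J B (by omega)).trans hbot.le)
      have : Subsingleton ↥(filt J B k) := Submodule.subsingleton_iff_eq_bot.2 this
      exact Function.injective_of_subsingleton _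
    | succ d ih => exact fun k hk ↦ injective_filt_step B hinjW k (ih (k + 1) (by omega))
  have := flat_quotient_of_le (M := M) (le_filt_one J B)
  have hpow : filt J B 1 ^ N = ⊥ := by
    refine le_bot_iff.1 (le_trans ?_ hbot.le)
    intro a ha
    refine (mem_filt J B).2 fun i ↦ ?_
    have h1 : (filt J B 1).map (algebraMap A (B i)) ≤ J.map (algebraMap A (B i)) :=
      Ideal.map_le_iff_le_comap.2 ((iInf_le _ i).trans (by rw [pow_one]))
    exact Ideal.pow_right_mono h1 N (by rw [← Ideal.map_pow]; exact Ideal.mem_map_of_mem _ ha)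
  refine flat_of_tor1Zero fun a _ ↦ Tor1Zero.of_pow_smul_eq_zero (key N 1 (by omega)) N ?_
  intro r hr x
  rw [hpow, Ideal.mem_bot] at hr
  rw [hr, zero_smul]

/-- The same for a family over which `M` becomes flat. -/
theorem flat_of_finite_family [Finite ι] (hJ : IsNilpotent J)
    [Module.Flat (A ⧸ J) ((A ⧸ J) ⊗[A] M)]
    (hinj : ∀ a : A, (∀ i, algebraMap A (B i) a = 0) → a = 0)
    (hflat : ∀ i, Module.Flat (B i) (B i ⊗[A] M)) : Module.Flat A M :=
  flat_of_finite_family' hJ hinj fun i _ _ _ _ _ W _ =>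
    have := hflat i
    lTensor_injective_of_baseChange_flat M W.subtype W.injective_subtype

end

end Groth.Agent.H47.FlatFamily
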