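import Groth.Agent.H47.ArtinReg
import Groth.Agent.H47.FieldTensor
import Groth.Agent.H47.FlatFamily

/-!
# Flatness tested on separating families of local algebras
-/

set_option autoImplicit false

universe u

open TensorProduct

namespace Groth.Agent.H47.ArtinFamily

open Groth.Agent.H47.GrFlat Groth.Agent.H47.ArtinReg

variable {A : Type u} [CommRing A]

section transfer

variable {k : Type u} [CommRing k] [Algebra A k] {K L : Type u} [CommRing K] [Algebra A K]
  [Algebra k K] [IsScalarTower A k K] [CommRing L] [Algebra A L] [Algebra k L] [IsScalarTower A k L]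

/-- Changing the ring of the tensor product along a surjection. -/
theorem regular_transfer (hk : Function.Surjective (algebraMap A k))
    (h : ∀ t : L ⊗[k] K, ¬ IsNilpotent t → ∀ y, t * y = 0 → y = 0)
    (t : K ⊗[A] L) (ht : ¬ IsNilpotent t) (y : K ⊗[A] L) (hy : t * y = 0) : y = 0 := by
  have hsmul : ∀ (c : k) (l : L) (r : A), algebraMap A k r = c → c • l = r • l :=
    fun c l r hr => by rw [← hr, algebraMap_smul]
  have : TensorProduct.CompatibleSMul A k K L := ⟨fun c a b => by
    obtain ⟨r, hr⟩ := hk c
    rw [← hr, algebraMap_smul, algebraMap_smul, TensorProduct.smul_tmul]⟩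
  let e : K ⊗[A] L →+* L ⊗[k] K := (Algebra.TensorProduct.comm k K L).toRingEquiv.toRingHom.comp
    (Algebra.TensorProduct.mapOfCompatibleSMul k A A K L).toRingHom
  have he : Function.Injective e :=
    (Algebra.TensorProduct.comm k K L).injective.comp
      (TensorProduct.equivOfCompatibleSMul k A A K L).injective
  refine he ((h (e t) ?_ (e y) (by rw [← map_mul, hy, map_zero])).trans (map_zero e).symm)
  rintro ⟨N, hN⟩
  exact ht ⟨N, he (by rw [map_pow, hN, map_zero])⟩

end transfer

section

variable {P : Type u} [CommRing P] [Algebra A P] [IsLocalRing P]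
  {M : Type u} [AddCommGroup M] [Module A M] [Module P M] [IsScalarTower A P M]

variable (P M) in
/-- Tensoring with `M` preserves injections of `E`-modules whose source is killed by `J`. -/
def Good (J : Ideal A) (E : Type u) [CommRing E] [Algebra A E] : Prop :=
  ∀ (X Y : Type u) [AddCommGroup X] [AddCommGroup Y] [Module A X] [Module A Y] [Module E X]
    [Module E Y] [IsScalarTower A E X] [IsScalarTower A E Y] (f : X →ₗ[E] Y), Function.Injective f →
    (∀ r ∈ J, ∀ x : X, r • x = 0) → Function.Injective (wmap (R := A) f (LinearMap.id : M →ₗ[P] M))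

variable {E : Type u} [CommRing E] [Algebra A E] [IsLocalRing E]

/-- the ideal of the closed fibre over the closed point -/
noncomputable abbrev closedIdeal (P E : Type u) [CommRing P] [Algebra A P] [IsLocalRing P] [CommRing E]
    [Algebra A E] [IsLocalRing E] : Ideal (E ⊗[A] P) :=
  RingHom.ker (resMap (A := A) (IsLocalRing.maximalIdeal E) (IsLocalRing.maximalIdeal P))

theorem closedIdeal_le (Q : Ideal (E ⊗[A] P))
    (hn : IsLocalRing.maximalIdeal E ≤
      Q.comap (Algebra.TensorProduct.includeLeft : E →ₐ[A] E ⊗[A] P))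
    (hq : IsLocalRing.maximalIdeal P ≤
      Q.comap (Algebra.TensorProduct.includeRight : P →ₐ[A] E ⊗[A] P)) :
    closedIdeal P E ≤ Q := by
  rw [closedIdeal, Algebra.TensorProduct.map_ker _ _ Ideal.Quotient.mk_surjective
    Ideal.Quotient.mk_surjective]
  refine sup_le ?_ ?_
  · rw [Ideal.map_le_iff_le_comap]
    exact fun x hx => hn (Ideal.Quotient.eq_zero_iff_mem.1 hx)
  · rw [Ideal.map_le_iff_le_comap]
    exact fun x hx => hq (Ideal.Quotient.eq_zero_iff_mem.1 hx)

variable [IsNoetherianRing A] [IsNoetherianRing P] [Module.Finite P M]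

/-- Flatness at all the points of the closed fibre over the closed point. -/
theorem good_of_forall (J : Ideal A) [J.IsMaximal]
    (hJE : J.map (algebraMap A E) ≤ IsLocalRing.maximalIdeal E)
    (h : ∀ Q : Ideal (E ⊗[A] P), Q.IsPrime → closedIdeal P E ≤ Q → FlatAt A M E Q) :
    Good P M J E := by
  intro X Y _ _ _ _ _ _ _ _ f hf hX
  rw [injective_iff_map_eq_zero]
  intro z hz
  have htop : Ideal.torsionOf (E ⊗[A] P) (X ⊗[A] M) z ⊔ closedIdeal P E = ⊤ := by
    by_contra hne
    obtain ⟨Q, hQ, hle⟩ := Ideal.exists_le_maximal _ hne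
    obtain ⟨s, hs, hs0⟩ := h Q hQ.isPrime (le_sup_right.trans hle) X Y f hf z hz
    exact hs (hle (Ideal.mem_sup_left hs0))
  obtain ⟨t, htz, u, hu, h1⟩ := Submodule.mem_sup.1 ((Ideal.eq_top_iff_one _).1 htop)
  refine Reg.of_regular J hJE hX t (fun y hy => ?_) z htz
  have := congrArg (resMap (A := A) (IsLocalRing.maximalIdeal E) (IsLocalRing.maximalIdeal P)) h1
  rw [map_add, show resMap (A := A) _ _ u = 0 from hu, add_zero, map_one] at this
  rwa [this, one_mul] at hy

/-- Flatness at one point of the closed fibre, when the residue extension is primary. -/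
theorem good_of_exists (J : Ideal A) [J.IsMaximal]
    (hJE : J.map (algebraMap A E) ≤ IsLocalRing.maximalIdeal E)
    (hJP : J.map (algebraMap A P) ≤ IsLocalRing.maximalIdeal P)
    (hprim : ∀ l : P ⧸ IsLocalRing.maximalIdeal P,
      (∃ p : Polynomial (A ⧸ J), p.Separable ∧
        p.eval₂ (Ideal.Quotient.lift J (algebraMap A (P ⧸ IsLocalRing.maximalIdeal P)) fun r hr =>
          Ideal.Quotient.eq_zero_iff_mem.2 (hJP (Ideal.mem_map_of_mem _ hr))) l = 0) →
      l ∈ (algebraMap A (P ⧸ IsLocalRing.maximalIdeal P)).range)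
    (Q : Ideal (E ⊗[A] P)) [Q.IsPrime] (hle : closedIdeal P E ≤ Q) (h : FlatAt A M E Q) :
    Good P M J E := by
  intro X Y _ _ _ _ _ _ _ _ f hf hX
  rw [injective_iff_map_eq_zero]
  intro z hz
  obtain ⟨s, hs, hs0⟩ := h X Y f hf z hz
  refine Reg.of_regular J hJE hX s (fun y hy => ?_) z hs0
  have hnil : ¬ IsNilpotent (resMap (A := A) (IsLocalRing.maximalIdeal E)
      (IsLocalRing.maximalIdeal P) s) := by
    rintro ⟨N, hN⟩
    rw [← map_pow] at hN
    exact hs (‹Q.IsPrime›.mem_of_pow_mem N (hle hN))
  let := Ideal.Quotient.field J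
  let := Ideal.Quotient.field (IsLocalRing.maximalIdeal P)
  let := Ideal.Quotient.field (IsLocalRing.maximalIdeal E)
  let φP : A ⧸ J →+* P ⧸ IsLocalRing.maximalIdeal P := Ideal.Quotient.lift J (algebraMap A _)
    fun r hr => Ideal.Quotient.eq_zero_iff_mem.2 (hJP (Ideal.mem_map_of_mem _ hr))
  let φE : A ⧸ J →+* E ⧸ IsLocalRing.maximalIdeal E := Ideal.Quotient.lift J (algebraMap A _)
    fun r hr => Ideal.Quotient.eq_zero_iff_mem.2 (hJE (Ideal.mem_map_of_mem _ hr))
  let _ : Algebra (A ⧸ J) (P ⧸ IsLocalRing.maximalIdeal P) := φP.toAlgebra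
  let _ : Algebra (A ⧸ J) (E ⧸ IsLocalRing.maximalIdeal E) := φE.toAlgebra
  have : IsScalarTower A (A ⧸ J) (P ⧸ IsLocalRing.maximalIdeal P) := .of_algebraMap_eq fun _ => rfl
  have : IsScalarTower A (A ⧸ J) (E ⧸ IsLocalRing.maximalIdeal E) := .of_algebraMap_eq fun _ => rfl
  have := FieldTensor.irreducibleSpace_of_primary (k := A ⧸ J) (L := P ⧸ IsLocalRing.maximalIdeal P)
    (fun a ha => by
      obtain ⟨r, hr⟩ := hprim a ⟨minpoly (A ⧸ J) a, ha, minpoly.aeval _ _⟩
      exact ⟨Ideal.Quotient.mk J r, hr⟩) (E ⧸ IsLocalRing.maximalIdeal E)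
  exact regular_transfer (k := A ⧸ J) Ideal.Quotient.mk_surjective
    (fun t ht y hy => FieldTensor.regular_of_not_isNilpotent ht hy) _ hnil y hy

end

section family

variable {P : Type u} [CommRing P] [Algebra A P] [IsLocalRing P] [IsNoetherianRing P]
  {M : Type u} [AddCommGroup M] [Module A M] [Module P M] [IsScalarTower A P M] [Module.Finite P M]

set_option maxHeartbeats 1000000 in
/-- Flatness from a family of algebras whose filtrations are separating for the adic topology. -/
theorem flat_of_family [IsLocalRing A] [IsNoetherianRing A] [IsLocalHom (algebraMap A P)]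
    {ι : Type u} (E : ι → Type u) [∀ i, CommRing (E i)] [∀ i, Algebra A (E i)]
    (hgood : ∀ i, Good P M (IsLocalRing.maximalIdeal A) (E i))
    (hfam : ∀ N : ℕ, ∃ (κ : Type u) (_ : Finite κ) (i : κ → ι) (I : ∀ j, Ideal (E (i j))),
      (⨅ j, (I j).comap (algebraMap A (E (i j)))) ≤ IsLocalRing.maximalIdeal A ^ N ∧
        ∃ c, IsLocalRing.maximalIdeal A ^ c ≤ ⨅ j, (I j).comap (algebraMap A (E (i j)))) :
    Module.Flat A M := by
  let m := IsLocalRing.maximalIdeal A
  refine Lib.LocalFlat.Criterion.flat_of_flat_quotient_pow P m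
    (Lib.LocalFlat.Criterion.map_le_jacobson_bot_of_isLocalHom (IsLocalRing.maximalIdeal.isMaximal A).ne_top)
    fun N => ?_
  obtain ⟨κ, _, i, I, hle, c, hc⟩ := hfam (N + 1)
  let a := ⨅ j, (I j).comap (algebraMap A (E (i j)))
  have haN : a ≤ m ^ N := hle.trans (Ideal.pow_le_pow_right N.le_succ)
  have ham : a ≤ m := hle.trans (Ideal.pow_le_self N.succ_ne_zero)
  let A' := A ⧸ a
  let B : κ → Type u := fun j => E (i j) ⧸ I j
  let _ : ∀ j, Algebra A' (B j) := fun j =>
    (Ideal.Quotient.lift a (algebraMap A (B j)) fun x hx =>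
      Ideal.Quotient.eq_zero_iff_mem.2 ((Submodule.mem_iInf _).1 hx j)).toAlgebra
  have : ∀ j, IsScalarTower A A' (B j) := fun j => .of_algebraMap_eq fun _ => rfl
  let J : Ideal A' := m.map (Ideal.Quotient.mk a)
  have hJmax : J.IsMaximal := Ideal.IsMaximal.map_of_surjective_of_ker_le Ideal.Quotient.mk_surjective
    (by rwa [Ideal.mk_ker])
  have hJnil : IsNilpotent J := ⟨c, by
    rw [← Ideal.map_pow, Ideal.zero_eq_bot, Ideal.map_eq_bot_iff_le_ker, Ideal.mk_ker]
    exact hc⟩
  let := Ideal.Quotient.field J
  have hflat : Module.Flat A' (A' ⊗[A] M) := by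
    refine FlatFamily.flat_of_finite_family' (B := B) hJnil (fun x hx => ?_) ?_
    · obtain ⟨x, rfl⟩ := Ideal.Quotient.mk_surjective x
      exact Ideal.Quotient.eq_zero_iff_mem.2 ((Submodule.mem_iInf _).2 fun j =>
        Ideal.mem_comap.2 (Ideal.Quotient.eq_zero_iff_mem.1 (hx j)))
    intro j V _ _ _ _ W hW
    let _ : Module A V := Module.compHom V (Ideal.Quotient.mk a)
    let _ : Module (E (i j)) V := Module.compHom V (Ideal.Quotient.mk (I j))
    have : IsScalarTower A A' V := IsScalarTower.of_algebraMap_smul fun r v => rfl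
    have : IsScalarTower (E (i j)) (B j) V := IsScalarTower.of_algebraMap_smul fun r v => rfl
    have : IsScalarTower A (E (i j)) V := IsScalarTower.of_algebraMap_smul fun r v => by
      show Ideal.Quotient.mk (I j) (algebraMap A (E (i j)) r) • v = Ideal.Quotient.mk a r • v
      rw [← algebraMap_smul (B j) (Ideal.Quotient.mk a r) v]
      rfl
    have : IsScalarTower A (B j) V := IsScalarTower.of_algebraMap_smul fun r v => by
      show algebraMap A' (B j) (Ideal.Quotient.mk a r) • v = _
      rw [algebraMap_smul]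
      rfl
    let W0 : Submodule (E (i j)) V := W.restrictScalars (E (i j))
    have h1 := hgood (i j) ↥W0 V W0.subtype Subtype.val_injective fun r hr w => Subtype.ext (by
      show r • (w : V) = 0
      rw [← algebraMap_smul A' r (w : V)]
      exact hW _ (Ideal.mem_map_of_mem _ hr) _ w.2)
    let cW := (TensorProduct.comm A' (A' ⊗[A] M) ↥W).trans
      (AlgebraTensorModule.cancelBaseChange A A' A' ↥W M)
    let cV := (TensorProduct.comm A' (A' ⊗[A] M) V).trans
      (AlgebraTensorModule.cancelBaseChange A A' A' V M)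
    let W1 : ↥W →ₗ[A] ↥W0 :=
      { toFun := fun w => ⟨w.1, w.2⟩, map_add' := fun _ _ => rfl, map_smul' := fun _ _ => rfl }
    have hW1 : Function.Injective (W1.rTensor M) :=
      Function.LeftInverse.injective (g := ({ toFun := fun w => ⟨w.1, w.2⟩
                                              map_add' := fun _ _ => rfl
                                              map_smul' := fun _ _ => rfl } : ↥W0 →ₗ[A] ↥W).rTensor M)
        fun z => by
          rw [← LinearMap.comp_apply, ← LinearMap.rTensor_comp]
          exact LinearMap.rTensor_id_apply M _ z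
    have key : ∀ z, cV ((W.subtype.restrictScalars A').lTensor _ z) =
        wmap (R := A) W0.subtype (LinearMap.id : M →ₗ[P] M) (W1.rTensor M (cW z)) := by
      intro z
      induction z using TensorProduct.induction_on with
      | zero => simp
      | add x y hx hy => simp only [map_add, hx, hy]
      | tmul u w =>
        induction u using TensorProduct.induction_on with
        | zero => simp
        | add x y hx hy => simp only [add_tmul, map_add, hx, hy]
        | tmul r x => simp [cW, cV, W1, W0, wmap_tmul]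
    intro x y hxy
    have := congrArg cV hxy
    rw [key, key] at this
    exact cW.injective (hW1 (h1 this))
  let g := Ideal.Quotient.factor haN
  let _ : Algebra A' (A ⧸ m ^ N) := g.toAlgebra
  have : IsScalarTower A A' (A ⧸ m ^ N) := .of_algebraMap_eq fun _ => rfl
  exact Module.Flat.of_linearEquiv
    (AlgebraTensorModule.cancelBaseChange A A' (A ⧸ m ^ N) (A ⧸ m ^ N) M).symm

end family

end Groth.Agent.H47.ArtinFamily
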