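import Groth.Agent.H47.GrBasic
import Groth.Agent.Lib.LocalFlat.Criterion
import Mathlib.LinearAlgebra.Basis.VectorSpace
import Mathlib.RingTheory.Artinian.Module
import Mathlib.RingTheory.LocalRing.ResidueField.Basic

/-!
# Regular elements on tensor products of modules killed by a maximal ideal

An element of `E ⊗ P` whose image in the tensor product of the residue fields is regular acts
injectively on `X ⊗ M`, for `X` killed by a maximal ideal of the base and `M` finite.
-/

set_option autoImplicit false

universe u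

open TensorProduct

namespace Groth.Agent.H47.ArtinReg

open Groth.Agent.H47.GrFlat

variable {A : Type u} [CommRing A]

/-- Tensoring preserves injections into modules killed by a maximal ideal. -/
theorem rTensor_injective_of_killed (J : Ideal A) [J.IsMaximal] (M : Type u) [AddCommGroup M]
    [Module A M] {X Y : Type u} [AddCommGroup X] [Module A X] [AddCommGroup Y] [Module A Y]
    (f : X →ₗ[A] Y) (hf : Function.Injective f) (hY : ∀ r ∈ J, ∀ y : Y, r • y = 0) :
    Function.Injective (f.rTensor M) := by
  let := Ideal.Quotient.field J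
  have : Module.Flat (A ⧸ J) ((A ⧸ J) ⊗[A] M) := inferInstance
  have h := Lib.LocalFlat.Basic.lTensor_injective_of_smul_eq_zero (I := J) (M := M) f hf hY
  have e : f.rTensor M = ((TensorProduct.comm A M Y).toLinearMap.comp (f.lTensor M)).comp
      (TensorProduct.comm A X M).toLinearMap := TensorProduct.ext' fun _ _ => by simp
  rw [e]
  simpa [LinearMap.coe_comp] using h

/-- An element vanishing modulo every member of a separated filtration vanishes. -/
theorem eq_zero_of_separated (J : Ideal A) [J.IsMaximal] (M : Type u) [AddCommGroup M] [Module A M]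
    {X : Type u} [AddCommGroup X] [Module A X] (hX : ∀ r ∈ J, ∀ x : X, r • x = 0)
    (N : ℕ → Submodule A X) (hN : ∀ j, N (j + 1) ≤ N j) (hsep : ∀ x, (∀ j, x ∈ N j) → x = 0)
    (z : X ⊗[A] M) (hz : ∀ j, (N j).mkQ.rTensor M z = 0) : z = 0 := by
  let := Ideal.Quotient.field J
  obtain ⟨s, rfl⟩ := TensorProduct.exists_finset z
  classical
  let V : Submodule A X := Submodule.span A (s.image Prod.fst : Set X)
  have hVfin : Module.Finite A V := Module.Finite.iff_fg.2 ⟨s.image Prod.fst, rfl⟩
  have hT : Module.IsTorsionBySet A V J := fun x r => Subtype.ext (hX r.1 r.2 x.1)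
  let _ : Module (A ⧸ J) V := hT.module
  have : IsScalarTower A (A ⧸ J) V := hT.isScalarTower
  have : Module.Finite (A ⧸ J) V := Module.Finite.of_restrictScalars_finite A (A ⧸ J) V
  let W : ℕ →o (Submodule (A ⧸ J) V)ᵒᵈ :=
    { toFun := fun j => OrderDual.toDual (Lib.LocalFlat.Basic.liftSubmodule ((N j).comap V.subtype))
      monotone' := monotone_nat_of_le_succ fun j x hx => hN j hx }
  obtain ⟨n, hn⟩ := IsArtinian.monotone_stabilizes W
  have hinj : Function.Injective ((N n).mkQ.comp V.subtype) := by
    rw [injective_iff_map_eq_zero]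
    intro x hx
    have hxn : (x : X) ∈ N n := (Submodule.Quotient.mk_eq_zero _).1 hx
    refine Subtype.ext (hsep _ fun j => ?_)
    rcases le_total n j with h | h
    · have := hn j h
      exact (show x ∈ OrderDual.ofDual (W j) by rw [← this]; exact hxn)
    · exact antitone_nat_of_succ_le hN h hxn
  let zV : V ⊗[A] M := ∑ i ∈ s.attach,
    (⟨i.1.1, Submodule.subset_span (Finset.mem_coe.2 (Finset.mem_image_of_mem _ i.2))⟩ : V) ⊗ₜ i.1.2
  have hzV : V.subtype.rTensor M zV = ∑ i ∈ s, i.1 ⊗ₜ[A] i.2 := by
    rw [map_sum]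
    exact Finset.sum_attach s fun i => i.1 ⊗ₜ[A] i.2
  have hq := rTensor_injective_of_killed J M _ hinj fun r hr y => by
    obtain ⟨y, rfl⟩ := (N n).mkQ_surjective y
    rw [← map_smul, hX r hr, map_zero]
  have : zV = 0 := hq (by
    rw [map_zero, LinearMap.rTensor_comp, LinearMap.comp_apply, hzV, hz])
  rw [← hzV, this, map_zero]

section

variable {P : Type u} [CommRing P] [Algebra A P] {E : Type u} [CommRing E] [Algebra A E]
  {M : Type u} [AddCommGroup M] [Module A M] [Module P M] [IsScalarTower A P M]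
  {X : Type u} [AddCommGroup X] [Module A X] [Module E X] [IsScalarTower A E X]

/-- `t` acts injectively on `X ⊗ M`. -/
def Reg {A P E : Type u} [CommRing A] [CommRing P] [Algebra A P] [CommRing E] [Algebra A E]
    (X M : Type u) [AddCommGroup X] [Module A X] [Module E X] [IsScalarTower A E X]
    [AddCommGroup M] [Module A M] [Module P M] [IsScalarTower A P M] (t : E ⊗[A] P) : Prop :=
  ∀ z : X ⊗[A] M, t • z = 0 → z = 0

theorem comm_smul (t : E ⊗[A] P) (z : X ⊗[A] M) :
    TensorProduct.comm A X M (t • z) =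
      (Algebra.TensorProduct.comm A E P t) • TensorProduct.comm A X M z := by
  induction t using TensorProduct.induction_on with
  | zero => simp
  | add a b ha hb => simp only [add_smul, map_add, ha, hb]
  | tmul e p =>
    induction z using TensorProduct.induction_on with
    | zero => simp
    | add a b ha hb => simp only [smul_add, map_add, ha, hb]
    | tmul x m => simp

theorem Reg.symm {t : E ⊗[A] P} (h : Reg X M t) : Reg M X (Algebra.TensorProduct.comm A E P t) := by
  intro z hz
  obtain ⟨z, rfl⟩ := (TensorProduct.comm A X M).surjective z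
  rw [← comm_smul, LinearEquiv.map_eq_zero_iff] at hz
  rw [h z hz, map_zero]

theorem Reg.of_symm {t : E ⊗[A] P} (h : Reg M X (Algebra.TensorProduct.comm A E P t)) : Reg X M t :=
  fun z hz => by
    have := h (TensorProduct.comm A X M z) (by rw [← comm_smul, hz, map_zero])
    exact (TensorProduct.comm A X M).map_eq_zero_iff.1 this

/-- Injectivity on all graded pieces of a separated filtration gives injectivity. -/
theorem Reg.of_filtration (J : Ideal A) [J.IsMaximal] (hX : ∀ r ∈ J, ∀ x : X, r • x = 0)
    (t : E ⊗[A] P) (N : ℕ → Submodule E X) (hN0 : N 0 = ⊤) (hN : ∀ j, N (j + 1) ≤ N j)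
    (hsep : ∀ x, (∀ j, x ∈ N j) → x = 0)
    (h : ∀ j, Reg (↥(N j) ⧸ (N (j + 1)).comap (N j).subtype) M t) : Reg X M t := by
  intro z hz
  have key : ∀ j, ∃ w : ↥(N j) ⊗[A] M,
      wmap (R := A) (N j).subtype (LinearMap.id : M →ₗ[P] M) w = z := by
    intro j
    induction j with
    | zero =>
      rw [hN0]
      refine LinearMap.rTensor_surjective M (g := ((⊤ : Submodule E X).subtype).restrictScalars A) ?_ z
      exact fun x => ⟨⟨x, trivial⟩, rfl⟩
    | succ j ih =>
      obtain ⟨w, hw⟩ := ih
      have hinj : Function.Injective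
          (wmap (R := A) (N j).subtype (LinearMap.id : M →ₗ[P] M)) :=
        rTensor_injective_of_killed J M ((N j).subtype.restrictScalars A) Subtype.val_injective hX
      have htw : t • w = 0 := hinj (by rw [map_smul, hw, hz, map_zero])
      let K := (N (j + 1)).comap (N j).subtype
      have h0 : wmap (R := A) K.mkQ (LinearMap.id : M →ₗ[P] M) w = 0 :=
        h j _ (by rw [← map_smul, htw, map_zero])
      let i : ↥(N (j + 1)) →ₗ[E] ↥(N j) := Submodule.inclusion (hN j)
      have hex : Function.Exact (i.restrictScalars A) (K.mkQ.restrictScalars A) := fun x => by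
        show K.mkQ x = 0 ↔ _
        rw [Submodule.mkQ_apply, Submodule.Quotient.mk_eq_zero]
        exact ⟨fun hx => ⟨⟨x, hx⟩, rfl⟩, fun ⟨y, hy⟩ => hy ▸ y.2⟩
      obtain ⟨v, hv⟩ := (rTensor_exact M hex (Submodule.mkQ_surjective K) w).1 h0
      refine ⟨v, ?_⟩
      rw [← hw, ← hv]
      show TensorProduct.map _ _ v = TensorProduct.map _ _ ((i.restrictScalars A).rTensor M v)
      rw [LinearMap.rTensor, TensorProduct.map_map]
      rfl
  refine eq_zero_of_separated J M hX (fun j => (N j).restrictScalars A) hN hsep z fun j => ?_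
  obtain ⟨w, rfl⟩ := key j
  show ((N j).restrictScalars A).mkQ.rTensor M (TensorProduct.map _ _ w) = 0
  rw [LinearMap.rTensor, TensorProduct.map_map]
  have : ((N j).restrictScalars A).mkQ.comp ((N j).subtype.restrictScalars A) = 0 := by
    ext x
    exact (Submodule.Quotient.mk_eq_zero _).2 x.2
  rw [this, TensorProduct.map_zero_left]
  rfl

/-- The image of `t` in the tensor product of residue fields. -/
noncomputable abbrev resMap (n : Ideal E) (q : Ideal P) : E ⊗[A] P →ₐ[A] (E ⧸ n) ⊗[A] (P ⧸ q) :=
  Algebra.TensorProduct.map (Ideal.Quotient.mkₐ A n) (Ideal.Quotient.mkₐ A q)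

/-- Injectivity on a tensor product of vector spaces over the residue fields. -/
theorem Reg.of_killed (n : Ideal E) [n.IsMaximal] (q : Ideal P) [q.IsMaximal]
    (hX : ∀ r ∈ n, ∀ x : X, r • x = 0) (hM : ∀ r ∈ q, ∀ m : M, r • m = 0) (t : E ⊗[A] P)
    (ht : ∀ y, resMap n q t * y = 0 → y = 0) : Reg X M t := by
  classical
  let := Ideal.Quotient.field n
  let := Ideal.Quotient.field q
  have hTX : Module.IsTorsionBySet E X n := fun x r => hX r.1 r.2 x
  have hTM : Module.IsTorsionBySet P M q := fun x r => hM r.1 r.2 x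
  let _ : Module (E ⧸ n) X := hTX.module
  let _ : Module (P ⧸ q) M := hTM.module
  have : IsScalarTower E (E ⧸ n) X := hTX.isScalarTower
  have : IsScalarTower P (P ⧸ q) M := hTM.isScalarTower
  obtain ⟨ι, ⟨bx⟩⟩ := Module.Basis.exists_basis (E ⧸ n) X
  obtain ⟨κ, ⟨bm⟩⟩ := Module.Basis.exists_basis (P ⧸ q) M
  intro z hz
  -- the coordinates
  let φ : ι → (X →ₗ[E] E ⧸ n) := fun a => (bx.coord a).restrictScalars E
  let ψ : κ → (M →ₗ[P] P ⧸ q) := fun b => (bm.coord b).restrictScalars P
  have hcoord : ∀ a b, wmap (R := A) (φ a) (ψ b) z = 0 := by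
    intro a b
    refine ht _ ?_
    have := congrArg (wmap (R := A) (φ a) (ψ b)) hz
    rw [map_smul, map_zero] at this
    rw [← this]
    generalize wmap (R := A) (φ a) (ψ b) z = y
    clear ht hz this
    induction t using TensorProduct.induction_on with
    | zero => simp
    | add p p' hp hp' => simp only [map_add, add_mul, add_smul, hp, hp']
    | tmul e p =>
      induction y using TensorProduct.induction_on with
      | zero => simp
      | add y y' hy hy' => simp only [mul_add, smul_add, hy, hy']
      | tmul u v =>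
        rw [tmul_smul_tmul, Algebra.TensorProduct.map_tmul, Algebra.TensorProduct.tmul_mul_tmul,
          Algebra.smul_def, Algebra.smul_def]
        rfl
  -- reconstruct `z`
  let R : (E ⧸ n) ⊗[A] (P ⧸ q) → ι → κ → X ⊗[A] M := fun y a b =>
    TensorProduct.lift ((LinearMap.mk₂ A (fun (u : E ⧸ n) (v : P ⧸ q) =>
      (u • bx a) ⊗ₜ[A] (v • bm b)) (fun _ _ _ => by rw [add_smul, add_tmul])
      (fun c u v => by
        obtain ⟨u, rfl⟩ := Ideal.Quotient.mk_surjective u
        rw [← Ideal.Quotient.mkₐ_eq_mk A, ← map_smul (Ideal.Quotient.mkₐ A n),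
          Ideal.Quotient.mkₐ_eq_mk, ← Ideal.Quotient.algebraMap_eq, algebraMap_smul, algebraMap_smul,
          smul_assoc, TensorProduct.smul_tmul'])
      (fun _ _ _ => by rw [add_smul, tmul_add])
      (fun c u v => by
        obtain ⟨v, rfl⟩ := Ideal.Quotient.mk_surjective v
        rw [← Ideal.Quotient.mkₐ_eq_mk A, ← map_smul (Ideal.Quotient.mkₐ A q),
          Ideal.Quotient.mkₐ_eq_mk, ← Ideal.Quotient.algebraMap_eq, algebraMap_smul, algebraMap_smul,
          smul_assoc, TensorProduct.tmul_smul]))) y
  have key : ∀ z : X ⊗[A] M, ∃ s : Finset ι, ∃ s' : Finset κ, ∀ (u : Finset ι) (u' : Finset κ),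
      s ⊆ u → s' ⊆ u' → ∑ a ∈ u, ∑ b ∈ u', R (wmap (R := A) (φ a) (ψ b) z) a b = z := by
    intro z
    induction z using TensorProduct.induction_on with
    | zero => exact ⟨∅, ∅, fun u u' _ _ => by simp [R]⟩
    | add y y' hy hy' =>
      obtain ⟨s1, s1', h1⟩ := hy
      obtain ⟨s2, s2', h2⟩ := hy'
      refine ⟨s1 ∪ s2, s1' ∪ s2', fun u u' hu hu' => ?_⟩
      conv_rhs => rw [← h1 u u' (Finset.union_subset_left hu) (Finset.union_subset_left hu'),
        ← h2 u u' (Finset.union_subset_right hu) (Finset.union_subset_right hu')]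
      simp only [R, map_add, Finset.sum_add_distrib]
    | tmul x m =>
      refine ⟨(bx.repr x).support, (bm.repr m).support, fun u u' hu hu' => ?_⟩
      have hx : ∑ a ∈ u, bx.repr x a • bx a = x := by
        conv_rhs => rw [← bx.linearCombination_repr x]
        rw [Finsupp.linearCombination_apply, Finsupp.sum_of_support_subset _ hu _ (by simp)]
      have hm : ∑ b ∈ u', bm.repr m b • bm b = m := by
        conv_rhs => rw [← bm.linearCombination_repr m]
        rw [Finsupp.linearCombination_apply, Finsupp.sum_of_support_subset _ hu' _ (by simp)]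
      conv_rhs => rw [← hx, ← hm]
      rw [TensorProduct.sum_tmul]
      simp only [TensorProduct.tmul_sum]
      refine Finset.sum_congr rfl fun a _ => Finset.sum_congr rfl fun b _ => ?_
      simp [R, φ, ψ, wmap_tmul]
  obtain ⟨s, s', hss⟩ := key z
  rw [← hss s s' subset_rfl subset_rfl]
  exact Finset.sum_eq_zero fun a _ => Finset.sum_eq_zero fun b _ => by rw [hcoord]; simp [R]

/-- Injectivity when `X` is killed by the maximal ideal of `E`. -/
theorem Reg.of_killed_left [IsLocalRing P] [IsNoetherianRing P] [Module.Finite P M] (J : Ideal A)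
    [J.IsMaximal] (hMJ : ∀ r ∈ J, ∀ m : M, r • m = 0) (n : Ideal E) [n.IsMaximal]
    (hX : ∀ r ∈ n, ∀ x : X, r • x = 0) (t : E ⊗[A] P)
    (ht : ∀ y, resMap n (IsLocalRing.maximalIdeal P) t * y = 0 → y = 0) : Reg X M t := by
  let q := IsLocalRing.maximalIdeal P
  refine Reg.of_symm (Reg.of_filtration J hMJ _ (fun j => q ^ j • (⊤ : Submodule P M))
    (by simp) (fun j => Submodule.smul_mono (Ideal.pow_le_pow_right j.le_succ) le_rfl)
    (fun x hx => Lib.LocalFlat.Criterion.iInf_pow_smul_eq_bot_of_le_jacobson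
      (IsLocalRing.maximalIdeal_le_jacobson _) hx) fun j => ?_)
  refine Reg.of_killed q n ?_ hX _ fun y hy => ?_
  · intro r hr y
    obtain ⟨y, rfl⟩ := Submodule.mkQ_surjective _ y
    rw [← map_smul, Submodule.mkQ_apply, Submodule.Quotient.mk_eq_zero]
    show r • (y : M) ∈ q ^ (j + 1) • (⊤ : Submodule P M)
    rw [pow_succ', mul_smul]
    exact Submodule.smul_mem_smul hr y.2
  · let c := Algebra.TensorProduct.comm A (E ⧸ n) (P ⧸ q)
    obtain ⟨y, rfl⟩ := c.surjective y
    have hc : resMap q n (Algebra.TensorProduct.comm A E P t) = c (resMap n q t) := by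
      clear ht hy
      induction t using TensorProduct.induction_on with
      | zero => simp
      | add a b ha hb => simp only [map_add, ha, hb]
      | tmul e p => simp [c]
    rw [hc, ← map_mul, map_eq_zero_iff _ c.injective] at hy
    rw [ht y hy, map_zero]

/-- Injectivity for finite modules over a Noetherian local `E`. -/
theorem Reg.of_finite [IsLocalRing P] [IsNoetherianRing P] [Module.Finite P M] [IsLocalRing E]
    [IsNoetherianRing E] [Module.Finite E X] (J : Ideal A) [J.IsMaximal]
    (hXJ : ∀ r ∈ J, ∀ x : X, r • x = 0) (hMJ : ∀ r ∈ J, ∀ m : M, r • m = 0) (t : E ⊗[A] P)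
    (ht : ∀ y, resMap (IsLocalRing.maximalIdeal E) (IsLocalRing.maximalIdeal P) t * y = 0 → y = 0) :
    Reg X M t := by
  let n := IsLocalRing.maximalIdeal E
  refine Reg.of_filtration J hXJ t (fun j => n ^ j • (⊤ : Submodule E X))
    (by simp) (fun j => Submodule.smul_mono (Ideal.pow_le_pow_right j.le_succ) le_rfl)
    (fun x hx => Lib.LocalFlat.Criterion.iInf_pow_smul_eq_bot_of_le_jacobson
      (IsLocalRing.maximalIdeal_le_jacobson _) hx) fun j => ?_
  refine Reg.of_killed_left J hMJ n ?_ t ht
  intro r hr y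
  obtain ⟨y, rfl⟩ := Submodule.mkQ_surjective _ y
  rw [← map_smul, Submodule.mkQ_apply, Submodule.Quotient.mk_eq_zero]
  show r • (y : X) ∈ n ^ (j + 1) • (⊤ : Submodule E X)
  rw [pow_succ', mul_smul]
  exact Submodule.smul_mem_smul hr y.2

theorem resMap_baseHom {E0 : Type u} [CommRing E0] [Algebra A E0] [Algebra E0 E] [IsScalarTower A E0 E]
    (n0 : Ideal E0) (n : Ideal E) {φ : E0 ⧸ n0 →ₐ[A] E ⧸ n} {q : Ideal P}
    (hφ : ∀ e, φ (Ideal.Quotient.mk n0 e) = Ideal.Quotient.mk n (algebraMap E0 E e)) (t : E0 ⊗[A] P) :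
    resMap n q (baseHom A P E0 E t) =
      Algebra.TensorProduct.map φ (AlgHom.id A (P ⧸ q)) (resMap n0 q t) := by
  induction t using TensorProduct.induction_on with
  | zero => simp
  | add a b ha hb => simp only [map_add, ha, hb]
  | tmul e p => exact congrArg (fun u => u ⊗ₜ[A] (Ideal.Quotient.mk q p)) (hφ e).symm

theorem Reg.descend [IsLocalRing P] [IsNoetherianRing P] [IsLocalRing E] {E0 : Type u} [CommRing E0]
    [IsLocalRing E0] [IsNoetherianRing E0] [Algebra A E0] [Algebra E0 E] [IsScalarTower A E0 E]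
    [IsLocalHom (algebraMap E0 E)] (J : Ideal A) [J.IsMaximal]
    (hJE : J.map (algebraMap A E) ≤ IsLocalRing.maximalIdeal E)
    (hXJ : ∀ r ∈ J, ∀ x : X, r • x = 0) {N : Type u} [AddCommGroup N] [Module A N] [Module P N]
    [IsScalarTower A P N] [Module.Finite P N] (hNJ : ∀ r ∈ J, ∀ m : N, r • m = 0)
    (t0 : E0 ⊗[A] P) (t : E ⊗[A] P) (ht0 : baseHom A P E0 E t0 = t)
    (ht : ∀ y, resMap (IsLocalRing.maximalIdeal E) (IsLocalRing.maximalIdeal P) t * y = 0 → y = 0)
    (z : X ⊗[A] N) (hz : t • z = 0) : z = 0 := by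
  classical
  -- lift `z`
  let n := IsLocalRing.maximalIdeal E
  let n0 := IsLocalRing.maximalIdeal E0
  have hn0 : n0 ≤ n.comap (algebraMap E0 E) := fun x hx => map_nonunit _ x hx
  obtain ⟨sz, hsz⟩ := TensorProduct.exists_finset z
  letI : Module E0 X := Module.compHom X (algebraMap E0 E)
  have : IsScalarTower E0 E X := IsScalarTower.of_algebraMap_smul fun e x => rfl
  have : IsScalarTower A E0 X := IsScalarTower.to₁₂₄ A E0 E X
  let X0 : Submodule E0 X := Submodule.span E0 (sz.image Prod.fst : Set X)
  have : Module.Finite E0 X0 := Module.Finite.iff_fg.2 ⟨sz.image Prod.fst, rfl⟩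
  let z0 : X0 ⊗[A] N := ∑ i ∈ sz.attach,
    (⟨i.1.1, Submodule.subset_span (Finset.mem_coe.2 (Finset.mem_image_of_mem _ i.2))⟩ : X0) ⊗ₜ i.1.2
  let ι0 := wmap (R := A) (E := E0) (X := ↥X0) (Y := X) X0.subtype (LinearMap.id : N →ₗ[P] N)
  have hz0 : ι0 z0 = z := by
    rw [hsz, map_sum]
    exact Finset.sum_attach sz fun i => i.1 ⊗ₜ[A] i.2
  have hι : Function.Injective ι0 :=
    rTensor_injective_of_killed J N (X := ↥X0) (Y := X)
      { toFun := fun x => (x : X), map_add' := fun _ _ => rfl, map_smul' := fun _ _ => rfl }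
      Subtype.val_injective hXJ
  have hreg : Reg X0 N t0 := by
    refine Reg.of_finite J (fun r hr x => Subtype.ext (hXJ r hr x)) hNJ t0 fun y hy => ?_
    let φ : E0 ⧸ n0 →ₐ[A] E ⧸ n :=
      Ideal.Quotient.liftₐ n0 ((Ideal.Quotient.mkₐ A n).comp (IsScalarTower.toAlgHom A E0 E))
        fun x hx => Ideal.Quotient.eq_zero_iff_mem.2 (hn0 hx)
    let := Ideal.Quotient.field n0
    have hinj : Function.Injective
        (Algebra.TensorProduct.map φ (AlgHom.id A (P ⧸ IsLocalRing.maximalIdeal P))) :=
      rTensor_injective_of_killed J _ φ.toLinearMap φ.toRingHom.injective fun r hr x => by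
        obtain ⟨x, rfl⟩ := Ideal.Quotient.mk_surjective x
        rw [Algebra.smul_def]
        show Ideal.Quotient.mk n (algebraMap A E r) * _ = 0
        rw [Ideal.Quotient.eq_zero_iff_mem.2 (hJE (Ideal.mem_map_of_mem _ hr)), zero_mul]
    refine hinj ?_
    rw [map_zero]
    refine ht _ ?_
    have := congrArg (Algebra.TensorProduct.map φ (AlgHom.id A (P ⧸ IsLocalRing.maximalIdeal P))) hy
    rw [map_mul, map_zero] at this
    rw [← this, ← ht0, resMap_baseHom (φ := φ) n0 n fun e => rfl]
  have : z0 = 0 := hreg z0 (hι (by rw [map_smul, hz0, map_zero, ← baseHom_smul (F := E), ht0, hz]))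
  rw [← hz0, this, map_zero]


set_option maxHeartbeats 1000000 in
/-- An element with regular image in the tensor product of the residue fields acts injectively on
`X ⊗ M`, for `X` killed by a maximal ideal of the base and `M` finite. -/
theorem Reg.of_regular [IsNoetherianRing A] [IsLocalRing P] [IsNoetherianRing P] [Module.Finite P M]
    [IsLocalRing E] (J : Ideal A) [J.IsMaximal]
    (hJE : J.map (algebraMap A E) ≤ IsLocalRing.maximalIdeal E)
    (hXJ : ∀ r ∈ J, ∀ x : X, r • x = 0) (t : E ⊗[A] P)
    (ht : ∀ y, resMap (IsLocalRing.maximalIdeal E) (IsLocalRing.maximalIdeal P) t * y = 0 → y = 0) :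
    Reg X M t := by
  classical
  -- we may assume `M` killed by `J`
  suffices H : ∀ (N : Type u) [AddCommGroup N] [Module A N] [Module P N] [IsScalarTower A P N]
      [Module.Finite P N], (∀ r ∈ J, ∀ m : N, r • m = 0) → Reg X N t by
    intro z hz
    let I := J.map (algebraMap A P)
    let π := wmap (R := A) (LinearMap.id : X →ₗ[E] X) (I • ⊤ : Submodule P M).mkQ
    have h0 : π z = 0 := by
      refine H _ (fun r hr m => ?_) _ (by rw [← map_smul, hz, map_zero])
      obtain ⟨m, rfl⟩ := Submodule.mkQ_surjective _ m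
      rw [← algebraMap_smul P r ((I • ⊤ : Submodule P M).mkQ m), ← map_smul, Submodule.mkQ_apply,
        Submodule.Quotient.mk_eq_zero]
      exact Submodule.smul_mem_smul (Ideal.mem_map_of_mem _ hr) trivial
    rw [wmap_mkQ_eq_zero_iff] at h0
    have hkill : ∀ s ∈ ext A E I, ∀ w : X ⊗[A] M, s • w = 0 := by
      intro s hs w
      induction hs using Submodule.span_induction with
      | zero => rw [zero_smul]
      | add a b _ _ ha hb => rw [add_smul, ha, hb, add_zero]
      | smul a b _ hb => rw [smul_eq_mul, mul_smul, hb, smul_zero]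
      | mem s hs =>
        obtain ⟨p, hp, rfl⟩ := hs
        induction hp using Submodule.span_induction with
        | zero => rw [map_zero, zero_smul]
        | add a b _ _ ha hb => rw [map_add, add_smul, ha, hb, add_zero]
        | smul a b _ hb => rw [smul_eq_mul, map_mul, mul_smul, hb, smul_zero]
        | mem p hp =>
          obtain ⟨r, hr, rfl⟩ := hp
          induction w using TensorProduct.induction_on with
          | zero => rw [smul_zero]
          | add a b ha hb => rw [smul_add, ha, hb, add_zero]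
          | tmul x m => rw [Algebra.TensorProduct.includeRight_apply, tmul_smul_tmul, one_smul,
              algebraMap_smul, TensorProduct.tmul_smul, TensorProduct.smul_tmul', hXJ r hr,
              TensorProduct.zero_tmul]
    exact Submodule.smul_induction_on h0 (fun s hs w _ => hkill s hs w) fun a b ha hb => by
      rw [ha, hb, add_zero]
  intro N _ _ _ _ _ hNJ z hz
  obtain ⟨st, hst⟩ := TensorProduct.exists_finset t
  let n := IsLocalRing.maximalIdeal E
  let E1 := Algebra.adjoin A (st.image Prod.fst : Set E)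
  have : Algebra.FiniteType A E1 := (Algebra.FiniteType.adjoin_of_finite (Finset.finite_toSet _))
  have : IsNoetherianRing E1 := Algebra.FiniteType.isNoetherianRing A E1
  let p0 : Ideal E1 := n.comap E1.val
  have : p0.IsPrime := Ideal.IsPrime.comap _
  let E0 := Localization.AtPrime p0
  have : IsNoetherianRing E0 := IsLocalization.isNoetherianRing p0.primeCompl _ ‹_›
  let g : E0 →+* E := IsLocalization.lift (M := p0.primeCompl) (g := E1.val.toRingHom)
    fun y => by_contra fun h => y.2 ((IsLocalRing.mem_maximalIdeal _).2 h)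
  have hg : ∀ e : E1, g (algebraMap E1 E0 e) = (e : E) := fun e => IsLocalization.lift_eq _ e
  letI : Algebra E0 E := g.toAlgebra
  have : IsScalarTower A E0 E := IsScalarTower.of_algebraMap_eq fun a => by
    show _ = g (algebraMap A E0 a)
    rw [IsScalarTower.algebraMap_apply A E1 E0, hg]
    rfl
  have : IsLocalHom g := by
    refine ⟨fun x hx => ?_⟩
    obtain ⟨a, b, rfl⟩ := IsLocalization.exists_mk'_eq p0.primeCompl x
    rw [IsLocalization.AtPrime.isUnit_mk'_iff _ p0]
    intro ha
    have := IsLocalization.lift_mk' (M := p0.primeCompl) (S := E0) (g := E1.val.toRingHom)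
      (fun y => by_contra fun h => y.2 ((IsLocalRing.mem_maximalIdeal _).2 h)) a b
    change IsUnit (IsLocalization.lift (M := p0.primeCompl) _ _) at hx
    rw [this] at hx
    exact (IsLocalRing.mem_maximalIdeal _).1 ha (IsUnit.mul_iff.1 hx).1
  have : IsLocalHom (algebraMap E0 E) := ‹IsLocalHom g›
  -- lift `t`
  let t0 : E0 ⊗[A] P := ∑ i ∈ st.attach,
    algebraMap E1 E0 ⟨i.1.1, Algebra.subset_adjoin (Finset.mem_coe.2 (Finset.mem_image_of_mem _ i.2))⟩
      ⊗ₜ i.1.2
  have ht0 : baseHom A P E0 E t0 = t := by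
    rw [hst, map_sum, ← Finset.sum_attach st fun i => i.1 ⊗ₜ[A] i.2]
    refine Finset.sum_congr rfl fun i _ => ?_
    show g (algebraMap E1 E0 _) ⊗ₜ[A] _ = _
    rw [hg]
    rfl
  exact Reg.descend (E0 := E0) J hJE hXJ hNJ t0 t ht0 ht z hz

end

end Groth.Agent.H47.ArtinReg
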