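import Mathlib.RingTheory.AdicCompletion.Noetherian
import Mathlib.RingTheory.AdicCompletion.Basic
import Mathlib.RingTheory.HopkinsLevitzki
import Mathlib.RingTheory.LocalRing.Quotient

/-!
# Chevalley's lemma on descending chains of ideals of a complete Noetherian local ring
-/

set_option autoImplicit false

universe u

namespace Groth.Agent.H47.Chevalley

open IsLocalRing

variable {R : Type u} [CommRing R] [IsNoetherianRing R] [IsLocalRing R]

theorem exists_stable (b : ℕ → Ideal R) (hb : Antitone b) (l : ℕ) :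
    ∃ N, ∀ n, N ≤ n → b n ⊔ maximalIdeal R ^ l = b N ⊔ maximalIdeal R ^ l := by
  let I := maximalIdeal R ^ l
  rcases eq_or_ne l 0 with hl | hl
  · exact ⟨0, fun n _ => by rw [hl, pow_zero, Ideal.one_eq_top, sup_top_eq, sup_top_eq]⟩
  have : Nontrivial (R ⧸ I) := Ideal.Quotient.nontrivial_iff.2 fun h =>
    (maximalIdeal.isMaximal R).ne_top (top_unique (h ▸ Ideal.pow_le_self hl))
  have : IsLocalRing (R ⧸ I) := IsLocalRing.of_surjective' (Ideal.Quotient.mk I) Ideal.Quotient.mk_surjective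
  have : IsNoetherianRing (R ⧸ I) :=
    isNoetherianRing_of_surjective R _ (Ideal.Quotient.mk I) Ideal.Quotient.mk_surjective
  have : IsArtinianRing (R ⧸ I) := by
    rw [isArtinianRing_iff_isNilpotent_maximalIdeal]
    refine ⟨l, ?_⟩
    have e : maximalIdeal (R ⧸ I) = (maximalIdeal R).map (Ideal.Quotient.mk I) := by
      refine (IsLocalRing.eq_maximalIdeal (Ideal.IsMaximal.map_of_surjective_of_ker_le
        Ideal.Quotient.mk_surjective ?_)).symm
      rw [Ideal.mk_ker]
      exact Ideal.pow_le_self hl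
    rw [e, ← Ideal.map_pow, Ideal.map_quotient_self]
    rfl
  let f : ℕ →o (Ideal (R ⧸ I))ᵒᵈ :=
    ⟨fun n => OrderDual.toDual ((b n).map (Ideal.Quotient.mk I)), fun i j h => Ideal.map_mono (hb h)⟩
  obtain ⟨N, hN⟩ := IsArtinian.monotone_stabilizes f
  refine ⟨N, fun n hn => ?_⟩
  have h := congrArg (fun J => Ideal.comap (Ideal.Quotient.mk I) (OrderDual.ofDual J)) (hN n hn)
  change Ideal.comap _ (Ideal.map _ (b N)) = Ideal.comap _ (Ideal.map _ (b n)) at h
  rw [Ideal.comap_map_quotientMk, Ideal.comap_map_quotientMk] at h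
  rw [sup_comm, sup_comm (b N)]
  exact h.symm

/-- Chevalley's lemma. -/
theorem exists_le_sup [IsAdicComplete (maximalIdeal R) R] (b : ℕ → Ideal R) (hb : Antitone b)
    (K : Ideal R) (hK : ∀ x, (∀ n, x ∈ b n) → x ∈ K) (l₀ : ℕ) :
    ∃ n, b n ≤ K ⊔ maximalIdeal R ^ l₀ := by
  classical
  let m := maximalIdeal R
  choose N hN using exists_stable b hb
  let ν : ℕ → ℕ := fun l => (Finset.range (l + 1)).sup N
  have hν : ∀ l, N l ≤ ν l := fun l => Finset.le_sup (Finset.mem_range.2 l.lt_succ_self)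
  have hmono : Monotone ν := fun i j h => Finset.sup_mono (Finset.range_mono (by omega))
  have step : ∀ l, ∀ x ∈ b (ν l), ∃ y ∈ b (ν (l + 1)), x - y ∈ m ^ l := by
    intro l x hx
    have h1 : x ∈ b (ν (l + 1)) ⊔ m ^ l := by
      rw [hN l (ν (l + 1)) ((hν l).trans (hmono l.le_succ)), ← hN l (ν l) (hν l)]
      exact Ideal.mem_sup_left hx
    obtain ⟨y, hy, z, hz, rfl⟩ := Submodule.mem_sup.1 h1
    exact ⟨y, hy, by simpa using hz⟩
  refine ⟨ν l₀, fun x₀ hx₀ => ?_⟩
  choose! nxt hnxt hnxt' using step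
  let seq : ℕ → R := fun j => Nat.rec x₀ (fun j x => nxt (l₀ + j) x) j
  have hseq : ∀ j, seq j ∈ b (ν (l₀ + j)) := by
    intro j
    induction j with
    | zero => exact hx₀
    | succ j ih => exact hnxt _ _ ih
  have hdiff : ∀ i j, i ≤ j → seq i - seq j ∈ m ^ (l₀ + i) := by
    intro i j h
    induction j, h using Nat.le_induction with
    | base => simp
    | succ j h ih =>
      have : seq j - seq (j + 1) ∈ m ^ (l₀ + i) :=
        Ideal.pow_le_pow_right (by omega) (hnxt' (l₀ + j) _ (hseq j))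
      have := add_mem ih this
      rwa [sub_add_sub_cancel] at this
  obtain ⟨y, hy⟩ := IsPrecomplete.prec' (I := m) (M := R) (f := seq) fun {i j} h => by
    rw [SModEq.sub_mem, smul_eq_mul, Ideal.mul_top]
    exact Ideal.pow_le_pow_right (Nat.le_add_left i l₀) (hdiff i j h)
  have hy' : ∀ j, seq j - y ∈ m ^ j := fun j => by
    have := hy j
    rwa [SModEq.sub_mem, smul_eq_mul, Ideal.mul_top] at this
  have hyK : y ∈ K := by
    refine hK y fun n => ?_
    have hH : IsHausdorff m (R ⧸ b n) := IsHausdorff.of_isLocalRing m _ (maximalIdeal.isMaximal R).ne_top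
    rw [← Ideal.Quotient.eq_zero_iff_mem]
    refine hH.haus' _ fun j => ?_
    rw [SModEq.zero]
    have key : y ∈ b n ⊔ m ^ j := by
      let j' := max j (N j)
      have h1 : seq j' ∈ b n ⊔ m ^ j := by
        rcases le_total n (ν (l₀ + j')) with hle | hle
        · exact Ideal.mem_sup_left (hb hle (hseq j'))
        · have hN' : N j ≤ ν (l₀ + j') := (hν j).trans (hmono (by omega))
          rw [hN j n (hN'.trans hle), ← hN j (ν (l₀ + j')) hN']
          exact Ideal.mem_sup_left (hseq j')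
      have h2 : seq j' - y ∈ b n ⊔ m ^ j :=
        Ideal.mem_sup_right (Ideal.pow_le_pow_right (le_max_left _ _) (hy' j'))
      simpa using sub_mem h1 h2
    obtain ⟨u, hu, v, hv, rfl⟩ := Submodule.mem_sup.1 key
    rw [map_add, Ideal.Quotient.eq_zero_iff_mem.2 hu, zero_add,
      show Ideal.Quotient.mk (b n) v = v • (1 : R ⧸ b n) by rw [Algebra.smul_def, mul_one]; rfl]
    exact Submodule.smul_mem_smul hv Submodule.mem_top
  have h0 : x₀ - y ∈ m ^ l₀ := by
    have h1 : x₀ - seq l₀ ∈ m ^ (l₀ + 0) := hdiff 0 l₀ (Nat.zero_le _)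
    rw [add_zero] at h1
    simpa using add_mem h1 (hy' l₀)
  rw [← sub_add_cancel x₀ y]
  exact add_mem (Ideal.mem_sup_right h0) (Ideal.mem_sup_left hyK)

end Groth.Agent.H47.Chevalley
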