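import Groth.Agent.H47.ConsFormalPair
import Groth.Agent.H47.SurjLocus
import Groth.Agent.H47.ConsBasic
import Groth.Agent.Lib.Lim.OpenImm
import Groth.Agent.Lib.Spectral.Basic

/-!
# A constructible property of the fibres gives a constructible property of morphisms
-/

set_option autoImplicit false
set_option backward.isDefEq.respectTransparency false

noncomputable section

universe u

open CategoryTheory CategoryTheory.Limits AlgebraicGeometry Topology

namespace Groth.Agent.H47.ConsFibres

variable {P : ∀ ⦃Y T : Scheme.{u}⦄, (Y ⟶ T) → Prop}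

theorem isFieldStablePair (hP : ConsProp.IsFieldStable P) :
    ConsPropPair.IsFieldStablePair (fun X Y T a b => P a) :=
  fun X X' Y Y' T T' gX gY gX' gY' eX eY h _ _ _ _ _ _ _ _ hX _ => hP gX gX' eX h hX

theorem locus_preimage (hP : ConsProp.IsFieldStable P) {X Y X' Y' : Scheme.{u}} {f : X ⟶ Y}
    {f' : X' ⟶ Y'} {qY : Y' ⟶ Y} {qX : X' ⟶ X} [LocallyOfFiniteType f] [QuasiCompact f]
    (h : IsPullback qX f' f qY) : ConsProp.locus P f' = qY ⁻¹' ConsProp.locus P f :=
  ConsFormalPair.locusPair_preimage (P := fun X Y T a b => P a) (isFieldStablePair hP) h h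

theorem isLocallyConstructible_locus (hP : ConsProp.IsCons P) {X Y : Scheme.{u}} (f : X ⟶ Y)
    [LocallyOfFinitePresentation f] [QuasiCompact f] [QuasiSeparated f] :
    IsLocallyConstructible (ConsProp.locus P f) :=
  ConsFormalPair.isLocallyConstructible_locusPair (P := fun X Y T a b => P a) f f
    ⟨isFieldStablePair hP.1, fun X Y S u v _ _ _ _ _ _ => hP.2 u⟩

theorem isIndConstructible_locus (hP : ConsProp.IsIndCons P) {X Y : Scheme.{u}} (f : X ⟶ Y)
    [LocallyOfFinitePresentation f] [QuasiCompact f] [QuasiSeparated f] :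
    ProCons.IsIndConstructible (ConsProp.locus P f) :=
  ConsFormalPair.isIndConstructible_locusPair (P := fun X Y T a b => P a) f f
    ⟨isFieldStablePair hP.1, fun X Y S u v _ _ _ _ _ _ => hP.2 u⟩

theorem isFieldStableMor (hP : ConsProp.IsFieldStable P) :
    ConsProp.IsFieldStableMor (fun X Y T f g => ∀ y : ↥Y, P (f.fiberToSpecResidueField y)) := by
  intro X X' Y Y' T T' f g f' g' eX eY h _ _ _ _ _ _ _ _ sqY sqX
  have : Surjective h := Groth.Agent.H47.ConsBasic.surjective_of_subsingleton h
  have : Surjective eY := MorphismProperty.of_isPullback sqY.flip inferInstance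
  have : IsNoetherianRing Γ(T, ⊤) := by
    letI := (isField_of_isIntegral_of_subsingleton T).toField
    infer_instance
  have : IsLocallyNoetherian T := isLocallyNoetherian_of_isOpenImmersion T.isoSpec.hom
  have : IsLocallyNoetherian Y := LocallyOfFiniteType.isLocallyNoetherian g
  have : LocallyOfFiniteType f := locallyOfFiniteType_of_comp f g
  have : QuasiCompact f := QuasiCompact.of_comp f g
  have e := locus_preimage hP sqX
  constructor
  · intro H y'
    have : y' ∈ ConsProp.locus P f' := e ▸ (H (eY y') : eY y' ∈ ConsProp.locus P f)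
    exact this
  · intro H y
    obtain ⟨y', rfl⟩ := eY.surjective y
    have : y' ∈ eY ⁻¹' ConsProp.locus P f := e ▸ (H y' : y' ∈ ConsProp.locus P f')
    exact this

theorem locusMor_eq (hP : ConsProp.IsFieldStable P) {X Y S : Scheme.{u}} (f : X ⟶ Y) (g : Y ⟶ S)
    [LocallyOfFiniteType f] [QuasiCompact f] :
    ConsProp.locusMor (fun X Y T f g => ∀ y : ↥Y, P (f.fiberToSpecResidueField y)) f g =
      (g '' (ConsProp.locus P f)ᶜ)ᶜ := by
  ext s
  set p := pullback.fst g (S.fromSpecResidueField s)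
  have hsq : IsPullback (pullback.fst (f ≫ g) (S.fromSpecResidueField s)) (MoreMor.fiberMap f g s) f p := by
    rw [ConsFormal.fiberMap_eq]
    exact FibreLocus.isPullback_fibreMap f g _
  have e := locus_preimage hP hsq
  have hp : Set.range p = g ⁻¹' {s} := by
    rw [Scheme.Pullback.range_fst, Scheme.range_fromSpecResidueField]
  show (∀ z, z ∈ ConsProp.locus P (MoreMor.fiberMap f g s)) ↔ _
  rw [e]
  constructor
  · rintro H ⟨y, hy, hys⟩
    obtain ⟨z, rfl⟩ := hp.symm.subset hys
    exact hy (H z)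
  · intro H z
    by_contra hz
    exact H ⟨p z, hz, hp.subset ⟨z, rfl⟩⟩

theorem isConsMor (hP : ConsProp.IsCons P) :
    ConsProp.IsConsMor (fun X Y T f g => ∀ y : ↥Y, P (f.fiberToSpecResidueField y)) := by
  refine ⟨isFieldStableMor hP.1, fun X Y S f g _ _ _ _ _ _ => ?_⟩
  have : IsLocallyNoetherian Y := LocallyOfFiniteType.isLocallyNoetherian g
  have : LocallyOfFiniteType f := locallyOfFiniteType_of_comp f g
  have : IsLocallyNoetherian X := LocallyOfFiniteType.isLocallyNoetherian f
  have : QuasiSeparated g := inferInstance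
  have : LocallyOfFinitePresentation f :=
    LocallyOfFinitePresentation.iff_locallyOfFiniteType.2 inferInstance
  have : LocallyOfFinitePresentation g :=
    LocallyOfFinitePresentation.iff_locallyOfFiniteType.2 inferInstance
  have : QuasiCompact f := QuasiCompact.of_comp f g
  rw [locusMor_eq hP.1]
  exact ConsBasic.dichotomy (SurjLocus.compl_isLocallyConstructible
    (g.isLocallyConstructible_image (SurjLocus.compl_isLocallyConstructible
      (isLocallyConstructible_locus hP f))))

end Groth.Agent.H47.ConsFibres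

namespace Groth.Agent.H47.ConsFibres

variable {P : ∀ ⦃Y T : Scheme.{u}⦄, (Y ⟶ T) → Prop}

/-- a complement of an ind-constructible set missing the generic fibre misses the fibres over a
nonempty open -/
theorem generic_of_fibre {Y S : Scheme.{u}} [IsIntegral S] (g : Y ⟶ S) [QuasiCompact g] (F : Set Y)
    (hF : ProCons.IsIndConstructible F) (h : ∀ y, g y = genericPoint S → y ∈ F) :
    (interior (g '' Fᶜ)ᶜ).Nonempty := by
  obtain ⟨U, hU, hηU, -⟩ :=
    exists_isAffineOpen_mem_and_subset (X := S) (x := genericPoint S) (U := ⊤) trivial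
  obtain ⟨s, hs, hcov⟩ := (isCompact_and_isOpen_iff_finite_and_eq_biUnion_affineOpens (X := Y)).1
    ⟨g.isCompact_preimage hU.isCompact, (g ⁻¹ᵁ U).2⟩
  -- each affine piece
  have key : ∀ V : Y.affineOpens, (V : Y.Opens) ≤ g ⁻¹ᵁ U → ∃ O : S.Opens,
      genericPoint S ∈ O ∧ ∀ y ∈ (V : Y.Opens), g y ∈ O → y ∈ F := by
    intro V hVU
    have : IsAffine (V : Y.Opens) := V.2
    have : CompactSpace ((V : Y.Opens) : Scheme.{u}) := isCompact_iff_compactSpace.1 V.2.isCompact
    let W : Set ((V : Y.Opens) : Scheme.{u}) := (V : Y.Opens).ι ⁻¹' Fᶜ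
    have hW : IsClosed[constructibleTopology ((V : Y.Opens) : Scheme.{u})] W :=
      (Groth.Agent.Lib.LimTop.PC.IsPC.compl_of_isIndConstructible hF) V V.2
    let K : {r : Γ(S, U) // genericPoint S ∈ S.basicOpen r} → Set ((V : Y.Opens) : Scheme.{u}) :=
      fun r => W ∩ ((V : Y.Opens).ι ≫ g) ⁻¹' (S.basicOpen r.1 : Set S)
    by_contra hne
    simp only [not_exists, not_and, not_forall] at hne
    have hcl : ∀ r, IsClosed[constructibleTopology ((V : Y.Opens) : Scheme.{u})] (K r) := by
      intro r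
      refine @IsClosed.inter _ _ _ (constructibleTopology ((V : Y.Opens) : Scheme.{u})) hW ?_
      have e : ((V : Y.Opens).ι ≫ g) ⁻¹' (S.basicOpen r.1 : Set S) =
          ((g.resLE U V hVU) ⁻¹ᵁ (U.ι ⁻¹ᵁ S.basicOpen r.1) : Set _) := by
        ext w
        show g w.1 ∈ S.basicOpen r.1 ↔ U.ι (g.resLE U V hVU w) ∈ S.basicOpen r.1
        rw [← Scheme.Hom.comp_apply, Scheme.Hom.resLE_comp_ι]
        rfl
      rw [e]
      have : IsAffine U := hU
      refine Groth.Agent.Lib.Spectral.Basic.isClosed_cons (TopologicalSpace.Opens.isOpen _) ?_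
      have : QuasiCompact (g.resLE U V hVU) := inferInstance
      exact QuasiCompact.isCompact_preimage (f := g.resLE U V hVU) _ (TopologicalSpace.Opens.isOpen _)
        (by
          rw [U.ι.isOpenEmbedding.isEmbedding.isCompact_iff, Scheme.Hom.coe_preimage,
            Set.image_preimage_eq_of_subset]
          · exact (hU.basicOpen r.1).isCompact
          · rw [Scheme.Opens.range_ι]; exact S.basicOpen_le r.1)
    have hfip : ∀ t : Finset {r : Γ(S, U) // genericPoint S ∈ S.basicOpen r}, (⋂ r ∈ t, K r).Nonempty := by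
      intro t
      classical
      let R : Γ(S, U) := ∏ r ∈ t, r.1
      have hR : ∀ y : S, y ∈ S.basicOpen R ↔ y ∈ U ∧ ∀ r ∈ t, y ∈ S.basicOpen r.1 := by
        intro y
        by_cases hyU : y ∈ U
        · simp only [hyU, true_and, Scheme.mem_basicOpen _ _ _ hyU, R, map_prod, IsUnit.prod_iff]
        · exact ⟨fun h => absurd (S.basicOpen_le _ h) hyU, fun h => absurd h.1 hyU⟩
      obtain ⟨y, hyV, hyO, hyF⟩ := hne (S.basicOpen R) ((hR _).2 ⟨hηU, fun r _ => r.2⟩)
      refine ⟨⟨y, hyV⟩, Set.mem_iInter₂.2 fun r hr => ⟨hyF, ((hR _).1 hyO).2 r hr⟩⟩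
    obtain ⟨v, hv⟩ := Groth.Agent.Lib.Spectral.Basic.nonempty_iInter_of_isClosed_cons K hcl hfip
    simp only [Set.mem_iInter, K, Set.mem_inter_iff, Set.mem_preimage] at hv
    have hgv : g v.1 = genericPoint S := by
      refine (Inseparable.eq ?_).symm
      refine inseparable_iff_forall_isOpen.2 fun O hO => ⟨fun hη => ?_, fun hv' => ?_⟩
      · obtain ⟨r, hrO, hr⟩ := hU.exists_basicOpen_le
          (⟨genericPoint S, hη⟩ : (⟨O, hO⟩ : S.Opens)) hηU
        exact hrO (hv ⟨r, hr⟩).2
      · exact ((genericPoint_spec S).mem_open_set_iff hO).2 ⟨_, trivial, hv'⟩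
    exact (hv ⟨1, by rw [Scheme.basicOpen_of_isUnit _ isUnit_one]; exact hηU⟩).1 (h _ hgv)
  have hsub : ∀ V ∈ s, (V : Y.Opens) ≤ g ⁻¹ᵁ U := fun V hV y hy => by
    have : y ∈ (⋃ V ∈ s, ((V : Y.Opens) : Set Y)) := Set.mem_iUnion₂.2 ⟨V, hV, hy⟩
    exact hcov.symm.subset this
  choose O hO1 hO2 using key
  classical
  let O' : Set S := (U : Set S) ∩ ⋂ V ∈ hs.toFinset, if hV : (V : Y.Opens) ≤ g ⁻¹ᵁ U then (O V hV : Set S)
    else Set.univ
  refine ⟨genericPoint S, mem_interior.2 ⟨O', ?_, U.2.inter (isOpen_biInter_finset fun V _ => ?_),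
    hηU, Set.mem_iInter₂.2 fun V _ => ?_⟩⟩
  · rintro _ ⟨hyU, hy⟩ ⟨y, hyF, rfl⟩
    obtain ⟨V, hV, hyV⟩ := Set.mem_iUnion₂.1 (hcov.subset (show y ∈ (g ⁻¹ᵁ U : Set Y) from hyU))
    have := Set.mem_iInter₂.1 hy V (by simpa using hV)
    rw [dif_pos (hsub V hV)] at this
    exact hyF (hO2 V (hsub V hV) y hyV this)
  · split
    · exact (O V _).2
    · exact isOpen_univ
  · split
    · exact hO1 V _
    · trivial

theorem isIndConsMor (hP : ConsProp.IsIndCons P) :
    ConsProp.IsIndConsMor (fun X Y T f g => ∀ y : ↥Y, P (f.fiberToSpecResidueField y)) := by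
  refine ⟨isFieldStableMor hP.1, fun X Y S f g _ _ _ _ _ _ hη => ?_⟩
  have : IsLocallyNoetherian Y := LocallyOfFiniteType.isLocallyNoetherian g
  have : LocallyOfFiniteType f := locallyOfFiniteType_of_comp f g
  have : IsLocallyNoetherian X := LocallyOfFiniteType.isLocallyNoetherian f
  have : LocallyOfFinitePresentation f :=
    LocallyOfFinitePresentation.iff_locallyOfFiniteType.2 inferInstance
  have : QuasiCompact f := QuasiCompact.of_comp f g
  rw [locusMor_eq hP.1] at hη ⊢
  refine generic_of_fibre g _ (isIndConstructible_locus hP f) fun y hy => ?_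
  by_contra hc
  exact hη ⟨y, hc, hy⟩

end Groth.Agent.H47.ConsFibres
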