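import Groth.Agent.H47.ConsFormal

/-!
# Constructible properties of pairs of algebraic schemes give constructible loci
-/

set_option autoImplicit false
set_option backward.isDefEq.respectTransparency false

noncomputable section

universe u

open CategoryTheory CategoryTheory.Limits AlgebraicGeometry Topology
open Groth.Agent.Lib.Lim Groth.Agent.Lib.Lim.Basic

namespace Groth.Agent.H47.ConsFormalPair

theorem exists_model_pair {A : CommRingCat.{u}} {X Y : Scheme.{u}} (u : X ⟶ Spec A) (v : Y ⟶ Spec A)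
    [LocallyOfFinitePresentation u] [QuasiCompact u] [QuasiSeparated u]
    [LocallyOfFinitePresentation v] [QuasiCompact v] [QuasiSeparated v] :
    ∃ (A₀ : CommRingCat.{u}) (_ : IsNoetherianRing A₀) (b : Spec A ⟶ Spec A₀) (X₀ Y₀ : Scheme.{u})
      (u₀ : X₀ ⟶ Spec A₀) (v₀ : Y₀ ⟶ Spec A₀) (qX : X ⟶ X₀) (qY : Y ⟶ Y₀),
      LocallyOfFinitePresentation u₀ ∧ QuasiCompact u₀ ∧ QuasiSeparated u₀ ∧
      LocallyOfFinitePresentation v₀ ∧ QuasiCompact v₀ ∧ QuasiSeparated v₀ ∧
      IsPullback qX u u₀ b ∧ IsPullback qY v v₀ b := by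
  let D := Groth.Agent.H2.Rigid.SubDiagram.diagram A
  let c := Groth.Agent.H2.Rigid.SubDiagram.cone A
  have hc : IsLimit c := Groth.Agent.H2.Rigid.SubDiagram.isLimitCone A
  have : ∀ {i j : (Finset A)ᵒᵖ} (g : i ⟶ j), IsAffineHom (D.map g) := fun g => inferInstance
  have : CompactSpace X := QuasiCompact.compactSpace_of_compactSpace u
  have : QuasiSeparatedSpace X := quasiSeparatedSpace_of_quasiSeparated u
  have : CompactSpace Y := QuasiCompact.compactSpace_of_compactSpace v
  have : QuasiSeparatedSpace Y := quasiSeparatedSpace_of_quasiSeparated v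
  obtain ⟨i, Xi, ui, pX, hXc, hXq, hui, hi⟩ := FPDescend.exists_descent (D := D) (c := c) hc u
  obtain ⟨j, Yj, vj, pY, hYc, hYq, hvj, hj⟩ := FPDescend.exists_descent (D := D) (c := c) hc v
  obtain ⟨k, α, β, -⟩ := IsCofilteredOrEmpty.cone_objs i j
  let A₀ : CommRingCat.{u} := (Groth.Agent.H2.Rigid.SubDiagram.ringDiagram A).obj k.unop
  have hA₀ : IsNoetherianRing A₀ := by
    have := Groth.Agent.H2.Rigid.SubDiagram.isLocallyNoetherian_obj A k
    exact (isLocallyNoetherian_Spec (R := A₀)).1 this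
  let u₀ : pullback ui (D.map α) ⟶ Spec A₀ := pullback.snd ui (D.map α)
  let v₀ : pullback vj (D.map β) ⟶ Spec A₀ := pullback.snd vj (D.map β)
  have : CompactSpace ↥(pullback ui (D.map α)) := FPDescend.compactSpace_stage ui α
  have : QuasiSeparatedSpace ↥(pullback ui (D.map α)) := FPDescend.quasiSeparatedSpace_stage ui α
  have : CompactSpace ↥(pullback vj (D.map β)) := FPDescend.compactSpace_stage vj β
  have : QuasiSeparatedSpace ↥(pullback vj (D.map β)) := FPDescend.quasiSeparatedSpace_stage vj β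
  have hX0 := FPDescend.move (c := c) hi α
  have hY0 := FPDescend.move (c := c) hj β
  exact ⟨A₀, hA₀, c.π.app k, _, _, u₀, v₀, _, _,
    MorphismProperty.pullback_snd (P := @LocallyOfFinitePresentation) ui (D.map α) hui,
    (quasiCompact_iff_compactSpace _).2 inferInstance,
    (quasiSeparated_iff_quasiSeparatedSpace _).2 inferInstance,
    MorphismProperty.pullback_snd (P := @LocallyOfFinitePresentation) vj (D.map β) hvj,
    (quasiCompact_iff_compactSpace _).2 inferInstance,
    (quasiSeparated_iff_quasiSeparatedSpace _).2 inferInstance,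
    hX0, hY0⟩

variable {P : ∀ ⦃X Y T : Scheme.{u}⦄, (X ⟶ T) → (Y ⟶ T) → Prop}

theorem locusPair_preimage (hP : ConsPropPair.IsFieldStablePair P) {X Y S X' Y' S' : Scheme.{u}}
    {u : X ⟶ S} {v : Y ⟶ S} {u' : X' ⟶ S'} {v' : Y' ⟶ S'} {b : S' ⟶ S} {qX : X' ⟶ X} {qY : Y' ⟶ Y}
    [LocallyOfFiniteType u] [QuasiCompact u] [LocallyOfFiniteType v] [QuasiCompact v]
    (hX : IsPullback qX u' u b) (hY : IsPullback qY v' v b) :
    ConsPropPair.locusPair P u' v' = b ⁻¹' ConsPropPair.locusPair P u v := by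
  ext s
  show P (u'.fiberToSpecResidueField s) (v'.fiberToSpecResidueField s) ↔
    P (u.fiberToSpecResidueField (b s)) (v.fiberToSpecResidueField (b s))
  set ι := S.fromSpecResidueField (b s)
  set ι' := S'.fromSpecResidueField s
  let h := Spec.map (b.residueFieldMap s)
  have e : h ≫ ι = ι' ≫ b := Scheme.Hom.SpecMap_residueFieldMap_fromSpecResidueField b s
  have key : ∀ {W W' : Scheme.{u}} {w : W ⟶ S} {w' : W' ⟶ S'} {q : W' ⟶ W},
      IsPullback q w' w b → ∃ eW : w'.fiber s ⟶ w.fiber (b s),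
        IsPullback eW (w'.fiberToSpecResidueField s) (w.fiberToSpecResidueField (b s)) h := by
    intro W W' w w' q hW
    refine ⟨pullback.lift (pullback.fst w' ι' ≫ q) (pullback.snd w' ι' ≫ h)
      (by rw [Category.assoc, hW.w, pullback.condition_assoc, Category.assoc, e]), ?_⟩
    refine IsPullback.of_right ?_ (pullback.lift_snd _ _ _) (IsPullback.of_hasPullback w ι)
    erw [pullback.lift_fst, e]
    exact (IsPullback.of_hasPullback w' ι').paste_horiz hW
  obtain ⟨eX, heX⟩ := key hX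
  obtain ⟨eY, heY⟩ := key hY
  haveI : LocallyOfFiniteType (u.fiberToSpecResidueField (b s)) :=
    MorphismProperty.pullback_snd (P := @LocallyOfFiniteType) _ _ inferInstance
  haveI : QuasiCompact (u.fiberToSpecResidueField (b s)) :=
    MorphismProperty.pullback_snd (P := @QuasiCompact) _ _ inferInstance
  haveI : LocallyOfFiniteType (v.fiberToSpecResidueField (b s)) :=
    MorphismProperty.pullback_snd (P := @LocallyOfFiniteType) _ _ inferInstance
  haveI : QuasiCompact (v.fiberToSpecResidueField (b s)) :=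
    MorphismProperty.pullback_snd (P := @QuasiCompact) _ _ inferInstance
  haveI : Subsingleton ↥(Spec (S.residueField (b s))) :=
    inferInstanceAs (Subsingleton (PrimeSpectrum (S.residueField (b s))))
  haveI : Subsingleton ↥(Spec (S'.residueField s)) :=
    inferInstanceAs (Subsingleton (PrimeSpectrum (S'.residueField s)))
  exact (hP (u.fiberToSpecResidueField (b s)) (v.fiberToSpecResidueField (b s))
    (u'.fiberToSpecResidueField s) (v'.fiberToSpecResidueField s) eX eY h heX heY).symm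

section

variable {X Y S : Scheme.{u}} (u : X ⟶ S) (v : Y ⟶ S)
  [LocallyOfFinitePresentation u] [QuasiCompact u] [QuasiSeparated u]
  [LocallyOfFinitePresentation v] [QuasiCompact v] [QuasiSeparated v]

theorem isLocallyConstructible_locusPair (hP : ConsPropPair.IsConsPair P) :
    IsLocallyConstructible (ConsPropPair.locusPair P u v) := by
  refine ConsFormal.isLocallyConstructible_of_models _ fun {A} w _ => ?_
  obtain ⟨A₀, hA₀, b, X₀, Y₀, u₀, v₀, qX, qY, _, _, _, _, _, _, hX0, hY0⟩ :=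
    exists_model_pair (pullback.snd u w) (pullback.snd v w)
  refine ⟨A₀, b, ConsPropPair.locusPair P u₀ v₀, ?_,
    (locusPair_preimage hP.1 (IsPullback.of_hasPullback u w) (IsPullback.of_hasPullback v w)).symm.trans
      (locusPair_preimage hP.1 hX0 hY0)⟩
  refine ConsFormal.isConstructible_of_dichotomy _ fun Z c _ _ _ => ?_
  rw [← locusPair_preimage hP.1 (IsPullback.of_hasPullback u₀ c) (IsPullback.of_hasPullback v₀ c)]
  exact hP.2 _ _

theorem isIndConstructible_locusPair (hP : ConsPropPair.IsIndConsPair P) :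
    ProCons.IsIndConstructible (ConsPropPair.locusPair P u v) := by
  refine ConsFormal.isIndConstructible_of_models _ fun {A} w _ => ?_
  obtain ⟨A₀, hA₀, b, X₀, Y₀, u₀, v₀, qX, qY, _, _, _, _, _, _, hX0, hY0⟩ :=
    exists_model_pair (pullback.snd u w) (pullback.snd v w)
  refine ⟨A₀, b, ConsPropPair.locusPair P u₀ v₀, ?_,
    (locusPair_preimage hP.1 (IsPullback.of_hasPullback u w) (IsPullback.of_hasPullback v w)).symm.trans
      (locusPair_preimage hP.1 hX0 hY0)⟩
  refine ConsFormal.exists_constructible_subset _ fun Z c _ _ _ hη => ?_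
  rw [← locusPair_preimage hP.1 (IsPullback.of_hasPullback u₀ c) (IsPullback.of_hasPullback v₀ c)]
    at hη ⊢
  exact hP.2 _ _ hη

end

theorem locusPair_limit (hP : ConsPropPair.IsIndConsPair P)
    {I : Type u} [SmallCategory I] [IsCofiltered I]
    (D : I ⥤ Scheme.{u}) (c : Cone D) (hc : IsLimit c)
    [∀ (i j : I) (a : i ⟶ j), IsAffineHom (D.map a)] (i₀ : I) [CompactSpace ↥(D.obj i₀)]
    {X₀ Y₀ : Scheme.{u}} (u₀ : X₀ ⟶ D.obj i₀) (v₀ : Y₀ ⟶ D.obj i₀)
    [LocallyOfFinitePresentation u₀] [QuasiCompact u₀] [QuasiSeparated u₀]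
    [LocallyOfFinitePresentation v₀] [QuasiCompact v₀] [QuasiSeparated v₀]
    {X Y : Scheme.{u}} (u : X ⟶ c.pt) (v : Y ⟶ c.pt) (qX : X ⟶ X₀) (qY : Y ⟶ Y₀)
    (hX : IsPullback qX u u₀ (c.π.app i₀)) (hY : IsPullback qY v v₀ (c.π.app i₀)) :
    (∀ s : ↥c.pt, s ∈ ConsPropPair.locusPair P u v) ↔
      ∃ (j : I) (φ : j ⟶ i₀) (Xj Yj : Scheme.{u}) (uj : Xj ⟶ D.obj j) (vj : Yj ⟶ D.obj j)
        (pX : Xj ⟶ X₀) (pY : Yj ⟶ Y₀), IsPullback pX uj u₀ (D.map φ) ∧ IsPullback pY vj v₀ (D.map φ) ∧
          ∀ t : ↥(D.obj j), t ∈ ConsPropPair.locusPair P uj vj := by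
  rw [locusPair_preimage hP.1 hX hY]
  constructor
  · intro h
    obtain ⟨j, φ, hj⟩ := ConsFormal.exists_stage_eq_univ D c hc i₀
      (isIndConstructible_locusPair u₀ v₀ hP) h
    refine ⟨j, φ, _, _, pullback.snd u₀ (D.map φ), pullback.snd v₀ (D.map φ), _, _,
      IsPullback.of_hasPullback _ _, IsPullback.of_hasPullback _ _, fun t => ?_⟩
    rw [locusPair_preimage hP.1 (IsPullback.of_hasPullback u₀ _) (IsPullback.of_hasPullback v₀ _)]
    exact hj t
  · rintro ⟨j, φ, Xj, Yj, uj, vj, pX, pY, hXj, hYj, hj⟩ s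
    have := hj (c.π.app j s)
    rw [locusPair_preimage hP.1 hXj hYj, Set.mem_preimage, ← Scheme.Hom.comp_apply, c.w] at this
    exact this

end Groth.Agent.H47.ConsFormalPair
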