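import Groth.Agent.H47.ConsBasic
import Groth.Agent.H56.DimBaseChange
import Groth.Agent.Lib.FibreDim.Global
import Groth.Agent.Lib.Spectral.Noetherian

/-!
# The dimension of algebraic schemes is a constructible property
-/

set_option autoImplicit false
set_option backward.isDefEq.respectTransparency false

noncomputable section

universe u

open CategoryTheory CategoryTheory.Limits AlgebraicGeometry Topology

namespace Groth.Agent.H47.DimCons

open Groth.Agent.Lib.FibreDim.Basic Groth.Agent.Lib.FibreDim.Global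

theorem dim_eq_of_isPullback {Y Y' T T' : Scheme.{u}} {g : Y ⟶ T} {g' : Y' ⟶ T'} {e : Y' ⟶ Y}
    {h : T' ⟶ T} [IsIntegral T] [Subsingleton T] [IsIntegral T'] [Subsingleton T']
    [LocallyOfFiniteType g] (sq : IsPullback e g' g h) :
    topologicalKrullDim ↥Y' = topologicalKrullDim ↥Y := by
  let _ := (isField_of_isIntegral_of_subsingleton T).toField
  let _ := (isField_of_isIntegral_of_subsingleton T').toField
  have sq' : IsPullback e (g' ≫ T'.isoSpec.hom) (g ≫ T.isoSpec.hom)
      (T'.isoSpec.inv ≫ h ≫ T.isoSpec.hom) :=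
    sq.of_iso (Iso.refl _) (Iso.refl _) T'.isoSpec T.isoSpec (by simp) (by simp) (by simp) (by simp)
  exact H56.DimBaseChange.topologicalKrullDim_baseChange (k := Γ(T, ⊤)) (K := Γ(T', ⊤)) _ _ _ _ sq'

theorem exists_fibre_dim_lt {X S : Scheme.{u}} (u : X ⟶ S) [LocallyOfFiniteType u]
    [CompactSpace X] : ∃ N : ℕ, ∀ y : S, ¬ (N : WithBot ℕ∞) ≤ topologicalKrullDim ↥(u.fiber y) := by
  classical
  obtain ⟨t, ht⟩ := (isCompact_univ (X := X)).elim_finite_subcover
    (fun n : ℕ => {x : X | (n : WithBot ℕ∞) ≤ FlatMor.fibreDimAt u x}ᶜ)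
    (fun n => (isClosed_setOf_le_fibreDimAt u n).isOpen_compl) (fun x _ => by
      obtain ⟨e, he⟩ := Groth.Agent.Lib.FibreDim.Chart.exists_fibreDimAt_eq u x
      refine Set.mem_iUnion.2 ⟨e + 1, fun h => ?_⟩
      rw [Set.mem_ofPred_eq, he] at h
      have : e + 1 ≤ e := by exact_mod_cast h
      omega)
  refine ⟨t.sup id, fun y hy => ?_⟩
  obtain ⟨x, -, hx⟩ := (le_topologicalKrullDim_fiber_iff u y _).1 hy
  obtain ⟨n, hn, hnx⟩ := Set.mem_iUnion₂.1 (ht (Set.mem_univ x))
  exact hnx (le_trans (by exact_mod_cast Finset.le_sup (f := id) hn) hx)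

theorem exists_generic_dim {X S : Scheme.{u}} (u : X ⟶ S) [IsIntegral S] [IsNoetherian S]
    [LocallyOfFiniteType u] [QuasiCompact u] :
    ∃ U : Set S, IsOpen U ∧ genericPoint S ∈ U ∧ ∀ y ∈ U,
      topologicalKrullDim ↥(u.fiber y) = topologicalKrullDim ↥(u.fiber (genericPoint S)) := by
  classical
  have : IsLocallyNoetherian X := LocallyOfFiniteType.isLocallyNoetherian u
  have : CompactSpace X := QuasiCompact.compactSpace_of_compactSpace u
  have : IsNoetherian X := ⟨⟩
  have : LocallyOfFinitePresentation u :=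
    LocallyOfFinitePresentation.iff_locallyOfFiniteType.2 inferInstance
  let E : ℕ → Set S := fun n => {y | (n : WithBot ℕ∞) ≤ topologicalKrullDim ↥(u.fiber y)}
  have hE : ∀ n, IsConstructible (E n) := fun n => by
    simp only [E, setOf_le_fibre_dim_eq_image u n]
    exact IsLocallyConstructible.isConstructible (u.isLocallyConstructible_image (by
      rw [← compl_compl {x : X | (n : WithBot ℕ∞) ≤ FlatMor.fibreDimAt u x}]
      exact (Groth.Agent.Lib.Spectral.Noetherian.isConstructible_of_isOpen
        (isClosed_setOf_le_fibreDimAt u n).isOpen_compl).compl.isLocallyConstructible))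
  let η := genericPoint S
  obtain ⟨N, hN⟩ := exists_fibre_dim_lt u
  -- the least index not attained at the generic point
  have hex : ∃ m, η ∉ E m := ⟨N, hN η⟩
  let m := Nat.find hex
  have hm : η ∈ interior (E m)ᶜ :=
    (ConsBasic.mem_interior_of_isConstructible (genericPoint_spec S) (hE m).compl).1 (Nat.find_spec hex)
  rcases Nat.eq_zero_or_pos m with h0 | hpos
  · refine ⟨interior (E m)ᶜ, isOpen_interior, hm, fun y hy => ?_⟩
    have h1 : ∀ z, z ∉ E 0 → topologicalKrullDim ↥(u.fiber z) = ⊥ := fun z hz => by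
      by_contra hne
      exact hz (by
        show ((0 : ℕ) : WithBot ℕ∞) ≤ _
        obtain ⟨a, ha⟩ := WithBot.ne_bot_iff_exists.1 hne
        rw [← ha]
        exact WithBot.coe_le_coe.2 zero_le')
    rw [h1 y (h0 ▸ interior_subset hy), h1 η (h0 ▸ interior_subset hm)]
  · obtain ⟨k, hk⟩ := Nat.exists_eq_succ_of_ne_zero hpos.ne'
    have hk' : η ∈ interior (E k) :=
      (ConsBasic.mem_interior_of_isConstructible (genericPoint_spec S) (hE k)).1
        (by simpa using Nat.find_min hex (show k < m by omega))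
    refine ⟨interior (E m)ᶜ ∩ interior (E k), isOpen_interior.inter isOpen_interior, ⟨hm, hk'⟩,
      fun y hy => ?_⟩
    have h1 : ∀ z, z ∉ E m → z ∈ E k → topologicalKrullDim ↥(u.fiber z) = (k : WithBot ℕ∞) := by
      intro z hzm hzk
      simp only [E, hk, Set.mem_ofPred_eq] at hzm hzk
      refine le_antisymm ?_ hzk
      generalize topologicalKrullDim ↥(u.fiber z) = d at hzm hzk
      induction d using WithBot.recBotCoe with
      | bot => exact bot_le
      | coe a =>
        induction a using ENat.recTopCoe with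
        | top => exact absurd le_top hzm
        | coe b =>
          have hb : ¬ (k + 1 ≤ b) := fun h => hzm (by exact_mod_cast h)
          exact_mod_cast (by omega : b ≤ k)
    rw [h1 y (interior_subset hy.1) (interior_subset hy.2),
      h1 η (interior_subset hm) (interior_subset hk')]

theorem isCons (Φ : Set (WithBot ℕ∞)) :
    ConsProp.IsCons.{u} (fun Y T g => topologicalKrullDim ↥Y ∈ Φ) := by
  refine ⟨fun Y Y' T T' g g' e h _ _ _ _ _ _ sq => ?_, fun X S u _ _ _ _ => ?_⟩
  · simp only [dim_eq_of_isPullback sq]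
  · obtain ⟨U, hU, hη, hc⟩ := exists_generic_dim u
    by_cases h : topologicalKrullDim ↥(u.fiber (genericPoint S)) ∈ Φ
    · have key : U ⊆ ConsProp.locus (fun Y T g => topologicalKrullDim ↥Y ∈ Φ) u := fun y hy => by
        show topologicalKrullDim ↥(u.fiber y) ∈ Φ
        rw [hc y hy]; exact h
      exact Or.inl ⟨_, interior_maximal key hU hη⟩
    · have key : U ⊆ (ConsProp.locus (fun Y T g => topologicalKrullDim ↥Y ∈ Φ) u)ᶜ := by
        intro y hy (hy' : topologicalKrullDim ↥(u.fiber y) ∈ Φ)
        rw [hc y hy] at hy'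
        exact h hy'
      exact Or.inr ⟨_, interior_maximal key hU hη⟩

end Groth.Agent.H47.DimCons
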