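import Groth.Agent.H46.FiberStalk
import Groth.Agent.Lib.Flat55.FibreStep
import Groth.Agent.H47.ConsFormal
import Mathlib.RingTheory.IsTensorProduct

/-!
# The fibrewise criterion of flatness at a point
-/

set_option autoImplicit false
set_option backward.isDefEq.respectTransparency false

noncomputable section

universe u

open CategoryTheory CategoryTheory.Limits AlgebraicGeometry IsLocalRing

namespace Groth.Agent.H47.FibreFlat

theorem fibre_stalk {Y S : Scheme.{u}} (g : Y ⟶ S) (s : S) (b : g.fiber s) (y : Y)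
    (e : g.fiberι s b = y) :
    Function.Surjective
        ((Y.presheaf.stalkCongr (.of_eq e.symm)).hom ≫ (g.fiberι s).stalkMap b).hom ∧
      RingHom.ker ((Y.presheaf.stalkCongr (.of_eq e.symm)).hom ≫ (g.fiberι s).stalkMap b).hom =
        (maximalIdeal (S.presheaf.stalk (g y))).map (g.stalkMap y).hom := by
  subst e
  simp only [TopCat.Presheaf.stalkCongr_hom, TopCat.Presheaf.stalkSpecializes_refl,
    Category.id_comp]
  exact ⟨(g.fiberι s).stalkMap_surjective b, H46.FiberStalk.ker_stalkMap_fiberι g s b⟩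

theorem fiberMap_fiberι {X Y S : Scheme.{u}} (f : X ⟶ Y) (g : Y ⟶ S) (s : S) :
    MoreMor.fiberMap f g s ≫ g.fiberι s = (f ≫ g).fiberι s ≫ f := by
  rw [ConsFormal.fiberMap_eq]
  exact pullback.lift_fst _ _ _

set_option maxHeartbeats 1000000 in
/-- A morphism of flat schemes over the base which is flat on the fibre is flat. -/
theorem flat_stalkMap_of_fiber {X Y S : Scheme.{u}} (f : X ⟶ Y) (g : Y ⟶ S)
    [IsLocallyNoetherian X] [IsLocallyNoetherian Y] {s : S} (a : (f ≫ g).fiber s)
    (hX : ((f ≫ g).stalkMap ((f ≫ g).fiberι s a)).hom.Flat)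
    (hf : ((MoreMor.fiberMap f g s).stalkMap a).hom.Flat) :
    (f.stalkMap ((f ≫ g).fiberι s a)).hom.Flat := by
  set x := (f ≫ g).fiberι s a with hx
  let b := MoreMor.fiberMap f g s a
  have e : g.fiberι s b = f x := by
    show g.fiberι s (MoreMor.fiberMap f g s a) = _
    rw [← Scheme.Hom.comp_apply, fiberMap_fiberι, Scheme.Hom.comp_apply]
  let φB := (Y.presheaf.stalkCongr (.of_eq e.symm)).hom ≫ (g.fiberι s).stalkMap b
  let φX := ((f ≫ g).fiberι s).stalkMap a
  obtain ⟨hBs, hBk⟩ := fibre_stalk g s b (f x) e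
  have hXs : Function.Surjective φX.hom := ((f ≫ g).fiberι s).stalkMap_surjective a
  have hXk : RingHom.ker φX.hom =
      (maximalIdeal (S.presheaf.stalk (g (f x)))).map (g.stalkMap (f x) ≫ f.stalkMap x).hom := by
    rw [H46.FiberStalk.ker_stalkMap_fiberι (f ≫ g) s a, Scheme.Hom.stalkMap_comp]
    rfl
  have hsq : f.stalkMap x ≫ φX = φB ≫ (MoreMor.fiberMap f g s).stalkMap a := by
    show f.stalkMap x ≫ φX =
      ((Y.presheaf.stalkCongr (.of_eq e.symm)).hom ≫ (g.fiberι s).stalkMap b) ≫ _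
    rw [Category.assoc, ← Scheme.Hom.stalkMap_comp, ← Scheme.Hom.stalkMap_comp]
    exact Scheme.Hom.stalkMap_congr_hom _ _ (fiberMap_fiberι f g s).symm a
  algebraize [(g.stalkMap (f x)).hom, (g.stalkMap (f x) ≫ f.stalkMap x).hom, (f.stalkMap x).hom,
    φB.hom, φX.hom, ((MoreMor.fiberMap f g s).stalkMap a).hom,
    (φB ≫ (MoreMor.fiberMap f g s).stalkMap a).hom]
  have : IsScalarTower (S.presheaf.stalk (g (f x))) (Y.presheaf.stalk (f x))
      (X.presheaf.stalk x) := .of_algebraMap_eq' rfl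
  have : IsScalarTower (Y.presheaf.stalk (f x)) (X.presheaf.stalk x)
      ((Scheme.Hom.fiber (f ≫ g) s).presheaf.stalk a) := .of_algebraMap_eq' (by
    show (φB ≫ (MoreMor.fiberMap f g s).stalkMap a).hom = (f.stalkMap x ≫ φX).hom
    rw [hsq])
  have : IsScalarTower (Y.presheaf.stalk (f x)) ((g.fiber s).presheaf.stalk b)
      ((Scheme.Hom.fiber (f ≫ g) s).presheaf.stalk a) := .of_algebraMap_eq' rfl
  have : IsLocalHom (algebraMap (S.presheaf.stalk (g (f x))) (X.presheaf.stalk x)) :=
    inferInstanceAs (IsLocalHom (g.stalkMap (f x) ≫ f.stalkMap x).hom)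
  have : Module.Flat (S.presheaf.stalk (g (f x))) (X.presheaf.stalk x) := by
    rw [Scheme.Hom.stalkMap_comp] at hX
    exact hX
  have hB₁ : (maximalIdeal (S.presheaf.stalk (g (f x)))).map
      (algebraMap (S.presheaf.stalk (g (f x))) (Y.presheaf.stalk (f x))) ≤
      RingHom.ker (algebraMap (Y.presheaf.stalk (f x)) ((g.fiber s).presheaf.stalk b)) := hBk.ge
  have hS₁ : (maximalIdeal (S.presheaf.stalk (g (f x)))).map
      (algebraMap (S.presheaf.stalk (g (f x))) (X.presheaf.stalk x)) ≤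
      RingHom.ker (algebraMap (X.presheaf.stalk x)
        ((Scheme.Hom.fiber (f ≫ g) s).presheaf.stalk a)) := hXk.ge
  have hbij : ∀ {A C : Type u} [CommRing A] [CommRing C] (φ : A →+* C) (I : Ideal A)
      (hs : Function.Surjective φ) (hk : RingHom.ker φ = I),
      Function.Bijective (Ideal.Quotient.lift I φ hk.ge) := fun φ I hs hk =>
    ⟨RingHom.lift_injective_of_ker_le_ideal I hk.ge hk.le,
      Ideal.Quotient.lift_surjective_of_surjective _ _ hs⟩
  exact Groth.Agent.Lib.Flat55.FibreStep.flat_of_fibre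
    (R := S.presheaf.stalk (g (f x))) (B := Y.presheaf.stalk (f x)) (S := X.presheaf.stalk x)
    (X := X.presheaf.stalk x) hB₁ (RingHom.Flat.of_bijective (hbij _ _ hBs hBk))
    hS₁ (RingHom.FaithfullyFlat.of_bijective (hbij _ _ hXs hXk))
    (Y := (Scheme.Hom.fiber (f ≫ g) s).presheaf.stalk a)
    (Algebra.linearMap (X.presheaf.stalk x) ((Scheme.Hom.fiber (f ≫ g) s).presheaf.stalk a))
    (IsBaseChange.linearMap _ _)

end Groth.Agent.H47.FibreFlat
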