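import Groth.Agent.H47.UnramLocus
import Groth.Agent.H47.FibreFlat
import Groth.Agent.H47.GenericFlat
import Groth.Agent.Lib.Unram.EtaleMono

/-!
# The loci where the fibre map is étale, an open immersion, an isomorphism
-/

set_option autoImplicit false
set_option backward.isDefEq.respectTransparency false

noncomputable section

universe u

open CategoryTheory CategoryTheory.Limits AlgebraicGeometry Topology
open Groth.Agent.H47.FibreLocus

namespace Groth.Agent.H47.EtaleLocus

variable {X Y : Scheme.{u}} (f : X ⟶ Y)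

/-- the étale points -/
abbrev etalePts : Set X := {x | (f.stalkMap x).hom.Flat ∧ (f.stalkMap x).hom.FormallyUnramified}

theorem isOpen_etalePts [LocallyOfFinitePresentation f] : IsOpen (etalePts f) := by
  refine isOpen_iff_forall_mem_open.2 fun x hx => ?_
  obtain ⟨U, hxU, hU⟩ := (Groth.Agent.Lib.Unram.AtPrime.exists_etale_nhd_iff f x).2 hx
  exact ⟨U, fun y hy => (Groth.Agent.Lib.Unram.AtPrime.exists_etale_nhd_iff f y).1 ⟨U, hy, hU⟩,
    U.2, hxU⟩

theorem mem_etalePts_bc {X' Y' : Scheme.{u}} {f' : X' ⟶ Y'} {eX : X' ⟶ X} {b : Y' ⟶ Y}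
    (sq : IsPullback eX f' f b) [LocallyOfFinitePresentation f] {x' : X'}
    (h : eX x' ∈ etalePts f) : x' ∈ etalePts f' := by
  obtain ⟨V, hxV, hV⟩ := (Groth.Agent.Lib.Unram.AtPrime.exists_etale_nhd_iff f _).2 h
  have sq' : IsPullback (eX ∣_ V) ((eX ⁻¹ᵁ V).ι ≫ f') (V.ι ≫ f) b :=
    (isPullback_morphismRestrict eX V).paste_vert sq
  have : LocallyOfFinitePresentation f' := MorphismProperty.of_isPullback sq inferInstance
  exact (Groth.Agent.Lib.Unram.AtPrime.exists_etale_nhd_iff f' x').1
    ⟨eX ⁻¹ᵁ V, hxV, MorphismProperty.of_isPullback (P := @Etale) sq' hV⟩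

theorem etale_iff_forall [LocallyOfFinitePresentation f] :
    Etale f ↔ ∀ x, x ∈ etalePts f := by
  refine ⟨fun h x => ⟨Flat.stalkMap f x, FormallyUnramified.stalkMap f x⟩, fun h => ?_⟩
  choose U hxU hU using fun x => (Groth.Agent.Lib.Unram.AtPrime.exists_etale_nhd_iff f x).2 (h x)
  refine (IsZariskiLocalAtSource.iff_of_iSup_eq_top (P := @Etale) U ?_).2 hU
  exact top_le_iff.1 fun x _ => TopologicalSpace.Opens.mem_iSup.2 ⟨x, hxU x⟩

theorem setOf_etale_eq {S : Scheme.{u}} (g : Y ⟶ S) [LocallyOfFinitePresentation f]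
    [IsLocallyNoetherian X] [IsLocallyNoetherian Y] [Flat (f ≫ g)] :
    {s : S | Etale (bcMap f g (S.fromSpecResidueField s))} = ((f ≫ g) '' (etalePts f)ᶜ)ᶜ := by
  ext s
  set ι := S.fromSpecResidueField s
  constructor
  · rintro (h : Etale (bcMap f g ι)) ⟨x, hx, hxs⟩
    refine hx ⟨?_, ?_⟩
    · obtain ⟨a, ha⟩ : x ∈ Set.range ((f ≫ g).fiberι s) := by
        rw [(f ≫ g).range_fiberι s]; exact hxs
      subst ha
      have h' : Etale (MoreMor.fiberMap f g s) := by
        rw [ConsFormal.fiberMap_eq]
        exact (fibreMap_iff f g @Etale ι).2 h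
      exact FibreFlat.flat_stalkMap_of_fiber f g a (Flat.stalkMap _ _) (Flat.stalkMap _ _)
    · have hFU : s ∈ {s : S | FormallyUnramified (bcMap f g (S.fromSpecResidueField s))} :=
        (inferInstance : FormallyUnramified (bcMap f g ι))
      rw [UnramLocus.setOf_formallyUnramified_eq] at hFU
      by_contra hc
      exact hFU ⟨x, hc, hxs⟩
  · intro h
    show Etale (pullback.snd f (pullback.fst g ι))
    have : LocallyOfFinitePresentation (pullback.snd f (pullback.fst g ι)) := inferInstance
    rw [etale_iff_forall]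
    refine fun x' => mem_etalePts_bc f (IsPullback.of_hasPullback f (pullback.fst g ι)) ?_
    by_contra hc
    refine h ⟨_, hc, ?_⟩
    rw [← Scheme.Hom.comp_apply, ← Category.assoc, pullback.condition, Category.assoc,
      pullback.condition, ← Category.assoc, Scheme.Hom.comp_apply,
      Scheme.fromSpecResidueField_apply]

theorem isLocallyConstructible_etale {S : Scheme.{u}} (g : Y ⟶ S) [LocallyOfFinitePresentation f]
    [QuasiCompact f] [LocallyOfFinitePresentation g] [QuasiCompact g]
    [IsNoetherian X] [IsLocallyNoetherian Y] [Flat (f ≫ g)] :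
    IsLocallyConstructible {s : S | Etale (bcMap f g (S.fromSpecResidueField s))} := by
  rw [setOf_etale_eq]
  refine SurjLocus.compl_isLocallyConstructible ((f ≫ g).isLocallyConstructible_image
    (SurjLocus.compl_isLocallyConstructible ?_))
  exact (Groth.Agent.Lib.Spectral.Noetherian.isConstructible_of_isOpen
    (isOpen_etalePts f)).isLocallyConstructible

theorem isOpenImmersion_iff : IsOpenImmersion f ↔ Etale f ∧ UniversallyInjective f := by
  refine ⟨fun h => ⟨inferInstance, inferInstance⟩, fun ⟨h1, h2⟩ => ?_⟩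
  have : Surjective (pullback.diagonal f) := (UniversallyInjective.iff_diagonal f).1 h2
  exact Groth.Agent.Lib.Unram.EtaleMono.isOpenImmersion_of_surjective_diagonal f

/-- the data of the flat case -/
theorem dichotomy_of_flat (P : MorphismProperty Scheme.{u}) [P.RespectsIso]
    (hP : ∀ {X Y S : Scheme.{u}} (f : X ⟶ Y) (g : Y ⟶ S) [LocallyOfFinitePresentation f]
      [QuasiCompact f] [QuasiSeparated f] [LocallyOfFinitePresentation g] [QuasiCompact g]
      [IsNoetherian X] [IsLocallyNoetherian Y] [Flat (f ≫ g)],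
      IsLocallyConstructible {s : S | P (bcMap f g (S.fromSpecResidueField s))})
    {X Y S : Scheme.{u}} (f : X ⟶ Y) (g : Y ⟶ S) [IsIntegral S] [IsNoetherian S]
    [LocallyOfFiniteType g] [QuasiCompact g] [LocallyOfFiniteType (f ≫ g)] [QuasiCompact (f ≫ g)]
    (hflat : Flat (f ≫ g)) :
    (interior (ConsProp.locusMor (fun X Y T f g => P f) f g)).Nonempty ∨
      (interior (ConsProp.locusMor (fun X Y T f g => P f) f g)ᶜ).Nonempty := by
  have : IsLocallyNoetherian Y := LocallyOfFiniteType.isLocallyNoetherian g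
  have : LocallyOfFiniteType f := locallyOfFiniteType_of_comp f g
  have : IsLocallyNoetherian X := LocallyOfFiniteType.isLocallyNoetherian f
  have : CompactSpace X := QuasiCompact.compactSpace_of_compactSpace (f ≫ g)
  have : IsNoetherian X := ⟨⟩
  have : LocallyOfFinitePresentation f :=
    LocallyOfFinitePresentation.iff_locallyOfFiniteType.2 inferInstance
  have : LocallyOfFinitePresentation g :=
    LocallyOfFinitePresentation.iff_locallyOfFiniteType.2 inferInstance
  have : QuasiCompact f := QuasiCompact.of_comp f g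
  rw [ConsBasic.locusMor_eq P f g]
  exact ConsBasic.dichotomy (hP f g)

end Groth.Agent.H47.EtaleLocus
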