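import Groth.Agent.H47.FibreLocus
import Groth.Agent.H47.ConsPreimage
import Groth.Agent.Lib.Spectral.Basic
import Mathlib.AlgebraicGeometry.Morphisms.Immersion

/-!
# Constructibility of fibre loci by stratification

If `R` descends along limits, its locus is locally constructible, and `P ≤ R` has a locally constructible locus
whenever `R` holds globally (over an affine base), then the locus of `P` is locally constructible.
-/

set_option autoImplicit false
set_option backward.isDefEq.respectTransparency false

noncomputable section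

universe u

open CategoryTheory CategoryTheory.Limits AlgebraicGeometry Topology
open Groth.Agent.H47.FibreLocus Groth.Agent.Lib.Lim.Descend

namespace Groth.Agent.H47.Strata

theorem isClopen_of_isConstructible {A : Type u} [CommRing A] {Z : Set (PrimeSpectrum A)}
    (hZ : IsConstructible Z) : @IsClopen _ (constructibleTopology (PrimeSpectrum A)) Z := by
  induction hZ using IsConstructible.empty_union_induction with
  | open_retrocompact U hUo hUc =>
    exact Groth.Agent.Lib.Spectral.Basic.isClopen_cons hUo hUc.isCompact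
  | union s _ t _ h1 h2 => exact @IsClopen.union _ (constructibleTopology _) _ _ h1 h2
  | compl s _ h => exact @IsClopen.compl _ (constructibleTopology _) _ h

theorem isConstructible_of_forall_exists {A : Type u} [CommRing A] (E : Set (PrimeSpectrum A))
    (h : ∀ x, ∃ Z, IsConstructible Z ∧ x ∈ Z ∧ IsConstructible (E ∩ Z)) : IsConstructible E := by
  classical
  choose Z hZ hxZ hEZ using h
  obtain ⟨t, ht⟩ := @IsCompact.elim_finite_subcover _ (constructibleTopology (PrimeSpectrum A))
    Set.univ _ (@isCompact_univ _ (constructibleTopology (PrimeSpectrum A)) Groth.Agent.Lib.Spectral.Basic.compactSpace_cons) Z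
    (fun x => @IsClopen.isOpen _ (constructibleTopology _) _ (isClopen_of_isConstructible (hZ x)))
    (fun x _ => Set.mem_iUnion.2 ⟨x, hxZ x⟩)
  have e : E = ⋃ x ∈ t, E ∩ Z x := by
    refine Set.Subset.antisymm (fun y hy => ?_)
      (Set.iUnion₂_subset fun x _ => Set.inter_subset_left)
    obtain ⟨x, hx, hyx⟩ := Set.mem_iUnion₂.1 (ht (Set.mem_univ y))
    exact Set.mem_iUnion₂.2 ⟨x, hx, hy, hyx⟩
  rw [e]
  exact IsConstructible.biUnion t.finite_toSet fun x _ => hEZ x

theorem descends_inf {P P' Q : MorphismProperty Scheme.{u}} [P.IsStableUnderBaseChange]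
    [P'.IsStableUnderBaseChange] (h : Descends P Q) (h' : Descends P' Q) :
    Descends (P ⊓ P') Q := by
  intro I _ _ D c hc hD i₀ hcD hqD X₀ f₀ hcX hqX hQ X f qX hX hP
  obtain ⟨i, φ, hi⟩ := h D c hc hD i₀ hcD hqD f₀ hcX hqX hQ f qX hX hP.1
  obtain ⟨j, ψ, hj⟩ := h' D c hc hD i₀ hcD hqD f₀ hcX hqX hQ f qX hX hP.2
  obtain ⟨k, a, b, hab⟩ := IsCofiltered.cospan φ ψ
  refine ⟨k, a ≫ φ, ?_, ?_⟩
  · exact prop_of_factor hi (D.map a) (D.map_comp a φ).symm (IsPullback.of_hasPullback _ _)
  · exact prop_of_factor hj (D.map b) (by rw [hab, D.map_comp]) (IsPullback.of_hasPullback _ _)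

instance isPreimmersion_stage {A : Type u} [CommRing A] {q : Ideal A} (i : Ix q) :
    IsPreimmersion (Spec.map (CommRingCat.ofHom (algebraMap A (Stage i)))) := by
  have h1 : IsPreimmersion
      (Spec.map (CommRingCat.ofHom (algebraMap A (Localization.Away i.g)))) :=
    IsPreimmersion.of_isLocalization (Submonoid.powers i.g)
  have h2 : IsClosedImmersion
      (Spec.map (CommRingCat.ofHom (Ideal.Quotient.mk (stIdeal i)))) :=
    IsClosedImmersion.spec_of_surjective _ Ideal.Quotient.mk_surjective
  have e : Spec.map (CommRingCat.ofHom (algebraMap A (Stage i))) =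
      Spec.map (CommRingCat.ofHom (Ideal.Quotient.mk (stIdeal i))) ≫
        Spec.map (CommRingCat.ofHom (algebraMap A (Localization.Away i.g))) := by
    rw [← Spec.map_comp]
    rfl
  rw [e]
  infer_instance

/-- a preimmersion induces isomorphisms of residue fields -/
theorem isIso_residueFieldMap {T S : Scheme.{u}} (u : T ⟶ S) [IsPreimmersion u] (t : T) :
    IsIso (u.residueFieldMap t) := by
  rw [ConcreteCategory.isIso_iff_bijective]
  refine ⟨RingHom.injective _, fun a => ?_⟩
  obtain ⟨b, rfl⟩ := IsLocalRing.residue_surjective a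
  obtain ⟨c, rfl⟩ := u.stalkMap_surjective t b
  exact ⟨S.residue _ c, congr($(Scheme.residue_residueFieldMap u t) c)⟩

variable {X Y S : Scheme.{u}} {f : X ⟶ Y} {g : Y ⟶ S} {P R : MorphismProperty Scheme.{u}}

theorem bcMap_bcMap_iff [P.IsStableUnderBaseChange] {A B : Scheme.{u}} (u : A ⟶ S) (a : B ⟶ A) :
    P (bcMap (bcMap f g u) (pullback.snd g u) a) ↔ P (bcMap f g (a ≫ u)) := by
  let q : pullback (pullback.snd g u) a ⟶ pullback g (a ≫ u) :=
    (pullbackLeftPullbackSndIso g u a).hom
  have hq : q ≫ pullback.fst g (a ≫ u) = pullback.fst (pullback.snd g u) a ≫ pullback.fst g u :=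
    pullbackLeftPullbackSndIso_hom_fst g u a
  have sq := (IsPullback.of_hasPullback (bcMap f g u) (pullback.fst (pullback.snd g u) a)).paste_horiz
    (IsPullback.of_hasPullback f (pullback.fst g u))
  rw [← hq] at sq
  have sq' : IsPullback
      (pullback.fst (bcMap f g u) (pullback.fst (pullback.snd g u) a) ≫
        pullback.fst f (pullback.fst g u))
      (bcMap (bcMap f g u) (pullback.snd g u) a ≫ q) f (pullback.fst g (a ≫ u)) :=
    sq.of_iso (Iso.refl _) (Iso.refl _) (pullbackLeftPullbackSndIso g u a) (Iso.refl _)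
      (by simp) (by simp [q]) (by simp) (by simp [q, hq])
  rw [← P.cancel_right_of_respectsIso (bcMap (bcMap f g u) (pullback.snd g u) a) q,
    ← sq'.isoPullback_hom_snd]
  exact P.cancel_left_of_respectsIso _ _

theorem bcMap_preimmersion_iff [P.IsStableUnderBaseChange] {T : Scheme.{u}} (u : T ⟶ S)
    [IsPreimmersion u] (t : T) :
    P (bcMap f g (T.fromSpecResidueField t ≫ u)) ↔ P (bcMap f g (S.fromSpecResidueField (u t))) := by
  have := isIso_residueFieldMap u t
  have e := Scheme.Hom.SpecMap_residueFieldMap_fromSpecResidueField u t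
  exact ⟨bcMap_of_comp (inv (Spec.map (u.residueFieldMap t))) (by rw [← e, IsIso.inv_hom_id_assoc]),
    bcMap_of_comp _ e⟩

theorem isLocallyConstructible_of_strata [P.IsStableUnderBaseChange] [R.IsStableUnderBaseChange]
    {Q : MorphismProperty Scheme.{u}} [Q.IsStableUnderBaseChange] (H : Descends R Q) (hQ : Q f)
    [QuasiCompact g] [QuasiSeparated g] [QuasiCompact (f ≫ g)] [QuasiSeparated (f ≫ g)]
    (hPR : P ≤ R)
    (hR : IsLocallyConstructible {s : S | R (bcMap f g (S.fromSpecResidueField s))})
    (main : ∀ {A : CommRingCat.{u}} (u : Spec A ⟶ S) [LocallyOfFinitePresentation u], R (bcMap f g u) →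
      IsLocallyConstructible {t : Spec A |
        P (bcMap (bcMap f g u) (pullback.snd g u) ((Spec A).fromSpecResidueField t))}) :
    IsLocallyConstructible {s : S | P (bcMap f g (S.fromSpecResidueField s))} := by
  intro x
  obtain ⟨U, hU, hxU, -⟩ := exists_isAffineOpen_mem_and_subset (X := S) (x := x) (U := ⊤) trivial
  refine ⟨U, U.2.mem_nhds hxU, U.2, ?_⟩
  have : IsAffine U := hU
  set E : Set S := {s : S | P (bcMap f g (S.fromSpecResidueField s))}
  set C : Set S := {s : S | R (bcMap f g (S.fromSpecResidueField s))}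
  suffices hE : IsConstructible (hU.fromSpec ⁻¹' E) by
    have h2 := ConsPreimage.isConstructible_preimage_affine hU.isoSpec.hom hE
    have e : hU.isoSpec.hom ⁻¹' (hU.fromSpec ⁻¹' E) = (Subtype.val ⁻¹' E : Set U) := by
      ext y
      show hU.fromSpec (hU.isoSpec.hom y) ∈ E ↔ U.ι y ∈ E
      rw [← Scheme.Hom.comp_apply, ← hU.isoSpec_inv_ι, Iso.hom_inv_id_assoc]
    exact e ▸ h2
  have hC : IsConstructible (hU.fromSpec ⁻¹' C) :=
    (ConsPreimage.isLocallyConstructible_preimage hU.fromSpec hR).isConstructible
  refine isConstructible_of_forall_exists _ fun q => ?_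
  by_cases hq : hU.fromSpec q ∈ C
  swap
  · refine ⟨_, hC.compl, hq, ?_⟩
    convert IsConstructible.empty using 1
    ext y
    exact ⟨fun h => h.2 (hPR _ h.1), False.elim⟩
  have hw : R (bcMap f g
      (Spec.map (CommRingCat.ofHom (algebraMap Γ(S, U) q.asIdeal.ResidueField)) ≫ hU.fromSpec)) := by
    let w := Spec.map (CommRingCat.ofHom (algebraMap Γ(S, U) q.asIdeal.ResidueField)) ≫ hU.fromSpec
    have hwq : ∀ y, w y = hU.fromSpec q := fun y => by
      rw [Scheme.Hom.comp_apply]
      congr 1
      refine PrimeSpectrum.ext ?_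
      show Ideal.comap (algebraMap Γ(S, U) q.asIdeal.ResidueField)
        (y : PrimeSpectrum q.asIdeal.ResidueField).asIdeal = _
      rw [Ideal.eq_bot_of_prime (y : PrimeSpectrum q.asIdeal.ResidueField).asIdeal]
      exact Ideal.ker_algebraMap_residueField _
    have e := Scheme.descResidueField_stalkClosedPointTo_fromSpecResidueField
      q.asIdeal.ResidueField S w
    refine bcMap_of_comp _ e ?_
    rw [hwq]
    exact hq
  obtain ⟨i, hi⟩ := exists_stage H hQ hU.fromSpec q.asIdeal hw
  let k := Spec.map (CommRingCat.ofHom (algebraMap Γ(S, U) (Stage i)))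
  let u := k ≫ hU.fromSpec
  have hfp := finitePresentation_stage i
  have hk : ∀ {W : Set (PrimeSpectrum (Stage i))}, IsConstructible W →
      IsConstructible (k '' W) := fun hW => PrimeSpectrum.isConstructible_comap_image hfp hW
  refine ⟨Set.range k, Set.image_univ ▸ hk IsConstructible.univ, ?_, ?_⟩
  · refine ⟨Spec.map (CommRingCat.ofHom (toRes i))
      (⟨⊥, Ideal.isPrime_bot⟩ : PrimeSpectrum q.asIdeal.ResidueField), ?_⟩
    rw [← Scheme.Hom.comp_apply, ← Spec.map_comp]
    refine PrimeSpectrum.ext ?_
    show Ideal.comap ((toRes i).comp (algebraMap Γ(S, U) (Stage i))) ⊥ = q.asIdeal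
    rw [show (toRes i).comp (algebraMap Γ(S, U) (Stage i)) =
      algebraMap Γ(S, U) q.asIdeal.ResidueField from RingHom.ext fun r => by simp [toRes]]
    exact Ideal.ker_algebraMap_residueField _
  · rw [← Set.image_preimage_eq_inter_range]
    refine hk ?_
    have : LocallyOfFinitePresentation k :=
      (HasRingHomProperty.Spec_iff (P := @LocallyOfFinitePresentation)).2 hfp
    have h := (main u hi).isConstructible
    have e : {t : Spec (CommRingCat.of (Stage i)) |
        P (bcMap (bcMap f g u) (pullback.snd g u)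
          ((Spec (CommRingCat.of (Stage i))).fromSpecResidueField t))} =
        k ⁻¹' (hU.fromSpec ⁻¹' E) := by
      ext t
      show P _ ↔ P (bcMap f g (S.fromSpecResidueField (u t)))
      exact (bcMap_bcMap_iff (f := f) (g := g) (P := P) u _).trans
        (bcMap_preimmersion_iff (f := f) (g := g) (P := P) u t)
    exact e ▸ h

end Groth.Agent.H47.Strata
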