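import Groth.Agent.H47.GenericExact
import Groth.Agent.H47.Strata
import Groth.Agent.Lib.Spectral.Noetherian
import Mathlib.RingTheory.Localization.BaseChange

/-!
# Constructibility of the locus of exact fibres of a sequence of modules
-/

set_option autoImplicit false

universe u

open TensorProduct

namespace Groth.Agent.H47.ExactLocus

section key

variable {R A L : Type u} [CommRing R] [CommRing A] [Algebra R A] [CommRing L] [Algebra R L]
  [Algebra A L] [IsScalarTower R A L]

theorem injective_of_free_quotient [Module.Flat R A] {X Y Z : Type u} [AddCommGroup X] [Module R X]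
    [AddCommGroup Y] [Module R Y] [AddCommGroup Z] [Module R Z] (i : X →ₗ[R] Y) (s : Y →ₗ[R] Z)
    (hi : Function.Injective i) (hex : Function.Exact i s) (hs : Function.Surjective s)
    [Module.Free A (A ⊗[R] Z)] : Function.Injective (i.lTensor L) := by
  have hiA : Function.Injective (i.baseChange A) :=
    Module.Flat.lTensor_preserves_injective_linearMap i hi
  have hsA : Function.Surjective (s.baseChange A) := LinearMap.lTensor_surjective A hs
  have hexA : Function.Exact (i.baseChange A) (s.baseChange A) := lTensor_exact A hex hs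
  obtain ⟨sec, hsec⟩ := Module.projective_lifting_property (s.baseChange A) LinearMap.id hsA
  obtain ⟨r, hr⟩ : ∃ r, r ∘ₗ i.baseChange A = LinearMap.id := by
    have h := (hexA.split_tfae (M := A ⊗[R] X) hiA hsA).out 0 1
    exact h.1 ⟨sec, hsec⟩
  have h2 : Function.Injective ((i.baseChange A).baseChange L) := by
    refine Function.LeftInverse.injective (g := r.baseChange L) fun z => ?_
    rw [← LinearMap.comp_apply, ← LinearMap.baseChange_comp, hr, LinearMap.baseChange_id,
      LinearMap.id_apply]
  have h3 : Function.Injective ((i.baseChange L) ∘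
      (AlgebraTensorModule.cancelBaseChange R A L L X)) := by
    have e : ⇑(i.baseChange L) ∘ ⇑(AlgebraTensorModule.cancelBaseChange R A L L X) =
        ⇑(AlgebraTensorModule.cancelBaseChange R A L L Y) ∘ ⇑((i.baseChange A).baseChange L) :=
      funext fun z => LinearMap.congr_fun (GenericExact.baseChange_natural (A := A) i) z
    rw [e]
    exact (LinearEquiv.injective _).comp h2
  exact h3.of_comp_right (LinearEquiv.surjective _)

theorem subsingleton_iff_of_free [Nontrivial L] (M : Type u) [AddCommGroup M] [Module R M]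
    [Module.Free A (A ⊗[R] M)] : Subsingleton (L ⊗[R] M) ↔ Subsingleton (A ⊗[R] M) := by
  let b := Module.Free.chooseBasis A (A ⊗[R] M)
  let bL := (b.baseChange L).map (AlgebraTensorModule.cancelBaseChange R A L L M)
  constructor
  · intro h
    have : IsEmpty (Module.Free.ChooseBasisIndex A (A ⊗[R] M)) :=
      ⟨fun i => bL.ne_zero i (Subsingleton.elim _ _)⟩
    exact b.repr.toEquiv.subsingleton
  · intro h
    have : IsEmpty (Module.Free.ChooseBasisIndex A (A ⊗[R] M)) := by
      refine ⟨fun i => ?_⟩
      have : Nontrivial A := (algebraMap A L).domain_nontrivial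
      exact b.ne_zero i (Subsingleton.elim _ _)
    exact bL.repr.toEquiv.subsingleton

/-- Exactness after base change, read off from free modules over `A`. -/
theorem exact_iff_of_free [Module.Flat R A] [Nontrivial L] {F G H : Type u} [AddCommGroup F]
    [Module R F] [AddCommGroup G] [Module R G] [AddCommGroup H] [Module R H]
    (u : F →ₗ[R] G) (v : G →ₗ[R] H)
    [Module.Free A (A ⊗[R] ↥(LinearMap.range (v ∘ₗ u)))]
    [Module.Free A (A ⊗[R] (H ⧸ LinearMap.range (v ∘ₗ u)))]
    [Module.Free A (A ⊗[R] ↥(LinearMap.range v))]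
    [Module.Free A (A ⊗[R] (H ⧸ LinearMap.range v))]
    [Module.Free A (A ⊗[R]
      (↥(LinearMap.ker v) ⧸ (LinearMap.range u).comap (LinearMap.ker v).subtype))] :
    Function.Exact (u.baseChange L) (v.baseChange L) ↔
      Subsingleton (A ⊗[R] ↥(LinearMap.range (v ∘ₗ u))) ∧
        Subsingleton (A ⊗[R]
          (↥(LinearMap.ker v) ⧸ (LinearMap.range u).comap (LinearMap.ker v).subtype)) := by
  rw [← subsingleton_iff_of_free (L := L) ↥(LinearMap.range (v ∘ₗ u)), ← subsingleton_iff_of_free
    (L := L) (↥(LinearMap.ker v) ⧸ (LinearMap.range u).comap (LinearMap.ker v).subtype)]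
  let w := v ∘ₗ u
  let X := LinearMap.ker v
  let N := (LinearMap.range u).comap X.subtype
  have hιw : Function.Injective ((LinearMap.range w).subtype.lTensor L) :=
    injective_of_free_quotient (A := A) _ (LinearMap.range w).mkQ (Submodule.injective_subtype _)
      (LinearMap.exact_subtype_mkQ _) (Submodule.mkQ_surjective _)
  have hιv : Function.Injective ((LinearMap.range v).subtype.lTensor L) :=
    injective_of_free_quotient (A := A) _ (LinearMap.range v).mkQ (Submodule.injective_subtype _)
      (LinearMap.exact_subtype_mkQ _) (Submodule.mkQ_surjective _)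
  have hrr : Function.Surjective (w.rangeRestrict.lTensor L) :=
    LinearMap.lTensor_surjective L w.surjective_rangeRestrict
  have hexX : Function.Exact (X.subtype.lTensor L) (v.rangeRestrict.lTensor L) := by
    refine lTensor_exact L (f := X.subtype) (g := v.rangeRestrict) ?_ v.surjective_rangeRestrict
    intro y
    constructor
    · exact fun h => ⟨⟨y, congrArg Subtype.val h⟩, rfl⟩
    · rintro ⟨x, rfl⟩; exact Subtype.ext x.2
  have hw : ∀ z, v.lTensor L (u.lTensor L z) =
      (LinearMap.range w).subtype.lTensor L (w.rangeRestrict.lTensor L z) := fun z => by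
    rw [← LinearMap.comp_apply, ← LinearMap.lTensor_comp, ← LinearMap.comp_apply,
      ← LinearMap.lTensor_comp]
    rfl
  constructor
  · intro hex
    have hW : Subsingleton (L ⊗[R] ↥(LinearMap.range w)) := by
      refine subsingleton_of_forall_eq 0 fun y => ?_
      obtain ⟨z, rfl⟩ := hrr y
      apply hιw
      rw [map_zero, ← hw]
      exact hex.apply_apply_eq_zero z
    refine ⟨hW, subsingleton_of_forall_eq 0 fun y => ?_⟩
    obtain ⟨x, rfl⟩ := LinearMap.lTensor_surjective L N.mkQ_surjective y
    -- the homology inside the cokernel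
    let D : Submodule R G := LinearMap.range u ⊓ X
    let j : (↥X ⧸ N) →ₗ[R] (G ⧸ D) := N.mapQ D X.subtype fun a ha => ⟨ha, a.2⟩
    let s : (G ⧸ D) →ₗ[R] ↥(LinearMap.range v) :=
      D.liftQ v.rangeRestrict fun a ha => Subtype.ext ha.2
    have hj : Function.Injective j := by
      rw [injective_iff_map_eq_zero]
      intro a ha
      obtain ⟨a, rfl⟩ := N.mkQ_surjective a
      simp only [j, Submodule.mkQ_apply, Submodule.mapQ_apply, Submodule.Quotient.mk_eq_zero] at ha
      rw [Submodule.mkQ_apply, Submodule.Quotient.mk_eq_zero]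
      exact ha.1
    have hjs : Function.Exact j s := by
      intro a
      obtain ⟨a, rfl⟩ := D.mkQ_surjective a
      constructor
      · intro h
        exact ⟨N.mkQ ⟨a, congrArg Subtype.val h⟩, rfl⟩
      · rintro ⟨b, hb⟩
        obtain ⟨b, rfl⟩ := N.mkQ_surjective b
        rw [← hb]
        exact Subtype.ext b.2
    have hss : Function.Surjective s := fun a => by
      obtain ⟨a, rfl⟩ := v.surjective_rangeRestrict a
      exact ⟨D.mkQ a, rfl⟩
    have hjL : Function.Injective (j.lTensor L) := injective_of_free_quotient (A := A) j s hj hjs hss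
    have hx0 : v.baseChange L (X.subtype.lTensor L x) = 0 := by
      show v.lTensor L _ = 0
      rw [← LinearMap.comp_apply, ← LinearMap.lTensor_comp, LinearMap.comp_ker_subtype,
        LinearMap.lTensor_zero, LinearMap.zero_apply]
    obtain ⟨z, hz⟩ := (hex _).1 hx0
    apply hjL
    rw [map_zero, ← LinearMap.comp_apply, ← LinearMap.lTensor_comp,
      show j ∘ₗ N.mkQ = D.mkQ ∘ₗ X.subtype from rfl, LinearMap.lTensor_comp, LinearMap.comp_apply,
      ← hz]
    have hle : LinearMap.ker w ≤ LinearMap.ker (D.mkQ ∘ₗ u) := fun a ha => by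
      rw [LinearMap.mem_ker, LinearMap.comp_apply, Submodule.mkQ_apply,
        Submodule.Quotient.mk_eq_zero]
      exact ⟨LinearMap.mem_range_self u a, ha⟩
    let θ : ↥(LinearMap.range w) →ₗ[R] (G ⧸ D) :=
      (LinearMap.ker w).liftQ (D.mkQ ∘ₗ u) hle ∘ₗ w.quotKerEquivRange.symm.toLinearMap
    have hθ : θ ∘ₗ w.rangeRestrict = D.mkQ ∘ₗ u := LinearMap.ext fun a => by
      show (LinearMap.ker w).liftQ (D.mkQ ∘ₗ u) hle (w.quotKerEquivRange.symm (w.rangeRestrict a)) = _
      rw [show w.quotKerEquivRange.symm (w.rangeRestrict a) = Submodule.Quotient.mk a from by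
        rw [LinearEquiv.symm_apply_eq]; rfl]
      rfl
    show D.mkQ.lTensor L (u.lTensor L z) = 0
    rw [← LinearMap.comp_apply, ← LinearMap.lTensor_comp, ← hθ, LinearMap.lTensor_comp,
      LinearMap.comp_apply, Subsingleton.elim (w.rangeRestrict.lTensor L z) 0, map_zero]
  · rintro ⟨hW, hH⟩ y
    constructor
    · intro (hy : v.lTensor L y = 0)
      have h1 : v.rangeRestrict.lTensor L y = 0 := by
        apply hιv
        rw [map_zero, ← LinearMap.comp_apply, ← LinearMap.lTensor_comp]
        exact hy
      obtain ⟨x, rfl⟩ := (hexX y).1 h1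
      obtain ⟨n, rfl⟩ := ((lTensor_exact L (LinearMap.exact_subtype_mkQ N) N.mkQ_surjective) x).1
        (Subsingleton.elim _ _)
      let ρ : ↥N →ₗ[R] ↥(LinearMap.range u) :=
        (X.subtype ∘ₗ N.subtype).codRestrict _ fun a => a.2
      obtain ⟨z, hz⟩ := LinearMap.lTensor_surjective L u.surjective_rangeRestrict (ρ.lTensor L n)
      refine ⟨z, ?_⟩
      have := congrArg ((LinearMap.range u).subtype.lTensor L) hz
      rw [← LinearMap.comp_apply, ← LinearMap.lTensor_comp, ← LinearMap.comp_apply,
        ← LinearMap.lTensor_comp] at this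
      show u.lTensor L z = _
      rw [← LinearMap.comp_apply, ← LinearMap.lTensor_comp]
      exact this
    · rintro ⟨z, rfl⟩
      show v.lTensor L (u.lTensor L z) = 0
      rw [hw, Subsingleton.elim (w.rangeRestrict.lTensor L z) 0, map_zero]

end key

section generic

variable {D : Type u} [CommRing D] [IsDomain D] [IsNoetherianRing D] {B : Type u} [CommRing B]
  [Algebra D B] [Algebra.FiniteType D B]
  {F G H : Type u} [AddCommGroup F] [Module B F] [Module D F] [IsScalarTower D B F]
  [Module.Finite B F] [AddCommGroup G] [Module B G] [Module D G] [IsScalarTower D B G]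
  [Module.Finite B G] [AddCommGroup H] [Module B H] [Module D H] [IsScalarTower D B H]
  [Module.Finite B H]

/-- Exactness is generically constant. -/
theorem exists_const (u : F →ₗ[B] G) (v : G →ₗ[B] H) :
    ∃ f : D, f ≠ 0 ∧ ∃ P : Prop, ∀ (L : Type u) [Field L] [Algebra D L], algebraMap D L f ≠ 0 →
      (Function.Exact ((u.restrictScalars D).baseChange L) ((v.restrictScalars D).baseChange L) ↔
        P) := by
  have : IsNoetherianRing B := Algebra.FiniteType.isNoetherianRing D B
  have : IsNoetherian B G := isNoetherian_of_isNoetherianRing_of_finite B G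
  have : IsNoetherian B H := isNoetherian_of_isNoetherianRing_of_finite B H
  let uD := u.restrictScalars D
  let vD := v.restrictScalars D
  let K := LinearMap.ker v
  obtain ⟨f₁, hf₁, h₁⟩ := GenericFreeDomain.gf_of_finiteType (R := D) B ↥(LinearMap.range (v ∘ₗ u))
  obtain ⟨f₂, hf₂, h₂⟩ := GenericFreeDomain.gf_of_finiteType (R := D) B (H ⧸ LinearMap.range (v ∘ₗ u))
  obtain ⟨f₃, hf₃, h₃⟩ := GenericFreeDomain.gf_of_finiteType (R := D) B ↥(LinearMap.range v)
  obtain ⟨f₄, hf₄, h₄⟩ := GenericFreeDomain.gf_of_finiteType (R := D) B (H ⧸ LinearMap.range v)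
  obtain ⟨f₅, hf₅, h₅⟩ := GenericFreeDomain.gf_of_finiteType (R := D) B
    (↥K ⧸ (LinearMap.range u).comap K.subtype)
  let f := f₁ * f₂ * f₃ * f₄ * f₅
  let A := Localization.Away f
  have := IsLocalization.flat A (Submonoid.powers f)
  have k₁ := GenericFree.free_of_dvd (M := ↥(LinearMap.range (v ∘ₗ u))) (f := f₁) (g := f)
    ⟨f₂ * f₃ * f₄ * f₅, by ring⟩
  have k₂ := GenericFree.free_of_dvd (M := H ⧸ LinearMap.range (v ∘ₗ u)) (f := f₂) (g := f)
    ⟨f₁ * f₃ * f₄ * f₅, by ring⟩
  have k₃ := GenericFree.free_of_dvd (M := ↥(LinearMap.range v)) (f := f₃) (g := f)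
    ⟨f₁ * f₂ * f₄ * f₅, by ring⟩
  have k₄ := GenericFree.free_of_dvd (M := H ⧸ LinearMap.range v) (f := f₄) (g := f)
    ⟨f₁ * f₂ * f₃ * f₅, by ring⟩
  have k₅ := GenericFree.free_of_dvd (M := ↥K ⧸ (LinearMap.range u).comap K.subtype) (f := f₅)
    (g := f) ⟨f₁ * f₂ * f₃ * f₄, by ring⟩
  have q₁ : Module.Free A (A ⊗[D] ↥(LinearMap.range (vD ∘ₗ uD))) :=
    Module.Free.of_equiv (LinearEquiv.baseChange D A _ _
      ({ Equiv.refl _ with map_add' := fun _ _ => rfl, map_smul' := fun _ _ => rfl } :
        ↥(LinearMap.range (v ∘ₗ u)) ≃ₗ[D] ↥(LinearMap.range (vD ∘ₗ uD))))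
  have q₂ : Module.Free A (A ⊗[D] (H ⧸ LinearMap.range (vD ∘ₗ uD))) :=
    Module.Free.of_equiv (LinearEquiv.baseChange D A _ _
      (Submodule.Quotient.restrictScalarsEquiv D (LinearMap.range (v ∘ₗ u))).symm)
  have q₃ : Module.Free A (A ⊗[D] ↥(LinearMap.range vD)) :=
    Module.Free.of_equiv (LinearEquiv.baseChange D A _ _
      ({ Equiv.refl _ with map_add' := fun _ _ => rfl, map_smul' := fun _ _ => rfl } :
        ↥(LinearMap.range v) ≃ₗ[D] ↥(LinearMap.range vD)))
  have q₄ : Module.Free A (A ⊗[D] (H ⧸ LinearMap.range vD)) :=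
    Module.Free.of_equiv (LinearEquiv.baseChange D A _ _
      (Submodule.Quotient.restrictScalarsEquiv D (LinearMap.range v)).symm)
  have q₅ : Module.Free A (A ⊗[D] (↥(LinearMap.ker vD) ⧸
      (LinearMap.range uD).comap (LinearMap.ker vD).subtype)) :=
    Module.Free.of_equiv (LinearEquiv.baseChange D A _ _
      ((Submodule.Quotient.restrictScalarsEquiv D ((LinearMap.range u).comap K.subtype)).symm :
        (↥K ⧸ (LinearMap.range u).comap K.subtype) ≃ₗ[D]
          (↥(LinearMap.ker vD) ⧸ (LinearMap.range uD).comap (LinearMap.ker vD).subtype)))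
  have hf : f ≠ 0 := by simp [f, hf₁, hf₂, hf₃, hf₄, hf₅]
  refine ⟨f, hf, Subsingleton (A ⊗[D] ↥(LinearMap.range (vD ∘ₗ uD))) ∧ Subsingleton (A ⊗[D]
      (↥(LinearMap.ker vD) ⧸ (LinearMap.range uD).comap (LinearMap.ker vD).subtype)),
    fun L _ _ hL => ?_⟩
  let ψ := IsLocalization.Away.lift (S := A) f (isUnit_iff_ne_zero.2 hL)
  letI : Algebra A L := ψ.toAlgebra
  have : IsScalarTower D A L :=
    IsScalarTower.of_algebraMap_eq fun r =>
      (IsLocalization.Away.lift_eq _ (isUnit_iff_ne_zero.2 hL) r).symm
  exact exact_iff_of_free (A := A) uD vD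

end generic

section base

variable {R : Type u} [CommRing R] {B : Type u} [CommRing B] [Algebra R B] (D : Type u) [CommRing D]
  [Algebra R D] (F : Type u) [AddCommGroup F] [Module B F] [Module R F] [IsScalarTower R B F]

/-- the action of `D ⊗ B` on `D ⊗ F` -/
noncomputable def bcHom : D ⊗[R] B →ₐ[D] Module.End D (D ⊗[R] F) :=
  Algebra.TensorProduct.lift (Algebra.ofId D _)
    ((Module.End.baseChangeHom R D F).comp (Algebra.lsmul R R F))
    fun d _ => Algebra.commutes d _

/-- `D ⊗ F` is a module over `D ⊗ B` -/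
@[reducible] noncomputable def bcModule : Module (D ⊗[R] B) (D ⊗[R] F) :=
  Module.compHom _ (bcHom D F).toRingHom

theorem bcHom_tmul (d : D) (b : B) (e : D) (x : F) :
    bcHom D F (d ⊗ₜ[R] b) (e ⊗ₜ[R] x) = (d * e) ⊗ₜ[R] (b • x) := by
  rw [bcHom, Algebra.TensorProduct.lift_tmul]
  simp [Algebra.ofId_apply, TensorProduct.smul_tmul', Module.End.baseChangeHom]

theorem bcModule_tower :
    letI := bcModule (R := R) (B := B) D F
    IsScalarTower D (D ⊗[R] B) (D ⊗[R] F) := by
  letI := bcModule (R := R) (B := B) D F
  refine ⟨fun d p x => ?_⟩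
  show bcHom D F (d • p) x = d • bcHom D F p x
  rw [map_smul, LinearMap.smul_apply]

theorem bcModule_finite [Module.Finite B F] :
    letI := bcModule (R := R) (B := B) D F
    Module.Finite (D ⊗[R] B) (D ⊗[R] F) := by
  classical
  letI := bcModule (R := R) (B := B) D F
  obtain ⟨s, hs⟩ := Module.Finite.fg_top (R := B) (M := F)
  refine ⟨⟨s.image fun x => (1 : D) ⊗ₜ[R] x, eq_top_iff.2 fun z hz => ?_⟩⟩
  clear hz
  induction z using TensorProduct.induction_on with
  | zero => exact zero_mem _
  | add a b ha hb => exact add_mem ha hb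
  | tmul d x =>
    have hx : x ∈ Submodule.span B (s : Set F) := hs ▸ trivial
    induction hx using Submodule.span_induction generalizing d with
    | mem y hy =>
      have : d ⊗ₜ[R] y = (d ⊗ₜ[R] (1 : B)) • ((1 : D) ⊗ₜ[R] y) := by
        show _ = bcHom D F _ _
        rw [bcHom_tmul, mul_one, one_smul]
      rw [this]
      exact Submodule.smul_mem _ _ (Submodule.subset_span (Finset.mem_image_of_mem _ hy))
    | zero => rw [tmul_zero]; exact zero_mem _
    | add a b _ _ ha hb => rw [tmul_add]; exact add_mem (ha d) (hb d)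
    | smul b a _ ha =>
      have : d ⊗ₜ[R] (b • a) = ((1 : D) ⊗ₜ[R] b) • (d ⊗ₜ[R] a) := by
        show _ = bcHom D F _ _
        rw [bcHom_tmul, one_mul]
      rw [this]
      exact Submodule.smul_mem _ _ (ha d)

variable {F} {G : Type u} [AddCommGroup G] [Module B G] [Module R G] [IsScalarTower R B G]

theorem bcHom_natural (u : F →ₗ[B] G) (p : D ⊗[R] B) (z : D ⊗[R] F) :
    (u.restrictScalars R).baseChange D (bcHom D F p z) =
      bcHom D G p ((u.restrictScalars R).baseChange D z) := by
  induction p using TensorProduct.induction_on with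
  | zero => simp
  | add a b ha hb => rw [map_add, map_add, LinearMap.add_apply, LinearMap.add_apply, map_add, ha, hb]
  | tmul d b =>
    induction z using TensorProduct.induction_on with
    | zero => simp
    | add a b ha hb => simp only [map_add, ha, hb]
    | tmul e x => simp [bcHom_tmul]

variable {D}

theorem exact_cancel {H : Type u} [AddCommGroup H] [Module R H]
    (u : F →ₗ[R] G) (v : G →ₗ[R] H) (L : Type u) [CommRing L] [Algebra R L] [Algebra D L]
    [IsScalarTower R D L] :
    Function.Exact ((u.baseChange D).baseChange L) ((v.baseChange D).baseChange L) ↔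
      Function.Exact (u.baseChange L) (v.baseChange L) :=
  (Function.Exact.iff_of_ladder_linearEquiv (GenericExact.baseChange_natural (A := D) u)
    (GenericExact.baseChange_natural (A := D) v)).symm

theorem exact_field_iff {H : Type u} [AddCommGroup H] [Module R H]
    (u : F →ₗ[R] G) (v : G →ₗ[R] H) (k L : Type u) [Field k] [Field L] [Algebra R k] [Algebra R L]
    [Algebra k L] [IsScalarTower R k L] :
    Function.Exact (u.baseChange k) (v.baseChange k) ↔
      Function.Exact (u.baseChange L) (v.baseChange L) := by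
  rw [← exact_cancel (D := k) u v L]
  exact (Module.FaithfullyFlat.lTensor_exact_iff_exact k L _ _).symm

end base

open PrimeSpectrum in
theorem isConstructible_exact {R B : Type u} [CommRing R] [IsNoetherianRing R] [CommRing B]
    [Algebra R B] [Algebra.FiniteType R B]
    {F G H : Type u} [AddCommGroup F] [Module B F] [Module R F] [IsScalarTower R B F]
    [Module.Finite B F] [AddCommGroup G] [Module B G] [Module R G] [IsScalarTower R B G]
    [Module.Finite B G] [AddCommGroup H] [Module B H] [Module R H] [IsScalarTower R B H]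
    [Module.Finite B H] (u : F →ₗ[B] G) (v : G →ₗ[B] H) :
    Topology.IsConstructible {p : PrimeSpectrum R |
      Function.Exact ((u.restrictScalars R).baseChange p.asIdeal.ResidueField)
        ((v.restrictScalars R).baseChange p.asIdeal.ResidueField)} := by
  refine Strata.isConstructible_of_forall_exists _ fun x => ?_
  let D := R ⧸ x.asIdeal
  letI := bcModule (R := R) (B := B) D F
  letI := bcModule (R := R) (B := B) D G
  letI := bcModule (R := R) (B := B) D H
  have := bcModule_tower (R := R) (B := B) D F
  have := bcModule_tower (R := R) (B := B) D G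
  have := bcModule_tower (R := R) (B := B) D H
  have := bcModule_finite (R := R) (B := B) D F
  have := bcModule_finite (R := R) (B := B) D G
  have := bcModule_finite (R := R) (B := B) D H
  let uD : D ⊗[R] F →ₗ[D ⊗[R] B] D ⊗[R] G :=
    { toFun := (u.restrictScalars R).baseChange D
      map_add' := map_add _
      map_smul' := bcHom_natural D u }
  let vD : D ⊗[R] G →ₗ[D ⊗[R] B] D ⊗[R] H :=
    { toFun := (v.restrictScalars R).baseChange D
      map_add' := map_add _
      map_smul' := bcHom_natural D v }
  have euD : uD.restrictScalars D = (u.restrictScalars R).baseChange D := LinearMap.ext fun _ => rfl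
  have evD : vD.restrictScalars D = (v.restrictScalars R).baseChange D := LinearMap.ext fun _ => rfl
  obtain ⟨f, hf, P, hP⟩ := exists_const (D := D) uD vD
  rw [euD, evD] at hP
  obtain ⟨f, rfl⟩ := Ideal.Quotient.mk_surjective f
  let Z : Set (PrimeSpectrum R) := PrimeSpectrum.zeroLocus x.asIdeal ∩ PrimeSpectrum.basicOpen f
  have hZ : Topology.IsConstructible Z := by
    refine Topology.IsConstructible.inter ?_
      (Groth.Agent.Lib.Spectral.Noetherian.isConstructible_of_isOpen (PrimeSpectrum.basicOpen f).2)
    rw [← compl_compl (PrimeSpectrum.zeroLocus (x.asIdeal : Set R))]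
    exact (Groth.Agent.Lib.Spectral.Noetherian.isConstructible_of_isOpen
      (PrimeSpectrum.isClosed_zeroLocus _).isOpen_compl).compl
  have hiff : ∀ y ∈ Z, (Function.Exact ((u.restrictScalars R).baseChange y.asIdeal.ResidueField)
      ((v.restrictScalars R).baseChange y.asIdeal.ResidueField) ↔ P) := by
    rintro y ⟨hxy, hfy⟩
    let φ : D →+* y.asIdeal.ResidueField := Ideal.Quotient.lift x.asIdeal
      (algebraMap R y.asIdeal.ResidueField) fun a ha =>
        Ideal.algebraMap_residueField_eq_zero.2 (hxy ha)
    letI : Algebra D y.asIdeal.ResidueField := φ.toAlgebra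
    have : IsScalarTower R D y.asIdeal.ResidueField := IsScalarTower.of_algebraMap_eq fun r => rfl
    rw [← exact_cancel (D := D) (u.restrictScalars R) (v.restrictScalars R) y.asIdeal.ResidueField]
    exact hP _ fun h => hfy (Ideal.algebraMap_residueField_eq_zero.1 h)
  refine ⟨Z, hZ, ⟨fun a ha => ha, fun h => hf (Ideal.Quotient.eq_zero_iff_mem.2 h)⟩, ?_⟩
  by_cases hP' : P
  · convert hZ using 1
    exact Set.inter_eq_right.2 fun y hy => (hiff y hy).2 hP'
  · convert Topology.IsConstructible.empty using 1
    exact Set.eq_empty_iff_forall_notMem.2 fun y hy => hP' ((hiff y hy.2).1 hy.1)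

end Groth.Agent.H47.ExactLocus
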