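import Groth.Agent.S2650
import Groth.Agent.S2651
import Groth.Agent.S2653
import Groth.Agent.S2654
import Groth.Agent.S2644
import Groth.Agent.S19379
import Groth.Agent.Lib.GRing.EssFinite
import Groth.Agent.Lib.NormalTensor.Formal
import Groth.Agent.Lib.Cohen.NagataFiniteType
import Groth.Agent.Lib.Excellent.Nagata
import Mathlib.RingTheory.DedekindDomain.PID
import Mathlib.RingTheory.FiniteType

/-!
# Rings of finite type over the integers: normalisation and completions
-/

set_option autoImplicit false
set_option linter.style.haveILetI false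

universe u

namespace Groth.Agent.H47.ExcellentZ

theorem isExcellent_uliftInt : EGA4.IsExcellent (ULift.{u} ℤ) := by
  haveI : IsPrincipalIdealRing (ULift.{u} ℤ) :=
    IsPrincipalIdealRing.of_surjective (ULift.ringEquiv.symm : ℤ ≃+* ULift.{u} ℤ).toRingHom
      ULift.ringEquiv.symm.surjective
  haveI : IsDomain (ULift.{u} ℤ) := MulEquiv.isDomain ℤ ULift.ringEquiv.toMulEquiv
  haveI : CharZero (ULift.{u} ℤ) :=
    RingHom.charZero (ULift.ringEquiv : ULift.{u} ℤ ≃+* ℤ).toRingHom
  exact Groth.Agent.S2653.result (ULift.{u} ℤ)

theorem isExcellent (C : Type u) [CommRing C] [Algebra.FiniteType ℤ C] : EGA4.IsExcellent C := by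
  let φ : ULift.{u} ℤ →+* C := (Int.castRingHom C).comp ULift.ringEquiv.toRingHom
  letI : Algebra (ULift.{u} ℤ) C := φ.toAlgebra
  have h1 : (algebraMap ℤ C).FiniteType := RingHom.finiteType_algebraMap.2 inferInstance
  have h2 : φ.FiniteType := by
    refine RingHom.FiniteType.of_comp_finiteType (f := (ULift.ringEquiv.symm : ℤ ≃+* ULift.{u} ℤ).toRingHom) ?_
    convert h1 using 1
    exact RingHom.ext_int _ _
  haveI : Algebra.FiniteType (ULift.{u} ℤ) C := RingHom.finiteType_algebraMap.1 h2
  exact Groth.Agent.S2651.result (ULift.{u} ℤ) isExcellent_uliftInt C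

/-- Normalisations of finite type domains over the integers are finite. -/
theorem finite_normalisation (C K : Type u) [CommRing C] [IsDomain C] [Algebra.FiniteType ℤ C] [Field K]
    [Algebra C K] [IsFractionRing C K] : Module.Finite C (integralClosure C K) := by
  have h := isExcellent C
  exact Lib.Excellent.Nagata.finite_integralClosure_of_isN2
    (Lib.Cohen.NagataFiniteType.isN2_of_isNagata (Groth.Agent.S2654.result C ⟨h.1, h.2.2⟩)) K K

/-- Local rings of normal domains of finite type over the integers are analytically irreducible. -/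
theorem isDomain_cpl (C : Type u) [CommRing C] [IsDomain C] [IsIntegrallyClosed C]
    [Algebra.FiniteType ℤ C] (p : Ideal C) [p.IsPrime] [IsNoetherianRing (Localization.AtPrime p)] :
    IsDomain (EGA4.Cpl (Localization.AtPrime p)) := by
  let L := Localization.AtPrime p
  have hG : CAlg.IsGRing L := (Groth.Agent.S2650.result C (isExcellent C) p.primeCompl).2.2.1
  have hgn : EGA4.HasGeomNormalFormalFibres L :=
    Lib.GRing.EssFinite.of_cover L L hG
      (Lib.GRing.EssFinite.isNormalHom_of_isRegularHom L L (Groth.Agent.S19379.result L L))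
  haveI : IsIntegrallyClosed L :=
    isIntegrallyClosed_of_isLocalization _ p.primeCompl p.primeCompl_le_nonZeroDivisors
  have hnormal : EGA4.IsNormalRing L := fun q _ => ⟨inferInstance,
    isIntegrallyClosed_of_isLocalization _ q.primeCompl q.primeCompl_le_nonZeroDivisors⟩
  exact Lib.NormalTensor.Formal.isDomain_of_isNormalRing_local
    ((Groth.Agent.S2644.result L hgn).1 hnormal)

end Groth.Agent.H47.ExcellentZ
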