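import Groth.Prelude.Def_FlatCA
import Mathlib.RingTheory.FinitePresentation
import Mathlib.Algebra.MvPolynomial.Rename
import Mathlib.Algebra.MvPolynomial.Equiv

/-!
# Every algebra is a directed colimit of finitely presented algebras
-/

set_option autoImplicit false

universe u

open MvPolynomial

namespace Groth.Agent.H47.FPColim

variable (A₀ : Type u) [CommRing A₀] (A : Type u) [CommRing A] [Algebra A₀ A]

/-- A finite set of elements and a finite set of relations among them. -/
structure Idx where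
  /-- the elements -/
  s : Finset A
  /-- the relations -/
  t : Finset (MvPolynomial (↥s) A₀)
  /-- they are relations -/
  ht : ∀ p ∈ t, aeval (fun x : ↥s => (x : A)) p = 0

variable {A₀ A}

/-- The algebra presented by an index. -/
abbrev Stage (i : Idx A₀ A) : Type u :=
  MvPolynomial (↥i.s) A₀ ⧸ Ideal.span (i.t : Set (MvPolynomial (↥i.s) A₀))

instance (i : Idx A₀ A) : Algebra.FinitePresentation A₀ (Stage i) :=
  Algebra.FinitePresentation.quotient ⟨i.t, rfl⟩

/-- renaming along an inclusion -/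
noncomputable def ren {s s' : Finset A} (h : s ⊆ s') :
    MvPolynomial (↥s) A₀ →ₐ[A₀] MvPolynomial (↥s') A₀ :=
  rename fun x => ⟨x.1, h x.2⟩

theorem aeval_ren {s s' : Finset A} (h : s ⊆ s') (p : MvPolynomial (↥s) A₀) :
    aeval (fun x : ↥s' => (x : A)) (ren h p) = aeval (fun x : ↥s => (x : A)) p := by
  rw [ren, aeval_rename]
  rfl

theorem ren_ren {s s' s'' : Finset A} (h : s ⊆ s') (h' : s' ⊆ s'') (p : MvPolynomial (↥s) A₀) :
    ren h' (ren h p) = ren (h.trans h') p := by
  rw [ren, ren, rename_rename]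
  rfl

theorem ren_self {s : Finset A} (h : s ⊆ s) (p : MvPolynomial (↥s) A₀) : ren h p = p :=
  rename_id_apply p

/-- the order on indices -/
def Le (i j : Idx A₀ A) : Prop :=
  ∃ h : i.s ⊆ j.s, ∀ p ∈ i.t, ren h p ∈ Ideal.span (j.t : Set (MvPolynomial (↥j.s) A₀))

theorem Le.span_le {i j : Idx A₀ A} (hij : Le i j) :
    Ideal.span (i.t : Set (MvPolynomial (↥i.s) A₀)) ≤
      (Ideal.span (j.t : Set (MvPolynomial (↥j.s) A₀))).comap (ren hij.1) :=
  Ideal.span_le.2 hij.2

noncomputable instance : Preorder (Idx A₀ A) where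
  le := Le
  le_refl i := ⟨subset_rfl, fun p hp => by rw [ren_self]; exact Ideal.subset_span hp⟩
  le_trans i j k hij hjk := ⟨hij.1.trans hjk.1, fun p hp => by
    rw [← ren_ren hij.1 hjk.1]
    exact hjk.span_le (hij.2 p hp)⟩

/-- transition maps -/
noncomputable def trans (i j : Idx A₀ A) (h : i ≤ j) : Stage i →ₐ[A₀] Stage j :=
  Ideal.Quotient.liftₐ _ ((Ideal.Quotient.mkₐ A₀ _).comp (ren h.1)) fun _ hp =>
    Ideal.Quotient.eq_zero_iff_mem.2 (h.span_le hp)

/-- the map to `A` -/
noncomputable def toA (i : Idx A₀ A) : Stage i →ₐ[A₀] A :=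
  Ideal.Quotient.liftₐ _ (aeval fun x : ↥i.s => (x : A)) fun _ hp =>
    (Ideal.span_le (I := RingHom.ker (aeval fun x : ↥i.s => (x : A)))).2 i.ht hp

noncomputable instance algStage (i : Idx A₀ A) : Algebra (Stage i) A := (toA i).toRingHom.toAlgebra

instance tower (i : Idx A₀ A) : IsScalarTower A₀ (Stage i) A :=
  IsScalarTower.of_algebraMap_eq fun a => ((toA i).commutes a).symm

theorem toA_trans (i j : Idx A₀ A) (h : i ≤ j) (x : Stage i) : toA j (trans i j h x) = toA i x := by
  obtain ⟨p, rfl⟩ := Ideal.Quotient.mk_surjective x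
  exact aeval_ren h.1 p

theorem trans_trans (i j k : Idx A₀ A) (hij : i ≤ j) (hjk : j ≤ k) (x : Stage i) :
    trans j k hjk (trans i j hij x) = trans i k (hij.trans hjk) x := by
  obtain ⟨p, rfl⟩ := Ideal.Quotient.mk_surjective x
  exact congrArg (Ideal.Quotient.mk _) (ren_ren hij.1 hjk.1 p)

theorem trans_self (i : Idx A₀ A) (x : Stage i) : trans i i le_rfl x = x := by
  obtain ⟨p, rfl⟩ := Ideal.Quotient.mk_surjective x
  exact congrArg (Ideal.Quotient.mk _) (ren_self subset_rfl p)

theorem exists_ge (i : Idx A₀ A) {s : Finset A} (h : i.s ⊆ s) (t : Finset (MvPolynomial (↥s) A₀))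
    (ht : ∀ p ∈ t, aeval (fun x : ↥s => (x : A)) p = 0) :
    ∃ (t' : Finset (MvPolynomial (↥s) A₀)) (ht' : ∀ p ∈ t', aeval (fun x : ↥s => (x : A)) p = 0),
      i ≤ ⟨s, t', ht'⟩ ∧ t ⊆ t' := by
  classical
  refine ⟨t ∪ i.t.image (ren h), fun p hp => ?_, ⟨h, fun p hp => ?_⟩, Finset.subset_union_left⟩
  · rcases Finset.mem_union.1 hp with hp | hp
    · exact ht p hp
    · obtain ⟨q, hq, rfl⟩ := Finset.mem_image.1 hp
      rw [aeval_ren]
      exact i.ht q hq
  · exact Ideal.subset_span (Finset.mem_union_right _ (Finset.mem_image_of_mem _ hp))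

/-- Every algebra is the directed colimit of its finitely presented stages. -/
theorem isDirectedColimit :
    FlatCA.IsDirectedColimitRing (Stage (A₀ := A₀) (A := A)) (fun i j h => (trans i j h).toRingHom) A := by
  classical
  refine ⟨⟨fun i j => ?_⟩, ⟨⟨∅, ∅, fun p hp => absurd hp (Finset.notMem_empty p)⟩⟩,
    fun i => RingHom.ext (trans_self i), fun i j k hij hjk => RingHom.ext (trans_trans i j k hij hjk),
    fun i j h => RingHom.ext (toA_trans i j h), fun a => ?_, fun i x hx => ?_⟩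
  · let hi : i.s ⊆ i.s ∪ j.s := Finset.subset_union_left
    let hj : j.s ⊆ i.s ∪ j.s := Finset.subset_union_right
    obtain ⟨t', ht', hle, ht⟩ := exists_ge i hi (j.t.image (ren hj)) (fun p hp => by
      obtain ⟨q, hq, rfl⟩ := Finset.mem_image.1 hp
      rw [aeval_ren]
      exact j.ht q hq)
    exact ⟨⟨_, t', ht'⟩, hle, hj, fun p hp => Ideal.subset_span (ht (Finset.mem_image_of_mem _ hp))⟩
  · refine ⟨⟨{a}, ∅, fun p hp => absurd hp (Finset.notMem_empty p)⟩,
      Ideal.Quotient.mk _ (MvPolynomial.X ⟨a, Finset.mem_singleton_self a⟩), ?_⟩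
    exact aeval_X _ _
  · obtain ⟨p, rfl⟩ := Ideal.Quotient.mk_surjective x
    have hp : aeval (fun y : ↥i.s => (y : A)) p = 0 := hx
    obtain ⟨t', ht', hle, ht⟩ := exists_ge i (subset_refl i.s) {p} (fun q hq => by
      rw [Finset.mem_singleton.1 hq]; exact hp)
    refine ⟨⟨_, t', ht'⟩, hle, ?_⟩
    show Ideal.Quotient.mk _ (ren (subset_refl i.s) p) = 0
    rw [ren_self]
    exact Ideal.Quotient.eq_zero_iff_mem.2 (Ideal.subset_span (ht (Finset.mem_singleton_self p)))

end Groth.Agent.H47.FPColim
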