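import Groth.Agent.H47.GenericFree
import Mathlib.RingTheory.Spectrum.Prime.ConstructibleSet
import Mathlib.RingTheory.LocalRing.ResidueField.Fiber
import Mathlib.RingTheory.Ideal.MinimalPrime.Localization
import Mathlib.RingTheory.Spectrum.Prime.Noetherian
import Mathlib.Topology.Spectral.Hom

/-!
# Closures inside the fibres: the Noetherian case
-/

set_option autoImplicit false

universe u

open TensorProduct Topology PrimeSpectrum

namespace Groth.Agent.H47.FibreClosure

/-- The union of the closures, inside each fibre, of the traces of `Z`. -/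
def fibClosure {X S : Type*} [TopologicalSpace X] (f : X → S) (Z : Set X) : Set X :=
  {x | x ∈ closure (Z ∩ f ⁻¹' {f x})}

theorem fibClosure_union {X S : Type*} [TopologicalSpace X] (f : X → S) (A B : Set X) :
    fibClosure f (A ∪ B) = fibClosure f A ∪ fibClosure f B := by
  ext x
  simp only [fibClosure, Set.union_inter_distrib_right, closure_union, Set.mem_union]
  rfl

theorem fibClosure_empty {X S : Type*} [TopologicalSpace X] (f : X → S) :
    fibClosure f (∅ : Set X) = ∅ := by
  ext x; simp [fibClosure]

theorem fibClosure_preimage_isOpenEmbedding {X U S : Type*} [TopologicalSpace X] [TopologicalSpace U]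
    {j : U → X} (hj : IsOpenEmbedding j) (f : X → S) (Z : Set X) :
    fibClosure (f ∘ j) (j ⁻¹' Z) = j ⁻¹' fibClosure f Z := by
  ext x
  show x ∈ closure (j ⁻¹' Z ∩ (f ∘ j) ⁻¹' {f (j x)}) ↔ j x ∈ closure (Z ∩ f ⁻¹' {f (j x)})
  rw [Set.preimage_comp, ← Set.preimage_inter,
    ← hj.isOpenMap.preimage_closure_eq_closure_preimage hj.continuous, Set.mem_preimage]

theorem fibClosure_comp_injective {X S S' : Type*} [TopologicalSpace X] {g : S → S'}
    (hg : Function.Injective g) (f : X → S) (Z : Set X) :
    fibClosure (g ∘ f) Z = fibClosure f Z := by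
  ext x
  show x ∈ closure (Z ∩ (g ∘ f) ⁻¹' {g (f x)}) ↔ x ∈ closure (Z ∩ f ⁻¹' {f x})
  rw [Set.preimage_comp, ← Set.image_singleton, Set.preimage_image_eq _ hg]

theorem fibClosure_image_isClosedEmbedding {X X' S : Type*} [TopologicalSpace X]
    [TopologicalSpace X'] {i : X → X'} (hi : IsClosedEmbedding i) (f : X' → S) (Z : Set X) :
    fibClosure (f ∘ i) Z = i ⁻¹' fibClosure f (i '' Z) := by
  ext x
  show x ∈ closure (Z ∩ (f ∘ i) ⁻¹' {f (i x)}) ↔ i x ∈ closure (i '' Z ∩ f ⁻¹' {f (i x)})
  rw [Set.preimage_comp, ← Set.image_inter_preimage, hi.closure_image_eq,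
    hi.injective.mem_set_image]

variable {D C : Type u} [CommRing D] [CommRing C] [Algebra D C]

/-- over a dense open subset of a domain, a nonzerodivisor stays a nonzerodivisor on the fibres -/
theorem exists_dense_in_fibres [IsDomain D] [IsNoetherianRing D] [Algebra.FiniteType D C] (g : C)
    (hg : Function.Injective (LinearMap.mulLeft D g)) :
    ∃ a : D, a ≠ 0 ∧ ∀ x : PrimeSpectrum C, a ∉ x.asIdeal.comap (algebraMap D C) →
      ∃ m : PrimeSpectrum C, m.asIdeal ≤ x.asIdeal ∧
        m.asIdeal.comap (algebraMap D C) = x.asIdeal.comap (algebraMap D C) ∧ g ∉ m.asIdeal := by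
  obtain ⟨a, ha, hfree⟩ := GenericFree.gf_of_finiteType (R := D) C (C ⧸ Ideal.span {g})
  refine ⟨a, ha, fun x hx => ?_⟩
  let A := Localization.Away a
  have hflatA : Module.Flat D A := IsLocalization.flat A (Submonoid.powers a)
  let μ : C →ₗ[D] C := LinearMap.mulLeft D g
  let ν : C →ₗ[D] C ⧸ Ideal.span {g} := (Ideal.Quotient.mkₐ D (Ideal.span {g})).toLinearMap
  have hν : Function.Surjective ν := Ideal.Quotient.mk_surjective
  have hex : Function.Exact μ ν := fun y => by
    show Ideal.Quotient.mk (Ideal.span {g}) y = 0 ↔ y ∈ Set.range μ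
    rw [Ideal.Quotient.eq_zero_iff_mem, Ideal.mem_span_singleton']
    exact ⟨fun ⟨c, hc⟩ => ⟨c, (mul_comm g c).trans hc⟩, fun ⟨c, hc⟩ => ⟨c, (mul_comm c g).trans hc⟩⟩
  have hinjA : Function.Injective (μ.baseChange A) := by
    rw [LinearMap.baseChange_eq_ltensor]
    exact Module.Flat.lTensor_preserves_injective_linearMap _ hg
  have hexA : Function.Exact (μ.baseChange A) (ν.baseChange A) := lTensor_exact A hex hν
  obtain ⟨s, hs⟩ := Module.projective_lifting_property (ν.baseChange A) LinearMap.id
    (LinearMap.lTensor_surjective A hν)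
  obtain ⟨r, hr⟩ : ∃ r, r ∘ₗ μ.baseChange A = LinearMap.id := by
    have h := (hexA.split_tfae (M := A ⊗[D] C) hinjA (LinearMap.lTensor_surjective A hν)).out 0 1
    exact h.1 ⟨s, hs⟩
  set q : PrimeSpectrum D := comap (algebraMap D C) x with hq
  let K := q.asIdeal.ResidueField
  have hu : IsUnit (algebraMap D K a) :=
    isUnit_iff_ne_zero.2 fun h => hx (Ideal.algebraMap_residueField_eq_zero.1 h)
  let φ : A →+* K := IsLocalization.Away.lift a (g := algebraMap D K) hu
  letI : Algebra A K := φ.toAlgebra
  have : IsScalarTower D A K :=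
    IsScalarTower.of_algebraMap_eq fun d => (IsLocalization.Away.lift_eq a hu d).symm
  have hinjK : Function.Injective (μ.lTensor K) := by
    let e : K ⊗[A] (A ⊗[D] C) ≃ₗ[A] K ⊗[D] C :=
      AlgebraTensorModule.cancelBaseChange D A A K C
    have hcomm : ∀ z, e ((μ.baseChange A).lTensor K z) = μ.lTensor K (e z) := by
      intro z
      induction z using TensorProduct.induction_on with
      | zero => simp
      | tmul k w =>
        induction w using TensorProduct.induction_on with
        | zero => simp
        | tmul c m => simp [e]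
        | add u v hu hv => simp only [tmul_add, map_add, hu, hv]
      | add u v hu hv => simp only [map_add, hu, hv]
    have hl : Function.Injective ((μ.baseChange A).lTensor K) := by
      refine Function.LeftInverse.injective (g := r.lTensor K) fun z => ?_
      rw [← LinearMap.comp_apply, ← LinearMap.lTensor_comp, hr, LinearMap.lTensor_id,
        LinearMap.id_apply]
    intro u v huv
    obtain ⟨u, rfl⟩ := e.surjective u
    obtain ⟨v, rfl⟩ := e.surjective v
    rw [← hcomm, ← hcomm] at huv
    rw [hl (e.injective huv)]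
  -- the fibre ring
  let F := q.asIdeal.Fiber C
  let gF : F := 1 ⊗ₜ g
  have hgF : gF ∈ nonZeroDivisors F := by
    rw [mem_nonZeroDivisors_iff_right]
    intro z hz
    refine hinjK ?_
    rw [map_zero]
    suffices ∀ z : F, μ.lTensor K z = z * gF by rw [this z, hz]
    intro z
    induction z using TensorProduct.induction_on with
    | zero => simp
    | tmul k c =>
      show k ⊗ₜ[D] (g * c) = (k ⊗ₜ[D] c : F) * (1 ⊗ₜ[D] g)
      refine Eq.trans ?_ (Algebra.TensorProduct.tmul_mul_tmul k 1 c g).symm
      rw [mul_one, mul_comm]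
    | add u v hu hv => simp only [map_add, add_mul, hu, hv]
  let o := preimageOrderIsoFiber D C q
  let xF : PrimeSpectrum F := o ⟨x, rfl⟩
  obtain ⟨m, hm, hmle⟩ := Ideal.exists_minimalPrimes_le (I := (⊥ : Ideal F)) (J := xF.asIdeal) bot_le
  have := hm.1.1
  let y := o.symm ⟨m, hm.1.1⟩
  refine ⟨y.1, ?_, congrArg PrimeSpectrum.asIdeal y.2, ?_⟩
  · have h1 : o.symm ⟨m, hm.1.1⟩ ≤ o.symm xF := o.symm.monotone hmle
    rwa [show o.symm xF = ⟨x, rfl⟩ from o.symm_apply_apply _] at h1
  · intro hgy
    refine Set.disjoint_left.1 (Ideal.disjoint_nonZeroDivisors_of_mem_minimalPrimes hm) ?_ hgF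
    simpa [y, o, gF] using! hgy

variable {A B : Type u} [CommRing A] [CommRing B] [Algebra A B]

/-- Noetherian case, basic constructible set -/
theorem isConstructible_fibClosure_basic [IsNoetherianRing A] [Algebra.FiniteType A B] (g : B)
    (J : Ideal B) :
    IsConstructible (fibClosure (comap (algebraMap A B))
      (zeroLocus (J : Set B) \ zeroLocus {g})) := by
  classical
  have : IsNoetherianRing B := Algebra.FiniteType.isNoetherianRing A B
  set φ := comap (algebraMap A B) with hφ
  set Z := zeroLocus (J : Set B) \ zeroLocus {g} with hZ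
  have hclosed : ∀ {T : Set (PrimeSpectrum B)}, IsClosed T → IsConstructible T := fun {T} hT => by
    rw [← isConstructible_compl]
    exact IsRetrocompact.isConstructible hT.isOpen_compl
      ((TopologicalSpace.NoetherianSpace.isCompact _).isRetrocompact hT.isOpen_compl)
  suffices ∀ I : Ideal A, IsConstructible (fibClosure φ Z ∩ φ ⁻¹' zeroLocus (I : Set A)) by
    simpa [zeroLocus_bot] using this ⊥
  intro I
  induction I using WellFoundedGT.induction with
  | ind I IH =>
    by_cases htop : I = ⊤
    · simp [htop]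
    by_cases hp : I.IsPrime
    · let L := Localization.Away g
      let Jbig : Ideal B := ((J ⊔ I.map (algebraMap A B)).map (algebraMap B L)).comap (algebraMap B L)
      have hI : I.map (algebraMap A B) ≤ Jbig := le_sup_right.trans Ideal.le_comap_map
      have hJ : J ≤ Jbig := le_sup_left.trans Ideal.le_comap_map
      have hsat : ∀ {P : Ideal B}, P.IsPrime → J ≤ P → I.map (algebraMap A B) ≤ P → g ∉ P →
          Jbig ≤ P := by
        intro P hP h1 h2 h3 b hb
        obtain ⟨⟨_, ⟨n, rfl⟩⟩, hn⟩ :=
          (IsLocalization.algebraMap_mem_map_algebraMap_iff (Submonoid.powers g) L _ b).1 hb |>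
            fun ⟨c, hc, h⟩ => (⟨⟨c, hc⟩, h⟩ : ∃ c : Submonoid.powers g,
              (c : B) * b ∈ J ⊔ I.map (algebraMap A B))
        exact (hP.mem_or_mem (sup_le h1 h2 hn)).resolve_left fun h => h3 (hP.mem_of_pow_mem n h)
      let ψ : (A ⧸ I) →+* B ⧸ Jbig := Ideal.Quotient.lift I
        ((Ideal.Quotient.mk Jbig).comp (algebraMap A B))
        fun a ha => Ideal.Quotient.eq_zero_iff_mem.2 (hI (Ideal.mem_map_of_mem _ ha))
      letI : Algebra (A ⧸ I) (B ⧸ Jbig) := ψ.toAlgebra
      have : IsScalarTower A (A ⧸ I) (B ⧸ Jbig) := IsScalarTower.of_algebraMap_eq fun _ => rfl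
      have : Algebra.FiniteType (A ⧸ I) (B ⧸ Jbig) :=
        Algebra.FiniteType.of_restrictScalars_finiteType A (A ⧸ I) (B ⧸ Jbig)
      have hg : Function.Injective (LinearMap.mulLeft (A ⧸ I) (Ideal.Quotient.mk Jbig g)) := by
        rw [injective_iff_map_eq_zero]
        intro b hb
        obtain ⟨b, rfl⟩ := Ideal.Quotient.mk_surjective b
        rw [LinearMap.mulLeft_apply, ← map_mul, Ideal.Quotient.eq_zero_iff_mem] at hb
        refine Ideal.Quotient.eq_zero_iff_mem.2 ?_
        rw [Ideal.mem_comap, map_mul] at hb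
        exact Ideal.mem_comap.2
          ((Ideal.unit_mul_mem_iff_mem _ (IsLocalization.Away.algebraMap_isUnit g)).1 hb)
      have := hp
      have : IsNoetherianRing (A ⧸ I) :=
        isNoetherianRing_of_surjective _ _ (Ideal.Quotient.mk I) Ideal.Quotient.mk_surjective
      obtain ⟨a, ha, hdense⟩ := exists_dense_in_fibres (Ideal.Quotient.mk Jbig g) hg
      obtain ⟨a, rfl⟩ := Ideal.Quotient.mk_surjective a
      have haI : a ∉ I := fun h => ha (Ideal.Quotient.eq_zero_iff_mem.2 h)
      have h1 := IH (I ⊔ Ideal.span {a}) (lt_of_le_of_ne le_sup_left fun e => haI <| by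
        rw [e]; exact Submodule.mem_sup_right (Ideal.mem_span_singleton_self a))
      have key : fibClosure φ Z ∩ φ ⁻¹' zeroLocus (I : Set A) ∩ (φ ⁻¹' zeroLocus {a})ᶜ =
          zeroLocus (Jbig : Set B) ∩ (φ ⁻¹' zeroLocus {a})ᶜ := by
        ext x
        simp only [Set.mem_inter_iff, Set.mem_preimage, mem_zeroLocus, SetLike.coe_subset_coe,
          Set.mem_compl_iff, Set.singleton_subset_iff, SetLike.mem_coe]
        refine and_congr_left fun hax => ?_
        constructor
        · rintro ⟨hx, hxI⟩
          have : closure (Z ∩ φ ⁻¹' {φ x}) ⊆ zeroLocus (Jbig : Set B) := by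
            refine closure_minimal ?_ (isClosed_zeroLocus _)
            rintro m ⟨⟨hm1, hm2⟩, hmx⟩
            refine (mem_zeroLocus m _).2 (hsat m.2 (by simpa using hm1) ?_ (by simpa using hm2))
            rw [Ideal.map_le_iff_le_comap]
            exact hxI.trans (le_of_eq (congrArg PrimeSpectrum.asIdeal hmx).symm)
          exact (mem_zeroLocus x _).1 (this hx)
        · intro hx
          refine ⟨?_, (Ideal.map_le_iff_le_comap.1 (hI.trans hx))⟩
          let x' : PrimeSpectrum (B ⧸ Jbig) := ⟨x.asIdeal.map (Ideal.Quotient.mk Jbig),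
            Ideal.map_isPrime_of_surjective Ideal.Quotient.mk_surjective (by simpa using hx)⟩
          have hx' : x'.asIdeal.comap (Ideal.Quotient.mk Jbig) = x.asIdeal := by
            rw [Ideal.comap_map_of_surjective' _ Ideal.Quotient.mk_surjective, Ideal.mk_ker,
              sup_of_le_left hx]
          have hax' : Ideal.Quotient.mk I a ∉ x'.asIdeal.comap (algebraMap (A ⧸ I) (B ⧸ Jbig)) :=
            fun h => hax (by
              rw [Ideal.mem_comap] at h
              have : algebraMap A B a ∈ x'.asIdeal.comap (Ideal.Quotient.mk Jbig) := h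
              rwa [hx'] at this)
          obtain ⟨m, hmle, hmeq, hgm⟩ := hdense x' hax'
          let m₀ : PrimeSpectrum B := comap (Ideal.Quotient.mk Jbig) m
          have hm₀J : Jbig ≤ m₀.asIdeal := fun b hb => by
            show Ideal.Quotient.mk Jbig b ∈ m.asIdeal
            rw [Ideal.Quotient.eq_zero_iff_mem.2 hb]
            exact zero_mem _
          have hm₀ : φ m₀ = φ x := by
            refine PrimeSpectrum.ext ?_
            show m₀.asIdeal.comap (algebraMap A B) = x.asIdeal.comap (algebraMap A B)
            rw [← hx']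
            show (m.asIdeal.comap (Ideal.Quotient.mk Jbig)).comap (algebraMap A B) = _
            have := congrArg (Ideal.comap (Ideal.Quotient.mk I)) hmeq
            rw [Ideal.comap_comap, Ideal.comap_comap] at this ⊢
            exact this
          have hmZ : m₀ ∈ Z :=
            ⟨(mem_zeroLocus m₀ _).2 (hJ.trans hm₀J), by simpa [m₀] using hgm⟩
          refine closure_mono (Set.singleton_subset_iff.2 (show m₀ ∈ Z ∩ φ ⁻¹' {φ x} from
            ⟨hmZ, hm₀⟩)) ?_
          rw [← le_iff_mem_closure, ← PrimeSpectrum.asIdeal_le_asIdeal, ← hx']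
          exact Ideal.comap_mono hmle
      have hsplit : fibClosure φ Z ∩ φ ⁻¹' zeroLocus (I : Set A) =
          (fibClosure φ Z ∩ φ ⁻¹' zeroLocus ((I ⊔ Ideal.span {a} : Ideal A) : Set A)) ∪
            (zeroLocus (Jbig : Set B) ∩ (φ ⁻¹' zeroLocus {a})ᶜ) := by
        rw [← key, zeroLocus_sup, zeroLocus_span, Set.preimage_inter]
        ext x
        simp only [Set.mem_inter_iff, Set.mem_union, Set.mem_compl_iff]
        tauto
      rw [hsplit]
      exact h1.union ((hclosed (isClosed_zeroLocus _)).inter
        (hclosed ((isClosed_zeroLocus _).preimage (continuous_comap _))).compl)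
    · obtain ⟨a, b, ha, hb, hab⟩ : ∃ a b, a ∉ I ∧ b ∉ I ∧ a * b ∈ I := by
        by_contra h
        simp only [not_exists, not_and] at h
        exact hp ⟨htop, fun {a b} hab => by
          by_contra h'
          rw [not_or] at h'
          exact h a b h'.1 h'.2 hab⟩
      have hlt : ∀ c ∉ I, I < I ⊔ Ideal.span {c} := fun c hc =>
        lt_of_le_of_ne le_sup_left fun e => hc (by
          rw [e]; exact Submodule.mem_sup_right (Ideal.mem_span_singleton_self c))
      have hsplit : zeroLocus (I : Set A) = zeroLocus ((I ⊔ Ideal.span {a} : Ideal A) : Set A) ∪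
          zeroLocus ((I ⊔ Ideal.span {b} : Ideal A) : Set A) := by
        ext P
        simp only [zeroLocus_sup, zeroLocus_span, Set.mem_union, Set.mem_inter_iff, mem_zeroLocus,
          Set.singleton_subset_iff, SetLike.mem_coe]
        exact ⟨fun h => (P.2.mem_or_mem (h hab)).imp (fun h' => ⟨h, h'⟩) (fun h' => ⟨h, h'⟩),
          fun h => h.elim (fun h => h.1) (fun h => h.1)⟩
      rw [hsplit, Set.preimage_union, Set.inter_union_distrib_left]
      exact (IH _ (hlt a ha)).union (IH _ (hlt b hb))

end Groth.Agent.H47.FibreClosure
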