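import Groth.Agent.Lib.LocalFlat.Fibre
import Groth.Agent.Lib.LocalFlat.Criterion
import Mathlib.RingTheory.Flat.Stability

/-!
# The criterion of flatness by fibres for Noetherian local rings
-/

set_option autoImplicit false

universe u

open TensorProduct

namespace Groth.Agent.H47.FibreCrit

variable {R B C : Type u} [CommRing R] [CommRing B] [CommRing C] [IsLocalRing R] [IsLocalRing B]
  [IsLocalRing C] [Algebra R B] [Algebra B C] [IsLocalHom (algebraMap R B)]
  [IsLocalHom (algebraMap B C)] (M : Type u) [AddCommGroup M] [Module R M] [Module B M] [Module C M]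
  [IsScalarTower R B M] [IsScalarTower B C M]

/-- `M/JM` is flat over `B/J` iff the base change is. -/
theorem flat_quotient_iff (J : Ideal B) :
    Module.Flat (B ⧸ J) (M ⧸ (J • (⊤ : Submodule B M))) ↔ Module.Flat (B ⧸ J) ((B ⧸ J) ⊗[B] M) := by
  let e : (B ⧸ J) ⊗[B] M ≃ₗ[B ⧸ J] M ⧸ (J • (⊤ : Submodule B M)) :=
    (TensorProduct.quotTensorEquivQuotSMul M J).extendScalarsOfSurjective Ideal.Quotient.mk_surjective
  exact ⟨fun _ => Module.Flat.of_linearEquiv e, fun _ => Module.Flat.of_linearEquiv e.symm⟩

theorem flat_iff [IsNoetherianRing B] [IsNoetherianRing C] [Module.Finite C M] [Nontrivial M] :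
    (Module.Flat R M ∧
      Module.Flat (B ⧸ (IsLocalRing.maximalIdeal R).map (algebraMap R B))
        (M ⧸ ((IsLocalRing.maximalIdeal R).map (algebraMap R B) • (⊤ : Submodule B M)))) ↔
    (Module.Flat R B ∧ Module.Flat B M) := by
  rw [flat_quotient_iff]
  constructor
  · rintro ⟨hR, hq⟩
    have hne : (IsLocalRing.maximalIdeal R).map (algebraMap R B) ≠ ⊤ :=
      ne_top_of_le_ne_top (IsLocalRing.maximalIdeal.isMaximal B).ne_top
        (IsLocalRing.map_maximalIdeal_le (algebraMap R B))
    have hB : Module.Flat B M :=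
      Lib.LocalFlat.Criterion.flat_of_injective_of_flat_quotient C
        ((IsLocalRing.maximalIdeal R).map (algebraMap R B))
        (Lib.LocalFlat.Criterion.map_le_jacobson_bot_of_isLocalHom hne)
        (Lib.LocalFlat.Fibre.lTensor_map_subtype_injective B (IsLocalRing.maximalIdeal R))
    have : Module.FaithfullyFlat B M := Lib.LocalFlat.Fibre.faithfullyFlat_of_finite (S' := C)
    exact ⟨Lib.LocalFlat.Fibre.flat_of_flat_of_faithfullyFlat (M := M), hB⟩
  · rintro ⟨hR, hB⟩
    exact ⟨Module.Flat.trans R B M, inferInstance⟩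

end Groth.Agent.H47.FibreCrit
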