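import Groth.Agent.Lib.Flat55.FlatOverFibre
import Groth.Agent.H47.NoethModule
import Groth.Agent.H47.ConsBasic
import Groth.Agent.Lib.GenFree.Sheaf

/-!
# The locus where a module is flat over the fibres of an intermediate scheme
-/

set_option autoImplicit false
set_option backward.isDefEq.respectTransparency false

universe u

open CategoryTheory CategoryTheory.Limits AlgebraicGeometry TensorProduct IsLocalRing Topology
open Groth.Agent.Lib Groth.Agent.Lib.Flat55

namespace Groth.Agent.H47.FibreFlatMod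

variable {X Y S : Scheme.{u}}

set_option backward.isDefEq.respectTransparency false in
set_option maxHeartbeats 1000000 in
open Groth.Agent.Lib.DerivedOX.PullbackStalk Groth.Agent.Lib.Modules in
/-- The restriction of `M` to the fibre is flat over the fibre of `Y` exactly when `M / mM` is flat
over the local ring of the fibre. -/
theorem fibre_flat_quotient_iff (f : X ⟶ Y) (g : Y ⟶ S) (M : X.Modules) (s : S) (a : (f ≫ g).fiber s) (x : X)
    (hx : (f ≫ g).fiberι s a = x) :
    letI := FlatMod.moduleStalkOver f M x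
    FlatMod.IsFlatOverAt (MoreMor.fiberMap f g s)
      ((Scheme.Modules.pullback ((f ≫ g).fiberι s)).obj M) a ↔
    Module.Flat (↑(Y.presheaf.stalk (f x)) ⧸ Ideal.map (g.stalkMap (f x)).hom (maximalIdeal ↑(S.presheaf.stalk (g (f x)))))
      (↑(M.presheaf.stalk x) ⧸ (Ideal.map (g.stalkMap (f x)).hom (maximalIdeal ↑(S.presheaf.stalk (g (f x)))) •
        (⊤ : Submodule ↑(Y.presheaf.stalk (f x)) ↑(M.presheaf.stalk x)))) := by
  subst hx
  set i := (f ≫ g).fiberι s
  set fm := MoreMor.fiberMap f g s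
  have hb : g.fiberι s (fm a) = f (i a) := by
    rw [← Scheme.Hom.comp_apply, FibrewiseStalk.fiberMap_fiberι, Scheme.Hom.comp_apply]
  obtain ⟨hk₁, hs₁⟩ := FibrewiseStalk.ker_stalkMap_fiberι' g s (fm a) (f (i a)) hb
  have hk₂ := H46.FiberStalk.ker_stalkMap_fiberι (f ≫ g) s a
  have hs₂ := i.stalkMap_surjective a
  let A := X.presheaf.stalk (i a)
  let B := Y.presheaf.stalk (f (i a))
  let TX := ((f ≫ g).fiber s).presheaf.stalk a
  let TY := (g.fiber s).presheaf.stalk (fm a)
  set q₁ : B →+* TY := ((Y.presheaf.stalkCongr (.of_eq hb.symm)).hom ≫ (g.fiberι s).stalkMap (fm a)).hom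
  set q₂ : A →+* TX := (i.stalkMap a).hom
  have hsq : (fm.stalkMap a).hom.comp q₁ = q₂.comp (f.stalkMap (i a)).hom := by
    have h := Scheme.Hom.stalkMap_congr_hom _ _ (FibrewiseStalk.fiberMap_fiberι f g s).symm a
    rw [Scheme.Hom.stalkMap_comp, Scheme.Hom.stalkMap_comp] at h
    have h' := congrArg CommRingCat.Hom.hom h
    simp only [CommRingCat.hom_comp] at h'
    simp only [q₁, q₂, CommRingCat.hom_comp]
    exact h'.symm
  set I := Ideal.map (g.stalkMap (f (i a))).hom (maximalIdeal ↑(S.presheaf.stalk (g (f (i a)))))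
  let W := M.presheaf.stalk (i a)
  let V := ((Scheme.Modules.pullback i).obj M).presheaf.stalk a
  let : Algebra B A := (f.stalkMap (i a)).hom.toAlgebra
  let : Module B W := FlatMod.moduleStalkOver f M (i a)
  have : IsScalarTower B A W := IsScalarTower.of_algebraMap_smul fun _ _ ↦ rfl
  let : Algebra A TX := q₂.toAlgebra
  let eV : TX ⊗[A] W ≃ₗ[TX] V := ((pullbackStalkIso i a).app M).toLinearEquiv
  let : Module TY V := FlatMod.moduleStalkOver fm ((Scheme.Modules.pullback i).obj M) a
  let : Module B V := Module.compHom V q₁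
  let e₁ : B ⧸ I ≃+* TY := (Ideal.quotEquivOfEq hk₁.symm).trans (RingHom.quotientKerEquivOfSurjective hs₁)
  let : Algebra (B ⧸ I) TY := e₁.toRingHom.toAlgebra
  let : Module (B ⧸ I) V := Module.compHom V e₁.toRingHom
  have : IsScalarTower (B ⧸ I) TY V := IsScalarTower.of_algebraMap_smul fun _ _ ↦ rfl
  have : IsScalarTower B (B ⧸ I) V := IsScalarTower.of_algebraMap_smul fun _ _ ↦ rfl
  have : Module.Flat (B ⧸ I) TY := RingHom.Flat.of_bijective (f := e₁.toRingHom) e₁.bijective
  let Φ : W →ₗ[B] V :=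
    { toFun := fun w ↦ eV (1 ⊗ₜ w)
      map_add' := fun w₁ w₂ ↦ by rw [TensorProduct.tmul_add, map_add]
      map_smul' := fun b w ↦ by
        change eV ((1 : TX) ⊗ₜ[A] ((f.stalkMap (i a)).hom b • w)) = (fm.stalkMap a).hom (q₁ b) • eV (1 ⊗ₜ w)
        rw [← map_smul, TensorProduct.smul_tmul', TensorProduct.tmul_smul, TensorProduct.smul_tmul',
          ← RingHom.comp_apply, hsq, RingHom.comp_apply, Algebra.smul_def, smul_eq_mul]
        rfl }
  have hΦ : Function.Surjective Φ := by
    intro v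
    obtain ⟨z, rfl⟩ := eV.surjective v
    induction z using TensorProduct.induction_on with
    | zero => exact ⟨0, by rw [map_zero, map_zero]⟩
    | tmul t w =>
      obtain ⟨c, rfl⟩ := hs₂ t
      refine ⟨c • w, congrArg eV ?_⟩
      rw [TensorProduct.tmul_smul, TensorProduct.smul_tmul', Algebra.smul_def, mul_one]
      rfl
    | add u v hu hv =>
      obtain ⟨u', hu'⟩ := hu
      obtain ⟨v', hv'⟩ := hv
      exact ⟨u' + v', by rw [map_add, map_add, hu', hv']⟩
  have hker : LinearMap.ker Φ = I • (⊤ : Submodule B W) := by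
    let J : Ideal A := I.map (f.stalkMap (i a)).hom
    have hJ : J = RingHom.ker q₂ := by
      rw [hk₂]
      exact FibrewiseStalk.map_mIdeal f g (i a)
    have hJW : ((J • (⊤ : Submodule A W)).restrictScalars B) = I • (⊤ : Submodule B W) := by
      rw [show J = I.map (algebraMap B A) from rfl, Ideal.smul_restrictScalars, Submodule.restrictScalars_top]
    let eT : (A ⧸ J) ≃ₐ[A] TX :=
      (Ideal.quotientEquivAlgOfEq A (hJ.trans rfl)).trans
        (Ideal.quotientKerAlgEquivOfSurjective (f := Algebra.ofId A TX) hs₂)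
    ext w
    rw [← hJW, LinearMap.mem_ker, Submodule.restrictScalars_mem, ← Submodule.Quotient.mk_eq_zero]
    change eV (1 ⊗ₜ w) = 0 ↔ _
    rw [LinearEquiv.map_eq_zero_iff]
    let E : TX ⊗[A] W ≃ₗ[A] W ⧸ J • (⊤ : Submodule A W) :=
      (TensorProduct.congr eT.symm.toLinearEquiv (LinearEquiv.refl A W)).trans
        (TensorProduct.quotTensorEquivQuotSMul W J)
    have hE : E (1 ⊗ₜ w) = Submodule.Quotient.mk w := by
      simp only [E, LinearEquiv.trans_apply, TensorProduct.congr_tmul, LinearEquiv.refl_apply,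
        AlgEquiv.toLinearEquiv_apply, map_one]
      rw [← map_one (Ideal.Quotient.mk J)]
      exact (TensorProduct.quotTensorEquivQuotSMul_mk_tmul J (1 : A) w).trans (by rw [one_smul])
    rw [← hE, LinearEquiv.map_eq_zero_iff]
  let ε : (W ⧸ I • (⊤ : Submodule B W)) ≃ₗ[B] V :=
    (Submodule.quotEquivOfEq _ _ hker.symm).trans (Φ.quotKerEquivOfSurjective hΦ)
  refine Iff.trans ?_ (Module.Flat.equiv_iff
    (ε.extendScalarsOfSurjective (S := B ⧸ I) Ideal.Quotient.mk_surjective)).symm
  refine ⟨fun (_ : Module.Flat TY V) => Module.Flat.trans (B ⧸ I) TY V, fun hV => ?_⟩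
  show Module.Flat TY V
  let : Algebra TY (B ⧸ I) := e₁.symm.toRingHom.toAlgebra
  have : Module.Flat TY (B ⧸ I) :=
    RingHom.Flat.of_bijective (f := e₁.symm.toRingHom) e₁.symm.bijective
  have : IsScalarTower TY (B ⧸ I) V := IsScalarTower.of_algebraMap_smul fun t v ↦ by
    show e₁ (e₁.symm t) • v = t • v
    rw [e₁.apply_symm_apply]
  exact Module.Flat.trans TY (B ⧸ I) V


/-- The points of the base over which `M` is flat over the fibre of `Y`. -/
def E (f : X ⟶ Y) (g : Y ⟶ S) (M : X.Modules) : Set S :=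
  {s | ∀ p : ↥(pullback f (g.fiberι s)), FlatMod.IsFlatOverAt (pullback.snd f (g.fiberι s))
    ((Scheme.Modules.pullback (pullback.fst f (g.fiberι s))).obj M) p}

/-- The locus, read on stalks. -/
theorem setOf_eq_E (f : X ⟶ Y) (g : Y ⟶ S) (M : X.Modules) :
    {s : S | ∀ x : X, (f ≫ g) x = s →
      letI := FlatMod.moduleStalkOver f M x
      Module.Flat (↑(Y.presheaf.stalk (f x)) ⧸ Ideal.map (g.stalkMap (f x)).hom (IsLocalRing.maximalIdeal ↑(S.presheaf.stalk (g (f x)))))
        (↑(M.presheaf.stalk x) ⧸ (Ideal.map (g.stalkMap (f x)).hom (IsLocalRing.maximalIdeal ↑(S.presheaf.stalk (g (f x)))) •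
          (⊤ : Submodule ↑(Y.presheaf.stalk (f x)) ↑(M.presheaf.stalk x))))} = E f g M := by
  ext s
  obtain ⟨e, he₁, he₂⟩ := FibreTransfer.exists_iso_fiberMap f g s
  have sq : IsPullback e.inv (MoreMor.fiberMap f g s) (pullback.snd f (g.fiberι s)) (𝟙 _) :=
    IsPullback.of_horiz_isIso ⟨by rw [Category.comp_id, ← he₁, Iso.inv_hom_id_assoc]⟩
  let ι : (Scheme.Modules.pullback e.inv).obj
      ((Scheme.Modules.pullback (pullback.fst f (g.fiberι s))).obj M) ≅
      (Scheme.Modules.pullback ((f ≫ g).fiberι s)).obj M :=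
    (Scheme.Modules.pullbackComp e.inv (pullback.fst f (g.fiberι s))).app M ≪≫
      (Scheme.Modules.pullbackCongr (show e.inv ≫ pullback.fst f (g.fiberι s) = (f ≫ g).fiberι s by
        rw [← he₂, Iso.inv_hom_id_assoc])).app M
  have key : ∀ a : (f ≫ g).fiber s,
      (FlatMod.IsFlatOverAt (MoreMor.fiberMap f g s) ((Scheme.Modules.pullback ((f ≫ g).fiberι s)).obj M) a ↔
      FlatMod.IsFlatOverAt (pullback.snd f (g.fiberι s))
        ((Scheme.Modules.pullback (pullback.fst f (g.fiberι s))).obj M) (e.inv a)) := fun a =>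
    ⟨fun h => FlatOverAt.isFlatOverAt_of_baseChange _ _ e.inv (𝟙 _) sq _ a
        (Flat.stalkMap (𝟙 _) _) (FlatOverAt.of_iso _ ι.symm a h),
      fun h => FlatOverAt.of_iso _ ι a (FlatOverAt.isFlatOverAt_baseChange _ _ e.inv (𝟙 _) sq _ a h)⟩
  constructor
  · intro h p
    have hx : (f ≫ g) ((f ≫ g).fiberι s (e.hom p)) = s := by
      have : (f ≫ g).fiberι s (e.hom p) ∈ (f ≫ g) ⁻¹' {s} :=
        (Scheme.Hom.range_fiberι (f ≫ g) s).subset ⟨_, rfl⟩
      exact this
    have := (key (e.hom p)).1 ((fibre_flat_quotient_iff f g M s (e.hom p) _ rfl).2 (h _ hx))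
    rwa [show e.inv (e.hom p) = p by rw [← Scheme.Hom.comp_apply, e.hom_inv_id]; rfl] at this
  · intro h x hx
    obtain ⟨a, ha⟩ : x ∈ Set.range ((f ≫ g).fiberι s) :=
      (Scheme.Hom.range_fiberι (f ≫ g) s).symm.subset hx
    exact (fibre_flat_quotient_iff f g M s a x ha).1 ((key a).2 (h _))

/-- The locus commutes with base change. -/
theorem E_preimage {X' Y' S' : Scheme.{u}} {f : X ⟶ Y} {g : Y ⟶ S} {f' : X' ⟶ Y'} {g' : Y' ⟶ S'}
    {b : S' ⟶ S} {qY : Y' ⟶ Y} {qX : X' ⟶ X} (hY : IsPullback qY g' g b) (hX : IsPullback qX f' f qY)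
    {M : X.Modules} {M' : X'.Modules} (e : M' ≅ (Scheme.Modules.pullback qX).obj M) :
    E f' g' M' = b ⁻¹' E f g M := by
  ext s'
  let κ := Spec.map (b.residueFieldMap s')
  have hκ : κ ≫ S.fromSpecResidueField (b s') = S'.fromSpecResidueField s' ≫ b :=
    Scheme.Hom.SpecMap_residueFieldMap_fromSpecResidueField b s'
  have : Flat κ := (HasRingHomProperty.Spec_iff (P := @Flat)).2 (by
    let := (b.residueFieldMap s').hom.toAlgebra
    exact (inferInstance : Module.Flat (S.residueField (b s')) (S'.residueField s')))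
  have : Surjective κ := ⟨fun z => ⟨Classical.arbitrary _,
    @Subsingleton.elim _ (inferInstanceAs (Subsingleton (PrimeSpectrum (S.residueField (b s'))))) _ _⟩⟩
  have hout : IsPullback (g'.fiberι s' ≫ qY) (g'.fiberToSpecResidueField s') g
      (κ ≫ S.fromSpecResidueField (b s')) := by
    rw [hκ]
    exact (IsPullback.of_hasPullback g' (S'.fromSpecResidueField s')).paste_horiz hY
  let πY : g'.fiber s' ⟶ g.fiber (b s') :=
    pullback.lift (g'.fiberι s' ≫ qY) (g'.fiberToSpecResidueField s' ≫ κ)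
      (by rw [Category.assoc]; exact hout.w.trans (Category.assoc _ _ _).symm |>.trans (Category.assoc _ _ _))
  have hπY : πY ≫ g.fiberι (b s') = g'.fiberι s' ≫ qY := pullback.lift_fst _ _ _
  have hπYsq : IsPullback πY (g'.fiberToSpecResidueField s') (g.fiberToSpecResidueField (b s')) κ :=
    IsPullback.of_right (by convert hout using 1; exact hπY) (pullback.lift_snd _ _ _)
      (IsPullback.of_hasPullback g (S.fromSpecResidueField (b s')))
  have : Flat πY := MorphismProperty.of_isPullback hπYsq.flip ‹Flat κ›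
  have : Surjective πY := MorphismProperty.of_isPullback hπYsq.flip ‹Surjective κ›
  have hbig : IsPullback (pullback.fst f' (g'.fiberι s') ≫ qX) (pullback.snd f' (g'.fiberι s')) f
      (πY ≫ g.fiberι (b s')) := by
    rw [hπY]
    exact (IsPullback.of_hasPullback f' (g'.fiberι s')).paste_horiz hX
  let πX : pullback f' (g'.fiberι s') ⟶ pullback f (g.fiberι (b s')) :=
    pullback.lift (pullback.fst f' (g'.fiberι s') ≫ qX) (pullback.snd f' (g'.fiberι s') ≫ πY)
      (by rw [Category.assoc]; exact hbig.w.trans (Category.assoc _ _ _).symm |>.trans (Category.assoc _ _ _))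
  have hπX : πX ≫ pullback.fst f (g.fiberι (b s')) = pullback.fst f' (g'.fiberι s') ≫ qX :=
    pullback.lift_fst _ _ _
  have hπXsq : IsPullback πX (pullback.snd f' (g'.fiberι s')) (pullback.snd f (g.fiberι (b s'))) πY :=
    IsPullback.of_right (by rw [hπX]; exact hbig) (pullback.lift_snd _ _ _)
      (IsPullback.of_hasPullback f (g.fiberι (b s')))
  have : Surjective πX := MorphismProperty.of_isPullback hπXsq.flip ‹Surjective πY›
  let ι : (Scheme.Modules.pullback (pullback.fst f' (g'.fiberι s'))).obj M' ≅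
      (Scheme.Modules.pullback πX).obj ((Scheme.Modules.pullback (pullback.fst f (g.fiberι (b s')))).obj M) :=
    (Scheme.Modules.pullback _).mapIso e ≪≫ (Scheme.Modules.pullbackComp _ qX).app M ≪≫
      (Scheme.Modules.pullbackCongr hπX.symm).app M ≪≫ ((Scheme.Modules.pullbackComp πX _).app M).symm
  constructor
  · intro h p
    obtain ⟨p', rfl⟩ := πX.surjective p
    exact FlatOverAt.isFlatOverAt_of_baseChange _ _ πX πY hπXsq _ p'
      ((Flat.iff_flat_stalkMap πY).1 inferInstance _) (FlatOverAt.of_iso _ ι p' (h p'))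
  · intro h p'
    exact FlatOverAt.of_iso _ ι.symm p'
      (FlatOverAt.isFlatOverAt_baseChange _ _ πX πY hπXsq _ p' (h (πX p')))

/-- Over an integral Noetherian base the locus or its complement contains a nonempty open set. -/
theorem dichotomy {Z : Scheme.{u}} [IsIntegral Z] [IsNoetherian Z] (f : X ⟶ Y) (g : Y ⟶ Z)
    [LocallyOfFiniteType g] [QuasiCompact g] [LocallyOfFiniteType (f ≫ g)] [QuasiCompact (f ≫ g)]
    (M : X.Modules) (hM : Coh.IsCoh M) :
    (interior (E f g M)).Nonempty ∨ (interior (E f g M)ᶜ).Nonempty := by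
  have := hM.1
  have : IsLocallyNoetherian X := LocallyOfFiniteType.isLocallyNoetherian (f ≫ g)
  have : IsLocallyNoetherian Y := LocallyOfFiniteType.isLocallyNoetherian g
  have : CompactSpace X := QuasiCompact.compactSpace_of_compactSpace (f ≫ g)
  have : IsNoetherian X := {}
  have : LocallyOfFinitePresentation (f ≫ g) :=
    LocallyOfFinitePresentation.iff_locallyOfFiniteType.2 inferInstance
  have : LocallyOfFiniteType f := locallyOfFiniteType_of_comp f g
  have : LocallyOfFinitePresentation f :=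
    LocallyOfFinitePresentation.iff_locallyOfFiniteType.2 inferInstance
  have : SheafOfModules.IsFinitePresentation (R := X.ringCatSheaf) M :=
    Groth.Agent.Lib.ZarCoh.FP.isFP_of_isCoh M hM
  obtain ⟨U, hUne, hU⟩ := GenFree.generic_flatness (f ≫ g) M
  let V : Set X := {x | FlatMod.IsFlatOverAt f M x}
  have hV : IsOpen V := H19.FlatLocus.Scheme.isOpen_isFlatOverAt f M
  have hNF : IsLocallyConstructible Vᶜ :=
    (Groth.Agent.Lib.Spectral.Noetherian.isConstructible_of_isClosed hV.isClosed_compl).isLocallyConstructible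
  have himg : IsLocallyConstructible ((f ≫ g) '' Vᶜ) :=
    AlgebraicGeometry.Scheme.Hom.isLocallyConstructible_image (f ≫ g) hNF
  have hE : ∀ s ∈ U, (s ∈ E f g M ↔ s ∉ (f ≫ g) '' Vᶜ) := by
    intro s hs
    constructor
    · rintro h ⟨x, hx, rfl⟩
      obtain ⟨p, hp, -⟩ := Scheme.Pullback.exists_preimage_pullback (f := f) (g := g.fiberι ((f ≫ g) x))
        x (g.asFiber (f x)) (g.fiberι_asFiber (f x)).symm
      have := FlatOverFibre.flat_at_of_pullback_fibre f g M _ p (hU _ (hp.symm ▸ hs)) (h p)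
      exact hx (hp ▸ this)
    · intro h p
      refine FlatOverAt.isFlatOverAt_baseChange f (pullback.snd f (g.fiberι s))
        (pullback.fst f (g.fiberι s)) (g.fiberι s) (IsPullback.of_hasPullback _ _) M p ?_
      by_contra hn
      refine h ⟨_, hn, ?_⟩
      rw [← Scheme.Hom.comp_apply, pullback.condition_assoc, Scheme.Hom.comp_apply,
        Scheme.Hom.comp_apply]
      exact (Scheme.Hom.range_fiberι g s).subset ⟨_, rfl⟩
  rcases ConsBasic.dichotomy himg with ⟨z, hz⟩ | ⟨z, hz⟩ <;>
    obtain ⟨O, hO, hOo, hzO⟩ := mem_interior.1 hz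
  · obtain ⟨w, hwO, hwU⟩ :=
      (PreirreducibleSpace.isPreirreducible_univ O U hOo U.2 ⟨z, trivial, hzO⟩
        ⟨hUne.choose, trivial, hUne.choose_spec⟩).imp fun w hw => hw.2
    exact Or.inr ⟨w, mem_interior.2 ⟨O ∩ U, fun s hs hsE => (hE s hs.2).1 hsE (hO hs.1),
      hOo.inter U.2, hwO, hwU⟩⟩
  · obtain ⟨w, hwO, hwU⟩ :=
      (PreirreducibleSpace.isPreirreducible_univ O U hOo U.2 ⟨z, trivial, hzO⟩
        ⟨hUne.choose, trivial, hUne.choose_spec⟩).imp fun w hw => hw.2
    exact Or.inl ⟨w, mem_interior.2 ⟨O ∩ U, fun s hs => (hE s hs.2).2 (hO hs.1),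
      hOo.inter U.2, hwO, hwU⟩⟩

/-- Morphisms and a module over an affine base come from a Noetherian one. -/
theorem exists_model {A : CommRingCat.{u}} (f : X ⟶ Y) (g : Y ⟶ Spec A)
    [LocallyOfFinitePresentation g] [QuasiCompact g] [QuasiSeparated g]
    [LocallyOfFinitePresentation (f ≫ g)] [QuasiCompact (f ≫ g)] [QuasiSeparated (f ≫ g)]
    (M : X.Modules) [M.IsQuasicoherent] (hM : CohB1.IsFP M) :
    ∃ (A₀ : CommRingCat.{u}) (_ : IsNoetherianRing A₀) (b : Spec A ⟶ Spec A₀) (X₀ Y₀ : Scheme.{u})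
      (f₀ : X₀ ⟶ Y₀) (g₀ : Y₀ ⟶ Spec A₀) (qY : Y ⟶ Y₀) (qX : X ⟶ X₀) (M₀ : X₀.Modules),
      LocallyOfFiniteType g₀ ∧ QuasiCompact g₀ ∧ LocallyOfFiniteType (f₀ ≫ g₀) ∧
      QuasiCompact (f₀ ≫ g₀) ∧ IsPullback qY g g₀ b ∧ IsPullback qX f f₀ qY ∧ Coh.IsCoh M₀ ∧
      Nonempty (M ≅ (Scheme.Modules.pullback qX).obj M₀) := by
  let D := Groth.Agent.H2.Rigid.SubDiagram.diagram A
  let c := Groth.Agent.H2.Rigid.SubDiagram.cone A
  have hc : IsLimit c := Groth.Agent.H2.Rigid.SubDiagram.isLimitCone A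
  have : ∀ {i j : (Finset A)ᵒᵖ} (g : i ⟶ j), IsAffineHom (D.map g) := fun g => inferInstance
  have : ∀ i, IsAffine (D.obj i) := fun i => inferInstance
  have : LocallyOfFinitePresentation f := Lim.OpenImm.lfp_of_comp f g
  have : QuasiCompact f := QuasiCompact.of_comp f g
  have : CompactSpace Y := QuasiCompact.compactSpace_of_compactSpace g
  have : QuasiSeparatedSpace Y := quasiSeparatedSpace_of_quasiSeparated g
  have : CompactSpace X := QuasiCompact.compactSpace_of_compactSpace (f ≫ g)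
  have : QuasiSeparatedSpace X := quasiSeparatedSpace_of_quasiSeparated (f ≫ g)
  obtain ⟨i, Yi, gi, qi, hYc, hYq, hgi, hi⟩ := Lim.FPDescend.exists_descent (D := D) hc (c := c) g
  have := fun j => Lim.Basic.compactSpace_bcDiagram D gi j
  have := fun j => Lim.Basic.quasiSeparatedSpace_bcDiagram D gi j
  have : ∀ {j k : Over i} (φ : j ⟶ k), IsAffineHom ((Lim.Basic.bcDiagram D gi).map φ) := fun φ =>
    Lim.Basic.bcDiagram_map_prop D gi @IsAffineHom (fun f => inferInstance) φ
  obtain ⟨j, Xj, fj, qj, hXc, hXq, hfj, hj⟩ :=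
    Lim.FPDescend.exists_descent (D := Lim.Basic.bcDiagram D gi) (c := Lim.Basic.bcCone hi.w)
      (Lim.Basic.isLimitBcCone hc hi) f
  -- the stage where `f` is defined
  let gj : (Lim.Basic.bcDiagram D gi).obj j ⟶ D.obj j.left := pullback.snd gi (D.map j.hom)
  let qY : Y ⟶ (Lim.Basic.bcDiagram D gi).obj j := (Lim.Basic.bcCone hi.w).π.app j
  have hY : IsPullback qY g gj (c.π.app j.left) := Lim.Basic.isPullback_bcCone_π hi j
  have hY' : IsPullback qY (show Y ⟶ c.pt from g) gj (c.π.app j.left) := hY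
  have hP : IsPullback qj (f ≫ g) (fj ≫ gj) (c.π.app j.left) := hj.paste_vert hY
  let a := fj ≫ gj
  have hP' : IsPullback qj (show X ⟶ c.pt from f ≫ g) a (c.π.app j.left) := hP
  have := fun k => Lim.Basic.compactSpace_bcDiagram D a k
  have := fun k => Lim.Basic.quasiSeparatedSpace_bcDiagram D a k
  have : ∀ {j' k : Over j.left} (φ : j' ⟶ k), IsAffineHom ((Lim.Basic.bcDiagram D a).map φ) := fun φ =>
    Lim.Basic.bcDiagram_map_prop D a @IsAffineHom (fun f => inferInstance) φ
  obtain ⟨k, -, W, _, G, w, hG, ⟨e⟩⟩ := FPModel.exists_descend (Lim.Basic.bcDiagram D a)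
    (Lim.Basic.bcCone (D := D) (c := c) (a := a) hP'.w) (Lim.Basic.isLimitBcCone hc hP') (Over.mk (𝟙 j.left)) M hM
  let A₀ : CommRingCat.{u} := (Groth.Agent.H2.Rigid.SubDiagram.ringDiagram A).obj k.left.unop
  have hA₀ : IsNoetherianRing A₀ := by
    have := Groth.Agent.H2.Rigid.SubDiagram.isLocallyNoetherian_obj A k.left
    exact (isLocallyNoetherian_Spec (R := A₀)).1 this
  have hgj : LocallyOfFinitePresentation gj :=
    MorphismProperty.pullback_snd (P := @LocallyOfFinitePresentation) gi (D.map j.hom) hgi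
  have : LocallyOfFinitePresentation fj := hfj
  let g₀ : pullback gj (D.map k.hom) ⟶ Spec A₀ := pullback.snd gj (D.map k.hom)
  let f₀ : (Lim.Basic.bcDiagram D a).obj k ⟶ pullback gj (D.map k.hom) := FlatLimit.stageMap fj gj k
  have hf₀ : f₀ ≫ g₀ = pullback.snd a (D.map k.hom) := pullback.lift_snd _ _ _
  have hst := FlatLimit.isPullback_stageMap fj gj k
  have hY0 := Lim.Basic.isPullback_bcCone_π (D := D) (c := c) hY' k
  have hX0 := Lim.Basic.isPullback_bcCone_π (D := D) (c := c) hP' k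
  have hqc : CompactSpace ↥(pullback gj (D.map k.hom)) := Lim.Basic.compactSpace_bcDiagram D gj k
  refine ⟨A₀, hA₀, c.π.app k.left, _, _, f₀, g₀, (Lim.Basic.bcCone (D := D) (c := c) hY'.w).π.app k,
    (Lim.Basic.bcCone (D := D) (c := c) (a := a) hP'.w).π.app k, (Scheme.Modules.pullback w).obj G,
    MorphismProperty.pullback_snd (P := @LocallyOfFiniteType) gj (D.map k.hom) inferInstance,
    (quasiCompact_iff_compactSpace _).2 hqc, ?_, ?_, hY0, ?_, Cyc.FP.Stalk.isCoh_pullback w hG, ⟨e.symm⟩⟩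
  · rw [hf₀]
    exact MorphismProperty.pullback_snd (P := @LocallyOfFiniteType) a (D.map k.hom) inferInstance
  · exact (quasiCompact_iff_compactSpace _).2 inferInstance
  · refine IsPullback.of_bot ?_ ?_ hY0
    · rw [hf₀]; exact hX0
    · apply pullback.hom_ext
      · rw [Category.assoc, hst.w.symm, Category.assoc, Lim.Basic.bcCone_π_fst,
          ← Category.assoc, Lim.Basic.bcCone_π_fst]
        exact hj.w
      · rw [Category.assoc, hf₀, Category.assoc, Lim.Basic.bcCone_π_snd, Lim.Basic.bcCone_π_snd,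
          Category.assoc]

theorem isLocallyConstructible_E (f : X ⟶ Y) (g : Y ⟶ S)
    [LocallyOfFinitePresentation g] [QuasiCompact g] [QuasiSeparated g]
    [LocallyOfFinitePresentation (f ≫ g)] [QuasiCompact (f ≫ g)] [QuasiSeparated (f ≫ g)]
    (M : X.Modules) [M.IsQuasicoherent] (hM : CohB1.IsFP M) :
    IsLocallyConstructible (E f g M) := by
  refine ConsFormal.isLocallyConstructible_of_models _ fun {A} u _ => ?_
  let f₁ := pullback.snd f (pullback.fst g u)
  let g₁ := pullback.snd g u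
  have hY := IsPullback.of_hasPullback g u
  have hX := IsPullback.of_hasPullback f (pullback.fst g u)
  have h := hX.paste_vert hY
  have : LocallyOfFinitePresentation (f₁ ≫ g₁) := MorphismProperty.of_isPullback h inferInstance
  have : QuasiCompact (f₁ ≫ g₁) := MorphismProperty.of_isPullback h inferInstance
  have : QuasiSeparated (f₁ ≫ g₁) := MorphismProperty.of_isPullback h inferInstance
  let M₁ := (Scheme.Modules.pullback (pullback.fst f (pullback.fst g u))).obj M
  have := QCoh.Pullback.isQCoh_pullback (pullback.fst f (pullback.fst g u)) M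
  obtain ⟨A₀, hA₀, b, X₀, Y₀, f₀, g₀, qY, qX, M₀, _, _, _, _, hY0, hX0, hM₀, ⟨e⟩⟩ :=
    exists_model f₁ g₁ M₁ (FlatLimit.isFP_pullback _ M hM)
  refine ⟨A₀, b, E f₀ g₀ M₀, ConsFormal.isConstructible_of_dichotomy _ fun Z c _ _ _ => ?_,
    (E_preimage hY hX (Iso.refl _)).symm.trans (E_preimage hY0 hX0 e)⟩
  have hc' := (IsPullback.of_hasPullback f₀ (pullback.fst g₀ c)).paste_vert
    (IsPullback.of_hasPullback g₀ c)
  have : LocallyOfFiniteType (pullback.snd f₀ (pullback.fst g₀ c) ≫ pullback.snd g₀ c) :=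
    MorphismProperty.of_isPullback hc' inferInstance
  have : QuasiCompact (pullback.snd f₀ (pullback.fst g₀ c) ≫ pullback.snd g₀ c) :=
    MorphismProperty.of_isPullback hc' inferInstance
  rw [← E_preimage (IsPullback.of_hasPullback g₀ c) (IsPullback.of_hasPullback f₀ (pullback.fst g₀ c))
    (Iso.refl ((Scheme.Modules.pullback (pullback.fst f₀ (pullback.fst g₀ c))).obj M₀))]
  exact dichotomy _ _ _ (Cyc.FP.Stalk.isCoh_pullback _ hM₀)

end Groth.Agent.H47.FibreFlatMod
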