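import Groth.Agent.H47.FlatFamily
import Groth.Agent.Lib.LocalFlat.InjMod
import Mathlib.RingTheory.Filtration
import Mathlib.RingTheory.AdicCompletion.Basic
import Mathlib.RingTheory.Flat.Localization
import Mathlib.RingTheory.Ideal.AssociatedPrime.Finiteness

/-!
# Flatness of ideally separated modules, criteria with finitely many localizations
-/

namespace Groth.Agent.H47.FlatAdic

open TensorProduct
open Groth.Agent.Lib.LocalFlat.Basic

universe u v

variable {A : Type u} [CommRing A] {M : Type v} [AddCommGroup M] [Module A M]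

/-- base change of flatness along a tower -/
lemma flat_of_tower (S T : Type*) [CommRing S] [CommRing T] [Algebra A S] [Algebra A T]
    [Algebra S T] [IsScalarTower A S T] [Module.Flat S (S ⊗[A] M)] : Module.Flat T (T ⊗[A] M) :=
  Module.Flat.of_linearEquiv (AlgebraTensorModule.cancelBaseChange A S T T M).symm

lemma flat_cancel (S T : Type*) [CommRing S] [CommRing T] [Algebra A S] [Algebra A T]
    [Algebra S T] [IsScalarTower A S T] [Module.Flat T (T ⊗[A] M)] :
    Module.Flat T (T ⊗[S] (S ⊗[A] M)) :=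
  Module.Flat.of_linearEquiv (AlgebraTensorModule.cancelBaseChange A S T T M)

lemma flat_localization (p : Ideal A) [p.IsPrime]
    (h : Module.Flat (Localization.AtPrime p) (LocalizedModule p.primeCompl M)) :
    Module.Flat (Localization.AtPrime p) (Localization.AtPrime p ⊗[A] M) :=
  Module.Flat.of_linearEquiv (IsLocalizedModule.isBaseChange p.primeCompl (Localization.AtPrime p)
      (LocalizedModule.mkLinearMap p.primeCompl M)).equiv

lemma flat_localizedModule [Module.Flat A M] (p : Ideal A) [p.IsPrime] :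
    Module.Flat (Localization.AtPrime p) (LocalizedModule p.primeCompl M) :=
  Module.Flat.of_linearEquiv (IsLocalizedModule.isBaseChange p.primeCompl (Localization.AtPrime p)
      (LocalizedModule.mkLinearMap p.primeCompl M)).equiv.symm

theorem flat_quotient_of_localizations (J I : Ideal A) (hJI : ∃ m : ℕ, J ^ m ≤ I)
    [Module.Flat (A ⧸ J) ((A ⧸ J) ⊗[A] M)] {ι : Type*} [Finite ι]
    (p : ι → Ideal A) [∀ i, (p i).IsPrime]
    (hflat : ∀ i, Module.Flat (Localization.AtPrime (p i)) (LocalizedModule (p i).primeCompl M))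
    (hinj : ∀ a : A, (∀ i, algebraMap A (Localization.AtPrime (p i)) a ∈
      I.map (algebraMap A (Localization.AtPrime (p i)))) → a ∈ I) :
    Module.Flat (A ⧸ I) ((A ⧸ I) ⊗[A] M) := by
  obtain ⟨m, hm⟩ := hJI
  let B := fun i ↦ Localization.AtPrime (p i) ⧸ I.map (algebraMap A (Localization.AtPrime (p i)))
  let a0 : ∀ i, (A ⧸ I) →+* B i := fun i ↦ Ideal.quotientMap _ (algebraMap A _) Ideal.le_comap_map
  let inst : ∀ i, Algebra (A ⧸ I) (B i) := fun i ↦ (a0 i).toAlgebra
  have hT : ∀ i, IsScalarTower A (A ⧸ I) (B i) := fun i ↦ IsScalarTower.of_algebraMap_eq fun _ ↦ rfl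
  let J' : Ideal (A ⧸ I) := J.map (Ideal.Quotient.mk I)
  have hJ' : IsNilpotent J' := ⟨m, by
    rw [← Ideal.map_pow, Ideal.zero_eq_bot, Ideal.map_eq_bot_iff_le_ker, Ideal.mk_ker]; exact hm⟩
  let : Algebra (A ⧸ J) ((A ⧸ I) ⧸ J') :=
    (Ideal.Quotient.lift J ((Ideal.Quotient.mk J').comp (Ideal.Quotient.mk I)) fun a ha ↦
      Ideal.Quotient.eq_zero_iff_mem.2 (Ideal.mem_map_of_mem _ ha)).toAlgebra
  have : IsScalarTower A (A ⧸ J) ((A ⧸ I) ⧸ J') := IsScalarTower.of_algebraMap_eq fun _ ↦ rfl
  have := flat_of_tower (A := A) (M := M) (A ⧸ J) ((A ⧸ I) ⧸ J')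
  have := flat_cancel (A := A) (M := M) (A ⧸ I) ((A ⧸ I) ⧸ J')
  refine FlatFamily.flat_of_finite_family (B := B) hJ' (fun a ha ↦ ?_) fun i ↦ ?_
  · obtain ⟨a, rfl⟩ := Ideal.Quotient.mk_surjective a
    rw [Ideal.Quotient.eq_zero_iff_mem]
    exact hinj a fun i ↦ Ideal.Quotient.eq_zero_iff_mem.1 (ha i)
  · have := flat_localization (p i) (hflat i)
    have := flat_of_tower (A := A) (M := M) (Localization.AtPrime (p i)) (B i)
    exact flat_cancel (A := A) (M := M) (A ⧸ I) (B i)

theorem flat_of_hausdorff [IsNoetherianRing A] (J : Ideal A)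
    (hsep : ∀ a : Ideal A, IsHausdorff J (↥a ⊗[A] M))
    (h : ∀ n, Module.Flat (A ⧸ J ^ n) ((A ⧸ J ^ n) ⊗[A] M)) : Module.Flat A M := by
  rw [Module.Flat.iff_lTensor_injective]
  intro a _
  rw [injective_iff_map_eq_zero]
  intro x hx
  obtain ⟨k, hk⟩ := J.exists_pow_inf_eq_pow_smul (N := (a : Submodule A A))
  have key : ∀ d : ℕ, x ∈ J ^ d • (⊤ : Submodule A (M ⊗[A] ↥a)) := by
    intro d
    let P : Submodule A ↥a := Submodule.comap a.subtype (J ^ (k + d) : Ideal A)
    let f : (↥a ⧸ P) →ₗ[A] (A ⧸ J ^ (k + d)) := P.mapQ (J ^ (k + d)) a.subtype le_rfl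
    have hf : Function.Injective f := by
      rw [← LinearMap.ker_eq_bot, Submodule.ker_mapQ, Submodule.mkQ_map_self]
    have := h (k + d)
    have hfM := lTensor_injective_of_smul_eq_zero (I := J ^ (k + d)) (M := M) f hf (fun r hr z ↦ by
      obtain ⟨z, rfl⟩ := Ideal.Quotient.mk_surjective z
      rw [Algebra.smul_def, Ideal.Quotient.algebraMap_eq, ← map_mul, Ideal.Quotient.eq_zero_iff_mem]
      exact Ideal.mul_mem_right z _ hr)
    have h0 : P.mkQ.lTensor M x = 0 := by
      apply hfM
      rw [map_zero, ← LinearMap.comp_apply, ← LinearMap.lTensor_comp, Submodule.mapQ_mkQ,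
        LinearMap.lTensor_comp, LinearMap.comp_apply, hx, map_zero]
    obtain ⟨y, rfl⟩ := ((lTensor_exact (R := A) M (LinearMap.exact_subtype_mkQ P) P.mkQ_surjective) x).1 h0
    clear hx h0
    induction y using TensorProduct.induction_on with
    | zero => simp
    | add y z hy hz => rw [map_add]; exact add_mem hy hz
    | tmul m c =>
      rw [LinearMap.lTensor_tmul]
      have hc : (c.1 : A) ∈ J ^ d • (a : Submodule A A) := by
        have h1 : (c.1 : A) ∈ (J ^ (k + d) • (⊤ : Submodule A A)) ⊓ a :=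
          ⟨by rw [smul_eq_mul, Ideal.mul_top]; exact c.2, c.1.2⟩
        rw [hk (k + d) (by omega), Nat.add_sub_cancel_left] at h1
        exact Submodule.smul_mono le_rfl inf_le_right h1
      have hc' : (P.subtype c : ↥a) ∈ J ^ d • (⊤ : Submodule A ↥a) := by
        rw [Submodule.mem_smul_top_iff]; exact hc
      have : m ⊗ₜ[A] (P.subtype c) ∈ Submodule.map (TensorProduct.mk A M ↥a m) (J ^ d • ⊤) :=
        Submodule.mem_map_of_mem hc'
      rw [Submodule.map_smul''] at this
      exact Submodule.smul_mono le_rfl le_top this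
  have : TensorProduct.comm A M ↥a x = 0 := by
    refine (hsep a).haus' _ fun n ↦ ?_
    rw [SModEq.zero]
    have h1 : TensorProduct.comm A M ↥a x ∈ Submodule.map (TensorProduct.comm A M ↥a).toLinearMap
        (J ^ n • ⊤) := Submodule.mem_map_of_mem (key n)
    rw [Submodule.map_smul''] at h1
    exact Submodule.smul_mono le_rfl le_top h1
  exact (LinearEquiv.map_eq_zero_iff _).1 this

/-- An element of a flat module killed by elements outside every associated prime vanishes. -/
lemma eq_zero_of_forall_associatedPrimes {R : Type*} [CommRing R] [IsNoetherianRing R] {N : Type*}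
    [AddCommGroup N] [Module R N] [Module.Flat R N] (z : N)
    (h : ∀ q ∈ associatedPrimes R R, ∃ u ∉ q, u • z = 0) : z = 0 := by
  classical
  rcases subsingleton_or_nontrivial R with hR | hR
  · rw [← one_smul R z, Subsingleton.elim (1 : R) 0, zero_smul]
  let U : Ideal R := LinearMap.ker (LinearMap.toSpanSingleton R N z)
  have hfin := associatedPrimes.finite R R
  have hU : ¬ (U : Set R) ⊆ ⋃ q ∈ associatedPrimes R R, (q : Set R) := fun hs ↦ by
    obtain ⟨q, hq, hle⟩ := (Ideal.subset_union_prime_finite hfin (f := id) ⊥ ⊥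
      (fun i hi _ _ ↦ hi.isPrime)).1 hs
    obtain ⟨u, hu, huz⟩ := h q hq
    exact hu (hle (show u ∈ U from huz))
  obtain ⟨u, huU, hu⟩ := Set.not_subset.1 hU
  rw [biUnion_associatedPrimes_eq_zero_divisors] at hu
  simp only [smul_eq_mul, Set.mem_setOf_eq, not_exists, not_and] at hu
  have hreg : IsSMulRegular R u := IsSMulRegular.of_right_eq_zero_of_smul
    fun r hr ↦ by_contra fun hne ↦ hu r hne hr
  have hregN : IsSMulRegular N u := by
    have h1 := Module.Flat.lTensor_preserves_injective_linearMap (M := N) (LinearMap.mulLeft R u)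
      (fun a b e ↦ hreg (by simpa [smul_eq_mul] using e))
    intro a b hab
    apply (TensorProduct.rid R N).symm.injective
    apply h1
    simp only [TensorProduct.rid_symm_apply, LinearMap.lTensor_tmul, LinearMap.mulLeft_apply]
    rw [← smul_eq_mul, ← TensorProduct.smul_tmul, ← TensorProduct.smul_tmul, show u • a = u • b from hab]
  exact hregN.right_eq_zero_of_smul (show u • z = 0 from huU)

end Groth.Agent.H47.FlatAdic
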