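import Mathlib.RingTheory.Flat.EquationalCriterion
import Mathlib.RingTheory.Flat.Stability
import Mathlib.RingTheory.Flat.Localization
import Mathlib.LinearAlgebra.TensorProduct.Quotient
import Mathlib.RingTheory.TensorProduct.Free
import Mathlib.RingTheory.Nilpotent.Lemmas

/-!
# Lifting bases along nilpotent ideals, flatness and freeness
-/

namespace Groth.Agent.H47.NilpotentFree

open TensorProduct

universe u v w

variable {A : Type u} [CommRing A] {J : Ideal A}

lemma bot_of_le_smul (hJ : IsNilpotent J) {M : Type*} [AddCommGroup M] [Module A M]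
    (K : Submodule A M) (h : K ≤ J • K) : K = ⊥ := by
  obtain ⟨n, hn⟩ := hJ
  have : ∀ k : ℕ, K ≤ J ^ k • K := by
    intro k
    induction k with
    | zero => simp
    | succ k ih =>
      refine h.trans ?_
      rw [pow_succ', ← smul_eq_mul, Submodule.smul_assoc]
      exact Submodule.smul_mono le_rfl ih
  refine le_bot_iff.1 ((this n).trans ?_)
  rw [hn]; simp

lemma top_of_sup_smul (hJ : IsNilpotent J) {M : Type*} [AddCommGroup M] [Module A M]
    (S : Submodule A M) (h : S ⊔ J • (⊤ : Submodule A M) = ⊤) : S = ⊤ := by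
  obtain ⟨n, hn⟩ := hJ
  have : ∀ k : ℕ, S ⊔ J ^ k • (⊤ : Submodule A M) = ⊤ := by
    intro k
    induction k with
    | zero => simp
    | succ k ih =>
      refine top_le_iff.1 ?_
      calc (⊤ : Submodule A M) = S ⊔ J ^ k • (S ⊔ J • ⊤) := by rw [h, ih]
        _ ≤ S ⊔ J ^ (k + 1) • ⊤ := by
          rw [Submodule.smul_sup, pow_succ, ← smul_eq_mul (J ^ k), Submodule.smul_assoc]
          refine sup_le le_sup_left (sup_le ?_ le_sup_right)
          exact (Submodule.smul_le_right.trans le_sup_left)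
  have h2 := this n
  rw [hn] at h2
  simpa using h2

/-- A surjection from a free module onto a flat module which is injective modulo a nilpotent ideal
is injective. -/
lemma injective_of_flat {ι : Type*} {M : Type*} [AddCommGroup M] [Module A M] [Module.Flat A M]
    (hJ : IsNilpotent J) (e : (ι →₀ A) →ₗ[A] M) (he : Function.Surjective e)
    (hmod : ∀ x, e x = 0 → ∀ i, x i ∈ J) : Function.Injective e := by
  classical
  rw [← LinearMap.ker_eq_bot]
  refine bot_of_le_smul hJ _ fun x hx ↦ ?_
  rw [LinearMap.mem_ker] at hx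
  let incl : (↥x.support →₀ A) →ₗ[A] (ι →₀ A) :=
    Finsupp.linearCombination A (fun i ↦ Finsupp.single (i : ι) (1 : A))
  let f : ↥x.support →₀ A := ∑ i : ↥x.support, x i.1 • Finsupp.single i (1 : A)
  have hf : incl f = x := by
    simp only [f, incl, map_sum, map_smul, Finsupp.linearCombination_single, one_smul,
      Finsupp.smul_single, smul_eq_mul, mul_one]
    rw [Finset.sum_coe_sort x.support (fun i ↦ Finsupp.single i (x i))]
    exact x.sum_single
  obtain ⟨k, a, y, hya, haf⟩ := Module.Flat.exists_factorization_of_apply_eq_zero_of_free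
    (f := f) (x := e ∘ₗ incl) (by rw [LinearMap.comp_apply, hf, hx])
  choose z hz using fun j : Fin k ↦ he (y (Finsupp.single j 1))
  let Z : (Fin k →₀ A) →ₗ[A] (ι →₀ A) := Finsupp.linearCombination A z
  have hZ : e ∘ₗ Z = y := by
    ext j; simp [Z, hz]
  let d := incl - Z ∘ₗ a
  have hd : ∀ t, d t ∈ LinearMap.ker e := fun t ↦ by
    have h1 := LinearMap.congr_fun hya t
    have h2 := LinearMap.congr_fun hZ (a t)
    simp [d] at h1 h2 ⊢
    rw [h2, h1, sub_self]
  have hdf : d f = x := by simp [d, hf, haf]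
  rw [← hdf]
  simp only [f, map_sum, map_smul]
  exact Submodule.sum_mem _ fun i _ ↦ Submodule.smul_mem_smul (hmod x hx _) (hd _)

variable {M : Type w} [AddCommGroup M] [Module A M] {ι : Type v}

/-- The lift of a basis of the reduction. -/
noncomputable def liftMap (A : Type u) [CommRing A] {M : Type w} [AddCommGroup M] [Module A M] {ι : Type v}
    (v : ι → M) (B : Type*) [CommRing B] [Algebra A B] :
    (ι →₀ B) →ₗ[B] B ⊗[A] M :=
  Finsupp.linearCombination B (fun i ↦ (1 : B) ⊗ₜ[A] v i)

lemma exists_lift (b : Module.Basis ι (A ⧸ J) ((A ⧸ J) ⊗[A] M)) :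
    ∃ v : ι → M, ∀ i, (1 : A ⧸ J) ⊗ₜ[A] v i = b i := by
  choose v hv using fun i ↦ TensorProduct.mk_surjective A M (A ⧸ J) Ideal.Quotient.mk_surjective (b i)
  exact ⟨v, fun i ↦ hv i⟩

lemma surjective_linearCombination (hJ : IsNilpotent J)
    (b : Module.Basis ι (A ⧸ J) ((A ⧸ J) ⊗[A] M)) {v : ι → M}
    (hv : ∀ i, (1 : A ⧸ J) ⊗ₜ[A] v i = b i) :
    Function.Surjective (Finsupp.linearCombination A v) := by
  rw [← LinearMap.range_eq_top]
  refine top_of_sup_smul hJ _ (top_le_iff.1 fun m _ ↦ ?_)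
  obtain ⟨c, hc⟩ := Finsupp.mapRange_surjective (α := ι) (Ideal.Quotient.mk J) (map_zero _)
    Ideal.Quotient.mk_surjective (b.repr ((1 : A ⧸ J) ⊗ₜ[A] m))
  have h1 : (1 : A ⧸ J) ⊗ₜ[A] (Finsupp.linearCombination A v c) = (1 : A ⧸ J) ⊗ₜ[A] m := by
    conv_rhs => rw [← b.linearCombination_repr ((1 : A ⧸ J) ⊗ₜ[A] m), ← hc]
    rw [Finsupp.linearCombination_apply, Finsupp.linearCombination_apply,
      Finsupp.sum_mapRange_index (by simp)]
    simp only [Finsupp.sum, TensorProduct.tmul_sum, TensorProduct.tmul_smul, hv]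
    exact Finset.sum_congr rfl fun i _ ↦ (algebraMap_smul (A ⧸ J) (c i) (b i)).symm
  have h2 : m - Finsupp.linearCombination A v c ∈ J • (⊤ : Submodule A M) := by
    have h3 := congrArg (TensorProduct.quotTensorEquivQuotSMul M J) h1
    rw [← map_one (Ideal.Quotient.mk J), TensorProduct.quotTensorEquivQuotSMul_mk_tmul,
      TensorProduct.quotTensorEquivQuotSMul_mk_tmul, one_smul, one_smul] at h3
    exact (Submodule.Quotient.eq _).1 h3.symm
  exact Submodule.mem_sup.2 ⟨_, LinearMap.mem_range_self _ c, _, h2, by abel⟩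

lemma surjective_liftMap (hJ : IsNilpotent J)
    (b : Module.Basis ι (A ⧸ J) ((A ⧸ J) ⊗[A] M)) {v : ι → M}
    (hv : ∀ i, (1 : A ⧸ J) ⊗ₜ[A] v i = b i) (B : Type*) [CommRing B] [Algebra A B] :
    Function.Surjective (liftMap A v B) := by
  intro t
  induction t using TensorProduct.induction_on with
  | zero => exact ⟨0, map_zero _⟩
  | tmul x m =>
    obtain ⟨c, rfl⟩ := surjective_linearCombination hJ b hv m
    refine ⟨x • c.mapRange (algebraMap A B) (map_zero _), ?_⟩
    rw [map_smul, liftMap, Finsupp.linearCombination_apply, Finsupp.linearCombination_apply,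
      Finsupp.sum_mapRange_index (by simp), Finsupp.smul_sum]
    simp [Finsupp.sum, TensorProduct.tmul_sum, TensorProduct.smul_tmul', TensorProduct.tmul_smul,
      Algebra.smul_def, mul_comm]
  | add x y hx hy =>
    obtain ⟨a, rfl⟩ := hx
    obtain ⟨c, rfl⟩ := hy
    exact ⟨a + c, map_add _ _ _⟩

lemma injective_liftMap (hJ : IsNilpotent J)
    (b : Module.Basis ι (A ⧸ J) ((A ⧸ J) ⊗[A] M)) {v : ι → M}
    (hv : ∀ i, (1 : A ⧸ J) ⊗ₜ[A] v i = b i) (B : Type*) [CommRing B] [Algebra A B]
    [Module.Flat B (B ⊗[A] M)] :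
    Function.Injective (liftMap A v B) := by
  let JB : Ideal B := J.map (algebraMap A B)
  have hJB : IsNilpotent JB := by
    obtain ⟨n, hn⟩ := hJ
    exact ⟨n, by simp [JB, ← Ideal.map_pow, hn]⟩
  refine injective_of_flat hJB _ (surjective_liftMap hJ b hv B) fun x hx i ↦ ?_
  let red : (A ⧸ J) →ₐ[A] (B ⧸ JB) :=
    Ideal.Quotient.liftₐ J (Algebra.ofId A (B ⧸ JB)) fun a ha ↦ by
      rw [Algebra.ofId_apply, IsScalarTower.algebraMap_apply A B (B ⧸ JB)]
      exact Ideal.Quotient.eq_zero_iff_mem.2 (Ideal.mem_map_of_mem _ ha)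
  let ψ : M →ₗ[A] (B ⧸ JB) :=
    red.toLinearMap ∘ₗ (b.coord i).restrictScalars A ∘ₗ (TensorProduct.mk A (A ⧸ J) M 1)
  have key : ∀ y : ι →₀ B, (ψ.liftBaseChange B) (liftMap A v B y) = Ideal.Quotient.mk JB (y i) := by
    intro y
    induction y using Finsupp.induction_linear with
    | zero => simp
    | add p q hp hq => simp [hp, hq]
    | single j r =>
      classical
      simp [liftMap, ψ, hv, Finsupp.single_apply, Algebra.smul_def, apply_ite (Ideal.Quotient.mk JB),
        apply_ite red, Finsupp.single_apply]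
  rw [← Ideal.Quotient.eq_zero_iff_mem, ← key x, hx, map_zero]

/-- The ideal generated by the coefficients of the relations between lifted basis elements. -/
noncomputable def coeffIdeal (v : ι → M) : Ideal A :=
  Ideal.span {a | ∃ c, Finsupp.linearCombination A v c = 0 ∧ ∃ i, c i = a}

lemma coeffIdeal_map_eq_bot_of_flat (hJ : IsNilpotent J)
    (b : Module.Basis ι (A ⧸ J) ((A ⧸ J) ⊗[A] M)) {v : ι → M}
    (hv : ∀ i, (1 : A ⧸ J) ⊗ₜ[A] v i = b i) (B : Type*) [CommRing B] [Algebra A B]
    [Module.Flat B (B ⊗[A] M)] :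
    (coeffIdeal (A := A) v).map (algebraMap A B) = ⊥ := by
  rw [← le_bot_iff, coeffIdeal, Ideal.map_span, Ideal.span_le]
  rintro _ ⟨a, ⟨c, hc, i, rfl⟩, rfl⟩
  have h0 : liftMap A v B (c.mapRange (algebraMap A B) (map_zero _)) = 0 := by
    rw [liftMap, Finsupp.linearCombination_apply, Finsupp.sum_mapRange_index (by simp)]
    have : (1 : B) ⊗ₜ[A] Finsupp.linearCombination A v c = 0 := by rw [hc, tmul_zero]
    simpa [Finsupp.linearCombination_apply, Finsupp.sum, TensorProduct.tmul_sum,
      TensorProduct.tmul_smul, algebraMap_smul] using this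
  have := injective_liftMap hJ b hv B (h0.trans (map_zero _).symm)
  simpa using DFunLike.congr_fun this i

lemma bijective_liftMap_of_map_eq_bot (hJ : IsNilpotent J)
    (b : Module.Basis ι (A ⧸ J) ((A ⧸ J) ⊗[A] M)) {v : ι → M}
    (hv : ∀ i, (1 : A ⧸ J) ⊗ₜ[A] v i = b i) (B : Type*) [CommRing B] [Algebra A B]
    (hB : (coeffIdeal (A := A) v).map (algebraMap A B) = ⊥) :
    Function.Bijective (liftMap A v B) := by
  classical
  let e := Finsupp.linearCombination A v
  have he : Function.Surjective e := surjective_linearCombination hJ b hv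
  have hex := lTensor_exact (R := A) (N := ι →₀ A) (P := M) (g := e) (M := ↥(LinearMap.ker e)) (f := (LinearMap.ker e).subtype) B (LinearMap.exact_subtype_ker_map e) he
  refine ⟨?_, surjective_liftMap hJ b hv B⟩
  rw [injective_iff_map_eq_zero]
  intro x hx
  let φ := TensorProduct.finsuppScalarRight A B B ι
  have hcomm : ∀ z : B ⊗[A] (ι →₀ A), liftMap A v B (φ z) = e.lTensor B z := by
    intro z
    induction z using TensorProduct.induction_on with
    | zero => simp
    | add p q hp hq => simp [hp, hq]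
    | tmul r c =>
      induction c using Finsupp.induction_linear with
      | zero => simp
      | add p q hp hq => simp [TensorProduct.tmul_add, hp, hq]
      | single j a =>
        simp [φ, e, liftMap, TensorProduct.finsuppScalarRight_apply_tmul, TensorProduct.smul_tmul',
          TensorProduct.tmul_smul]
  obtain ⟨z, rfl⟩ := φ.surjective x
  rw [hcomm] at hx
  obtain ⟨w, rfl⟩ := (hex z).1 hx
  clear hx
  induction w using TensorProduct.induction_on with
  | zero => simp
  | add p q hp hq => simp [hp, hq]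
  | tmul r c =>
    ext i
    have hci : algebraMap A B ((c : ι →₀ A) i) = 0 := by
      rw [← Ideal.mem_bot, ← hB]
      exact Ideal.mem_map_of_mem _ (Ideal.subset_span ⟨c, c.2, i, rfl⟩)
    simp [φ, Algebra.smul_def, hci]

lemma free_iff_map_coeffIdeal_eq_bot (hJ : IsNilpotent J)
    (b : Module.Basis ι (A ⧸ J) ((A ⧸ J) ⊗[A] M)) {v : ι → M}
    (hv : ∀ i, (1 : A ⧸ J) ⊗ₜ[A] v i = b i) (B : Type*) [CommRing B] [Algebra A B] :
    (Module.Free B (B ⊗[A] M) ↔ (coeffIdeal (A := A) v).map (algebraMap A B) = ⊥) ∧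
      (Module.Flat B (B ⊗[A] M) ↔ (coeffIdeal (A := A) v).map (algebraMap A B) = ⊥) := by
  have key : (coeffIdeal (A := A) v).map (algebraMap A B) = ⊥ → Module.Free B (B ⊗[A] M) := fun h ↦
    Module.Free.of_equiv (LinearEquiv.ofBijective _ (bijective_liftMap_of_map_eq_bot hJ b hv B h))
  refine ⟨⟨fun _ ↦ coeffIdeal_map_eq_bot_of_flat hJ b hv B, key⟩,
    ⟨fun _ ↦ coeffIdeal_map_eq_bot_of_flat hJ b hv B, fun h ↦ ?_⟩⟩
  have := key h
  infer_instance

/-- A module free modulo a nilpotent ideal and flat over a separating family of algebras is free. -/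
lemma free_of_flat_family (hJ : IsNilpotent J) [Module.Free (A ⧸ J) ((A ⧸ J) ⊗[A] M)]
    {κ : Type*} (B : κ → Type*) [∀ i, CommRing (B i)] [∀ i, Algebra A (B i)]
    (hB : ∀ a : A, (∀ i, algebraMap A (B i) a = 0) → a = 0)
    (hflat : ∀ i, Module.Flat (B i) (B i ⊗[A] M)) : Module.Free A M := by
  let b := Module.Free.chooseBasis (A ⧸ J) ((A ⧸ J) ⊗[A] M)
  obtain ⟨v, hv⟩ := exists_lift b
  have h0 : coeffIdeal (A := A) v = ⊥ := le_bot_iff.1 fun a ha ↦ hB a fun i ↦ by
    have := hflat i
    rw [← Ideal.mem_bot, ← coeffIdeal_map_eq_bot_of_flat hJ b hv (B i)]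
    exact Ideal.mem_map_of_mem _ ha
  have := (free_iff_map_coeffIdeal_eq_bot hJ b hv A).1.2 (by rw [h0, Ideal.map_bot])
  exact Module.Free.of_equiv (TensorProduct.lid A M)

end Groth.Agent.H47.NilpotentFree
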