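import Groth.Agent.H47.FlatModel
import Groth.Agent.H47.NilpotentFree
import Mathlib.RingTheory.Localization.AtPrime.Basic

/-!
# A flat finitely presented module is free on a stratification; generic freeness
-/

set_option autoImplicit false

universe u

open TensorProduct

namespace Groth.Agent.H47.FlatFreeStrata

open FlatStage

variable {R₀ : Type u} [CommRing R₀] {n m : ℕ}
  (T₀ : Finset (Fin m → MvPolynomial (Fin n) R₀))
  (C : Type u) [CommRing C] [IsNoetherianRing C] [Algebra R₀ C]

/-- the stratum on which the flat module is free -/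
theorem exists_free_stratum (hflat : Module.Flat C (C ⊗[R₀] Pres T₀)) (I : Ideal C) (hI : I ≠ ⊤) :
    ∃ p ∈ I.minimalPrimes, ∃ f, f ∉ p ∧ ∀ (E : Type u) [CommRing E] [Algebra C E] [Algebra R₀ E]
      [IsScalarTower R₀ C E], I.map (algebraMap C E) = ⊥ → IsUnit (algebraMap C E f) →
        Module.Free E (E ⊗[R₀] Pres T₀) := by
  classical
  obtain ⟨p, hp⟩ := Ideal.nonempty_minimalPrimes hI
  have hpp : p.IsPrime := hp.1.1
  have hfin := Ideal.finite_minimalPrimes_of_isNoetherianRing C I
  obtain ⟨a, hap, haq⟩ : ∃ a, a ∉ p ∧ ∀ q ∈ I.minimalPrimes, q ≠ p → a ∈ q := by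
    let s := hfin.toFinset.erase p
    have hne : ¬ s.inf id ≤ p := fun h => by
      obtain ⟨q, hq, hqp⟩ := (Ideal.IsPrime.inf_le' hpp).1 h
      obtain ⟨hqne, hqm⟩ := Finset.mem_erase.1 hq
      rw [Set.Finite.mem_toFinset] at hqm
      exact hqne (le_antisymm hqp (hp.2 hqm.1 hqp))
    obtain ⟨a, ha, hap⟩ := SetLike.not_le_iff_exists.1 hne
    exact ⟨a, hap, fun q hq hqp =>
      (Finset.inf_le (f := id) (Finset.mem_erase.2 ⟨hqp, hfin.mem_toFinset.2 hq⟩)) ha⟩
  let Q := C ⧸ p
  obtain ⟨eq'⟩ := nonempty_model T₀ Q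
  obtain ⟨t, ht0, htfree⟩ := GenericFreeDomain.gf_of_finiteType (R := Q)
    (MvPolynomial (Fin n) Q) (Model T₀ Q)
  obtain ⟨t, rfl⟩ := Ideal.Quotient.mk_surjective t
  have htp : t ∉ p := fun h => ht0 (Ideal.Quotient.eq_zero_iff_mem.2 h)
  refine ⟨p, hp, a * t, fun h => (hpp.mem_or_mem h).elim hap htp, ?_⟩
  intro E _ _ _ _ hIE hu
  rw [map_mul] at hu
  obtain ⟨hua, hut⟩ := IsUnit.mul_iff.1 hu
  let J : Ideal E := p.map (algebraMap C E)
  have hJnil : IsNilpotent J := by
    obtain ⟨k, hk⟩ := Ideal.exists_radical_pow_le_of_fg I I.radical.fg_of_isNoetherianRing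
    refine ⟨k, le_bot_iff.1 ?_⟩
    have h1 : J ≤ I.radical.map (algebraMap C E) := by
      refine Ideal.map_le_iff_le_comap.2 fun x hx => ?_
      have h1 : a * x ∈ I.radical := by
        rw [← Ideal.sInf_minimalPrimes, Ideal.mem_sInf]
        intro q hq
        by_cases hqp : q = p
        · exact hqp ▸ p.mul_mem_left a hx
        · exact q.mul_mem_right x (haq q hq hqp)
      have h2 := Ideal.mem_map_of_mem (algebraMap C E) h1
      rw [map_mul] at h2
      exact (Ideal.unit_mul_mem_iff_mem _ hua).1 h2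
    refine (Ideal.pow_right_mono h1 k).trans ?_
    rw [← Ideal.map_pow, ← hIE]
    exact Ideal.map_mono hk
  let L := Localization.Away (Ideal.Quotient.mk p t)
  let φ : Q →+* E ⧸ J := Ideal.quotientMap J (algebraMap C E) Ideal.le_comap_map
  let : Algebra Q (E ⧸ J) := φ.toAlgebra
  have : IsScalarTower R₀ Q (E ⧸ J) := IsScalarTower.of_algebraMap_eq fun r =>
    congrArg (Ideal.Quotient.mk J) (IsScalarTower.algebraMap_apply R₀ C E r)
  let ψ : L →+* E ⧸ J := IsLocalization.Away.lift (Ideal.Quotient.mk p t) (g := algebraMap Q (E ⧸ J))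
    (hut.map (Ideal.Quotient.mk J))
  let : Algebra L (E ⧸ J) := ψ.toAlgebra
  have : IsScalarTower Q L (E ⧸ J) := IsScalarTower.of_algebraMap_eq fun r =>
    (IsLocalization.Away.lift_eq _ _ r).symm
  have h0 : Module.Free (E ⧸ J) ((E ⧸ J) ⊗[Q] Model T₀ Q) :=
    Module.Free.of_equiv (AlgebraTensorModule.cancelBaseChange Q L (E ⧸ J) (E ⧸ J) (Model T₀ Q))
  have h1 : Module.Free (E ⧸ J) ((E ⧸ J) ⊗[R₀] Pres T₀) :=
    Module.Free.of_equiv ((LinearEquiv.baseChange Q (E ⧸ J) _ _ eq').symm.trans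
      (AlgebraTensorModule.cancelBaseChange R₀ Q (E ⧸ J) (E ⧸ J) (Pres T₀)))
  let M := E ⊗[R₀] Pres T₀
  have h2 : Module.Free (E ⧸ J) ((E ⧸ J) ⊗[E] M) :=
    Module.Free.of_equiv (AlgebraTensorModule.cancelBaseChange R₀ E (E ⧸ J) (E ⧸ J) (Pres T₀)).symm
  have hM : Module.Flat E M := FlatAdic.flat_of_tower (A := R₀) C E
  exact NilpotentFree.free_of_flat_family hJnil (fun _ : PUnit.{1} => E)
    (fun a h => h PUnit.unit) (fun _ => Module.Flat.of_linearEquiv (TensorProduct.lid E M))

/-- the stratification -/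
theorem exists_stratification (hflat : Module.Flat C (C ⊗[R₀] Pres T₀)) (I : Ideal C) :
    ∃ l : List C, I ⊔ Ideal.span {x | x ∈ l} = ⊤ ∧
      ∀ (i : ℕ) (hi : i < l.length) (E : Type u) [CommRing E] [Algebra C E] [Algebra R₀ E]
        [IsScalarTower R₀ C E], (I ⊔ Ideal.span {x | x ∈ l.take i}).map (algebraMap C E) = ⊥ →
          IsUnit (algebraMap C E l[i]) → Module.Free E (E ⊗[R₀] Pres T₀) := by
  induction I using IsWellFounded.induction (α := Ideal C) (· > ·) with
  | ind I ih =>
  by_cases hI : I = ⊤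
  · exact ⟨[], by simp [hI], fun i hi => absurd hi (Nat.not_lt_zero i)⟩
  obtain ⟨p, hp, f, hfp, hf⟩ := exists_free_stratum T₀ C hflat I hI
  have hlt : I < I ⊔ Ideal.span {f} := lt_of_le_not_ge le_sup_left fun h => hfp
    (hp.1.2 (h (Ideal.mem_sup_right (Ideal.mem_span_singleton_self _))))
  obtain ⟨l, hl, hl'⟩ := ih _ hlt
  have hset : ∀ L : List C, {x | x ∈ f :: L} = insert f {x | x ∈ L} := fun L => by
    ext x; simp
  refine ⟨f :: l, ?_, ?_⟩
  · rw [hset, Ideal.span_insert, ← sup_assoc]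
    exact hl
  · rintro (_ | i) hi E _ _ _ _ hE hu
    · exact hf E (le_bot_iff.1 ((Ideal.map_mono le_sup_left).trans hE.le)) hu
    · refine hl' i (by simpa using hi) E ?_ (by simpa using hu)
      rw [← hE, List.take_succ_cons, hset, Ideal.span_insert, ← sup_assoc]

end Groth.Agent.H47.FlatFreeStrata

namespace Groth.Agent.H47.FlatFreeStrata

open FlatStage

/-- A flat module of finite presentation is free on the pieces of a stratification of the base. -/
theorem exists_free_strata {A B : Type u} [CommRing A] [CommRing B] [Algebra A B]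
    [Algebra.FinitePresentation A B] (M : Type u) [AddCommGroup M] [Module B M] [Module A M]
    [IsScalarTower A B M] [Module.FinitePresentation B M] [Module.Flat A M] :
    ∃ l : List A, Ideal.span {a | a ∈ l} = ⊤ ∧
      ∀ (i : ℕ) (hi : i < l.length) (E : Type u) [CommRing E] [Algebra A E],
        (Ideal.span {a | a ∈ l.take i}).map (algebraMap A E) = ⊥ →
          IsUnit (algebraMap A E l[i]) → Module.Free E (E ⊗[A] M) := by
  obtain ⟨R₀, hfg, n, m, T₀, ⟨e⟩⟩ := FlatModel.exists_model A B M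
  have : Algebra.FiniteType ℤ R₀ := R₀.fg_iff_finiteType.1 hfg
  have : IsNoetherianRing R₀ := Algebra.FiniteType.isNoetherianRing ℤ R₀
  have hA : Module.Flat A (A ⊗[R₀] Pres T₀) := Module.Flat.of_linearEquiv e
  obtain ⟨C, hC, hflat⟩ := FlatModel.exists_fg_subalgebra_flat T₀ A hA
  have : Algebra.FiniteType R₀ C := C.fg_iff_finiteType.1 hC
  have : IsNoetherianRing C := Algebra.FiniteType.isNoetherianRing R₀ C
  obtain ⟨l, hl, hl'⟩ := exists_stratification T₀ C hflat ⊥
  have hset : ∀ L : List C, algebraMap C A '' {x | x ∈ L} = {a | a ∈ L.map (algebraMap C A)} :=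
    fun L => by ext a; simp
  refine ⟨l.map (algebraMap C A), ?_, fun i hi E _ _ hE hu => ?_⟩
  · rw [← hset, ← Ideal.map_span]
    rw [bot_sup_eq] at hl
    rw [hl, Ideal.map_top]
  · have : IsScalarTower R₀ C E := inferInstance
    have hfree := hl' i (by simpa using hi) E (by
      rw [bot_sup_eq]
      show Ideal.map ((algebraMap A E).comp (algebraMap C A)) _ = ⊥
      rw [← Ideal.map_map, Ideal.map_span, hset, ← hE, List.map_take])
      (by rw [IsScalarTower.algebraMap_apply C A E]; simpa using hu)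
    exact Module.Free.of_equiv ((AlgebraTensorModule.cancelBaseChange R₀ A E E (Pres T₀)).symm.trans
      (LinearEquiv.baseChange A E _ _ e))

/-- Generic freeness at a unique minimal prime where the module is flat. -/
theorem exists_free_away {A B : Type u} [CommRing A] [CommRing B] [Algebra A B]
    [Algebra.FinitePresentation A B] (p : Ideal A) [p.IsPrime] (hp : minimalPrimes A = {p})
    (M : Type u) [AddCommGroup M] [Module B M] [Module A M] [IsScalarTower A B M]
    [Module.FinitePresentation B M]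
    (hflat : Module.Flat (Localization.AtPrime p) (LocalizedModule p.primeCompl M)) :
    ∃ t : A, t ∉ p ∧ Module.Free (Localization.Away t) (LocalizedModule (Submonoid.powers t) M) := by
  classical
  obtain ⟨R₀, hfg, n, m, T₀, ⟨e⟩⟩ := FlatModel.exists_model A B M
  have : Algebra.FiniteType ℤ R₀ := R₀.fg_iff_finiteType.1 hfg
  have : IsNoetherianRing R₀ := Algebra.FiniteType.isNoetherianRing ℤ R₀
  let Ap := Localization.AtPrime p
  have eq : ∀ (E : Type u) [CommRing E] [Algebra A E],
      Nonempty ((E ⊗[R₀] Pres T₀) ≃ₗ[E] (E ⊗[A] M)) := fun E _ _ =>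
    ⟨(AlgebraTensorModule.cancelBaseChange R₀ A E E (Pres T₀)).symm.trans
      (LinearEquiv.baseChange A E _ _ e)⟩
  have hA' : Module.Flat Ap (Ap ⊗[R₀] Pres T₀) := by
    have := FlatAdic.flat_localization (M := M) p hflat
    exact Module.Flat.of_linearEquiv (eq Ap).some
  obtain ⟨C, hC, hCflat⟩ := FlatModel.exists_fg_subalgebra_flat T₀ Ap hA'
  have : Algebra.FiniteType R₀ C := C.fg_iff_finiteType.1 hC
  have : IsNoetherianRing C := Algebra.FiniteType.isNoetherianRing R₀ C
  let q : Ideal C := (IsLocalRing.maximalIdeal Ap).comap C.val.toRingHom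
  have hqle : ∀ x ∈ q, IsNilpotent x := by
    intro x hx
    have h1 : (x : Ap) ∈ nilradical Ap := by
      rw [nilradical_eq_sInf, Ideal.mem_sInf]
      intro P (hP : P.IsPrime)
      have h2 : P.comap (algebraMap A Ap) ≤ p := by
        have := Ideal.comap_mono (f := algebraMap A Ap) (IsLocalRing.le_maximalIdeal hP.ne_top)
        exact this.trans (IsLocalization.AtPrime.under_maximalIdeal Ap p).le
      obtain ⟨P₀, hP₀, hle⟩ := Ideal.exists_minimalPrimes_le (bot_le : (⊥ : Ideal A) ≤ P.comap (algebraMap A Ap))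
      have : P₀ = p := by
        have h3 : P₀ ∈ minimalPrimes A := hP₀
        rwa [hp] at h3
      rw [this] at hle
      have h4 : P = IsLocalRing.maximalIdeal Ap := by
        rw [← IsLocalization.map_comap p.primeCompl Ap P]
        change Ideal.map (algebraMap A Ap) (P.comap (algebraMap A Ap)) = _
        rw [le_antisymm h2 hle, Localization.AtPrime.map_eq_maximalIdeal]
      rw [h4]; exact hx
    obtain ⟨k, hk⟩ := h1
    exact ⟨k, Subtype.ext (by simpa using hk)⟩
  have hqp : q.IsPrime := Ideal.IsPrime.comap _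
  obtain ⟨p', hp', f, hfp', hf⟩ := exists_free_stratum T₀ C hCflat ⊥ (by
    intro h
    exact hqp.ne_top (top_le_iff.1 (h ▸ bot_le)))
  have hfq : f ∉ q := fun h => hfp' (by
    obtain ⟨k, hk⟩ := hqle f h
    exact hp'.1.1.mem_of_pow_mem k (hk ▸ zero_mem _))
  -- the system of the localizations
  let ι : Type u := {t : A // t ∉ p}
  let : Preorder ι := Preorder.lift fun t => OrderDual.toDual (PrimeSpectrum.basicOpen t.1)
  let G : ι → Type u := fun t => Localization.Away t.1
  have hle : ∀ {s t : ι}, s ≤ t → IsUnit (algebraMap A (G t) s.1) := by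
    intro s t h
    obtain ⟨k, hk⟩ := (PrimeSpectrum.basicOpen_le_basicOpen_iff _ _).1 h
    obtain ⟨c, hc⟩ := Ideal.mem_span_singleton'.1 hk
    have hu : IsUnit (algebraMap A (G t) (t.1 ^ k)) := by
      rw [map_pow]; exact (IsLocalization.Away.algebraMap_isUnit t.1).pow k
    rw [← hc, map_mul] at hu
    exact (IsUnit.mul_iff.1 hu).2
  let g : ∀ s t, s ≤ t → G s →ₐ[A] G t := fun s t h =>
    ⟨IsLocalization.Away.lift s.1 (g := algebraMap A (G t)) (hle h),
      fun r => IsLocalization.Away.lift_eq _ _ r⟩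
  have hup : ∀ s : ι, IsUnit (algebraMap A Ap s.1) := fun s =>
    IsLocalization.map_units Ap (⟨s.1, s.2⟩ : p.primeCompl)
  let inst : ∀ s : ι, Algebra (G s) Ap := fun s =>
    (IsLocalization.Away.lift s.1 (g := algebraMap A Ap) (hup s)).toAlgebra
  have : ∀ s : ι, IsScalarTower A (G s) Ap := fun s => IsScalarTower.of_algebraMap_eq fun r =>
    (IsLocalization.Away.lift_eq _ _ r).symm
  have : ∀ s : ι, IsScalarTower R₀ (G s) Ap := fun s => IsScalarTower.of_algebraMap_eq fun r => by
    rw [IsScalarTower.algebraMap_apply R₀ A (G s), IsScalarTower.algebraMap_apply R₀ A Ap]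
    exact (IsLocalization.Away.lift_eq _ _ _).symm
  have hmul : ∀ s t : ι, s.1 * t.1 ∉ p := fun s t h =>
    ((inferInstance : p.IsPrime).mem_or_mem h).elim s.2 t.2
  have hmulle : ∀ (s : ι) (c : A) (h : s.1 * c ∉ p), s ≤ (⟨s.1 * c, h⟩ : ι) := fun s c h => by
    show PrimeSpectrum.basicOpen (s.1 * c) ≤ PrimeSpectrum.basicOpen s.1
    rw [PrimeSpectrum.basicOpen_mul]; exact inf_le_left
  have hcolim : FlatCA.IsDirectedColimitRing G
      (fun s t h => ((g s t h).restrictScalars R₀).toRingHom) Ap := by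
    refine ⟨⟨fun s t => ⟨⟨s.1 * t.1, hmul s t⟩, hmulle s _ _, ?_⟩⟩,
      ⟨⟨1, (Ideal.ne_top_iff_one p).1 (Ideal.IsPrime.ne_top')⟩⟩, fun s => ?_,
      fun r s t hrs hst => ?_, fun s t h => ?_, fun a => ?_, fun s x hx => ?_⟩
    · show PrimeSpectrum.basicOpen (s.1 * t.1) ≤ PrimeSpectrum.basicOpen t.1
      rw [PrimeSpectrum.basicOpen_mul]; exact inf_le_right
    · exact IsLocalization.ringHom_ext (Submonoid.powers s.1)
        (RingHom.ext fun r => (g s s le_rfl).commutes r)
    · exact IsLocalization.ringHom_ext (Submonoid.powers r.1) (RingHom.ext fun a => by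
        show g s t hst (g r s hrs (algebraMap A _ a)) = g r t (hrs.trans hst) (algebraMap A _ a)
        simp only [AlgHom.commutes])
    · exact IsLocalization.ringHom_ext (Submonoid.powers s.1) (RingHom.ext fun a => by
        show algebraMap (G t) Ap (g s t h (algebraMap A _ a)) = algebraMap (G s) Ap (algebraMap A _ a)
        rw [AlgHom.commutes, ← IsScalarTower.algebraMap_apply, ← IsScalarTower.algebraMap_apply])
    · obtain ⟨a, s, rfl⟩ := IsLocalization.exists_mk'_eq p.primeCompl a
      refine ⟨⟨s.1, s.2⟩, IsLocalization.mk' _ a (⟨s.1, 1, pow_one _⟩ : Submonoid.powers s.1), ?_⟩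
      rw [IsLocalization.eq_mk'_iff_mul_eq, IsScalarTower.algebraMap_apply A (G ⟨s.1, s.2⟩) Ap,
        IsScalarTower.algebraMap_apply A (G ⟨s.1, s.2⟩) Ap a, ← map_mul]
      exact congrArg _ (IsLocalization.mk'_spec _ a _)
    · obtain ⟨a, b, rfl⟩ := IsLocalization.exists_mk'_eq (Submonoid.powers s.1) x
      have h0 : algebraMap A Ap a = 0 := by
        rw [IsScalarTower.algebraMap_apply A (G s) Ap, ← IsLocalization.mk'_spec (G s) a b, map_mul,
          hx, zero_mul]
      obtain ⟨⟨c, hc⟩, hca⟩ := (IsLocalization.map_eq_zero_iff p.primeCompl Ap a).1 h0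
      refine ⟨⟨s.1 * c, hmul s ⟨c, hc⟩⟩, hmulle s c _, ?_⟩
      have hu : IsUnit (algebraMap A (G ⟨s.1 * c, hmul s ⟨c, hc⟩⟩) c) := by
        have := IsLocalization.Away.algebraMap_isUnit (S := G ⟨s.1 * c, hmul s ⟨c, hc⟩⟩) (s.1 * c)
        rw [map_mul] at this
        exact (IsUnit.mul_iff.1 this).2
      have ha0 : algebraMap A (G ⟨s.1 * c, hmul s ⟨c, hc⟩⟩) a = 0 := by
        apply hu.mul_right_eq_zero.1
        rw [← map_mul]
        exact (congrArg _ hca).trans (map_zero _)
      have h1 : g s ⟨s.1 * c, hmul s ⟨c, hc⟩⟩ (hmulle s c _) (IsLocalization.mk' (G s) a b) *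
          g s _ (hmulle s c _) (algebraMap A (G s) b) = 0 := by
        rw [← map_mul, IsLocalization.mk'_spec, AlgHom.commutes, ha0]
      exact (((IsLocalization.map_units (G s) b).map
        (g s ⟨s.1 * c, hmul s ⟨c, hc⟩⟩ (hmulle s c _)))).mul_left_eq_zero.1 h1
  obtain ⟨s, φ, hφ⟩ := FlatModel.exists_lift (R₀ := R₀) (fun s t h => (g s t h).restrictScalars R₀)
    Ap hcolim C hC
  obtain ⟨y, b, hy⟩ := IsLocalization.exists_mk'_eq (Submonoid.powers s.1) (φ f)
  have hyp : y ∉ p := by
    intro hyp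
    apply hfq
    show (f : Ap) ∈ IsLocalRing.maximalIdeal Ap
    rw [← hφ f, ← hy]
    have h1 : algebraMap A Ap y ∈ IsLocalRing.maximalIdeal Ap := by
      rw [← Localization.AtPrime.map_eq_maximalIdeal]
      exact Ideal.mem_map_of_mem _ hyp
    rw [IsScalarTower.algebraMap_apply A (G s) Ap, ← IsLocalization.mk'_spec (G s) y b, map_mul] at h1
    exact (Ideal.mul_unit_mem_iff_mem _
      ((IsLocalization.map_units (G s) b).map (algebraMap (G s) Ap))).1 h1
  refine ⟨s.1 * y, hmul s ⟨y, hyp⟩, ?_⟩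
  let E := G ⟨s.1 * y, hmul s ⟨y, hyp⟩⟩
  let σ := g s ⟨s.1 * y, hmul s ⟨y, hyp⟩⟩ (hmulle s y _)
  let : Algebra C E := (σ.toRingHom.comp φ.toRingHom).toAlgebra
  have : IsScalarTower R₀ C E := IsScalarTower.of_algebraMap_eq fun r => by
    show algebraMap R₀ E r = σ (φ (algebraMap R₀ C r))
    rw [φ.commutes, IsScalarTower.algebraMap_apply R₀ A (G s), σ.commutes,
      ← IsScalarTower.algebraMap_apply]
  have hfree : Module.Free E (E ⊗[R₀] Pres T₀) := hf E Ideal.map_bot (by
    show IsUnit (σ (φ f))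
    have h1 : IsUnit (σ (φ f * algebraMap A (G s) b)) := by
      rw [← hy, IsLocalization.mk'_spec, σ.commutes]
      have := IsLocalization.Away.algebraMap_isUnit (S := E) (s.1 * y)
      rw [map_mul] at this
      exact (IsUnit.mul_iff.1 this).2
    rw [map_mul] at h1
    exact (IsUnit.mul_iff.1 h1).1)
  have : Module.Free E (E ⊗[A] M) := Module.Free.of_equiv (eq E).some
  exact Module.Free.of_equiv (IsLocalizedModule.isBaseChange (Submonoid.powers (s.1 * y)) E
    (LocalizedModule.mkLinearMap (Submonoid.powers (s.1 * y)) M)).equiv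

end Groth.Agent.H47.FlatFreeStrata
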