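import Groth.Agent.H47.FlatFiniteInj

/-!
# Flatness descends along integral injective maps
-/

set_option autoImplicit false
set_option linter.style.haveILetI false

universe u

open TensorProduct

attribute [local instance] Algebra.TensorProduct.rightAlgebra

namespace Groth.Agent.H47.FlatIntegralInj

open Groth.Agent.H47.FlatLocusColim

variable {R₀ : Type u} [CommRing R₀] (A A' : Type u) [CommRing A] [CommRing A'] [Algebra R₀ A]
  [Algebra R₀ A'] [Algebra A A'] [IsScalarTower R₀ A A']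

/-- A finitely generated subalgebra of `A` and one of `A'`, integral over the first. -/
structure Pair where
  /-- the subalgebra of the base -/
  C : Subalgebra R₀ A
  /-- the subalgebra of the extension -/
  D : Subalgebra R₀ A'
  hC : C.FG
  hD : D.FG
  le : C.map (IsScalarTower.toAlgHom R₀ A A') ≤ D
  int : ∀ d ∈ D, IsIntegral C d

noncomputable instance : Preorder (Pair (R₀ := R₀) A A') :=
  Preorder.lift fun i => (i.C, i.D)

variable {A A'}

theorem isIntegral_mono {C C' : Subalgebra R₀ A} (h : C ≤ C') {d : A'} (hd : IsIntegral C d) :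
    IsIntegral C' d := by
  obtain ⟨f, hf, hfd⟩ := hd
  refine ⟨f.map (Subalgebra.inclusion h).toRingHom, hf.map _, ?_⟩
  rw [Polynomial.eval₂_map]
  exact hfd

theorem le_integralClosure {C : Subalgebra R₀ A} {D : Subalgebra R₀ A'}
    (h : ∀ d ∈ D, IsIntegral C d) : D ≤ (integralClosure C A').restrictScalars R₀ :=
  fun d hd => h d hd

theorem map_le_integralClosure (C : Subalgebra R₀ A) :
    C.map (IsScalarTower.toAlgHom R₀ A A') ≤ (integralClosure C A').restrictScalars R₀ := by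
  rintro _ ⟨c, hc, rfl⟩
  exact isIntegral_algebraMap (R := C) (x := (⟨c, hc⟩ : C))

theorem isDirected : IsDirected (Pair (R₀ := R₀) A A') (· ≤ ·) := by
  refine ⟨fun i j => ⟨⟨i.C ⊔ j.C, i.D ⊔ j.D, i.hC.sup j.hC, i.hD.sup j.hD, ?_, ?_⟩,
    ⟨le_sup_left, le_sup_left⟩, ⟨le_sup_right, le_sup_right⟩⟩⟩
  · rw [Algebra.map_sup]
    exact sup_le_sup i.le j.le
  · intro d hd
    exact (sup_le (le_integralClosure fun x hx => isIntegral_mono le_sup_left (i.int x hx))
      (le_integralClosure fun x hx => isIntegral_mono le_sup_right (j.int x hx)) :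
      i.D ⊔ j.D ≤ (integralClosure (i.C ⊔ j.C : Subalgebra R₀ A) A').restrictScalars R₀) hd

/-- Every element of the base occurs in a pair. -/
theorem exists_mem_C (a : A) : ∃ i : Pair (R₀ := R₀) A A', a ∈ i.C := by
  classical
  refine ⟨⟨Algebra.adjoin R₀ {a}, (Algebra.adjoin R₀ {a}).map (IsScalarTower.toAlgHom R₀ A A'),
    ⟨{a}, by simp⟩, (show (Algebra.adjoin R₀ {a}).FG from ⟨{a}, by simp⟩).map _, le_rfl,
    map_le_integralClosure _⟩, Algebra.subset_adjoin rfl⟩

/-- Every element of an integral extension occurs in a pair. -/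
theorem exists_mem_D [Algebra.IsIntegral A A'] (x : A') :
    ∃ i : Pair (R₀ := R₀) A A', x ∈ i.D := by
  classical
  obtain ⟨f, hf, hfx⟩ := Algebra.IsIntegral.isIntegral (R := A) x
  let C : Subalgebra R₀ A := Algebra.adjoin R₀ (f.coeffs : Set A)
  have hCfg : C.FG := ⟨f.coeffs, rfl⟩
  have hsub : (f.coeffs : Set A) ⊆ C.toSubring := Algebra.subset_adjoin
  have hint : IsIntegral C x :=
    ⟨f.toSubring C.toSubring hsub, (Polynomial.monic_toSubring f C.toSubring hsub).2 hf, by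
      have e : (f.toSubring C.toSubring hsub).map C.toSubring.subtype = f :=
        Polynomial.map_toSubring f C.toSubring hsub
      rw [← hfx]
      conv_rhs => rw [← e, Polynomial.eval₂_map]
      rfl⟩
  refine ⟨⟨C, C.map (IsScalarTower.toAlgHom R₀ A A') ⊔ Algebra.adjoin R₀ {x}, hCfg,
    (hCfg.map _).sup ⟨{x}, by simp⟩, le_sup_left, ?_⟩,
    (le_sup_right : Algebra.adjoin R₀ {x} ≤ _) (Algebra.subset_adjoin rfl)⟩
  intro d hd
  exact (sup_le (map_le_integralClosure C) (Algebra.adjoin_le (Set.singleton_subset_iff.2 hint)) :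
    C.map (IsScalarTower.toAlgHom R₀ A A') ⊔ Algebra.adjoin R₀ {x} ≤
      (integralClosure C A').restrictScalars R₀) hd

/-- Flatness at a prime is transported along isomorphisms. -/
theorem flat_of_algEquiv {D T₁ T₂ : Type u} [CommRing D] [CommRing T₁] [CommRing T₂] [Algebra D T₁]
    [Algebra D T₂] (e : T₁ ≃ₐ[D] T₂) (Q : PrimeSpectrum T₂)
    (h : Module.Flat D (LocalizedModule (Q.comap e.toRingEquiv.toRingHom).asIdeal.primeCompl T₁)) :
    Module.Flat D (LocalizedModule Q.asIdeal.primeCompl T₂) := by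
  letI : Algebra T₁ T₂ := e.toRingEquiv.toRingHom.toAlgebra
  haveI : IsScalarTower D T₁ T₂ :=
    IsScalarTower.of_algebraMap_eq fun d => (e.commutes d).symm
  haveI : Module.Flat T₁ T₂ := RingHom.Flat.of_bijective (f := e.toRingEquiv.toRingHom) e.bijective
  exact (Lib.FlatCA.LocalDescent.flatAt_iff (R := D) (Algebra.linearMap T₁ T₂)
    (IsBaseChange.linearMap T₁ T₂) Q.asIdeal).2 h

set_option maxHeartbeats 800000 in
/-- Flatness at the points of `D ⊗ B₀` gives flatness at those of `D ⊗ (C ⊗ B₀)`. -/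
theorem flat_tensor_tensor {R₀ C D : Type u} [CommRing R₀] [CommRing C] [CommRing D] [Algebra R₀ C]
    [Algebra R₀ D] [Algebra C D] [IsScalarTower R₀ C D] (B₀ : Type u) [CommRing B₀] [Algebra R₀ B₀]
    (q'' : PrimeSpectrum (D ⊗[C] (C ⊗[R₀] B₀)))
    (h : ∀ p : PrimeSpectrum (D ⊗[R₀] B₀),
      p.comap (stageMap (S₀ := B₀) (IsScalarTower.toAlgHom R₀ C D)).toRingHom =
        q''.comap (algebraMap (C ⊗[R₀] B₀) (D ⊗[C] (C ⊗[R₀] B₀))) →
      p.asIdeal.comap (algebraMap D (D ⊗[R₀] B₀)) =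
        q''.asIdeal.comap (algebraMap D (D ⊗[C] (C ⊗[R₀] B₀))) →
      Module.Flat D (LocalizedModule p.asIdeal.primeCompl (D ⊗[R₀] B₀))) :
    Module.Flat D (LocalizedModule q''.asIdeal.primeCompl (D ⊗[C] (C ⊗[R₀] B₀))) := by
  let τ := stageMap (S₀ := B₀) (IsScalarTower.toAlgHom R₀ C D)
  letI : Algebra (C ⊗[R₀] B₀) (D ⊗[R₀] B₀) := τ.toRingHom.toAlgebra
  haveI : IsScalarTower C (C ⊗[R₀] B₀) (D ⊗[R₀] B₀) :=
    IsScalarTower.of_algebraMap_eq (R := C) (S := C ⊗[R₀] B₀) (A := D ⊗[R₀] B₀) fun c => rfl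
  haveI : IsScalarTower B₀ (C ⊗[R₀] B₀) (D ⊗[R₀] B₀) :=
    IsScalarTower.of_algebraMap_eq (R := B₀) (S := C ⊗[R₀] B₀) (A := D ⊗[R₀] B₀) fun b => by
    show (1 : D) ⊗ₜ[R₀] b = τ ((1 : C) ⊗ₜ[R₀] b)
    simp [τ, stageMap]
  haveI : IsScalarTower R₀ (C ⊗[R₀] B₀) (D ⊗[R₀] B₀) :=
    IsScalarTower.of_algebraMap_eq (R := R₀) (S := C ⊗[R₀] B₀) (A := D ⊗[R₀] B₀) fun a =>
      (τ.commutes a).symm
  haveI : Algebra.IsPushout C D (C ⊗[R₀] B₀) (D ⊗[R₀] B₀) :=
    (Algebra.IsPushout.comp_iff R₀ C B₀ (C ⊗[R₀] B₀)).1 inferInstance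
  let e := Algebra.IsPushout.equiv C D (C ⊗[R₀] B₀) (D ⊗[R₀] B₀)
  refine flat_of_algEquiv e.symm q'' (h _ ?_ ?_)
  · refine PrimeSpectrum.ext (Ideal.ext fun z => ?_)
    have he : e.symm (τ z) = (1 : D) ⊗ₜ[C] z := by
      rw [AlgEquiv.symm_apply_eq, Algebra.IsPushout.equiv_tmul, map_one, one_mul]
      rfl
    show e.symm (τ z) ∈ q''.asIdeal ↔ _
    rw [he]
    rfl
  · refine Ideal.ext fun d => ?_
    show e.symm (algebraMap D (D ⊗[R₀] B₀) d) ∈ q''.asIdeal ↔ _
    rw [e.symm.commutes]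
    rfl

/-- The finite case, over a model. -/
theorem flat_of_stage {R₀ C D : Type u} [CommRing R₀] [CommRing C] [CommRing D] [Algebra R₀ C]
    [Algebra R₀ D] [Algebra C D] [IsScalarTower R₀ C D] [IsNoetherianRing C] [Module.Finite C D]
    (hinj : Function.Injective (algebraMap C D)) (B₀ : Type u) [CommRing B₀] [Algebra R₀ B₀]
    [Algebra.FiniteType R₀ B₀] (q : PrimeSpectrum (C ⊗[R₀] B₀))
    (h : ∀ p : PrimeSpectrum (D ⊗[R₀] B₀),
      p.comap (stageMap (S₀ := B₀) (IsScalarTower.toAlgHom R₀ C D)).toRingHom = q →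
      Module.Flat D (LocalizedModule p.asIdeal.primeCompl (D ⊗[R₀] B₀))) :
    Module.Flat C (LocalizedModule q.asIdeal.primeCompl (C ⊗[R₀] B₀)) :=
  FlatFiniteInj.flat_of_finite_injective hinj q fun q'' hq'' =>
    flat_tensor_tensor B₀ q'' fun p hp _ => h p (hp.trans hq'')

set_option maxHeartbeats 800000 in
/-- Flatness at a prime is detected after an integral injective extension of the base. -/
theorem flat_of_integral_injective [IsNoetherianRing R₀] [Algebra.IsIntegral A A']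
    (hinj : Function.Injective (algebraMap A A')) (B₀ : Type u) [CommRing B₀] [Algebra R₀ B₀]
    [Algebra.FinitePresentation R₀ B₀] (q : PrimeSpectrum (A ⊗[R₀] B₀))
    (h : ∀ q' : PrimeSpectrum (A' ⊗[R₀] B₀),
      q'.comap (stageMap (S₀ := B₀) (IsScalarTower.toAlgHom R₀ A A')).toRingHom = q →
      Module.Flat A' (LocalizedModule q'.asIdeal.primeCompl (A' ⊗[R₀] B₀))) :
    Module.Flat A (LocalizedModule q.asIdeal.primeCompl (A ⊗[R₀] B₀)) := by
  classical
  let ι := Pair (R₀ := R₀) A A'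
  let G : ι → Type u := fun i => i.D
  let g : ∀ i j : ι, i ≤ j → G i →ₐ[R₀] G j := fun i j hij => Subalgebra.inclusion hij.2
  let κ : ∀ i : ι, i.C →ₐ[R₀] G i := fun i =>
    ((IsScalarTower.toAlgHom R₀ A A').comp i.C.val).codRestrict i.D fun c => i.le ⟨c.1, c.2, rfl⟩
  have : IsDirected ι (· ≤ ·) := isDirected
  have hne : Nonempty ι := ⟨(exists_mem_C (R₀ := R₀) (A' := A') (0 : A)).choose⟩
  have hcolim : FlatCA.IsDirectedColimitRing G (fun i j h => (g i j h).toRingHom) A' :=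
    ⟨isDirected, hne, fun i => RingHom.ext fun x => rfl,
      fun i j k hij hjk => RingHom.ext fun x => rfl, fun i j hij => RingHom.ext fun x => rfl,
      fun a => (exists_mem_D a).elim fun i hi => ⟨i, ⟨a, hi⟩, rfl⟩,
      fun i x hx => ⟨i, le_rfl, Subtype.ext hx⟩⟩
  let πA : A ⊗[R₀] B₀ →ₐ[R₀] A' ⊗[R₀] B₀ := stageMap (IsScalarTower.toAlgHom R₀ A A')
  let σ : ∀ i : ι, i.C ⊗[R₀] B₀ →ₐ[R₀] A ⊗[R₀] B₀ := fun i => stageMap i.C.val
  let τ : ∀ i : ι, i.C ⊗[R₀] B₀ →ₐ[R₀] G i ⊗[R₀] B₀ := fun i => stageMap (κ i)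
  let qi : ∀ i : ι, PrimeSpectrum (i.C ⊗[R₀] B₀) := fun i => q.comap (σ i).toRingHom
  have hστ : ∀ i z, stageMap (S₀ := B₀) (IsScalarTower.toAlgHom R₀ (G i) A') (τ i z) = πA (σ i z) := by
    intro i z
    induction z using TensorProduct.induction_on with
    | zero => simp only [map_zero]
    | tmul a b => rfl
    | add a b ha hb => simp only [map_add, ha, hb]
  have hall : ∀ z : A ⊗[R₀] B₀, ∃ i, ∃ z', σ i z' = z := by
    intro z
    induction z using TensorProduct.induction_on with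
    | zero => exact hne.elim fun i => ⟨i, 0, map_zero _⟩
    | tmul a b =>
      obtain ⟨i, hi⟩ := exists_mem_C (R₀ := R₀) (A' := A') a
      exact ⟨i, (⟨a, hi⟩ : i.C) ⊗ₜ[R₀] b, rfl⟩
    | add a b ha hb =>
      obtain ⟨i, a', rfl⟩ := ha
      obtain ⟨j, b', rfl⟩ := hb
      obtain ⟨k, h1, h2⟩ := exists_ge_ge i j
      refine ⟨k, stageMap (Subalgebra.inclusion h1.1) a' + stageMap (Subalgebra.inclusion h2.1) b', ?_⟩
      rw [map_add]
      congr 1
      · clear b'
        induction a' using TensorProduct.induction_on with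
        | zero => simp only [map_zero]
        | tmul c b => rfl
        | add c d hc hd => simp only [map_add, hc, hd]
      · clear a'
        induction b' using TensorProduct.induction_on with
        | zero => simp only [map_zero]
        | tmul c b => rfl
        | add c d hc hd => simp only [map_add, hc, hd]
  have hmono : ∀ (i j : ι) (hij : i ≤ j) z, z ∈ (qi i).asIdeal ↔
      stageMap (S₀ := B₀) (Subalgebra.inclusion hij.1) z ∈ (qi j).asIdeal := by
    intro i j hij z
    show σ i z ∈ q.asIdeal ↔ σ j _ ∈ q.asIdeal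
    have : σ j (stageMap (S₀ := B₀) (Subalgebra.inclusion hij.1) z) = σ i z := by
      induction z using TensorProduct.induction_on with
      | zero => simp only [map_zero]
      | tmul a b => rfl
      | add a b ha hb => simp only [map_add, ha, hb]
    rw [this]
  have hgτ : ∀ (i j : ι) (hij : i ≤ j) z, stageMap (S₀ := B₀) (g i j hij) (τ i z) =
      τ j (stageMap (S₀ := B₀) (Subalgebra.inclusion hij.1) z) := by
    intro i j hij z
    induction z using TensorProduct.induction_on with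
    | zero => simp only [map_zero]
    | tmul a b => rfl
    | add a b ha hb => simp only [map_add, ha, hb]
  obtain ⟨i, hi⟩ := exists_stage_var (R := R₀) (S₀ := B₀) (M₀ := B₀) G g A' hcolim
    (fun i => (qi i).asIdeal.map (τ i))
    (fun i j hij => Ideal.map_le_iff_le_comap.2 fun z hz => by
      refine Ideal.mem_comap.2 (Ideal.mem_comap.2 ?_)
      change (stageMap (S₀ := B₀) (g i j hij)).toRingHom (τ i z) ∈ _
      rw [AlgHom.toRingHom_eq_coe, RingHom.coe_coe]
      rw [hgτ i j hij]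
      exact Ideal.mem_map_of_mem _ ((hmono i j hij z).1 hz))
    (fun i => (qi i).asIdeal.primeCompl.map (τ i))
    (fun i j hij => by
      rintro _ ⟨z, hz, rfl⟩
      exact ⟨_, fun hc => hz ((hmono i j hij z).2 hc), (hgτ i j hij z).symm⟩)
    (fun q' hW hJ => by
      refine (InjFlatBC.flat_localized_congr q'.asIdeal.primeCompl
        (AlgebraTensorModule.rid B₀ (A' ⊗[R₀] B₀) (A' ⊗[R₀] B₀))).2 (h q' ?_)
      refine PrimeSpectrum.ext (Ideal.ext fun z => ?_)
      show πA z ∈ q'.asIdeal ↔ z ∈ q.asIdeal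
      obtain ⟨i, z', rfl⟩ := hall z
      rw [← hστ]
      exact ⟨fun hz => by_contra fun hne => hW i _ ⟨z', hne, rfl⟩ hz,
        fun hz => hJ i _ (Ideal.mem_map_of_mem _ hz)⟩)
  -- descent at the Noetherian stage
  let C₁ := i.C
  haveI : Algebra.FiniteType R₀ C₁ := C₁.fg_iff_finiteType.1 i.hC
  haveI : Algebra.FiniteType R₀ (G i) := i.D.fg_iff_finiteType.1 i.hD
  haveI : IsNoetherianRing C₁ := Algebra.FiniteType.isNoetherianRing R₀ C₁
  letI : Algebra C₁ (G i) := (κ i).toRingHom.toAlgebra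
  haveI : IsScalarTower R₀ C₁ (G i) :=
    IsScalarTower.of_algebraMap_eq fun r => ((κ i).commutes r).symm
  haveI : Algebra.FiniteType C₁ (G i) := Algebra.FiniteType.of_restrictScalars_finiteType R₀ C₁ (G i)
  haveI : Algebra.IsIntegral C₁ (G i) := ⟨fun d => by
    obtain ⟨f, hf, hfd⟩ := i.int d.1 d.2
    refine ⟨f, hf, Subtype.val_injective ?_⟩
    rw [show ((Polynomial.eval₂ (algebraMap C₁ (G i)) d f : G i) : A') = i.D.val
      (Polynomial.eval₂ (algebraMap C₁ (G i)) d f) from rfl]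
    refine (Polynomial.hom_eval₂ f (algebraMap C₁ (G i)) i.D.val.toRingHom d).trans ?_
    exact hfd⟩
  haveI : Module.Finite C₁ (G i) := Algebra.IsIntegral.finite
  have hinj₁ : Function.Injective (algebraMap C₁ (G i)) := fun a b hab =>
    Subtype.ext (hinj (congrArg Subtype.val hab))
  have hN : Module.Flat C₁ (LocalizedModule (qi i).asIdeal.primeCompl (C₁ ⊗[R₀] B₀)) := by
    refine flat_of_stage hinj₁ B₀ (qi i) fun p hp => ?_
    have hp' : ∀ z, τ i z ∈ p.asIdeal ↔ z ∈ (qi i).asIdeal := fun z => by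
      rw [← hp]
      rfl
    exact (InjFlatBC.flat_localized_congr p.asIdeal.primeCompl
      (AlgebraTensorModule.rid B₀ (G i ⊗[R₀] B₀) (G i ⊗[R₀] B₀))).1
        (hi p (by rintro _ ⟨z, hz, rfl⟩ hc; exact hz ((hp' z).1 hc))
          (Ideal.map_le_iff_le_comap.2 fun z hz => (hp' z).2 hz))
  have := flat_stage (S₀ := B₀) B₀ i.C.val q ((InjFlatBC.flat_localized_congr _
    (AlgebraTensorModule.rid B₀ (C₁ ⊗[R₀] B₀) (C₁ ⊗[R₀] B₀))).2 hN)
  exact (InjFlatBC.flat_localized_congr q.asIdeal.primeCompl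
    (AlgebraTensorModule.rid B₀ (A ⊗[R₀] B₀) (A ⊗[R₀] B₀))).1 this

end Groth.Agent.H47.FlatIntegralInj
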