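import Groth.Agent.Lib.FlatFPSyzygy.Basic
import Mathlib.Algebra.Module.FinitePresentation
import Mathlib.RingTheory.FinitePresentation

/-!
# Kernels of surjections onto flat finitely presented modules are finitely presented
-/

set_option autoImplicit false

universe u

open Groth.Agent.Lib.Flat55.Relations

namespace Groth.Agent.H47.FlatKernel

set_option maxHeartbeats 800000 in
/-- Over a polynomial ring: the kernel of a surjection from a free module onto a flat finitely
presented module is finitely presented. -/
theorem fp_ker_of_free {R : Type u} [CommRing R] {n k : ℕ} {H : Type u} [AddCommGroup H]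
    [Module (MvPolynomial (Fin n) R) H] [Module R H] [IsScalarTower R (MvPolynomial (Fin n) R) H]
    [Module.Flat R H] [Module.FinitePresentation (MvPolynomial (Fin n) R) H]
    (π : (Fin k → MvPolynomial (Fin n) R) →ₗ[MvPolynomial (Fin n) R] H)
    (hπ : Function.Surjective π) :
    Module.FinitePresentation (MvPolynomial (Fin n) R) ↥(LinearMap.ker π) := by
  obtain ⟨l, g, hg⟩ := Submodule.fg_iff_exists_fin_generating_family.1
    (Module.FinitePresentation.fg_ker π hπ)
  let e : Quot g ≃ₗ[MvPolynomial (Fin n) R] H :=
    (Submodule.quotEquivOfEq _ _ hg).trans (π.quotKerEquivOfSurjective hπ)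
  have : Module.Flat R (Quot g) := Module.Flat.of_linearEquiv (e.restrictScalars R)
  have := Lib.FlatFPSyzygy.Basic.rel_finitePresentation g
  exact Module.finitePresentation_of_surjective
    (LinearEquiv.ofEq (rel g) _ hg).toLinearMap (LinearEquiv.ofEq (rel g) _ hg).surjective
    (by rw [LinearEquiv.ker]; exact Submodule.fg_bot)

set_option maxHeartbeats 800000 in
/-- The kernel of a surjection of finitely presented modules onto a flat one is finitely
presented. -/
theorem fp_ker {R S : Type u} [CommRing R] [CommRing S] [Algebra R S] [Algebra.FinitePresentation R S]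
    {G H : Type u} [AddCommGroup G] [Module S G] [AddCommGroup H] [Module S H] [Module R H]
    [IsScalarTower R S H] [Module.Flat R H] [Module.FinitePresentation S G]
    [Module.FinitePresentation S H] (p : G →ₗ[S] H) (hp : Function.Surjective p) :
    Module.FinitePresentation S ↥(LinearMap.ker p) := by
  obtain ⟨n, π, hπ, hker⟩ := Algebra.FinitePresentation.out (R := R) (A := S)
  let P := MvPolynomial (Fin n) R
  let : Algebra P S := π.toRingHom.toAlgebra
  have : Module.FinitePresentation P S :=
    Module.finitePresentation_of_surjective (Algebra.linearMap P S) hπ hker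
  let : Module P G := Module.compHom G π.toRingHom
  let : Module P H := Module.compHom H π.toRingHom
  have : IsScalarTower P S G := IsScalarTower.of_algebraMap_smul fun _ _ ↦ rfl
  have : IsScalarTower P S H := IsScalarTower.of_algebraMap_smul fun _ _ ↦ rfl
  have : IsScalarTower R P H := IsScalarTower.of_algebraMap_smul fun r h ↦ by
    show π (algebraMap R P r) • h = r • h
    rw [AlgHom.commutes, algebraMap_smul]
  have : Module.FinitePresentation P G := Module.FinitePresentation.trans (R := P) G S
  have : Module.FinitePresentation P H := Module.FinitePresentation.trans (R := P) H S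
  obtain ⟨k, c, hc⟩ := Module.Finite.exists_fin' P G
  let pP : G →ₗ[P] H := p.restrictScalars P
  have hW := fp_ker_of_free (pP ∘ₗ c) (hp.comp hc)
  let φ : ↥(LinearMap.ker (pP ∘ₗ c)) →ₗ[P] ↥(LinearMap.ker pP) := c.restrict fun x hx ↦ hx
  have hφ : Function.Surjective φ := fun y ↦ by
    obtain ⟨x, hx⟩ := hc y.1
    exact ⟨⟨x, show pP (c x) = 0 by rw [hx]; exact y.2⟩, Subtype.ext hx⟩
  have hφk : (LinearMap.ker φ).FG := by
    have h := Module.FinitePresentation.fg_ker c hc
    refine Submodule.fg_of_fg_map_injective (LinearMap.ker (pP ∘ₗ c)).subtype Subtype.val_injective ?_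
    have e : (LinearMap.ker φ).map (LinearMap.ker (pP ∘ₗ c)).subtype = LinearMap.ker c := by
      ext x
      constructor
      · rintro ⟨y, hy, rfl⟩
        exact congrArg Subtype.val hy
      · intro hx
        exact ⟨⟨x, show pP (c x) = 0 by rw [show c x = 0 from hx, map_zero]⟩, Subtype.ext hx, rfl⟩
    rw [e]
    exact h
  have hK : Module.FinitePresentation P ↥(LinearMap.ker pP) :=
    Module.finitePresentation_of_surjective φ hφ hφk
  -- base change to `S`
  let ι : ↥(LinearMap.ker pP) →ₗ[P] ↥(LinearMap.ker p) :=
    { toFun := fun x ↦ ⟨x.1, x.2⟩, map_add' := fun _ _ ↦ rfl, map_smul' := fun _ _ ↦ rfl }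
  refine FinitePresentation.of_isBaseChange (A := S) ι ?_
  refine IsBaseChange.of_lift_unique _ fun Q _ _ _ _ g ↦
    ⟨{ toFun := fun x ↦ g ⟨x.1, x.2⟩
       map_add' := fun a b ↦ map_add g (⟨a.1, a.2⟩ : ↥(LinearMap.ker pP)) ⟨b.1, b.2⟩
       map_smul' := fun s x ↦ ?_ }, LinearMap.ext fun x ↦ rfl,
     fun g' hg' ↦ LinearMap.ext fun x ↦ LinearMap.congr_fun hg' ⟨x.1, x.2⟩⟩
  obtain ⟨r, rfl⟩ := hπ s
  show g ⟨π r • x.1, _⟩ = π r • g ⟨x.1, x.2⟩
  refine Eq.trans ?_ (algebraMap_smul S r (g ⟨x.1, x.2⟩)).symm
  rw [← map_smul]
  rfl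

end Groth.Agent.H47.FlatKernel
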