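import Groth.Agent.Lib.LocalFlat.Criterion
import Mathlib.RingTheory.Flat.Localization
import Mathlib.RingTheory.Localization.Submodule
import Mathlib.RingTheory.Localization.Finiteness
import Mathlib.LinearAlgebra.DirectSum.Finsupp

/-!
# Tools for descending flatness along directed colimits of rings
-/

set_option autoImplicit false

universe u

open TensorProduct

namespace Groth.Agent.H47.FlatTransfer

section colim

variable {R : Type u} [CommRing R] {M : Type u} [AddCommGroup M] [Module R M]
  {ι : Type u} [Preorder ι] [IsDirectedOrder ι] {V : ι → Type u} [∀ i, AddCommGroup (V i)]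
  [∀ i, Module R (V i)] {W : Type u} [AddCommGroup W] [Module R W]
  (t : ∀ i j, i ≤ j → V i →ₗ[R] V j) (p : ∀ i, V i →ₗ[R] W)

/-- Tensor products commute with directed colimits: vanishing happens at a finite stage. -/
theorem exists_kill (ht : ∀ i j k (hij : i ≤ j) (hjk : j ≤ k), (t j k hjk).comp (t i j hij) = t i k (hij.trans hjk))
    (hp : ∀ i j (h : i ≤ j), (p j).comp (t i j h) = p i)
    (hsurj : ∀ w, ∃ i v, p i v = w)
    (hkill : ∀ i v, p i v = 0 → ∃ j, ∃ h : i ≤ j, t i j h v = 0)
    {i : ι} (x : M ⊗[R] V i) (hx : (p i).lTensor M x = 0) :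
    ∃ j, ∃ h : i ≤ j, (t i j h).lTensor M x = 0 := by
  classical
  have : Nonempty ι := ⟨i⟩
  let π : (M →₀ R) →ₗ[R] M := Finsupp.linearCombination R id
  have hπ : Function.Surjective π := Finsupp.linearCombination_id_surjective R M
  obtain ⟨y, rfl⟩ := LinearMap.rTensor_surjective (V i) hπ x
  have h0 : π.rTensor W ((p i).lTensor (M →₀ R) y) = 0 := by
    rw [← hx, ← LinearMap.comp_apply, LinearMap.rTensor_comp_lTensor, ← LinearMap.lTensor_comp_rTensor]
    rfl
  have hex : Function.Exact (LinearMap.ker π).subtype π := LinearMap.exact_subtype_ker_map π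
  obtain ⟨l, hl⟩ := (rTensor_exact (R := R) (M := ↥(LinearMap.ker π)) (N := M →₀ R) (P := M) W hex hπ _).1 h0
  -- the element of the kernel comes from a stage
  have key : ∀ l : ↥(LinearMap.ker π) ⊗[R] W,
      ∃ j, ∃ l' : ↥(LinearMap.ker π) ⊗[R] V j, (p j).lTensor _ l' = l := by
    intro l
    induction l using TensorProduct.induction_on with
    | zero => exact ⟨i, 0, map_zero _⟩
    | tmul a w =>
      obtain ⟨j, v, rfl⟩ := hsurj w
      exact ⟨j, a ⊗ₜ v, rfl⟩
    | add a b ha hb =>
      obtain ⟨ja, a', rfl⟩ := ha
      obtain ⟨jb, b', rfl⟩ := hb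
      obtain ⟨j, h1, h2⟩ := exists_ge_ge ja jb
      refine ⟨j, (t ja j h1).lTensor _ a' + (t jb j h2).lTensor _ b', ?_⟩
      rw [map_add, ← LinearMap.comp_apply, ← LinearMap.comp_apply (f := (p j).lTensor _),
        ← LinearMap.lTensor_comp, ← LinearMap.lTensor_comp, hp, hp]
  obtain ⟨j₁, l', hl'⟩ := key l
  obtain ⟨j₂, hij, hj₁⟩ := exists_ge_ge i j₁
  let d := (t i j₂ hij).lTensor (M →₀ R) y -
    (LinearMap.ker π).subtype.rTensor _ ((t j₁ j₂ hj₁).lTensor _ l')
  have hd : (p j₂).lTensor (M →₀ R) d = 0 := by
    rw [map_sub, ← LinearMap.comp_apply, ← LinearMap.lTensor_comp, hp, sub_eq_zero]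
    rw [← LinearMap.comp_apply (f := (p j₂).lTensor _), LinearMap.lTensor_comp_rTensor,
      ← LinearMap.rTensor_comp_lTensor, LinearMap.comp_apply,
      ← LinearMap.comp_apply (f := (p j₂).lTensor _), ← LinearMap.lTensor_comp, hp, hl', hl]
  -- coordinates
  let e := fun k => TensorProduct.finsuppScalarLeft R (V k) M
  let eW := TensorProduct.finsuppScalarLeft R W M
  have hcoord : ∀ m, p j₂ (e j₂ d m) = 0 := by
    intro m
    have h1 : ∀ z, p j₂ (e j₂ z m) = eW ((p j₂).lTensor _ z) m := by
      intro z
      induction z using TensorProduct.induction_on with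
      | zero => simp
      | tmul f v => simp [e, eW]
      | add a b ha hb => simp [ha, hb]
    rw [h1, hd]
    simp
  choose J hJ hJ0 using fun m => hkill j₂ _ (hcoord m)
  obtain ⟨j, hj⟩ := Finset.exists_le (insert j₂ ((e j₂ d).support.image J))
  have hj₂ : j₂ ≤ j := hj _ (Finset.mem_insert_self _ _)
  have hz : (t j₂ j hj₂).lTensor (M →₀ R) d = 0 := by
    apply (e j).injective
    rw [map_zero]
    ext m
    have h1 : ∀ z, e j ((t j₂ j hj₂).lTensor _ z) m = t j₂ j hj₂ (e j₂ z m) := by
      intro z
      induction z using TensorProduct.induction_on with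
      | zero => simp
      | tmul f v => simp [e]
      | add a b ha hb => simp [ha, hb]
    rw [h1, Finsupp.zero_apply]
    by_cases hm : e j₂ d m = 0
    · rw [hm, map_zero]
    · have hJj : J m ≤ j := hj _ (Finset.mem_insert_of_mem
        (Finset.mem_image_of_mem _ (Finsupp.mem_support_iff.2 hm)))
      rw [← ht j₂ (J m) j (hJ m) hJj, LinearMap.comp_apply, hJ0 m, map_zero]
  refine ⟨j, hij.trans hj₂, ?_⟩
  have := congrArg (π.rTensor (V j)) hz
  rw [map_zero, map_sub, map_sub, sub_eq_zero] at this
  rw [← ht i j₂ j hij hj₂, LinearMap.lTensor_comp, LinearMap.comp_apply]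
  have hnat : ∀ (a b : ι) (h : a ≤ b) (z : (M →₀ R) ⊗[R] V a),
      (t a b h).lTensor M (π.rTensor (V a) z) = π.rTensor (V b) ((t a b h).lTensor _ z) := by
    intro a b h z
    rw [← LinearMap.comp_apply, LinearMap.lTensor_comp_rTensor, ← LinearMap.rTensor_comp_lTensor]
    rfl
  rw [hnat, hnat, this, ← LinearMap.comp_apply (f := (t j₂ j hj₂).lTensor _),
    LinearMap.lTensor_comp_rTensor, ← LinearMap.rTensor_comp_lTensor, LinearMap.comp_apply,
    ← LinearMap.comp_apply (f := π.rTensor (V j)), ← LinearMap.rTensor_comp,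
    LinearMap.comp_ker_subtype, LinearMap.rTensor_zero, LinearMap.zero_apply]

end colim

/-- Injectivity after tensoring with a base changed module. -/
theorem injective_lTensor_baseChange_iff {R : Type u} [CommRing R] {A : Type u} [CommRing A]
    [Algebra R A] (M : Type u) [AddCommGroup M] [Module R M]
    {N N' : Type u} [AddCommGroup N] [Module R N] [Module A N] [IsScalarTower R A N]
    [AddCommGroup N'] [Module R N'] [Module A N'] [IsScalarTower R A N'] (f : N →ₗ[A] N') :
    Function.Injective (f.lTensor (A ⊗[R] M)) ↔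
      Function.Injective ((f.restrictScalars R).lTensor M) := by
  let c := (TensorProduct.comm A (A ⊗[R] M) N).trans
    (TensorProduct.AlgebraTensorModule.cancelBaseChange R A A N M)
  let c' := (TensorProduct.comm A (A ⊗[R] M) N').trans
    (TensorProduct.AlgebraTensorModule.cancelBaseChange R A A N' M)
  have key : ((f.restrictScalars R).rTensor M) ∘ c = c' ∘ f.lTensor (A ⊗[R] M) := by
    funext x
    induction x using TensorProduct.induction_on with
    | zero => simp
    | add x y hx hy => simp only [Function.comp_apply, map_add] at *; rw [hx, hy]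
    | tmul am n =>
      induction am using TensorProduct.induction_on with
      | zero => simp
      | tmul a m => simp [c, c']
      | add x y hx hy =>
        simp only [Function.comp_apply, add_tmul, map_add] at *; rw [hx, hy]
  have h1 : Function.Injective ((f.restrictScalars R).lTensor M) ↔
      Function.Injective ((f.restrictScalars R).rTensor M) := by
    rw [← LinearMap.comm_comp_rTensor_comp_comm_eq]
    simp
  rw [h1, ← Function.Injective.of_comp_iff c'.injective, ← key]
  exact Function.Injective.of_comp_iff' _ c.bijective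

section kernel

set_option maxHeartbeats 1000000

variable {R : Type u} [CommRing R] {R' : Type u} [CommRing R'] [Algebra R R']
  {M : Type u} [AddCommGroup M] [Module R M] (J : Ideal R)

/-- the map from an ideal to its extension -/
def toExt : ↥J →ₗ[R] ↥((J.map (algebraMap R R')).restrictScalars R) :=
  LinearMap.codRestrict _ ((Algebra.linearMap R R').comp J.subtype)
    fun a => Ideal.mem_map_of_mem _ a.2

/-- If `M / J M` is flat over `R / J` and the kernel of `M ⊗ J → M` dies in `M ⊗ J R'`, then
`M ⊗ J R' → M ⊗ R'` is injective. -/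
theorem injective_of_kills [Module.Flat (R ⧸ J) ((R ⧸ J) ⊗[R] M)]
    (h : ∀ k, J.subtype.lTensor M k = 0 → (toExt (R' := R') J).lTensor M k = 0) :
    Function.Injective (((J.map (algebraMap R R')).restrictScalars R).subtype.lTensor M) := by
  classical
  let J' := (J.map (algebraMap R R')).restrictScalars R
  obtain ⟨G, iG1, iG2, iG3, π, hπ⟩ : ∃ (G : Type u) (_ : AddCommGroup G) (_ : Module R G)
      (_ : Module.Flat R G) (π : G →ₗ[R] R'), Function.Surjective π :=
    ⟨R' →₀ R, inferInstance, inferInstance, inferInstance, Finsupp.linearCombination R id,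
      Finsupp.linearCombination_id_surjective R R'⟩
  let H := LinearMap.ker π
  let μ : ↥J ⊗[R] G →ₗ[R] G := (TensorProduct.lid R G).toLinearMap.comp (J.subtype.rTensor G)
  have hθm : ∀ z, π (μ z) ∈ J' := by
    intro z
    induction z using TensorProduct.induction_on with
    | zero => simp
    | tmul a g =>
      show π ((a : R) • g) ∈ J'
      rw [map_smul, Algebra.smul_def]
      exact Ideal.mul_mem_right _ _ (Ideal.mem_map_of_mem _ a.2)
    | add a b ha hb => rw [map_add, map_add]; exact add_mem ha hb
  let θ : ↥J ⊗[R] G →ₗ[R] ↥J' := (π.comp μ).codRestrict J' hθm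
  have hθ : Function.Surjective θ := by
    rintro ⟨v, hv⟩
    suffices ∃ z, π (μ z) = v by
      obtain ⟨z, hz⟩ := this
      exact ⟨z, Subtype.ext hz⟩
    have hv' : v ∈ Submodule.span R' (algebraMap R R' '' J) := hv
    clear hv
    induction hv' using Submodule.span_induction with
    | mem v hv =>
      obtain ⟨a, ha, rfl⟩ := hv
      obtain ⟨g, hg⟩ := hπ 1
      exact ⟨⟨a, ha⟩ ⊗ₜ g, by simp [μ, hg, Algebra.smul_def]⟩
    | zero => exact ⟨0, by simp⟩
    | add a b _ _ ha hb =>
      obtain ⟨x, rfl⟩ := ha
      obtain ⟨y, rfl⟩ := hb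
      exact ⟨x + y, by simp⟩
    | smul c a _ ha =>
      obtain ⟨x, rfl⟩ := ha
      clear * - hπ
      induction x using TensorProduct.induction_on with
      | zero => exact ⟨0, by simp⟩
      | tmul a g =>
        obtain ⟨g', hg'⟩ := hπ (c * π g)
        exact ⟨a ⊗ₜ g', by simp [μ, hg']⟩
      | add a b ha hb =>
        obtain ⟨x, hx⟩ := ha
        obtain ⟨y, hy⟩ := hb
        exact ⟨x + y, by simp [hx, hy, mul_add]⟩
  rw [injective_iff_map_eq_zero]
  intro x hx
  obtain ⟨z, rfl⟩ := LinearMap.lTensor_surjective M hθ x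
  have hz0 : π.lTensor M (μ.lTensor M z) = 0 := by
    rw [← hx, ← LinearMap.comp_apply, ← LinearMap.lTensor_comp, ← LinearMap.comp_apply
      (f := J'.subtype.lTensor M), ← LinearMap.lTensor_comp]
    rfl
  have hex : Function.Exact (LinearMap.ker π).subtype π := LinearMap.exact_subtype_ker_map π
  obtain ⟨hh, hhz⟩ := (lTensor_exact (R := R) (M := ↥(LinearMap.ker π)) (N := G) (P := R') M hex hπ _).1 hz0
  -- modulo `J G`
  let W : Submodule R (↥J ⊗[R] G) := Submodule.comap μ H
  let ν : ↥W →ₗ[R] ↥H := μ.restrict fun w hw => hw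
  let q : ↥H →ₗ[R] G ⧸ LinearMap.range μ := (LinearMap.range μ).mkQ.comp H.subtype
  have hνq : Function.Exact ν q.rangeRestrict := by
    intro y
    constructor
    · intro hy
      obtain ⟨w, hw⟩ : (y : G) ∈ LinearMap.range μ := by
        simpa [q] using congrArg Subtype.val hy
      exact ⟨⟨w, show μ w ∈ H from hw ▸ y.2⟩, Subtype.ext hw⟩
    · rintro ⟨w, rfl⟩
      refine Subtype.ext ?_
      simp [q, ν]
  have hq0 : q.rangeRestrict.lTensor M hh = 0 := by
    have hinj := Groth.Agent.Lib.LocalFlat.Basic.lTensor_injective_of_smul_eq_zero (I := J) (M := M)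
      (LinearMap.range q).subtype (Submodule.injective_subtype _) (fun r hr y => by
        obtain ⟨y, rfl⟩ := Submodule.mkQ_surjective _ y
        rw [← map_smul, Submodule.mkQ_apply, Submodule.Quotient.mk_eq_zero]
        exact ⟨⟨r, hr⟩ ⊗ₜ y, by simp [μ]⟩)
    apply hinj
    rw [map_zero, ← LinearMap.comp_apply, ← LinearMap.lTensor_comp,
      show (LinearMap.range q).subtype.comp q.rangeRestrict = q from rfl, LinearMap.lTensor_comp,
      LinearMap.comp_apply, hhz, ← LinearMap.comp_apply, ← LinearMap.lTensor_comp,
      LinearMap.range_mkQ_comp, LinearMap.lTensor_zero, LinearMap.zero_apply]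
  obtain ⟨w, rfl⟩ := (lTensor_exact (R := R) (M := ↥W) (N := ↥H) (P := ↥(LinearMap.range q)) M hνq q.surjective_rangeRestrict _).1 hq0
  let w' := W.subtype.lTensor M w
  have hw' : θ.lTensor M w' = 0 := by
    rw [← LinearMap.comp_apply, ← LinearMap.lTensor_comp,
      show θ.comp W.subtype = 0 from LinearMap.ext fun a => Subtype.ext a.2, LinearMap.lTensor_zero,
      LinearMap.zero_apply]
  have hd : μ.lTensor M (z - w') = 0 := by
    rw [map_sub, sub_eq_zero, ← hhz, ← LinearMap.comp_apply, ← LinearMap.lTensor_comp,
      ← LinearMap.comp_apply (f := μ.lTensor M), ← LinearMap.lTensor_comp]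
    rfl
  -- the kernel of `M ⊗ J ⊗ G → M ⊗ G`
  let a := TensorProduct.assoc R M ↥J G
  have hd' : (J.subtype.lTensor M).rTensor G (a.symm (z - w')) = 0 := by
    apply ((TensorProduct.assoc R M R G).trans
      (LinearEquiv.lTensor M (TensorProduct.lid R G))).injective
    rw [map_zero, ← hd]
    generalize z - w' = d
    induction d using TensorProduct.induction_on with
    | zero => simp
    | tmul m v =>
      induction v using TensorProduct.induction_on with
      | zero => simp
      | tmul b g => simp [a, μ]
      | add v₁ v₂ h1 h2 => simp only [tmul_add, map_add, h1, h2]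
    | add d₁ d₂ h1 h2 => simp only [map_add, h1, h2]
  obtain ⟨k, hk⟩ := (Module.Flat.rTensor_exact G
    (LinearMap.exact_subtype_ker_map (J.subtype.lTensor M)) _).1 hd'
  have hk0 : θ.lTensor M (z - w') = 0 := by
    rw [← a.apply_symm_apply (z - w'), ← hk]
    clear hk hd'
    induction k using TensorProduct.induction_on with
    | zero => simp
    | add k₁ k₂ h1 h2 => simp only [map_add, h1, h2, add_zero]
    | tmul k g =>
      let mulg : ↥J' →ₗ[R] ↥J' :=
        ((LinearMap.mulRight R (π g)).comp J'.subtype).codRestrict J'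
          fun v => Ideal.mul_mem_right _ _ v.2
      have e : ∀ k : M ⊗[R] ↥J, θ.lTensor M (a (k ⊗ₜ g)) =
          mulg.lTensor M ((toExt (R' := R') J).lTensor M k) := by
        intro k
        induction k using TensorProduct.induction_on with
        | zero => simp
        | tmul m b =>
          simp only [a, TensorProduct.assoc_tmul, LinearMap.lTensor_tmul]
          congr 1
          exact Subtype.ext (by simp [θ, μ, mulg, toExt, Algebra.smul_def])
        | add k₁ k₂ h1 h2 => simp only [add_tmul, map_add, h1, h2]
      rw [LinearMap.rTensor_tmul, e, Submodule.subtype_apply, h _ k.2, map_zero]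
  rw [map_sub, hw', sub_zero] at hk0
  exact hk0

end kernel

section localized

variable {R S M : Type u} [CommRing R] [CommRing S] [Algebra R S]
  [AddCommGroup M] [Module R M] [Module S M] [IsScalarTower R S M] (q : Ideal S) [q.IsPrime]

/-- Injectivity at a localization, from the kernel being killed outside the prime. -/
theorem injective_lTensor_localized {N N' : Type u} [AddCommGroup N] [Module R N] [AddCommGroup N']
    [Module R N'] (f : N →ₗ[R] N')
    (h : ∀ y : M ⊗[R] N, f.lTensor M y = 0 → ∃ s, s ∉ q ∧ (s • y : M ⊗[R] N) = 0) :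
    Function.Injective (f.lTensor (LocalizedModule q.primeCompl M)) := by
  let L := LocalizedModule.mkLinearMap q.primeCompl M
  let LN := AlgebraTensorModule.rTensor R N L
  let LN' := AlgebraTensorModule.rTensor R N' L
  have hc : ∀ y, (f.lTensor (LocalizedModule q.primeCompl M)) (LN y) = LN' (f.lTensor M y) := by
    intro y
    induction y using TensorProduct.induction_on with
    | zero => simp
    | tmul m n => simp [LN, LN']
    | add a b ha hb => simp [ha, hb]
  rw [injective_iff_map_eq_zero]
  intro x hx
  obtain ⟨⟨y, s⟩, hy⟩ := IsLocalizedModule.surj q.primeCompl LN x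
  have h0 : LN' (f.lTensor M y) = 0 := by
    rw [← hc, ← hy, Submonoid.smul_def, ← AlgebraTensorModule.coe_lTensor (A := S), map_smul,
      AlgebraTensorModule.coe_lTensor, hx, smul_zero]
  obtain ⟨c, hc0⟩ := (IsLocalizedModule.eq_zero_iff q.primeCompl LN').1 h0
  have h1 : f.lTensor M ((c : S) • y) = 0 := by
    rw [← AlgebraTensorModule.coe_lTensor (A := S), map_smul]
    exact hc0
  obtain ⟨d, hd, hd0⟩ := h _ h1
  have hy0 : LN y = 0 :=
    (IsLocalizedModule.eq_zero_iff q.primeCompl LN).2 ⟨⟨d, hd⟩ * c, by
      rw [Submonoid.smul_def, Submonoid.coe_mul, mul_smul]; exact hd0⟩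
  rw [hy0, Submonoid.smul_def] at hy
  exact IsLocalizedModule.smul_injective LN s (show s • x = s • 0 by rw [smul_zero]; exact hy)

theorem injective_localized_of_injective {N N' : Type u} [AddCommGroup N] [Module R N]
    [AddCommGroup N'] [Module R N'] (f : N →ₗ[R] N') (h : Function.Injective (f.lTensor M)) :
    Function.Injective (f.lTensor (LocalizedModule q.primeCompl M)) :=
  injective_lTensor_localized q f fun y hy => ⟨1, (Ideal.ne_top_iff_one q).1 (Ideal.IsPrime.ne_top'),
    by rw [one_smul]; exact h (hy.trans (map_zero _).symm)⟩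

theorem flat_quotient_localized (J : Ideal R) [Module.Flat (R ⧸ J) ((R ⧸ J) ⊗[R] M)] :
    Module.Flat (R ⧸ J) ((R ⧸ J) ⊗[R] LocalizedModule q.primeCompl M) := by
  refine Module.Flat.iff_lTensor_injective'.2 fun a => ?_
  rw [injective_lTensor_baseChange_iff]
  refine injective_localized_of_injective q _ ?_
  rw [← injective_lTensor_baseChange_iff]
  exact Module.Flat.lTensor_preserves_injective_linearMap _ a.injective_subtype

theorem flat_localized_away (j : R) (hj : algebraMap R S j ∉ q)
    (h : Module.Flat (Localization.Away j) (Localization.Away j ⊗[R] M)) :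
    Module.Flat R (LocalizedModule q.primeCompl M) := by
  refine Module.Flat.iff_lTensor_injective'.2 fun a => injective_lTensor_localized q _ fun y hy => ?_
  let A := Localization.Away j
  have := IsLocalization.flat A (Submonoid.powers j)
  have : Module.Flat R (A ⊗[R] M) := Module.Flat.trans R A _
  have hinj : Function.Injective (a.subtype.lTensor (A ⊗[R] M)) :=
    Module.Flat.lTensor_preserves_injective_linearMap _ a.injective_subtype
  have h1 : (1 : A) ⊗ₜ[R] y = 0 := by
    apply (TensorProduct.assoc R A M ↥a).symm.injective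
    apply hinj
    rw [map_zero, map_zero]
    have e : ∀ (r : A) (z : M ⊗[R] ↥a), a.subtype.lTensor (A ⊗[R] M)
        ((TensorProduct.assoc R A M ↥a).symm (r ⊗ₜ z)) =
          (TensorProduct.assoc R A M R).symm (r ⊗ₜ a.subtype.lTensor M z) := by
      intro r z
      induction z using TensorProduct.induction_on with
      | zero => simp
      | tmul m n => simp
      | add z₁ z₂ h₁ h₂ => simp only [tmul_add, map_add, h₁, h₂]
    rw [e, hy, tmul_zero, map_zero]
  obtain ⟨⟨_, n, rfl⟩, hn⟩ := (IsLocalizedModule.eq_zero_iff (Submonoid.powers j)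
    (TensorProduct.mk R A (M ⊗[R] ↥a) 1)).1 h1
  refine ⟨algebraMap R S (j ^ n), ?_, ?_⟩
  · rw [map_pow]
    exact fun hm => hj (Ideal.IsPrime.mem_of_pow_mem ‹_› n hm)
  · rw [algebraMap_smul]
    exact hn

end localized

/-- Flatness from flatness modulo `J`, vanishing of the first Tor and flatness away from `J`. -/
theorem flat_of_stratum {R S M : Type u} [CommRing R] [CommRing S] [Algebra R S]
    [IsNoetherianRing R] [IsNoetherianRing S] [AddCommGroup M] [Module R M] [Module S M]
    [IsScalarTower R S M] [Module.Finite S M] (J : Ideal R)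
    [Module.Flat (R ⧸ J) ((R ⧸ J) ⊗[R] M)] (hinj : Function.Injective (J.subtype.lTensor M))
    (haway : ∀ j ∈ J, Module.Flat (Localization.Away j) (Localization.Away j ⊗[R] M)) :
    Module.Flat R M := by
  refine Module.flat_of_isLocalized_maximal S M (fun q => LocalizedModule q.primeCompl M)
    (fun q => LocalizedModule.mkLinearMap q.primeCompl M) fun q hq => ?_
  let Mq := LocalizedModule q.primeCompl M
  by_cases hJq : J ≤ q.comap (algebraMap R S)
  · let Sq := Localization.AtPrime q
    have : IsScalarTower R Sq Mq := .of_algebraMap_smul fun r m => by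
      rw [IsScalarTower.algebraMap_apply R S Sq, algebraMap_smul, algebraMap_smul]
    have : IsNoetherianRing Sq := inferInstance
    have : Module.Finite Sq Mq := Module.Finite.of_isLocalizedModule q.primeCompl (LocalizedModule.mkLinearMap q.primeCompl M)
    have hmax : J.map (algebraMap R Sq) ≠ ⊤ := by
      rw [IsScalarTower.algebraMap_eq R S Sq, ← Ideal.map_map]
      intro htop
      have h1 : (J.map (algebraMap R S)).map (algebraMap S Sq) ≤ IsLocalRing.maximalIdeal Sq := by
        rw [← Localization.AtPrime.map_eq_maximalIdeal]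
        exact Ideal.map_mono (Ideal.map_le_iff_le_comap.2 hJq)
      rw [htop, top_le_iff] at h1
      exact (IsLocalRing.maximalIdeal.isMaximal Sq).ne_top h1
    have : Module.Flat (R ⧸ J) ((R ⧸ J) ⊗[R] Mq) := by
      exact flat_quotient_localized q J
    refine Groth.Agent.Lib.LocalFlat.Criterion.flat_of_injective_of_flat_quotient Sq J
      (Groth.Agent.Lib.LocalFlat.Criterion.map_le_jacobson_bot hmax) ?_
    exact injective_localized_of_injective q _ hinj
  · obtain ⟨j, hj, hjq⟩ := SetLike.not_le_iff_exists.1 hJq
    exact flat_localized_away q j hjq (haway j hj)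

end Groth.Agent.H47.FlatTransfer
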