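import Groth.Agent.H47.InjCoker
import Groth.Agent.Lib.Pure.UI
import Mathlib.RingTheory.Localization.BaseChange

/-!
# Injectivity with flat cokernel at a prime: base change and localization
-/

set_option autoImplicit false
set_option backward.isDefEq.respectTransparency false

universe u

open TensorProduct

namespace Groth.Agent.H47.InjFlatBC

open Groth.Agent.H47.InjCoker

section coker

variable {B : Type u} [CommRing B] {N M : Type u} [AddCommGroup N] [Module B N] [AddCommGroup M]
  [Module B M] (B' : Type u) [CommRing B'] [Algebra B B'] (u : N →ₗ[B] M)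

theorem exact_baseChange :
    Function.Exact (u.baseChange B') ((LinearMap.range u).mkQ.baseChange B') :=
  lTensor_exact B' (LinearMap.exact_iff.2 (Submodule.ker_mkQ _)) (Submodule.mkQ_surjective _)

/-- The cokernel of a base change. -/
noncomputable def cokerEquiv :
    ((B' ⊗[B] M) ⧸ LinearMap.range (u.baseChange B')) ≃ₗ[B'] B' ⊗[B] (M ⧸ LinearMap.range u) :=
  (Submodule.quotEquivOfEq _ _ (LinearMap.exact_iff.1 (exact_baseChange B' u)).symm).trans
    (LinearMap.quotKerEquivOfSurjective _
      (LinearMap.lTensor_surjective B' (Submodule.mkQ_surjective _)))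

end coker

/-- Transport of flatness of a localization along an equivalence. -/
theorem flat_localized_congr {R B : Type u} [CommRing R] [CommRing B] [Algebra R B]
    (W : Submonoid B) {P Q : Type u} [AddCommGroup P] [Module B P] [Module R P] [IsScalarTower R B P]
    [AddCommGroup Q] [Module B Q] [Module R Q] [IsScalarTower R B Q] (e : P ≃ₗ[B] Q) :
    Module.Flat R (LocalizedModule W P) ↔ Module.Flat R (LocalizedModule W Q) := by
  let E := IsLocalizedModule.mapEquiv W (LocalizedModule.mkLinearMap W P)
    (LocalizedModule.mkLinearMap W Q) (Localization W) e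
  let E' := (E.restrictScalars B).restrictScalars R
  exact ⟨fun _ => Module.Flat.of_linearEquiv E'.symm, fun _ => Module.Flat.of_linearEquiv E'⟩

/-- `InjFlatAt` only depends on the map up to isomorphism. -/
theorem congr {A B : Type u} [CommRing A] [CommRing B] [Algebra A B]
    {N M N' M' : Type u} [AddCommGroup N] [Module B N] [AddCommGroup M] [Module B M] [Module A M]
    [IsScalarTower A B M] [AddCommGroup N'] [Module B N'] [AddCommGroup M'] [Module B M']
    [Module A M'] [IsScalarTower A B M'] (u : N →ₗ[B] M) (u' : N' →ₗ[B] M') (eN : N ≃ₗ[B] N')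
    (eM : M ≃ₗ[B] M') (h : ∀ z, eM (u z) = u' (eN z)) (q : PrimeSpectrum B) :
    InjFlatAt (A := A) u q ↔ InjFlatAt (A := A) u' q := by
  have hr : (LinearMap.range u).map (eM : M →ₗ[B] M') = LinearMap.range u' := by
    ext y
    constructor
    · rintro ⟨_, ⟨z, rfl⟩, rfl⟩; exact ⟨eN z, (h z).symm⟩
    · rintro ⟨z, rfl⟩
      exact ⟨_, ⟨eN.symm z, rfl⟩, (h (eN.symm z)).trans (congrArg u' (eN.apply_symm_apply z))⟩
  refine and_congr ⟨fun H z hz => ?_, fun H z hz => ?_⟩
    (flat_localized_congr _ (Submodule.Quotient.equiv _ _ eM hr))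
  · obtain ⟨s, hs, hsz⟩ := H (eN.symm z) (eM.injective (by
      rw [h, eN.apply_symm_apply, hz, map_zero]))
    exact ⟨s, hs, eN.symm.injective (by rw [map_smul, hsz, map_zero])⟩
  · obtain ⟨s, hs, hsz⟩ := H (eN z) (by rw [← h, hz, map_zero])
    exact ⟨s, hs, eN.injective (by rw [map_smul, hsz, map_zero])⟩

section bc

variable {A B : Type u} [CommRing A] [CommRing B] [Algebra A B]

theorem isLocalizedModule_lTensor (W : Submonoid B) (B' : Type u) [CommRing B'] [Algebra B B']
    {P P' : Type u} [AddCommGroup P] [Module B P] [AddCommGroup P'] [Module B P'] (l : P →ₗ[B] P')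
    [IsLocalizedModule W l] : IsLocalizedModule W (l.lTensor B') := by
  have h : IsLocalizedModule W (AlgebraTensorModule.rTensor B B' l) := inferInstance
  have e : l.lTensor B' =
      ((TensorProduct.comm B P' B').toLinearMap.comp (AlgebraTensorModule.rTensor B B' l)).comp
        (TensorProduct.comm B B' P).toLinearMap := TensorProduct.ext' fun a b => by simp
  rw [e]
  infer_instance

/-- Injectivity with flat cokernel at a prime is stable under base change. -/
theorem baseChange {A' B' : Type u} [CommRing A'] [CommRing B'] [Algebra A A'] [Algebra A' B']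
    [Algebra B B'] [Algebra A B'] [IsScalarTower A A' B'] [IsScalarTower A B B']
    [Algebra.IsPushout A A' B B'] {N M : Type u} [AddCommGroup N] [Module B N] [AddCommGroup M]
    [Module A M] [Module B M] [IsScalarTower A B M] (u : N →ₗ[B] M) (q' : PrimeSpectrum B')
    (h : InjFlatAt (A := A) u (q'.comap (algebraMap B B'))) :
    InjFlatAt (A := A') (u.baseChange B') q' := by
  let q := q'.comap (algebraMap B B')
  let W := q.asIdeal.primeCompl
  let C := M ⧸ LinearMap.range u
  let _ : Module A N := Module.compHom N (algebraMap A B)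
  have : IsScalarTower A B N := IsScalarTower.of_algebraMap_smul fun _ _ => rfl
  let lN := LocalizedModule.mkLinearMap W N
  let lM := LocalizedModule.mkLinearMap W M
  let lC := LocalizedModule.mkLinearMap W C
  have hW : ∀ w ∈ W, algebraMap B B' w ∈ q'.asIdeal.primeCompl := fun w hw => hw
  refine ⟨fun z hz => ?_, ?_⟩
  · let uq := IsLocalizedModule.map W lN lM u
    let pq := IsLocalizedModule.map W lM lC (LinearMap.range u).mkQ
    have hp : Function.Surjective pq :=
      IsLocalizedModule.map_surjective W lM lC _ (Submodule.mkQ_surjective _)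
    have hexact : Function.Exact uq pq :=
      IsLocalizedModule.map_exact W lN lM lC u _ (LinearMap.exact_iff.2 (Submodule.ker_mkQ _))
    have huq : Function.Injective uq := by
      rw [injective_iff_map_eq_zero]
      intro v hv
      obtain ⟨⟨x, w⟩, hxw⟩ := IsLocalizedModule.surj W lN v
      have h0 : lM (u x) = 0 := by
        rw [← IsLocalizedModule.map_apply W lN lM, ← hxw, Submonoid.smul_def, map_smul, hv, smul_zero]
      obtain ⟨w', hw'⟩ := (IsLocalizedModule.eq_zero_iff W lM).1 h0
      rw [Submonoid.smul_def, ← map_smul] at hw'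
      obtain ⟨t, ht, htx⟩ := h.1 _ hw'
      have h1 : lN x = 0 := (IsLocalizedModule.eq_zero_iff W lN).2
        ⟨⟨t * w'.1, W.mul_mem ht w'.2⟩, by rw [Submonoid.smul_def, mul_smul, htx]⟩
      refine ((Module.End.isUnit_iff _).1 (IsLocalizedModule.map_units lN w)).1 ?_
      rw [map_zero]
      exact hxw.trans h1
    have : Module.Flat A (LocalizedModule W C) := h.2
    have hui := Lib.Pure.UI.of_flat_right (R := A) (M := LocalizedModule W M)
      (N := LocalizedModule W C) (L₀ := LocalizedModule W N)
      (uq.restrictScalars A) (pq.restrictScalars A) huq hexact hp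
    have hA' : Function.Injective ((uq.restrictScalars A).lTensor A') := by
      rw [LinearMap.lTensor_inj_iff_rTensor_inj]
      exact hui A'
    have hB' : Function.Injective (uq.lTensor B') := by
      let cN := Algebra.IsPushout.cancelBaseChange A A' B B' (LocalizedModule W N)
      let cM := Algebra.IsPushout.cancelBaseChange A A' B B' (LocalizedModule W M)
      have e : ∀ x, uq.lTensor B' (cN.symm x) = cM.symm ((uq.restrictScalars A).lTensor A' x) := by
        intro x
        induction x using TensorProduct.induction_on with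
        | zero => simp
        | add a b ha hb => simp only [map_add, ha, hb]
        | tmul a n => simp [cN, cM]
      intro a b hab
      obtain ⟨a, rfl⟩ := cN.symm.surjective a
      obtain ⟨b, rfl⟩ := cN.symm.surjective b
      rw [e, e] at hab
      rw [hA' (cM.symm.injective hab)]
    have := isLocalizedModule_lTensor W B' lN
    have h0 : lN.lTensor B' z = 0 := hB' (by
      rw [map_zero, ← LinearMap.comp_apply, ← LinearMap.lTensor_comp,
        IsLocalizedModule.map_comp W lN lM u, LinearMap.lTensor_comp, LinearMap.comp_apply]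
      exact (congrArg (lM.lTensor B') hz).trans (map_zero _))
    obtain ⟨w, hw⟩ := (IsLocalizedModule.eq_zero_iff W (lN.lTensor B')).1 h0
    exact ⟨algebraMap B B' w, hW w w.2, by rw [algebraMap_smul]; exact hw⟩
  · rw [flat_localized_congr _ (cokerEquiv B' u)]
    have : Module.Flat A (LocalizedModule W C) := h.2
    have hfl : Module.Flat A' (B' ⊗[B] LocalizedModule W C) :=
      Module.Flat.of_linearEquiv (Algebra.IsPushout.cancelBaseChange A A' B B' (LocalizedModule W C))
    let W' := Algebra.algebraMapSubmonoid B' W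
    have : IsLocalizedModule W (lC.lTensor B') := isLocalizedModule_lTensor W B' lC
    have : IsLocalizedModule W ((lC.baseChange B').restrictScalars B) := this
    have : IsLocalizedModule W' (lC.baseChange B') := IsLocalizedModule.of_restrictScalars W _
    refine (H19.FlatLocus.flat_iff_killed q'.asIdeal.primeCompl
      (LocalizedModule.mkLinearMap q'.asIdeal.primeCompl (B' ⊗[B] C))).2 fun J y hy => ?_
    obtain ⟨s, hs, hsy⟩ := (H19.FlatLocus.flat_iff_killed W' (lC.baseChange B')).1 hfl J y hy
    obtain ⟨w, hw, rfl⟩ := hs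
    exact ⟨_, hW w hw, hsy⟩

end bc

section away

variable {A B₀ B T : Type u} [CommRing A] [CommRing B₀] [CommRing B] [CommRing T]
  [Algebra B₀ B] [Algebra A B] [Algebra B T] [Algebra A T] [Algebra B₀ T] [IsScalarTower A B T]
  [IsScalarTower B₀ B T] (s : B) [IsLocalization.Away s T]
  {N M : Type u} [AddCommGroup N] [Module B₀ N] [AddCommGroup M] [Module B₀ M] (u : N →ₗ[B₀] M)

/-- `B ⊗ X → T ⊗ X` -/
noncomputable def toT (B T X : Type u) [CommRing B₀] [CommRing B] [CommRing T] [Algebra B₀ B]
    [Algebra B T] [Algebra B₀ T] [IsScalarTower B₀ B T] [AddCommGroup X] [Module B₀ X] :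
    B ⊗[B₀] X →ₗ[B] T ⊗[B₀] X :=
  AlgebraTensorModule.rTensor B₀ X (Algebra.linearMap B T)

omit [Algebra A B] [Algebra A T] [IsScalarTower A B T] in
theorem isLocalizedModule_toT (X : Type u) [AddCommGroup X] [Module B₀ X] :
    IsLocalizedModule (Submonoid.powers s) (toT (B₀ := B₀) B T X) := by
  have : IsLocalizedModule (Submonoid.powers s) (Algebra.linearMap B T) :=
    (isLocalizedModule_iff_isLocalization' (Submonoid.powers s) T).2 inferInstance
  exact inferInstanceAs (IsLocalizedModule (Submonoid.powers s)
    (AlgebraTensorModule.rTensor B₀ X (Algebra.linearMap B T)))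

omit [Algebra A B] [Algebra A T] [IsScalarTower A B T] in
include s in
theorem injective_of_kills
    (h : ∀ z, u.baseChange B z = 0 → ∃ n : ℕ, s ^ n • z = 0) :
    Function.Injective (u.lTensor T) := by
  have := isLocalizedModule_toT (B₀ := B₀) (T := T) s N
  have := isLocalizedModule_toT (B₀ := B₀) (T := T) s M
  have hnat : ∀ z, toT (B₀ := B₀) B T M (u.baseChange B z) = u.lTensor T (toT (B₀ := B₀) B T N z) := by
    intro z
    induction z using TensorProduct.induction_on with
    | zero => simp
    | add a b ha hb => simp only [map_add, ha, hb]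
    | tmul a n => simp [toT]
  rw [injective_iff_map_eq_zero]
  intro v hv
  obtain ⟨⟨x, w⟩, hxw⟩ := IsLocalizedModule.surj (Submonoid.powers s) (toT (B₀ := B₀) B T N) v
  have hsm : ∀ (r : B) (v : T ⊗[B₀] N), u.lTensor T (r • v) = r • u.lTensor T v :=
    fun r v => map_smul (AlgebraTensorModule.lTensor B T u) r v
  have h0 : toT (B₀ := B₀) B T M (u.baseChange B x) = 0 := by
    rw [hnat, ← hxw, Submonoid.smul_def, hsm, hv, smul_zero]
  obtain ⟨⟨_, k, rfl⟩, hw'⟩ :=
    (IsLocalizedModule.eq_zero_iff (Submonoid.powers s) (toT (B₀ := B₀) B T M)).1 h0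
  obtain ⟨n, hn⟩ := h (s ^ k • x) (by rw [LinearMap.map_smul_of_tower]; exact hw')
  have h1 : toT (B₀ := B₀) B T N x = 0 :=
    (IsLocalizedModule.eq_zero_iff (Submonoid.powers s) _).2
      ⟨⟨s ^ (n + k), n + k, rfl⟩, by show s ^ (n + k) • x = 0; rw [pow_add, mul_smul, hn]⟩
  refine ((Module.End.isUnit_iff _).1
    (IsLocalizedModule.map_units (toT (B₀ := B₀) B T N) w)).1 ?_
  rw [map_zero]
  exact hxw.trans h1

include s in
theorem flat_of_forall
    (h : ∀ p : PrimeSpectrum B, s ∉ p.asIdeal →
      Module.Flat A (LocalizedModule p.asIdeal.primeCompl (B ⊗[B₀] (M ⧸ LinearMap.range u)))) :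
    Module.Flat A (T ⊗[B₀] (M ⧸ LinearMap.range u)) := by
  let C := M ⧸ LinearMap.range u
  have := isLocalizedModule_toT (B₀ := B₀) (T := T) s C
  refine (H19.FlatLocus.flat_iff_killed (Submonoid.powers s) (toT (B₀ := B₀) B T C)).2 fun J y hy => ?_
  let I : Ideal B := LinearMap.ker (LinearMap.toSpanSingleton B _ y)
  have hI : s ∈ I.radical := by
    rw [Ideal.radical_eq_sInf]
    refine Ideal.mem_sInf.2 fun {p} hp' => ?_
    obtain ⟨hp, hpr⟩ := hp'
    by_contra hgp
    have : Module.Flat A (LocalizedModule p.primeCompl (B ⊗[B₀] C)) := h ⟨p, hpr⟩ hgp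
    obtain ⟨t, ht, hty⟩ := (H19.FlatLocus.flat_iff_killed (R := A) (M' := LocalizedModule p.primeCompl (B ⊗[B₀] C))
      p.primeCompl (LocalizedModule.mkLinearMap p.primeCompl (B ⊗[B₀] C))).1 (by exact this) J y hy
    exact ht (hp hty)
  obtain ⟨n, hn⟩ := hI
  exact ⟨s ^ n, ⟨n, rfl⟩, hn⟩

include s in
theorem injFlatAt_of_away (hinj : Function.Injective (u.lTensor T))
    (hflat : Module.Flat A (T ⊗[B₀] (M ⧸ LinearMap.range u))) (q : PrimeSpectrum B)
    (hq : s ∉ q.asIdeal) : InjFlatAt (A := A) (u.baseChange B) q := by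
  have := isLocalizedModule_toT (B₀ := B₀) (T := T) s N
  have := isLocalizedModule_toT (B₀ := B₀) (T := T) s (M ⧸ LinearMap.range u)
  have hpow : ∀ t ∈ Submonoid.powers s, t ∉ q.asIdeal := by
    rintro _ ⟨n, rfl⟩ hm
    exact hq (q.isPrime.mem_of_pow_mem n hm)
  refine ⟨fun z hz => ?_, ?_⟩
  · have hnat : ∀ z, toT (B₀ := B₀) B T M (u.baseChange B z) = u.lTensor T (toT (B₀ := B₀) B T N z) := by
      intro z
      induction z using TensorProduct.induction_on with
      | zero => simp
      | add a b ha hb => simp only [map_add, ha, hb]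
      | tmul a n => simp [toT]
    have h0 : toT (B₀ := B₀) B T N z = 0 := hinj (by rw [← hnat, hz, map_zero, map_zero])
    obtain ⟨w, hw⟩ := (IsLocalizedModule.eq_zero_iff (Submonoid.powers s) _).1 h0
    exact ⟨w, hpow w w.2, hw⟩
  · rw [flat_localized_congr _ (cokerEquiv B u)]
    refine (H19.FlatLocus.flat_iff_killed q.asIdeal.primeCompl
      (LocalizedModule.mkLinearMap q.asIdeal.primeCompl _)).2 fun J y hy => ?_
    obtain ⟨t, ht, hty⟩ := (H19.FlatLocus.flat_iff_killed (Submonoid.powers s)
      (toT (B₀ := B₀) B T (M ⧸ LinearMap.range u))).1 hflat J y hy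
    exact ⟨t, hpow t ht, hty⟩

end away

end Groth.Agent.H47.InjFlatBC
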