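import Groth.Agent.H47.InjCokerStage
import Groth.Agent.H47.InjFlatBC
import Groth.Agent.H47.FlatTransfer
import Groth.Agent.H19.FlatLocus.Main
import Groth.Agent.Lib.FlatCA.LocalDescent
import Groth.Agent.Lib.Flat55.Presented
import Mathlib.RingTheory.Localization.BaseChange

/-!
# Flatness along a closed subset descends to a stage of a directed colimit
-/

set_option autoImplicit false

universe u

open TensorProduct

attribute [local instance] Algebra.TensorProduct.rightAlgebra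

namespace Groth.Agent.H47.FlatLocusColim

open Groth.Agent.H47.InjCoker

/-- Injectivity with flat cokernel of a map out of the zero module is flatness. -/
theorem injFlatAt_iff_of_subsingleton {A B : Type u} [CommRing A] [CommRing B] [Algebra A B]
    {N M : Type u} [AddCommGroup N] [Module B N] [Subsingleton N] [AddCommGroup M] [Module A M]
    [Module B M] [IsScalarTower A B M] (v : N →ₗ[B] M) (q : PrimeSpectrum B) :
    InjFlatAt (A := A) v q ↔ Module.Flat A (LocalizedModule q.asIdeal.primeCompl M) := by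
  have hr : LinearMap.range v = ⊥ := by
    rw [LinearMap.range_eq_bot]
    exact LinearMap.ext fun x => by rw [Subsingleton.elim x 0, map_zero, map_zero]
  have e := InjFlatBC.flat_localized_congr (R := A) q.asIdeal.primeCompl
    (Submodule.quotEquivOfEqBot (LinearMap.range v) hr)
  exact ⟨fun h => e.1 h.2, fun h => ⟨fun z _ => ⟨1, q.asIdeal.primeCompl.one_mem, Subsingleton.elim _ _⟩,
    e.2 h⟩⟩

instance subsingleton_tensor {B : Type u} [CommRing B] (X : Type u) [AddCommGroup X] [Module B X]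
    (N : Type u) [AddCommGroup N] [Module B N] [Subsingleton N] : Subsingleton (X ⊗[B] N) := by
  refine subsingleton_of_forall_eq 0 fun z => ?_
  induction z using TensorProduct.induction_on with
  | zero => rfl
  | tmul a b => rw [Subsingleton.elim b 0, tmul_zero]
  | add a b ha hb => rw [ha, hb, add_zero]

/-- Flatness at a prime is stable under base change. -/
theorem flat_baseChange {A B A' B' : Type u} [CommRing A] [CommRing B] [CommRing A'] [CommRing B']
    [Algebra A B] [Algebra A A'] [Algebra A' B'] [Algebra B B'] [Algebra A B'] [IsScalarTower A A' B']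
    [IsScalarTower A B B'] [Algebra.IsPushout A A' B B'] (M : Type u) [AddCommGroup M] [Module A M]
    [Module B M] [IsScalarTower A B M] (q' : PrimeSpectrum B')
    (h : Module.Flat A (LocalizedModule (q'.comap (algebraMap B B')).asIdeal.primeCompl M)) :
    Module.Flat A' (LocalizedModule q'.asIdeal.primeCompl (B' ⊗[B] M)) := by
  let v : (Fin 0 → B) →ₗ[B] M := 0
  have hv : InjFlatAt (A := A') (v.baseChange B') q' :=
    InjFlatBC.baseChange v q' ((injFlatAt_iff_of_subsingleton v _).2 h)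
  exact (injFlatAt_iff_of_subsingleton (v.baseChange B') q').1 hv

section stage

variable {R S₀ : Type u} [CommRing R] [CommRing S₀] [Algebra R S₀]
  (M₀ : Type u) [AddCommGroup M₀] [Module S₀ M₀]

/-- The map of stages induced by a map of base algebras. -/
noncomputable abbrev stageMap {E F : Type u} [CommRing E] [CommRing F] [Algebra R E] [Algebra R F]
    (φ : E →ₐ[R] F) : E ⊗[R] S₀ →ₐ[R] F ⊗[R] S₀ :=
  Algebra.TensorProduct.map φ (AlgHom.id R S₀)

/-- Flatness at a prime of a stage gives flatness at the primes above it. -/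
theorem flat_stage {E F : Type u} [CommRing E] [CommRing F] [Algebra R E] [Algebra R F]
    (φ : E →ₐ[R] F) (p' : PrimeSpectrum (F ⊗[R] S₀))
    (h : Module.Flat E (LocalizedModule (p'.comap (stageMap (S₀ := S₀) φ).toRingHom).asIdeal.primeCompl
      ((E ⊗[R] S₀) ⊗[S₀] M₀))) :
    Module.Flat F (LocalizedModule p'.asIdeal.primeCompl ((F ⊗[R] S₀) ⊗[S₀] M₀)) := by
  letI : Algebra E F := φ.toRingHom.toAlgebra
  have : IsScalarTower R E F := IsScalarTower.of_algebraMap_eq fun a => (φ.commutes a).symm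
  letI : Algebra (E ⊗[R] S₀) (F ⊗[R] S₀) := (stageMap (S₀ := S₀) φ).toRingHom.toAlgebra
  have : IsScalarTower E (E ⊗[R] S₀) (F ⊗[R] S₀) :=
    IsScalarTower.of_algebraMap_eq (R := E) (S := E ⊗[R] S₀) (A := F ⊗[R] S₀) fun c => by
    show (algebraMap E F c) ⊗ₜ[R] (1 : S₀) = stageMap (S₀ := S₀) φ (c ⊗ₜ 1)
    simp [stageMap]
    rfl
  have : IsScalarTower S₀ (E ⊗[R] S₀) (F ⊗[R] S₀) :=
    IsScalarTower.of_algebraMap_eq (R := S₀) (S := E ⊗[R] S₀) (A := F ⊗[R] S₀) fun b => by
    show (1 : F) ⊗ₜ[R] b = stageMap (S₀ := S₀) φ (1 ⊗ₜ b)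
    simp [stageMap]
  have : IsScalarTower R (E ⊗[R] S₀) (F ⊗[R] S₀) :=
    IsScalarTower.of_algebraMap_eq (R := R) (S := E ⊗[R] S₀) (A := F ⊗[R] S₀) fun a =>
      ((stageMap (S₀ := S₀) φ).commutes a).symm
  have : Algebra.IsPushout E F (E ⊗[R] S₀) (F ⊗[R] S₀) :=
    (Algebra.IsPushout.comp_iff R E S₀ (E ⊗[R] S₀)).1 inferInstance
  have := flat_baseChange (A := E) (B := E ⊗[R] S₀) (A' := F) ((E ⊗[R] S₀) ⊗[S₀] M₀) p' h
  exact (InjFlatBC.flat_localized_congr p'.asIdeal.primeCompl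
    (AlgebraTensorModule.cancelBaseChange S₀ (E ⊗[R] S₀) (F ⊗[R] S₀) (F ⊗[R] S₀) M₀)).1 this

end stage

/-- A finitely presented algebra maps to a stage of a directed colimit. -/
theorem exists_lift {R : Type u} [CommRing R] {ι : Type u} [Preorder ι] {G : ι → Type u}
    [∀ i, CommRing (G i)] [∀ i, Algebra R (G i)] (g : ∀ i j, i ≤ j → G i →ₐ[R] G j)
    (A : Type u) [CommRing A] [Algebra R A] [∀ i, Algebra (G i) A] [∀ i, IsScalarTower R (G i) A]
    (hcolim : FlatCA.IsDirectedColimitRing G (fun i j h => (g i j h).toRingHom) A)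
    (C : Type u) [CommRing C] [Algebra R C] [hC : Algebra.FinitePresentation R C] (ψ : C →ₐ[R] A) :
    ∃ (i : ι) (φ : C →ₐ[R] G i), ∀ c, algebraMap (G i) A (φ c) = ψ c := by
  classical
  obtain ⟨hdir, hne, hid, htrans, hcomp, hsurj, hker⟩ := hcolim
  have : IsDirectedOrder ι := hdir
  obtain ⟨k, π, hπ, hfg⟩ := hC.out
  obtain ⟨s, hs⟩ := hfg
  choose i x hx using fun l : Fin k => hsurj (ψ (π (MvPolynomial.X l)))
  obtain ⟨i₁, hi₁⟩ := Finset.exists_le (Finset.univ.image i)
  have hi : ∀ l, i l ≤ i₁ := fun l => hi₁ _ (Finset.mem_image_of_mem _ (Finset.mem_univ l))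
  let φ₁ : MvPolynomial (Fin k) R →ₐ[R] G i₁ := MvPolynomial.aeval fun l => g (i l) i₁ (hi l) (x l)
  have hφ₁ : (IsScalarTower.toAlgHom R (G i₁) A).comp φ₁ = ψ.comp π := by
    refine MvPolynomial.algHom_ext fun l => ?_
    simp only [AlgHom.comp_apply, φ₁, MvPolynomial.aeval_X, IsScalarTower.coe_toAlgHom']
    exact (RingHom.congr_fun (hcomp (i l) i₁ (hi l)) (x l)).trans (hx l)
  choose j hj hj0 using fun r : s => hker i₁ (φ₁ r.1) (by
    have hr : π r.1 = 0 := RingHom.mem_ker.1 (hs ▸ Submodule.subset_span r.2)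
    exact (AlgHom.congr_fun hφ₁ r.1).trans ((congrArg ψ hr).trans (map_zero ψ)))
  obtain ⟨i₂, hi₂⟩ := Finset.exists_le (insert i₁ (Finset.univ.image j))
  have h12 : i₁ ≤ i₂ := hi₂ _ (Finset.mem_insert_self _ _)
  let φ₂ := (g i₁ i₂ h12).comp φ₁
  have hle : RingHom.ker π ≤ RingHom.ker φ₂ := by
    rw [show RingHom.ker π = RingHom.ker π.toRingHom from rfl, ← hs]
    refine Ideal.span_le.2 fun r hr => ?_
    have hjr : j ⟨r, hr⟩ ≤ i₂ := hi₂ _ (Finset.mem_insert_of_mem
      (Finset.mem_image_of_mem _ (Finset.mem_univ _)))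
    show g i₁ i₂ h12 (φ₁ r) = 0
    refine (RingHom.congr_fun (htrans i₁ (j ⟨r, hr⟩) i₂ (hj _) hjr) (φ₁ r)).symm.trans ?_
    rw [RingHom.comp_apply, hj0 ⟨r, hr⟩, map_zero]
  let φ : C →ₐ[R] G i₂ := (Ideal.Quotient.liftₐ (RingHom.ker π) φ₂ hle).comp
    (Ideal.quotientKerAlgEquivOfSurjective hπ).symm.toAlgHom
  refine ⟨i₂, φ, fun c => ?_⟩
  obtain ⟨P, rfl⟩ := hπ c
  have : (Ideal.quotientKerAlgEquivOfSurjective hπ).symm (π P) = Ideal.Quotient.mk _ P := by
    rw [AlgEquiv.symm_apply_eq]; rfl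
  have h2 : φ (π P) = φ₂ P := by
    show Ideal.Quotient.liftₐ (RingHom.ker π) φ₂ hle
      ((Ideal.quotientKerAlgEquivOfSurjective hπ).symm (π P)) = _
    rw [this]; rfl
  rw [h2]
  exact (RingHom.congr_fun (hcomp i₁ i₂ h12) (φ₁ P)).trans (AlgHom.congr_fun hφ₁ P)

section main

variable {R S₀ : Type u} [CommRing R] [CommRing S₀] [Algebra R S₀]
  {M₀ : Type u} [AddCommGroup M₀] [Module S₀ M₀]

set_option maxHeartbeats 1000000 in
/-- Flatness at the primes containing a compatible family of ideals and missing a compatible family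
of submonoids descends to a stage. -/
theorem exists_stage_var [Algebra.FinitePresentation R S₀] [Module.FinitePresentation S₀ M₀]
    {ι : Type u} [Preorder ι] (G : ι → Type u)
    [∀ i, CommRing (G i)] [∀ i, Algebra R (G i)] (g : ∀ i j, i ≤ j → G i →ₐ[R] G j)
    (R' : Type u) [CommRing R'] [Algebra R R'] [∀ i, Algebra (G i) R'] [∀ i, IsScalarTower R (G i) R']
    (hcolim : FlatCA.IsDirectedColimitRing G (fun i j h => (g i j h).toRingHom) R')
    (J : ∀ i, Ideal (G i ⊗[R] S₀))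
    (hJ : ∀ i j (h : i ≤ j), J i ≤ (J j).comap (stageMap (S₀ := S₀) (g i j h)).toRingHom)
    (W : ∀ i, Submonoid (G i ⊗[R] S₀))
    (hW : ∀ i j (h : i ≤ j) x, x ∈ W i → stageMap (S₀ := S₀) (g i j h) x ∈ W j)
    (h : ∀ q : PrimeSpectrum (R' ⊗[R] S₀),
      (∀ i x, x ∈ W i → stageMap (S₀ := S₀) (IsScalarTower.toAlgHom R (G i) R') x ∉ q.asIdeal) →
      (∀ i x, x ∈ J i → stageMap (S₀ := S₀) (IsScalarTower.toAlgHom R (G i) R') x ∈ q.asIdeal) →
      Module.Flat R' (LocalizedModule q.asIdeal.primeCompl ((R' ⊗[R] S₀) ⊗[S₀] M₀))) :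
    ∃ i, ∀ p : PrimeSpectrum (G i ⊗[R] S₀), (∀ x ∈ W i, x ∉ p.asIdeal) → J i ≤ p.asIdeal →
      Module.Flat (G i) (LocalizedModule p.asIdeal.primeCompl ((G i ⊗[R] S₀) ⊗[S₀] M₀)) := by
  classical
  obtain ⟨hdir, hne, hid, htrans, hcomp, hsurj, hker⟩ := id hcolim
  have : IsDirectedOrder ι := hdir
  let toR : ∀ i, G i →ₐ[R] R' := fun i => IsScalarTower.toAlgHom R (G i) R'
  have hcomp' : ∀ i j (hij : i ≤ j), (toR j).comp (g i j hij) = toR i := fun i j hij =>
    AlgHom.ext fun x => RingHom.congr_fun (hcomp i j hij) x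
  have htrans' : ∀ i j k (hij : i ≤ j) (hjk : j ≤ k),
      (g j k hjk).comp (g i j hij) = g i k (hij.trans hjk) := fun i j k hij hjk =>
    AlgHom.ext fun x => RingHom.congr_fun (htrans i j k hij hjk) x
  let t : ∀ i j, i ≤ j → G i ⊗[R] S₀ →ₐ[R] G j ⊗[R] S₀ := fun i j hij => stageMap (g i j hij)
  let π : ∀ i, G i ⊗[R] S₀ →ₐ[R] R' ⊗[R] S₀ := fun i => stageMap (toR i)
  have hπt : ∀ i j (hij : i ≤ j) z, π j (t i j hij z) = π i z := by
    intro i j hij z
    induction z using TensorProduct.induction_on with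
    | zero => simp only [map_zero]
    | tmul a b => exact congrArg (· ⊗ₜ[R] b) (AlgHom.congr_fun (hcomp' i j hij) a)
    | add a b ha hb => simp only [map_add, ha, hb]
  have hall : ∀ y : R' ⊗[R] S₀, ∃ i, ∃ y', π i y' = y := by
    intro y
    induction y using TensorProduct.induction_on with
    | zero =>
      obtain ⟨i⟩ := hne
      exact ⟨i, 0, map_zero _⟩
    | tmul a p =>
      obtain ⟨i, x, rfl⟩ := hsurj a
      exact ⟨i, x ⊗ₜ[R] p, rfl⟩
    | add a b ha hb =>
      obtain ⟨i, a', rfl⟩ := ha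
      obtain ⟨j, b', rfl⟩ := hb
      obtain ⟨k, h1, h2⟩ := exists_ge_ge i j
      exact ⟨k, t i k h1 a' + t j k h2 b', by rw [map_add, hπt, hπt]⟩
  have hkill : ∀ i z, π i z = 0 → ∃ j, ∃ hij : i ≤ j, t i j hij z = 0 := by
    intro i z hz
    have e : ∀ z, (toR i).toLinearMap.lTensor S₀ (TensorProduct.comm R (G i) S₀ z) =
        TensorProduct.comm R R' S₀ (π i z) := by
      intro z
      induction z using TensorProduct.induction_on with
      | zero => simp only [map_zero]
      | tmul a b => rfl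
      | add a b ha hb => simp only [map_add, ha, hb]
    obtain ⟨j, hij, hj⟩ := FlatTransfer.exists_kill (M := S₀) (fun i j hij => (g i j hij).toLinearMap)
      (fun i => (toR i).toLinearMap)
      (fun i j k hij hjk => LinearMap.ext fun x => AlgHom.congr_fun (htrans' i j k hij hjk) x)
      (fun i j hij => LinearMap.ext fun x => AlgHom.congr_fun (hcomp' i j hij) x)
      hsurj hker (TensorProduct.comm R (G i) S₀ z) (by rw [e, hz, map_zero])
    refine ⟨j, hij, (TensorProduct.comm R (G j) S₀).injective ?_⟩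
    rw [map_zero, ← hj]
    clear hz hj
    induction z using TensorProduct.induction_on with
    | zero => simp only [map_zero]
    | tmul a b => rfl
    | add a b ha hb => simp only [map_add, ha, hb]
  -- the bad loci
  let bad : ∀ i, Set (PrimeSpectrum (G i ⊗[R] S₀)) := fun i =>
    PrimeSpectrum.zeroLocus (J i : Set (G i ⊗[R] S₀)) ∩
      {p | Module.Flat (G i) (LocalizedModule p.asIdeal.primeCompl ((G i ⊗[R] S₀) ⊗[S₀] M₀))}ᶜ
  have hclosed : ∀ i, IsClosed (bad i) := fun i =>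
    (PrimeSpectrum.isClosed_zeroLocus _).inter
      (H19.FlatLocus.isOpen_flat_of_finitePresentation (R := G i) (S := G i ⊗[R] S₀)
        (M := (G i ⊗[R] S₀) ⊗[S₀] M₀)).isClosed_compl
  let K : ∀ i, Ideal (G i ⊗[R] S₀) := fun i => PrimeSpectrum.vanishingIdeal (bad i)
  have hK : ∀ i j (hij : i ≤ j) y, y ∈ K i → t i j hij y ∈ K j := by
    intro i j hij y hy
    refine (PrimeSpectrum.mem_vanishingIdeal _ _).2 fun p hp => ?_
    obtain ⟨h1, h3⟩ := hp
    exact (PrimeSpectrum.mem_vanishingIdeal _ _).1 hy (p.comap (t i j hij).toRingHom)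
      ⟨fun a ha => h1 (hJ i j hij ha), fun hflat => h3 (flat_stage M₀ (g i j hij) p hflat)⟩
  let K' : Ideal (R' ⊗[R] S₀) :=
    { carrier := {x | ∃ i, ∃ y ∈ K i, π i y = x}
      zero_mem' := hne.elim fun i => ⟨i, 0, zero_mem _, map_zero _⟩
      add_mem' := by
        rintro _ _ ⟨i, a, ha, rfl⟩ ⟨j, b, hb, rfl⟩
        obtain ⟨k, h1, h2⟩ := exists_ge_ge i j
        exact ⟨k, t i k h1 a + t j k h2 b, add_mem (hK i k h1 a ha) (hK j k h2 b hb),
          by rw [map_add, hπt, hπt]⟩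
      smul_mem' := by
        rintro c _ ⟨i, a, ha, rfl⟩
        obtain ⟨j, c', rfl⟩ := hall c
        obtain ⟨k, h1, h2⟩ := exists_ge_ge i j
        exact ⟨k, t j k h2 c' * t i k h1 a, Ideal.mul_mem_left _ _ (hK i k h1 a ha),
          by rw [map_mul, hπt, hπt, smul_eq_mul]⟩ }
  let W' : Submonoid (R' ⊗[R] S₀) :=
    { carrier := {x | ∃ i, ∃ y ∈ W i, π i y = x}
      one_mem' := hne.elim fun i => ⟨i, 1, one_mem _, map_one _⟩
      mul_mem' := by
        rintro _ _ ⟨i, a, ha, rfl⟩ ⟨j, b, hb, rfl⟩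
        obtain ⟨k, h1, h2⟩ := exists_ge_ge i j
        exact ⟨k, t i k h1 a * t j k h2 b, mul_mem (hW i k h1 a ha) (hW j k h2 b hb),
          by rw [map_mul, hπt, hπt]⟩ }
  by_cases hw : ∃ x ∈ W', x ∈ K'
  · obtain ⟨_, ⟨i', w, hwW, rfl⟩, i, y, hy, hyw⟩ := hw
    obtain ⟨k, h1, h2⟩ := exists_ge_ge i i'
    obtain ⟨j, hkj, hj⟩ := hkill k (t i k h1 y - t i' k h2 w)
      (by rw [map_sub, hπt, hπt, hyw, sub_self])
    refine ⟨j, fun p hp hI => by_contra fun hflat => ?_⟩
    rw [map_sub, sub_eq_zero] at hj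
    refine hp _ (hW k j hkj _ (hW i' k h2 w hwW)) ?_
    rw [show stageMap (g k j hkj) (stageMap (g i' k h2) w) = t k j hkj (t i k h1 y) from hj.symm]
    exact (PrimeSpectrum.mem_vanishingIdeal _ _).1 (hK k j hkj _ (hK i k h1 y hy)) p ⟨hI, hflat⟩
  · exfalso
    push_neg at hw
    obtain ⟨q₀, hq₀, hKq, hdisj⟩ := Ideal.exists_le_prime_disjoint K' W'
      (Set.disjoint_left.2 fun x hx hx' => hw x hx' hx)
    let q : PrimeSpectrum (R' ⊗[R] S₀) := ⟨q₀, hq₀⟩
    have hbad : ∀ i, q.comap (π i).toRingHom ∈ bad i := by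
      intro i
      rw [← (hclosed i).closure_eq, ← PrimeSpectrum.zeroLocus_vanishingIdeal_eq_closure]
      exact fun y hy => hKq ⟨i, y, hy, rfl⟩
    have hflat := h q (fun i w hwW hmem => Set.disjoint_left.1 hdisj hmem ⟨i, w, hwW, rfl⟩)
      fun i a ha => (hbad i).1 ha
    let v : (Fin 0 → S₀) →ₗ[S₀] M₀ := 0
    obtain ⟨C, _, _, _, φ, hC⟩ := InjCokerStage.exists_stage_at (A₀ := R) v (A := R')
      (B := R' ⊗[R] S₀) q ((injFlatAt_iff_of_subsingleton _ q).2 hflat)
    obtain ⟨i, φ', hφ'⟩ := exists_lift g R' hcolim C φ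
    refine (hbad i).2 (flat_stage M₀ φ' (q.comap (π i).toRingHom) ?_)
    have e : (q.comap (π i).toRingHom).comap (stageMap φ').toRingHom =
        q.comap (InjCokerStage.ψ (B₀ := S₀) (B := R' ⊗[R] S₀) φ).toRingHom := by
      have e' : ∀ z, π i (stageMap φ' z) = InjCokerStage.ψ (B₀ := S₀) (B := R' ⊗[R] S₀) φ z := by
        intro z
        induction z using TensorProduct.induction_on with
        | zero => simp only [map_zero]
        | tmul a b =>
          refine Eq.trans ?_ (Algebra.TensorProduct.productMap_apply_tmul _ _ a b).symm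
          show algebraMap (G i) R' (φ' a) ⊗ₜ[R] b = (φ a ⊗ₜ[R] (1 : S₀)) * ((1 : R') ⊗ₜ[R] b)
          rw [hφ', Algebra.TensorProduct.tmul_mul_tmul, mul_one, one_mul]
        | add a b ha hb => simp only [map_add, ha, hb]
      refine PrimeSpectrum.ext (Ideal.ext fun z => ?_)
      show π i (stageMap φ' z) ∈ q.asIdeal ↔ _ ∈ q.asIdeal
      rw [e' z]
      rfl
    rw [e]
    exact (injFlatAt_iff_of_subsingleton _ _).1 hC

/-- Flatness at the primes containing the colimit of ideals and missing `W` descends to a stage. -/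
theorem exists_stage [Algebra.FinitePresentation R S₀] [Module.FinitePresentation S₀ M₀]
    (W : Submonoid S₀) (J₀ : Ideal S₀) {ι : Type u} [Preorder ι] (G : ι → Type u)
    [∀ i, CommRing (G i)] [∀ i, Algebra R (G i)] (g : ∀ i j, i ≤ j → G i →ₐ[R] G j)
    (R' : Type u) [CommRing R'] [Algebra R R'] [∀ i, Algebra (G i) R'] [∀ i, IsScalarTower R (G i) R']
    (hcolim : FlatCA.IsDirectedColimitRing G (fun i j h => (g i j h).toRingHom) R')
    (Il : ∀ i, Ideal (G i)) (hIl : ∀ i j (h : i ≤ j), (Il i).map (g i j h).toRingHom ≤ Il j)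
    (h : ∀ q : PrimeSpectrum (R' ⊗[R] S₀), (∀ w ∈ W, algebraMap S₀ (R' ⊗[R] S₀) w ∉ q.asIdeal) →
      (⨆ i, (Il i).map (algebraMap (G i) R')).map (algebraMap R' (R' ⊗[R] S₀)) ≤ q.asIdeal →
      J₀.map (algebraMap S₀ (R' ⊗[R] S₀)) ≤ q.asIdeal →
      Module.Flat R' (LocalizedModule q.asIdeal.primeCompl ((R' ⊗[R] S₀) ⊗[S₀] M₀))) :
    ∃ i, ∀ p : PrimeSpectrum (G i ⊗[R] S₀), (∀ w ∈ W, algebraMap S₀ (G i ⊗[R] S₀) w ∉ p.asIdeal) →
      (Il i).map (algebraMap (G i) (G i ⊗[R] S₀)) ≤ p.asIdeal →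
      J₀.map (algebraMap S₀ (G i ⊗[R] S₀)) ≤ p.asIdeal →
      Module.Flat (G i) (LocalizedModule p.asIdeal.primeCompl ((G i ⊗[R] S₀) ⊗[S₀] M₀)) := by
  have key : ∀ {E F : Type u} [CommRing E] [CommRing F] [Algebra R E] [Algebra R F] (φ : E →ₐ[R] F) (w : S₀),
      stageMap (S₀ := S₀) φ (algebraMap S₀ (E ⊗[R] S₀) w) = algebraMap S₀ (F ⊗[R] S₀) w := fun φ w => by
    show φ 1 ⊗ₜ[R] w = _
    rw [map_one]
    rfl
  obtain ⟨i, hi⟩ := exists_stage_var (M₀ := M₀) G g R' hcolim
    (fun i => (Il i).map (algebraMap (G i) (G i ⊗[R] S₀)) ⊔ J₀.map (algebraMap S₀ (G i ⊗[R] S₀)))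
    (fun i j hij => sup_le
      (Ideal.map_le_iff_le_comap.2 fun a ha => Ideal.mem_sup_left
        (Ideal.mem_map_of_mem (algebraMap (G j) (G j ⊗[R] S₀)) (hIl i j hij (Ideal.mem_map_of_mem _ ha))))
      (Ideal.map_le_iff_le_comap.2 fun a ha => Ideal.mem_sup_right (by
        show stageMap (S₀ := S₀) (g i j hij) (algebraMap S₀ (G i ⊗[R] S₀) a) ∈ _
        rw [key]
        exact Ideal.mem_map_of_mem _ ha)))
    (fun i => W.map (algebraMap S₀ (G i ⊗[R] S₀)))
    (fun i j hij => by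
      rintro _ ⟨w, hw, rfl⟩
      exact ⟨w, hw, (key _ w).symm⟩)
    fun q hqW hqJ => by
      obtain ⟨i₀⟩ := hcolim.2.1
      refine h q (fun w hw => ?_) ?_ ?_
      · rw [← key (IsScalarTower.toAlgHom R (G i₀) R') w]
        exact hqW i₀ _ ⟨w, hw, rfl⟩
      · exact Ideal.map_le_iff_le_comap.2 (iSup_le fun i => Ideal.map_le_iff_le_comap.2 fun a ha =>
          hqJ i _ (Ideal.mem_sup_left (Ideal.mem_map_of_mem _ ha)))
      · refine Ideal.map_le_iff_le_comap.2 fun a ha => ?_
        rw [Ideal.mem_comap, ← key (IsScalarTower.toAlgHom R (G i₀) R') a]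
        exact hqJ i₀ _ (Ideal.mem_sup_right (Ideal.mem_map_of_mem _ ha))
  refine ⟨i, fun p hp hI hJ => hi p ?_ (sup_le hI hJ)⟩
  rintro _ ⟨w, hw, rfl⟩
  exact hp w hw

end main

/-- Flatness at a prime of a flat extension of a stage. -/
theorem flatAt_iff_of_isBaseChange {A T B : Type u} [CommRing A] [CommRing T] [CommRing B]
    [Algebra A T] [Algebra T B] [Algebra A B] [IsScalarTower A T B]
    {S₀ : Type u} [CommRing S₀] [Algebra S₀ T] [Algebra S₀ B] [IsScalarTower S₀ T B]
    [SMulCommClass S₀ A T] [Module.Flat T B]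
    {M₀ N : Type u} [AddCommGroup M₀] [Module S₀ M₀] [AddCommGroup N] [Module B N] [Module A N]
    [IsScalarTower A B N] [Module S₀ N] [IsScalarTower S₀ B N] (k : M₀ →ₗ[S₀] N)
    (hk : IsBaseChange B k) (Q : Ideal B) [Q.IsPrime] :
    Module.Flat A (LocalizedModule Q.primeCompl N) ↔
      Module.Flat A (LocalizedModule (Q.comap (algebraMap T B)).primeCompl (T ⊗[S₀] M₀)) := by
  letI : Module T N := Module.compHom N (algebraMap T B)
  have : IsScalarTower T B N := IsScalarTower.of_algebraMap_smul fun _ _ => rfl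
  have : IsScalarTower S₀ T N := IsScalarTower.of_algebraMap_smul fun s n => by
    show algebraMap T B (algebraMap S₀ T s) • n = s • n
    rw [← IsScalarTower.algebraMap_apply, algebraMap_smul]
  let k' : T ⊗[S₀] M₀ →ₗ[T] N := k.liftBaseChange T
  have hk' : IsBaseChange B k' := by
    refine IsBaseChange.of_comp (TensorProduct.isBaseChange S₀ M₀ T) ?_
    have : (k'.restrictScalars S₀).comp (TensorProduct.mk S₀ T M₀ 1) = k := LinearMap.ext fun m => by
      simp [k']
    rw [this]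
    exact hk
  have : Module.Flat T (Localization.AtPrime Q) := Module.Flat.trans T B (Localization.AtPrime Q)
  exact Lib.FlatCA.LocalDescent.flatAt_iff k' hk' Q

/-- A finitely presented module over a localization comes from the ring. -/
theorem exists_descend {S₀ S N : Type u} [CommRing S₀] [CommRing S] [Algebra S₀ S] (M : Submonoid S₀)
    [IsLocalization M S] [AddCommGroup N] [Module S N] [Module S₀ N] [IsScalarTower S₀ S N]
    [Module.FinitePresentation S N] :
    ∃ (N₀ : Type u) (_ : AddCommGroup N₀) (_ : Module S₀ N₀) (_ : Module.FinitePresentation S₀ N₀)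
      (l : N₀ →ₗ[S₀] N), IsBaseChange S l := by
  classical
  obtain ⟨m, K, e, hK⟩ := Module.FinitePresentation.exists_fin S N
  obtain ⟨k, v, hv⟩ := Submodule.fg_iff_exists_fin_generating_family.1 hK
  obtain ⟨d, hd⟩ := IsLocalization.exist_integer_multiples_of_finite M (fun ji : Fin k × Fin m => v ji.1 ji.2)
  choose v₀ hv₀ using hd
  let g : Fin k → Fin m → S₀ := fun j i => v₀ (j, i)
  let g' : Fin k → Fin m → S := fun j i => algebraMap S₀ S (g j i)
  have hspan : Submodule.span S (Set.range g') = K := by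
    rw [← hv]
    have hu : IsUnit (algebraMap S₀ S (d : S₀)) := IsLocalization.map_units S d
    have hg' : ∀ j, g' j = algebraMap S₀ S (d : S₀) • v j := fun j => funext fun i => by
      show algebraMap S₀ S (v₀ (j, i)) = algebraMap S₀ S (d : S₀) * v j i
      rw [hv₀, Algebra.smul_def]
    refine le_antisymm (Submodule.span_le.2 ?_) (Submodule.span_le.2 ?_)
    · rintro _ ⟨j, rfl⟩
      rw [hg']
      exact Submodule.smul_mem _ _ (Submodule.subset_span ⟨j, rfl⟩)
    · rintro _ ⟨j, rfl⟩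
      rw [show v j = (hu.unit⁻¹ : Sˣ).1 • g' j by rw [hg', smul_smul, IsUnit.val_inv_mul, one_smul]]
      exact Submodule.smul_mem _ _ (Submodule.subset_span ⟨j, rfl⟩)
  let e' : ((Fin m → S) ⧸ Submodule.span S (Set.range g')) ≃ₗ[S] N :=
    (Submodule.quotEquivOfEq _ _ hspan).trans e.symm
  refine ⟨_, inferInstance, inferInstance,
    Module.finitePresentation_of_surjective (Submodule.mkQ (Submodule.span S₀ (Set.range g)))
      (Submodule.mkQ_surjective _) (by rw [Submodule.ker_mkQ]; exact Submodule.fg_span (Set.finite_range _)),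
    (e'.toLinearMap.restrictScalars S₀).comp (Lib.Flat55.Presented.quotMap g g' fun _ _ => rfl),
    (Lib.Flat55.Presented.isBaseChange_quotMap g g' fun _ _ => rfl).comp (IsBaseChange.ofEquiv e')⟩

end Groth.Agent.H47.FlatLocusColim
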