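import Groth.Agent.H47.FlatIntegralInj
import Groth.Agent.H47.AnalyticFamily
import Groth.Agent.H47.ExcellentZ
import Mathlib.RingTheory.Localization.AtPrime.Basic
import Mathlib.RingTheory.IntegralClosure.IntegrallyClosed

/-!
# Flatness over a normal local domain is detected by one dominating local ring
-/

set_option autoImplicit false
set_option linter.style.haveILetI false

universe u

open TensorProduct IsLocalRing

attribute [local instance] Algebra.TensorProduct.rightAlgebra

namespace Groth.Agent.H47.FlatNormal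

open Groth.Agent.H47.FlatLocusColim

set_option maxHeartbeats 800000 in
/-- Over an analytically irreducible local ring, flatness is detected by one dominating finite type
domain. -/
theorem flat_of_analytic {A A' B : Type u} [CommRing A] [IsNoetherianRing A] [CommRing A'] [IsDomain A']
    [CommRing B] [Algebra A A'] [Algebra.FiniteType A A'] [Algebra A B] [Algebra.FiniteType A B]
    (hinj : Function.Injective (algebraMap A A')) (p : Ideal A) [p.IsPrime]
    (hcpl : IsDomain (EGA4.Cpl (Localization.AtPrime p))) (n : Ideal A') [n.IsPrime]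
    (hn : n.comap (algebraMap A A') = p) (q : PrimeSpectrum B)
    (hq : q.asIdeal.comap (algebraMap A B) = p)
    (h : ∀ q'' : PrimeSpectrum (A' ⊗[A] B),
      q''.comap (algebraMap B (A' ⊗[A] B)) = q → q''.asIdeal.comap (algebraMap A' (A' ⊗[A] B)) = n →
      Module.Flat A' (LocalizedModule q''.asIdeal.primeCompl (A' ⊗[A] B))) :
    Module.Flat A (LocalizedModule q.asIdeal.primeCompl B) := by
  classical
  haveI : IsNoetherianRing B := Algebra.FiniteType.isNoetherianRing A B
  let Ap := Localization.AtPrime p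
  let P := Localization.AtPrime q.asIdeal
  let E := Localization.AtPrime n
  let φP : Ap →+* P := Localization.localRingHom p q.asIdeal (algebraMap A B) hq.symm
  letI : Algebra Ap P := φP.toAlgebra
  haveI : IsScalarTower A Ap P := IsScalarTower.of_algebraMap_eq fun a => by
    show algebraMap A P a = φP (algebraMap A Ap a)
    rw [Localization.localRingHom_to_map, ← IsScalarTower.algebraMap_apply]
  haveI : IsLocalHom (algebraMap Ap P) := Localization.isLocalHom_localRingHom _ _ _ hq.symm
  let φE : Ap →+* E := Localization.localRingHom p n (algebraMap A A') hn.symm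
  letI : Algebra Ap E := φE.toAlgebra
  haveI : IsScalarTower A Ap E := IsScalarTower.of_algebraMap_eq fun a => by
    show algebraMap A E a = φE (algebraMap A Ap a)
    rw [Localization.localRingHom_to_map, ← IsScalarTower.algebraMap_apply]
  haveI : IsLocalHom (algebraMap Ap E) := Localization.isLocalHom_localRingHom _ _ _ hn.symm
  haveI : IsNoetherianRing Ap := IsLocalization.isNoetherianRing p.primeCompl Ap inferInstance
  haveI : IsNoetherianRing P := IsLocalization.isNoetherianRing q.asIdeal.primeCompl P inferInstance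
  haveI : Algebra.EssFiniteType A' E := Algebra.EssFiniteType.of_isLocalization E n.primeCompl
  haveI : Algebra.EssFiniteType A E := Algebra.EssFiniteType.comp A A' E
  haveI : Algebra.EssFiniteType Ap E := Algebra.EssFiniteType.of_comp A Ap E
  haveI : IsDomain E := IsLocalization.isDomain_localization n.primeCompl_le_nonZeroDivisors
  haveI : IsDomain A := Function.Injective.isDomain (algebraMap A A') hinj
  have hinjE : Function.Injective (algebraMap Ap E) := by
    rw [injective_iff_map_eq_zero]
    intro x hx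
    obtain ⟨⟨a, s⟩, has⟩ := IsLocalization.surj p.primeCompl x
    have h0 : algebraMap A E a = 0 := by
      rw [IsScalarTower.algebraMap_apply A Ap E, ← has, map_mul, hx, zero_mul]
    have ha : a = 0 := hinj ((IsLocalization.injective E n.primeCompl_le_nonZeroDivisors
      (h0.trans (map_zero _).symm |> fun e => by
        rwa [IsScalarTower.algebraMap_apply A A' E] at e)).trans (map_zero _).symm)
    rw [ha, map_zero] at has
    exact (IsLocalization.map_units Ap s).mul_left_eq_zero.1 has
  haveI : Module.Flat A' E := IsLocalization.flat E n.primeCompl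
  haveI : Module.Flat B P := IsLocalization.flat P q.asIdeal.primeCompl
  have hm : (maximalIdeal Ap).map (algebraMap Ap E) ≤ maximalIdeal E :=
    Ideal.map_le_iff_le_comap.2 (IsLocalRing.maximalIdeal_comap (algebraMap Ap E)).ge
  have key : Module.Flat Ap P := by
    refine ArtinFamily.flat_of_family (A := Ap) (P := P) (M := P) (fun _ : PUnit.{u + 1} => E)
      (fun _ => ArtinFamily.good_of_forall (maximalIdeal Ap) hm fun Q hQ hle =>
        haveI := hQ
        FlatFiniteInj.flatAt_of_flat p.primeCompl n q Localization.AtPrime.under_maximalIdeal h Q hle)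
      fun N => ?_
    obtain ⟨M, hM⟩ := AnalyticFamily.htop hinjE N
    refine ⟨PUnit.{u + 1}, inferInstance, fun _ => PUnit.unit, fun _ => maximalIdeal E ^ M,
      (iInf_le _ PUnit.unit).trans hM, M, le_iInf fun _ => Ideal.map_le_iff_le_comap.1 ?_⟩
    rw [Ideal.map_pow]
    exact Ideal.pow_right_mono hm M
  haveI := IsLocalization.flat Ap p.primeCompl
  haveI := key
  haveI : Module.Flat A P := Module.Flat.trans A Ap P
  exact Module.Flat.of_linearEquiv
    ((IsLocalizedModule.iso q.asIdeal.primeCompl (Algebra.linearMap B P)).restrictScalars A)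

variable {R₀ : Type u} [CommRing R₀] (A A' : Type u) [CommRing A] [CommRing A'] [Algebra R₀ A]
  [Algebra R₀ A'] [Algebra A A'] [IsScalarTower R₀ A A']

/-- A finitely generated subalgebra of `A` and one of `A'` containing its image. -/
structure Pair where
  /-- the subalgebra of the base -/
  C : Subalgebra R₀ A
  /-- the subalgebra of the extension -/
  D : Subalgebra R₀ A'
  hC : C.FG
  hD : D.FG
  le : C.map (IsScalarTower.toAlgHom R₀ A A') ≤ D

noncomputable instance : Preorder (Pair (R₀ := R₀) A A') :=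
  Preorder.lift fun i => (i.C, i.D)

variable {A A'}

theorem isDirected : IsDirected (Pair (R₀ := R₀) A A') (· ≤ ·) :=
  ⟨fun i j => ⟨⟨i.C ⊔ j.C, i.D ⊔ j.D, i.hC.sup j.hC, i.hD.sup j.hD, by
    rw [Algebra.map_sup]
    exact sup_le_sup i.le j.le⟩, ⟨le_sup_left, le_sup_left⟩, ⟨le_sup_right, le_sup_right⟩⟩⟩

theorem exists_mem (a : A) (x : A') : ∃ i : Pair (R₀ := R₀) A A', a ∈ i.C ∧ x ∈ i.D := by
  classical
  refine ⟨⟨Algebra.adjoin R₀ {a},
    (Algebra.adjoin R₀ {a}).map (IsScalarTower.toAlgHom R₀ A A') ⊔ Algebra.adjoin R₀ {x}, ⟨{a}, by simp⟩,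
    ((show (Algebra.adjoin R₀ {a}).FG from ⟨{a}, by simp⟩).map _).sup ⟨{x}, by simp⟩, le_sup_left⟩,
    Algebra.subset_adjoin rfl,
    (le_sup_right : Algebra.adjoin R₀ {x} ≤ _) (Algebra.subset_adjoin rfl)⟩

set_option maxHeartbeats 800000 in
/-- A finitely generated subalgebra of a normal domain is contained in a normal one. -/
theorem exists_normal [Algebra.FiniteType ℤ R₀] [IsDomain A] [IsIntegrallyClosed A]
    (C : Subalgebra R₀ A) (hC : C.FG) :
    ∃ C₁ : Subalgebra R₀ A, C ≤ C₁ ∧ C₁.FG ∧ IsIntegrallyClosed C₁ := by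
  classical
  haveI : Algebra.FiniteType R₀ C := C.fg_iff_finiteType.1 hC
  haveI : Algebra.FiniteType ℤ C := Algebra.FiniteType.trans (R := ℤ) (S := R₀) (A := C) inferInstance inferInstance
  let KC := FractionRing C
  let K := FractionRing A
  haveI : Module.Finite C (integralClosure C KC) := ExcellentZ.finite_normalisation C KC
  let N := integralClosure C KC
  haveI : Algebra.FiniteType R₀ N := Algebra.FiniteType.trans (R := R₀) (S := C) (A := N) inferInstance inferInstance
  haveI : IsIntegrallyClosed N := integralClosure.isIntegrallyClosedOfFiniteExtension KC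
  have hg : Function.Injective ((algebraMap A K).comp (algebraMap C A)) :=
    (IsFractionRing.injective A K).comp Subtype.val_injective
  let ψ : KC →+* K := IsFractionRing.lift hg
  have hψ : ∀ c : C, ψ (algebraMap C KC c) = algebraMap A K (c : A) := fun c =>
    IsFractionRing.lift_algebraMap hg c
  have hint : ∀ x : N, ∃ a : A, algebraMap A K a = ψ x := by
    intro x
    refine IsIntegrallyClosed.algebraMap_eq_of_integral ?_
    obtain ⟨f, hf, hfx⟩ := x.2
    refine ⟨f.map (algebraMap C A), hf.map _, ?_⟩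
    rw [Polynomial.eval₂_map]
    have hc : (algebraMap A K).comp (algebraMap C A) = ψ.comp (algebraMap C KC) :=
      RingHom.ext fun c => (hψ c).symm
    rw [hc, ← Polynomial.hom_eval₂, hfx, map_zero]
  choose ν hν using hint
  have hK := IsFractionRing.injective A K
  let νA : N →ₐ[R₀] A :=
    { toFun := ν
      map_one' := hK (by rw [hν, map_one]; exact map_one ψ)
      map_mul' := fun x y => hK (by rw [hν, map_mul, hν, hν]; exact map_mul ψ _ _)
      map_zero' := hK (by rw [hν, map_zero]; exact map_zero ψ)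
      map_add' := fun x y => hK (by rw [hν, map_add, hν, hν]; exact map_add ψ _ _)
      commutes' := fun r => hK (by
        rw [hν]
        refine Eq.trans (congrArg ψ ?_) (hψ (algebraMap R₀ C r))
        show ((algebraMap R₀ N r : N) : KC) = algebraMap C KC (algebraMap R₀ C r)
        exact IsScalarTower.algebraMap_apply R₀ C KC r) }
  have hνinj : Function.Injective νA := fun x y hxy =>
    Subtype.ext (ψ.injective ((hν x).symm.trans ((congrArg (algebraMap A K) hxy).trans (hν y))))
  refine ⟨νA.range, fun c hc => ⟨algebraMap C N ⟨c, hc⟩, hK ?_⟩, ?_, ?_⟩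
  · show algebraMap A K (ν _) = _
    rw [hν]
    exact hψ ⟨c, hc⟩
  · rw [← Algebra.map_top]
    exact (Algebra.FiniteType.out (R := R₀) (A := N)).map νA
  · exact IsIntegrallyClosed.of_equiv (AlgEquiv.ofInjective νA hνinj).toRingEquiv

set_option maxHeartbeats 1600000 in
/-- Flatness over a normal local domain is detected by any dominating local domain. -/
theorem flat_of_normal [Algebra.FiniteType ℤ R₀] [IsDomain A] [IsIntegrallyClosed A] [IsLocalRing A]
    [IsDomain A'] [IsLocalRing A'] [IsLocalHom (algebraMap A A')]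
    (hinj : Function.Injective (algebraMap A A')) (B₀ : Type u) [CommRing B₀] [Algebra R₀ B₀]
    [Algebra.FinitePresentation R₀ B₀] (q : PrimeSpectrum (A ⊗[R₀] B₀))
    (hq : q.asIdeal.comap (algebraMap A (A ⊗[R₀] B₀)) = maximalIdeal A)
    (h : ∀ q' : PrimeSpectrum (A' ⊗[R₀] B₀),
      q'.comap (stageMap (S₀ := B₀) (IsScalarTower.toAlgHom R₀ A A')).toRingHom = q →
      q'.asIdeal.comap (algebraMap A' (A' ⊗[R₀] B₀)) = maximalIdeal A' →
      Module.Flat A' (LocalizedModule q'.asIdeal.primeCompl (A' ⊗[R₀] B₀))) :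
    Module.Flat A (LocalizedModule q.asIdeal.primeCompl (A ⊗[R₀] B₀)) := by
  classical
  let ι := Pair (R₀ := R₀) A A'
  let G : ι → Type u := fun i => i.D
  let g : ∀ i j : ι, i ≤ j → G i →ₐ[R₀] G j := fun i j hij => Subalgebra.inclusion hij.2
  let κ : ∀ i : ι, i.C →ₐ[R₀] G i := fun i =>
    ((IsScalarTower.toAlgHom R₀ A A').comp i.C.val).codRestrict i.D fun c => i.le ⟨c.1, c.2, rfl⟩
  have : IsDirected ι (· ≤ ·) := isDirected
  have hne : Nonempty ι := ⟨(exists_mem (R₀ := R₀) (0 : A) (0 : A')).choose⟩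
  have hcolim : FlatCA.IsDirectedColimitRing G (fun i j h => (g i j h).toRingHom) A' :=
    ⟨isDirected, hne, fun i => RingHom.ext fun x => rfl,
      fun i j k hij hjk => RingHom.ext fun x => rfl, fun i j hij => RingHom.ext fun x => rfl,
      fun a => (exists_mem (R₀ := R₀) (0 : A) a).elim fun i hi => ⟨i, ⟨a, hi.2⟩, rfl⟩,
      fun i x hx => ⟨i, le_rfl, Subtype.ext hx⟩⟩
  let πA : A ⊗[R₀] B₀ →ₐ[R₀] A' ⊗[R₀] B₀ := stageMap (IsScalarTower.toAlgHom R₀ A A')
  let σ : ∀ i : ι, i.C ⊗[R₀] B₀ →ₐ[R₀] A ⊗[R₀] B₀ := fun i => stageMap i.C.val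
  let τ : ∀ i : ι, i.C ⊗[R₀] B₀ →ₐ[R₀] G i ⊗[R₀] B₀ := fun i => stageMap (κ i)
  let qi : ∀ i : ι, PrimeSpectrum (i.C ⊗[R₀] B₀) := fun i => q.comap (σ i).toRingHom
  let ni : ∀ i : ι, Ideal (G i) := fun i => (maximalIdeal A').comap (algebraMap (G i) A')
  haveI : ∀ i, (ni i).IsPrime := fun i => Ideal.IsPrime.comap _
  have hστ : ∀ i z, stageMap (S₀ := B₀) (IsScalarTower.toAlgHom R₀ (G i) A') (τ i z) = πA (σ i z) := by
    intro i z
    induction z using TensorProduct.induction_on with
    | zero => simp only [map_zero]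
    | tmul a b => rfl
    | add a b ha hb => simp only [map_add, ha, hb]
  have hmono : ∀ (i j : ι) (hij : i ≤ j) z, z ∈ (qi i).asIdeal ↔
      stageMap (S₀ := B₀) (Subalgebra.inclusion hij.1) z ∈ (qi j).asIdeal := by
    intro i j hij z
    show σ i z ∈ q.asIdeal ↔ σ j _ ∈ q.asIdeal
    have : σ j (stageMap (S₀ := B₀) (Subalgebra.inclusion hij.1) z) = σ i z := by
      induction z using TensorProduct.induction_on with
      | zero => simp only [map_zero]
      | tmul a b => rfl
      | add a b ha hb => simp only [map_add, ha, hb]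
    rw [this]
  have hgτ : ∀ (i j : ι) (hij : i ≤ j) z, stageMap (S₀ := B₀) (g i j hij) (τ i z) =
      τ j (stageMap (S₀ := B₀) (Subalgebra.inclusion hij.1) z) := by
    intro i j hij z
    induction z using TensorProduct.induction_on with
    | zero => simp only [map_zero]
    | tmul a b => rfl
    | add a b ha hb => simp only [map_add, ha, hb]
  have hgι : ∀ (i j : ι) (hij : i ≤ j) (d : G i), stageMap (S₀ := B₀) (g i j hij)
      (algebraMap (G i) (G i ⊗[R₀] B₀) d) = algebraMap (G j) (G j ⊗[R₀] B₀) (g i j hij d) :=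
    fun i j hij d => rfl
  have hall : ∀ z : A ⊗[R₀] B₀, ∃ i, ∃ z', σ i z' = z := by
    intro z
    induction z using TensorProduct.induction_on with
    | zero => exact hne.elim fun i => ⟨i, 0, map_zero _⟩
    | tmul a b =>
      obtain ⟨i, hi, -⟩ := exists_mem (R₀ := R₀) a (0 : A')
      exact ⟨i, (⟨a, hi⟩ : i.C) ⊗ₜ[R₀] b, rfl⟩
    | add a b ha hb =>
      obtain ⟨i, a', rfl⟩ := ha
      obtain ⟨j, b', rfl⟩ := hb
      obtain ⟨k, h1, h2⟩ := exists_ge_ge i j
      refine ⟨k, stageMap (Subalgebra.inclusion h1.1) a' + stageMap (Subalgebra.inclusion h2.1) b', ?_⟩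
      rw [map_add]
      congr 1
      · clear b'
        induction a' using TensorProduct.induction_on with
        | zero => simp only [map_zero]
        | tmul c b => rfl
        | add c d hc hd => simp only [map_add, hc, hd]
      · clear a'
        induction b' using TensorProduct.induction_on with
        | zero => simp only [map_zero]
        | tmul c b => rfl
        | add c d hc hd => simp only [map_add, hc, hd]
  obtain ⟨i, hi⟩ := exists_stage_var (R := R₀) (S₀ := B₀) (M₀ := B₀) G g A' hcolim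
    (fun i => (qi i).asIdeal.map (τ i) ⊔ (ni i).map (algebraMap (G i) (G i ⊗[R₀] B₀)))
    (fun i j hij => sup_le
      (Ideal.map_le_iff_le_comap.2 fun z hz => by
        refine Ideal.mem_comap.2 (Ideal.mem_comap.2 (Ideal.mem_sup_left ?_))
        change (stageMap (S₀ := B₀) (g i j hij)).toRingHom (τ i z) ∈ _
        rw [AlgHom.toRingHom_eq_coe, RingHom.coe_coe]
        rw [hgτ i j hij]
        exact Ideal.mem_map_of_mem _ ((hmono i j hij z).1 hz))
      (Ideal.map_le_iff_le_comap.2 fun d hd => by
        refine Ideal.mem_comap.2 (Ideal.mem_comap.2 (Ideal.mem_sup_right ?_))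
        change (stageMap (S₀ := B₀) (g i j hij)).toRingHom _ ∈ _
        rw [AlgHom.toRingHom_eq_coe, RingHom.coe_coe]
        rw [hgι i j hij]
        exact Ideal.mem_map_of_mem _ hd))
    (fun i => (qi i).asIdeal.primeCompl.map (τ i) ⊔
      (ni i).primeCompl.map (algebraMap (G i) (G i ⊗[R₀] B₀)))
    (fun i j hij x hx => by
      obtain ⟨_, ⟨z, hz, rfl⟩, _, ⟨d, hd, rfl⟩, rfl⟩ := Submonoid.mem_sup.1 hx
      rw [map_mul, hgτ i j hij, hgι i j hij]
      exact Submonoid.mem_sup.2 ⟨_, ⟨_, fun hc => hz ((hmono i j hij z).2 hc), rfl⟩,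
        _, ⟨_, fun hc => hd hc, rfl⟩, rfl⟩)
    (fun q' hW hJ => by
      refine (InjFlatBC.flat_localized_congr q'.asIdeal.primeCompl
        (AlgebraTensorModule.rid B₀ (A' ⊗[R₀] B₀) (A' ⊗[R₀] B₀))).2 (h q' ?_ ?_)
      · refine PrimeSpectrum.ext (Ideal.ext fun z => ?_)
        show πA z ∈ q'.asIdeal ↔ z ∈ q.asIdeal
        obtain ⟨i, z', rfl⟩ := hall z
        rw [← hστ]
        exact ⟨fun hz => by_contra fun hne => hW i _ (Submonoid.mem_sup_left ⟨z', hne, rfl⟩) hz,
          fun hz => hJ i _ (Ideal.mem_sup_left (Ideal.mem_map_of_mem _ hz))⟩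
      · refine Ideal.ext fun x => ?_
        obtain ⟨i, -, hx⟩ := exists_mem (R₀ := R₀) (0 : A) x
        exact ⟨fun hz => by_contra fun hne => hW i _ (Submonoid.mem_sup_right ⟨⟨x, hx⟩, hne, rfl⟩) hz,
          fun hz => hJ i _ (Ideal.mem_sup_right (Ideal.mem_map_of_mem _ (show (⟨x, hx⟩ : G i) ∈ ni i from hz)))⟩)
  -- a normal stage above
  obtain ⟨C₁, hle, hC₁, hnor⟩ := exists_normal i.C i.hC
  let j : ι := ⟨C₁, C₁.map (IsScalarTower.toAlgHom R₀ A A') ⊔ i.D, hC₁, (hC₁.map _).sup i.hD, le_sup_left⟩
  have hij : i ≤ j := ⟨hle, le_sup_right⟩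
  haveI : IsIntegrallyClosed j.C := hnor
  haveI : Algebra.FiniteType R₀ j.C := j.C.fg_iff_finiteType.1 j.hC
  haveI : Algebra.FiniteType R₀ (G j) := j.D.fg_iff_finiteType.1 j.hD
  haveI : Algebra.FiniteType ℤ j.C := Algebra.FiniteType.trans (R := ℤ) (S := R₀) (A := j.C) inferInstance inferInstance
  haveI : IsNoetherianRing j.C := Algebra.FiniteType.isNoetherianRing ℤ j.C
  letI : Algebra j.C (G j) := (κ j).toRingHom.toAlgebra
  haveI : IsScalarTower R₀ j.C (G j) :=
    IsScalarTower.of_algebraMap_eq fun r => ((κ j).commutes r).symm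
  haveI : Algebra.FiniteType j.C (G j) :=
    Algebra.FiniteType.of_restrictScalars_finiteType R₀ j.C (G j)
  have hinjC : Function.Injective (algebraMap j.C (G j)) := fun a b hab =>
    Subtype.ext (hinj (congrArg Subtype.val hab))
  let p : Ideal j.C := (maximalIdeal A).comap (algebraMap j.C A)
  haveI : p.IsPrime := Ideal.IsPrime.comap _
  haveI : IsNoetherianRing (Localization.AtPrime p) :=
    IsLocalization.isNoetherianRing p.primeCompl _ inferInstance
  have hnp : (ni j).comap (algebraMap j.C (G j)) = p := by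
    refine Ideal.ext fun c => ?_
    show algebraMap A A' c ∈ maximalIdeal A' ↔ (c : A) ∈ maximalIdeal A
    exact map_mem_nonunits_iff (algebraMap A A') _
  have hqp : (qi j).asIdeal.comap (algebraMap j.C (j.C ⊗[R₀] B₀)) = p := by
    refine Ideal.ext fun c => ?_
    show σ j (c ⊗ₜ 1) ∈ q.asIdeal ↔ (c : A) ∈ maximalIdeal A
    rw [← hq]
    rfl
  have hN : Module.Flat j.C (LocalizedModule (qi j).asIdeal.primeCompl (j.C ⊗[R₀] B₀)) := by
    refine flat_of_analytic hinjC p (ExcellentZ.isDomain_cpl j.C p) (ni j) hnp (qi j) hqp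
      fun q'' hq'' hn'' => FlatIntegralInj.flat_tensor_tensor B₀ q'' fun pt hpt hptn => ?_
    have hpt' : ∀ z, τ j z ∈ pt.asIdeal ↔ z ∈ (qi j).asIdeal := fun z => by
      rw [← hq'', ← hpt]
      rfl
    have hptn' : ∀ d, algebraMap (G j) (G j ⊗[R₀] B₀) d ∈ pt.asIdeal ↔ d ∈ ni j := fun d => by
      rw [← hn'', ← hptn]
      rfl
    refine (InjFlatBC.flat_localized_congr pt.asIdeal.primeCompl
      (AlgebraTensorModule.rid B₀ (G j ⊗[R₀] B₀) (G j ⊗[R₀] B₀))).1
        (flat_stage (S₀ := B₀) B₀ (g i j hij) pt (hi _ ?_ ?_))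
    · rintro x hx hc
      obtain ⟨_, ⟨z, hz, rfl⟩, _, ⟨d, hd, rfl⟩, rfl⟩ := Submonoid.mem_sup.1 hx
      rcases (pt.comap (stageMap (S₀ := B₀) (g i j hij)).toRingHom).isPrime.mem_or_mem hc with hc | hc
      · change stageMap (S₀ := B₀) (g i j hij) (τ i z) ∈ pt.asIdeal at hc
        rw [hgτ i j hij, hpt'] at hc
        exact hz ((hmono i j hij z).2 hc)
      · exact hd ((hptn' (g i j hij d)).1 hc)
    · refine sup_le (Ideal.map_le_iff_le_comap.2 fun z hz => ?_)
        (Ideal.map_le_iff_le_comap.2 fun d hd => ?_)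
      · change stageMap (S₀ := B₀) (g i j hij) (τ i z) ∈ pt.asIdeal
        rw [hgτ i j hij, hpt']
        exact (hmono i j hij z).1 hz
      · exact (hptn' (g i j hij d)).2 hd
  have := flat_stage (S₀ := B₀) B₀ j.C.val q ((InjFlatBC.flat_localized_congr _
    (AlgebraTensorModule.rid B₀ (j.C ⊗[R₀] B₀) (j.C ⊗[R₀] B₀))).2 hN)
  exact (InjFlatBC.flat_localized_congr q.asIdeal.primeCompl
    (AlgebraTensorModule.rid B₀ (A ⊗[R₀] B₀) (A ⊗[R₀] B₀))).1 this

end Groth.Agent.H47.FlatNormal
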