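import Groth.Agent.H47.ArtinScheme
import Groth.Agent.H47.Chevalley
import Groth.Agent.H47.AnalyticFamily
import Mathlib.LinearAlgebra.TensorProduct.Pi
import Mathlib.AlgebraicGeometry.Morphisms.Proper

/-!
# Flatness tested on a proper morphism with injective structure map, Noetherian base
-/

set_option autoImplicit false
set_option backward.isDefEq.respectTransparency false
set_option linter.style.haveILetI false

universe u

open CategoryTheory CategoryTheory.Limits AlgebraicGeometry TensorProduct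

namespace Groth.Agent.H47.FlatProperCore

open Groth.Agent.H47.ArtinScheme

noncomputable section

section algebra

open IsLocalRing

/-- Chevalley's lemma for a family of open ideals. -/
theorem exists_finset_le {C : Type u} [CommRing C] [IsNoetherianRing C] [IsLocalRing C]
    [IsAdicComplete (maximalIdeal C) C] {ι : Type*} (K : ι → Ideal C)
    (hpow : ∀ p, ∃ n, maximalIdeal C ^ n ≤ K p) (h0 : ∀ x, (∀ p, x ∈ K p) → x = 0) (N : ℕ) :
    ∃ s : Finset ι, s.inf K ≤ maximalIdeal C ^ N := by
  classical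
  have hmin : ∀ l, ∃ s : Finset ι, ∀ t, s ⊆ t →
      s.inf K ⊔ maximalIdeal C ^ l = t.inf K ⊔ maximalIdeal C ^ l := by
    intro l
    let I := maximalIdeal C ^ l
    have : IsArtinianRing (C ⧸ I) := by
      rcases eq_or_ne l 0 with hl | hl
      · have : Subsingleton (C ⧸ I) := Ideal.Quotient.subsingleton_iff.2 (by
          simp [I, hl, Ideal.one_eq_top])
        infer_instance
      have : Nontrivial (C ⧸ I) := Ideal.Quotient.nontrivial_iff.2 fun h =>
        (maximalIdeal.isMaximal C).ne_top (top_unique (h ▸ Ideal.pow_le_self hl))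
      have : IsLocalRing (C ⧸ I) := IsLocalRing.of_surjective' (Ideal.Quotient.mk I) Ideal.Quotient.mk_surjective
      rw [isArtinianRing_iff_isNilpotent_maximalIdeal]
      refine ⟨l, ?_⟩
      have e : maximalIdeal (C ⧸ I) = (maximalIdeal C).map (Ideal.Quotient.mk I) := by
        refine (IsLocalRing.eq_maximalIdeal (Ideal.IsMaximal.map_of_surjective_of_ker_le
          Ideal.Quotient.mk_surjective ?_)).symm
        rw [Ideal.mk_ker]
        exact Ideal.pow_le_self hl
      rw [e, ← Ideal.map_pow, Ideal.map_quotient_self]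
      rfl
    obtain ⟨_, ⟨s, rfl⟩, hs⟩ := IsArtinian.set_has_minimal
      (Set.range fun s : Finset ι => (s.inf K).map (Ideal.Quotient.mk I)) (Set.range_nonempty _)
    refine ⟨s, fun t ht => ?_⟩
    have h := eq_of_le_of_not_lt (Ideal.map_mono (Finset.inf_mono ht)) (hs _ ⟨t, rfl⟩)
    have h' := congrArg (Ideal.comap (Ideal.Quotient.mk I)) h
    rw [Ideal.comap_map_quotientMk, Ideal.comap_map_quotientMk] at h'
    rw [sup_comm, sup_comm (t.inf K)]
    exact h'.symm
  choose s hs using hmin
  let S : ℕ → Finset ι := fun n => (Finset.range (n + 1)).biUnion s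
  have hsub : ∀ n, s n ⊆ S n := fun n =>
    Finset.subset_biUnion_of_mem s (Finset.mem_range.2 n.lt_succ_self)
  have hb : Antitone fun n => (S n).inf K := fun i j h => Finset.inf_mono
    (Finset.biUnion_subset_biUnion_of_subset_left _ (Finset.range_mono (by omega)))
  have hK : ∀ x, (∀ n, x ∈ (S n).inf K) → x ∈ (⊥ : Ideal C) := fun x hx =>
    h0 x fun p => by
      obtain ⟨n, hn⟩ := hpow p
      have h1 : (S n).inf K ⊔ maximalIdeal C ^ n = (insert p (S n)).inf K ⊔ maximalIdeal C ^ n :=
        (hs n _ (hsub n)).symm.trans (hs n _ ((hsub n).trans (Finset.subset_insert _ _)))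
      exact sup_le (Finset.inf_le (Finset.mem_insert_self p (S n))) hn
        (h1 ▸ Ideal.mem_sup_left (hx n))
  obtain ⟨n, hn⟩ := Chevalley.exists_le_sup _ hb ⊥ hK N
  exact ⟨S n, hn.trans (le_of_eq (bot_sup_eq _))⟩

/-- An element of a flat algebra killed in a base change vanishes if the kernel does. -/
theorem eq_zero_of_tmul_eq_zero {R C T : Type u} [CommRing R] [CommRing C] [CommRing T] [Algebra R C]
    [Algebra R T] [Module.Flat R C] (hI : ∀ r, algebraMap R T r = 0 → algebraMap R C r = 0)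
    {c : C} (hc : c ⊗ₜ[R] (1 : T) = 0) : c = 0 := by
  let I := RingHom.ker (algebraMap R T)
  let φ : R ⧸ I →ₐ[R] T := Ideal.Quotient.liftₐ I (Algebra.ofId R T) fun r hr => hr
  have hφ : Function.Injective φ.toLinearMap := by
    show Function.Injective (Ideal.Quotient.lift I (algebraMap R T) fun r hr => hr)
    exact (Ideal.injective_lift_iff _).2 rfl
  let ψ : R ⧸ I →ₐ[R] C := Ideal.Quotient.liftₐ I (Algebra.ofId R C) fun r hr => hI r hr
  let θ : C ⊗[R] (R ⧸ I) →ₐ[R] C := Algebra.TensorProduct.lift (AlgHom.id R C) ψ fun _ _ => Commute.all _ _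
  have h1 : c ⊗ₜ[R] (1 : R ⧸ I) = 0 := Module.Flat.lTensor_preserves_injective_linearMap φ.toLinearMap hφ (by
    rw [map_zero, LinearMap.lTensor_tmul]
    show c ⊗ₜ[R] φ 1 = 0
    rw [map_one, hc])
  have h2 := congrArg θ h1
  rw [map_zero, Algebra.TensorProduct.lift_tmul, map_one, mul_one] at h2
  exact h2

end algebra

variable {X Y Y' : Scheme.{u}}

/-- The kernel of the local ring of the base in the sections over a neighbourhood of the fibre is
zero after a flat base change. -/
theorem eq_zero_of_appTop_eq_zero (g : Y' ⟶ Y) [QuasiCompact g] (y : Y)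
    (hinj : ∀ (V : Y.Opens) (s : Γ(Y, V)), y ∈ V → g.app V s = 0 →
      ∃ W : Y.Opens, y ∈ W ∧ ∃ hWV : W ≤ V, Y.presheaf.map (homOfLE hWV).op s = 0)
    {C : CommRingCat.{u}} (ρ : Y.presheaf.stalk y ⟶ C) (hρ : ρ.hom.Flat) (c : C)
    (hc : (pullback.snd g (Spec.map ρ ≫ Y.fromSpecStalk y)).appTop ((Scheme.ΓSpecIso C).inv c) = 0) :
    c = 0 := by
  classical
  obtain ⟨V, hV, hyV, -⟩ := exists_isAffineOpen_mem_and_subset (X := Y) (x := y) (U := ⊤) trivial
  have hcpt : IsCompact (g ⁻¹' (V : Set Y)) := g.isCompact_preimage hV.isCompact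
  have hex : ∀ z : ↥(g ⁻¹ᵁ V), ∃ U : Y'.Opens, IsAffineOpen U ∧ z.1 ∈ U ∧ U ≤ g ⁻¹ᵁ V := fun z =>
    exists_isAffineOpen_mem_and_subset (X := Y') (x := z.1) (U := g ⁻¹ᵁ V) z.2
  choose U hU hzU hUV using hex
  obtain ⟨fin, hfin⟩ := hcpt.elim_finite_subcover (fun z => (U z : Set Y')) (fun z => (U z).2)
    fun z hz => Set.mem_iUnion.2 ⟨⟨z, hz⟩, hzU _⟩
  let ι := ↥fin
  let T : ι → Type u := fun i => Γ(Y', U i.1)
  letI : ∀ i, Algebra Γ(Y, V) (T i) := fun i => (g.appLE V (U i.1) (hUV i.1)).hom.toAlgebra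
  let σ : Γ(Y, V) ⟶ C := Y.presheaf.germ V y hyV ≫ ρ
  letI : Algebra Γ(Y, V) (Y.presheaf.stalk y) := (Y.presheaf.germ V y hyV).hom.toAlgebra
  haveI : IsLocalization.AtPrime (Y.presheaf.stalk y) (hV.primeIdealOf ⟨y, hyV⟩).asIdeal :=
    hV.isLocalization_stalk ⟨y, hyV⟩
  haveI : Module.Flat Γ(Y, V) (Y.presheaf.stalk y) :=
    IsLocalization.flat _ (hV.primeIdealOf ⟨y, hyV⟩).asIdeal.primeCompl
  letI : Algebra Γ(Y, V) C := σ.hom.toAlgebra
  haveI : Module.Flat Γ(Y, V) C := by
    have : (Y.presheaf.germ V y hyV).hom.Flat := RingHom.flat_algebraMap_iff.2 ‹_›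
    exact RingHom.flat_algebraMap_iff.1 (this.comp hρ)
  refine eq_zero_of_tmul_eq_zero (R := Γ(Y, V)) (T := ∀ i, T i) (fun r hr => ?_) ?_
  · have hz : g.app V r = 0 := by
      refine TopCat.Presheaf.section_ext Y'.sheaf _ _ _ fun z hz => ?_
      obtain ⟨i, hi, hzi⟩ := Set.mem_iUnion₂.1 (hfin hz)
      have h1 : Y'.presheaf.map (homOfLE (hUV i)).op (g.app V r) = 0 := congrFun hr ⟨i, hi⟩
      rw [map_zero]
      refine (TopCat.Presheaf.germ_res_apply Y'.presheaf (homOfLE (hUV i)) z hzi _).symm.trans ?_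
      rw [h1, map_zero]
    obtain ⟨W, hyW, hWV, hW⟩ := hinj V r hyV hz
    show ρ.hom (Y.presheaf.germ V y hyV r) = 0
    rw [← TopCat.Presheaf.germ_res_apply Y.presheaf (homOfLE hWV) y hyW r, hW, map_zero, map_zero]
  · refine (TensorProduct.piRight Γ(Y, V) Γ(Y, V) C T).injective ?_
    rw [map_zero, TensorProduct.piRight_apply, TensorProduct.piRightHom_tmul]
    funext i
    show c ⊗ₜ[Γ(Y, V)] (1 : T i) = 0
    let P := C ⊗[Γ(Y, V)] T i
    let inl : C ⟶ CommRingCat.of P :=
      CommRingCat.ofHom (Algebra.TensorProduct.includeLeftRingHom : C →+* P)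
    let inr : Γ(Y', U i.1) ⟶ CommRingCat.of P :=
      CommRingCat.ofHom (Algebra.TensorProduct.includeRight : T i →ₐ[Γ(Y, V)] P).toRingHom
    have hsq : σ ≫ inl = g.appLE V (U i.1) (hUV i.1) ≫ inr := by
      ext r
      exact Algebra.TensorProduct.tmul_one_eq_one_tmul (A := C) (B := T i) r
    let e : Spec (CommRingCat.of P) ⟶ pullback g (Spec.map ρ ≫ Y.fromSpecStalk y) :=
      pullback.lift (Spec.map inr ≫ (hU i.1).fromSpec) (Spec.map inl) (by
        rw [Category.assoc, ← IsAffineOpen.SpecMap_appLE_fromSpec g hV (hU i.1) (hUV i.1),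
          ← hV.fromSpecStalk_eq_fromSpecStalk hyV, IsAffineOpen.fromSpecStalk,
          ← Spec.map_comp_assoc, ← Spec.map_comp_assoc, ← Spec.map_comp_assoc, ← hsq, Category.assoc])
    have he : e ≫ pullback.snd _ _ = Spec.map inl := pullback.lift_snd _ _ _
    have h1 : (Spec.map inl).appTop ((Scheme.ΓSpecIso C).inv c) = 0 := by
      rw [← he, Scheme.Hom.comp_appTop]
      exact (congrArg (fun v => e.appTop v) hc).trans (map_zero e.appTop.hom)
    have h2 := congr($(Scheme.ΓSpecIso_inv_naturality inl).hom c)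
    replace h2 : (Scheme.ΓSpecIso (CommRingCat.of P)).inv (inl c) = 0 := h2.trans h1
    exact (Scheme.ΓSpecIso (CommRingCat.of P)).symm.commRingCatIsoToRingEquiv.injective
      (h2.trans (map_zero _).symm)

/-- Two local homomorphisms agree when their spectra agree over the scheme. -/
theorem eq_of_specMap {y : Y} {L : CommRingCat.{u}} (a b : Y.presheaf.stalk y ⟶ L)
    (h : Spec.map a ≫ Y.fromSpecStalk y = Spec.map b ≫ Y.fromSpecStalk y) : a = b :=
  Spec.map_injective ((cancel_mono _).1 h)

/-- The adic topology is induced by the points of the fibre of a proper morphism. -/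
theorem exists_finset [IsLocallyNoetherian Y] (f : X ⟶ Y) (x : X) (g : Y' ⟶ Y) [IsProper g]
    (hinj : ∀ (V : Y.Opens) (s : Γ(Y, V)), f x ∈ V → g.app V s = 0 →
      ∃ W : Y.Opens, f x ∈ W ∧ ∃ hWV : W ≤ V, Y.presheaf.map (homOfLE hWV).op s = 0)
    (N : ℕ) :
    ∃ s : Finset ({y' : Y' // g y' = f x} × ℕ),
      (s.inf fun p => (IsLocalRing.maximalIdeal (Y'.presheaf.stalk p.1.1) ^ p.2).comap
        (psi f g x p.1.1 p.1.2).hom) ≤ IsLocalRing.maximalIdeal (Y.presheaf.stalk (f x)) ^ N := by
  classical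
  let R := Y.presheaf.stalk (f x)
  let C := EGA4.Cpl R
  let m := IsLocalRing.maximalIdeal R
  let K : {y' : Y' // g y' = f x} × ℕ → Ideal R := fun p =>
    (IsLocalRing.maximalIdeal (Y'.presheaf.stalk p.1.1) ^ p.2).comap (psi f g x p.1.1 p.1.2).hom
  have hmK : ∀ p, m ^ p.2 ≤ K p := fun p => by
    have := isLocalHom_psi f g x p.1.1 p.1.2
    rw [← Ideal.map_le_iff_le_comap, Ideal.map_pow]
    exact Ideal.pow_right_mono (Ideal.map_le_iff_le_comap.2 fun a ha => map_nonunit _ a ha) _
  have hm : m.map (algebraMap R C) = IsLocalRing.maximalIdeal C := by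
    exact (AdicCompletion.maximalIdeal_eq_map).symm
  haveI : Module.FaithfullyFlat R C := Module.FaithfullyFlat.of_flat_of_isLocalHom
  let ρ : Y.presheaf.stalk (f x) ⟶ CommRingCat.of C := CommRingCat.ofHom (algebraMap R C)
  let t := Spec.map ρ ≫ Y.fromSpecStalk (f x)
  let P := pullback g t
  haveI : IsNoetherianRing (CommRingCat.of C) := inferInstanceAs (IsNoetherianRing C)
  haveI : IsLocallyNoetherian P :=
    LocallyOfFiniteType.isLocallyNoetherian (pullback.snd g t)
  have h0 : ∀ c : C, (∀ p, c ∈ (K p).map (algebraMap R C)) → c = 0 := by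
    intro c hc
    refine eq_zero_of_appTop_eq_zero g (f x) hinj ρ (RingHom.flat_algebraMap_iff.2 inferInstance) c ?_
    let c' := (Scheme.ΓSpecIso (CommRingCat.of C)).inv c
    -- vanishing in the local rings over the closed point
    have hclosed : ∀ w : P, (pullback.snd g t) w = IsLocalRing.closedPoint C →
        P.presheaf.germ ⊤ w trivial ((pullback.snd g t).appTop c') = 0 := by
      intro w hw
      let y' := pullback.fst g t w
      have hy' : g y' = f x := by
        rw [← Scheme.Hom.comp_apply, pullback.condition, Scheme.Hom.comp_apply, hw,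
          Scheme.Hom.comp_apply]
        have : (Spec.map ρ) (IsLocalRing.closedPoint C) = IsLocalRing.closedPoint R :=
          IsLocalRing.comap_closedPoint (algebraMap R C)
        rw [this]
        exact Scheme.fromSpecStalk_closedPoint
      let β : CommRingCat.of C ⟶ P.presheaf.stalk w :=
        Spec.preimage (P.fromSpecStalk w ≫ pullback.snd g t)
      have hβ : ρ ≫ β = psi f g x y' hy' ≫ (pullback.fst g t).stalkMap w := by
        refine eq_of_specMap _ _ ?_
        rw [Spec.map_comp, Spec.map_comp, Category.assoc, Category.assoc, Spec.map_preimage,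
          specMap_psi, ← Category.assoc (Spec.map ((pullback.fst g t).stalkMap w)),
          Scheme.SpecMap_stalkMap_fromSpecStalk, Category.assoc, Category.assoc, pullback.condition]
      have hgerm : β c = P.presheaf.germ ⊤ w trivial ((pullback.snd g t).appTop c') := by
        have h1 := congr($(Scheme.ΓSpecIso_inv_naturality β).hom c)
        have h2 : (Spec.map β).appTop = (pullback.snd g t).appTop ≫ (P.fromSpecStalk w).appTop := by
          rw [← Scheme.Hom.comp_appTop, Spec.map_preimage]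
        rw [h2, Scheme.fromSpecStalk_appTop] at h1
        exact (Scheme.ΓSpecIso _).symm.commRingCatIsoToRingEquiv.injective h1
      rw [← hgerm]
      refine AnalyticFamily.krull fun n => ?_
      have hle : ((K (⟨y', hy'⟩, n)).map (algebraMap R C)).map β.hom ≤
          IsLocalRing.maximalIdeal (P.presheaf.stalk w) ^ n := by
        rw [Ideal.map_map, Ideal.map_le_iff_le_comap]
        intro r hr
        show (ρ ≫ β) r ∈ IsLocalRing.maximalIdeal (P.presheaf.stalk w) ^ n
        rw [hβ]
        have h3 : (IsLocalRing.maximalIdeal (Y'.presheaf.stalk y') ^ n).map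
            ((pullback.fst g t).stalkMap w).hom ≤ IsLocalRing.maximalIdeal (P.presheaf.stalk w) ^ n := by
          rw [Ideal.map_pow]
          have h4 : (IsLocalRing.maximalIdeal (Y'.presheaf.stalk y')).map
              ((pullback.fst g t).stalkMap w).hom ≤ IsLocalRing.maximalIdeal (P.presheaf.stalk w) :=
            ((IsLocalRing.local_hom_TFAE ((pullback.fst g t).stalkMap w).hom).out 0 2 rfl rfl).1
              inferInstance
          exact Ideal.pow_right_mono h4 _
        exact h3 (Ideal.mem_map_of_mem _ hr)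
      exact hle (Ideal.mem_map_of_mem _ (hc _))
    refine TopCat.Presheaf.section_ext P.sheaf _ _ _ fun w _ => ?_
    rw [map_zero]
    have hcl : IsClosed ((pullback.snd g t) '' closure {w}) :=
      (pullback.snd g t).isClosedMap _ isClosed_closure
    obtain ⟨w₀, hw₀, hw₀'⟩ := (IsLocalRing.specializes_closedPoint _).mem_closed hcl
      ⟨w, subset_closure rfl, rfl⟩
    have hsp : w ⤳ w₀ := specializes_iff_mem_closure.2 hw₀
    refine (TopCat.Presheaf.germ_stalkSpecializes_apply P.presheaf (U := ⊤) (y := w₀) trivial hsp _).symm.trans ?_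
    rw [hclosed w₀ hw₀', map_zero]
  obtain ⟨s, hs⟩ := exists_finset_le (fun p => (K p).map (algebraMap R C))
    (fun p => ⟨p.2, by rw [← hm, ← Ideal.map_pow]; exact Ideal.map_mono (hmK p)⟩) h0 N
  refine ⟨s, fun r hr => ?_⟩
  have h1 : algebraMap R C r ∈ IsLocalRing.maximalIdeal C ^ N := hs (Submodule.mem_finsetInf.2
    fun p hp => Ideal.mem_map_of_mem _ (Submodule.mem_finsetInf.1 hr p hp))
  rw [← hm, ← Ideal.map_pow] at h1
  rw [← Ideal.comap_map_eq_self_of_faithfullyFlat (B := C) (m ^ N)]
  exact h1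

/-- The Noetherian case. -/
theorem isFlatOverAt [IsLocallyNoetherian Y] (f : X ⟶ Y) [LocallyOfFiniteType f] (F : X.Modules)
    (hF : Coh.IsCoh F) (x : X) (g : Y' ⟶ Y) [IsProper g]
    (hinj : ∀ (V : Y.Opens) (s : Γ(Y, V)), f x ∈ V → g.app V s = 0 →
      ∃ W : Y.Opens, f x ∈ W ∧ ∃ hWV : W ≤ V, Y.presheaf.map (homOfLE hWV).op s = 0)
    (hflat : ∀ x' : ↥(pullback f g), pullback.fst f g x' = x →
      FlatMod.IsFlatOverAt (pullback.snd f g) ((Scheme.Modules.pullback (pullback.fst f g)).obj F) x') :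
    FlatMod.IsFlatOverAt f F x := by
  classical
  refine isFlatOverAt_of_family f F hF x (fun _ : {y' : Y' // g y' = f x} => Y') (fun _ => g)
    (fun i => i.1) (fun i => i.2) (fun N => ?_) fun i => Or.inl fun x' hx' _ => hflat x' hx'
  obtain ⟨s, hs⟩ := exists_finset f x g hinj N
  refine ⟨↥s, inferInstance, fun j => j.1.1,
    fun j => IsLocalRing.maximalIdeal (Y'.presheaf.stalk j.1.1.1) ^ j.1.2, ?_, s.sup Prod.snd, ?_⟩
  · intro r hr
    refine hs (Submodule.mem_finsetInf.2 fun p hp => ?_)
    exact (Submodule.mem_iInf _).1 hr ⟨p, hp⟩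
  · refine le_iInf fun j => ?_
    have := isLocalHom_psi f g x j.1.1.1 j.1.1.2
    refine (Ideal.pow_le_pow_right (Finset.le_sup (f := Prod.snd) j.2)).trans ?_
    rw [← Ideal.map_le_iff_le_comap, Ideal.map_pow]
    exact Ideal.pow_right_mono (Ideal.map_le_iff_le_comap.2 fun a ha => map_nonunit _ a ha) _

end

end Groth.Agent.H47.FlatProperCore
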