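import Groth.Agent.H47.FlatProperCore
import Groth.Agent.H47.FlatLimit
import Groth.Agent.H47.NoethModule
import Groth.Agent.Lib.Lim.Valuative
import Groth.Agent.H2.Rigid.SubDiagram

/-!
# Flatness tested on a proper morphism: descent to a Noetherian stage
-/

set_option autoImplicit false
set_option backward.isDefEq.respectTransparency false
set_option linter.style.haveILetI false

universe u

open CategoryTheory CategoryTheory.Limits AlgebraicGeometry Opposite
open Groth.Agent.Lib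

namespace Groth.Agent.H47.FlatProperStage

noncomputable section

/-- A map between fibre products, cartesian over the second factors. -/
theorem isPullback_snd {X₁ Y₁ S₁ X₀ Y₀ S₀ : Scheme.{u}} {f₁ : X₁ ⟶ S₁} {g₁ : Y₁ ⟶ S₁}
    {f₀ : X₀ ⟶ S₀} {g₀ : Y₀ ⟶ S₀} {a : X₁ ⟶ X₀} {b : Y₁ ⟶ Y₀} {d : S₁ ⟶ S₀}
    (hX : IsPullback a f₁ f₀ d) (hY : b ≫ g₀ = g₁ ≫ d) (r : pullback f₁ g₁ ⟶ pullback f₀ g₀)
    (h1 : r ≫ pullback.fst f₀ g₀ = pullback.fst f₁ g₁ ≫ a)
    (h2 : r ≫ pullback.snd f₀ g₀ = pullback.snd f₁ g₁ ≫ b) :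
    IsPullback r (pullback.snd f₁ g₁) (pullback.snd f₀ g₀) b := by
  refine IsPullback.of_right ?_ h2 (IsPullback.of_hasPullback f₀ g₀)
  rw [h1, hY]
  exact (IsPullback.of_hasPullback f₁ g₁).paste_horiz hX

/-- A map between fibre products, cartesian over the first factors. -/
theorem isPullback_fst {X₁ Y₁ S₁ X₀ Y₀ S₀ : Scheme.{u}} {f₁ : X₁ ⟶ S₁} {g₁ : Y₁ ⟶ S₁}
    {f₀ : X₀ ⟶ S₀} {g₀ : Y₀ ⟶ S₀} {a : X₁ ⟶ X₀} {b : Y₁ ⟶ Y₀} {d : S₁ ⟶ S₀}
    (hX : a ≫ f₀ = f₁ ≫ d) (hY : IsPullback b g₁ g₀ d) (r : pullback f₁ g₁ ⟶ pullback f₀ g₀)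
    (h1 : r ≫ pullback.fst f₀ g₀ = pullback.fst f₁ g₁ ≫ a)
    (h2 : r ≫ pullback.snd f₀ g₀ = pullback.snd f₁ g₁ ≫ b) :
    IsPullback r (pullback.fst f₁ g₁) (pullback.fst f₀ g₀) a := by
  refine IsPullback.of_right ?_ h1 (IsPullback.of_hasPullback f₀ g₀).flip
  rw [h2, hX]
  exact (IsPullback.of_hasPullback f₁ g₁).flip.paste_horiz hY

/-- A local ring contains the localization of a subring at the trace of the maximal ideal. -/
theorem injective_stalkMap_closedPoint {R A : Type u} [CommRing R] [CommRing A] [IsLocalRing A]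
    (φ : R →+* A) (hφ : Function.Injective φ) :
    Function.Injective ((Spec.map (CommRingCat.ofHom φ)).stalkMap (IsLocalRing.closedPoint A)).hom := by
  haveI := RingHom.toMorphismProperty_respectsIso_iff.mp RingHom.injective_respectsIso
  refine ((RingHom.toMorphismProperty fun f => Function.Injective f).arrow_mk_iso_iff
    (Scheme.arrowStalkMapSpecIso (CommRingCat.ofHom φ) (IsLocalRing.closedPoint A))).2 ?_
  show Function.Injective (Localization.localRingHom _ (IsLocalRing.maximalIdeal A) φ rfl)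
  rw [injective_iff_map_eq_zero]
  intro z hz
  obtain ⟨r, s, rfl⟩ := IsLocalization.exists_mk'_eq ((IsLocalRing.maximalIdeal A).comap φ).primeCompl z
  rw [Localization.localRingHom_mk', IsLocalization.mk'_eq_zero_iff] at hz
  obtain ⟨t, ht⟩ := hz
  have hr : φ r = 0 := (IsLocalRing.notMem_maximalIdeal.1 t.2).mul_right_eq_zero.1 ht
  rw [hφ (hr.trans (map_zero φ).symm), IsLocalization.mk'_zero]

set_option maxHeartbeats 2000000 in
/-- The case of a local base. -/
theorem isFlatOverAt {A : Type u} [CommRing A] [IsLocalRing A] {X Y' : Scheme.{u}}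
    (f : X ⟶ Spec (CommRingCat.of A)) [LocallyOfFinitePresentation f] [CompactSpace X]
    [QuasiSeparatedSpace X] (F : X.Modules) [F.IsQuasicoherent] (hF : CohB1.IsFP F) (x : X)
    (hx : f x = IsLocalRing.closedPoint A) (g : Y' ⟶ Spec (CommRingCat.of A)) [IsProper g]
    [LocallyOfFinitePresentation g]
    (hinj : ∀ (V : (Spec (CommRingCat.of A)).Opens) (s : Γ(Spec (CommRingCat.of A), V)),
      f x ∈ V → g.app V s = 0 →
      ∃ W : (Spec (CommRingCat.of A)).Opens, f x ∈ W ∧ ∃ hWV : W ≤ V,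
        (Spec (CommRingCat.of A)).presheaf.map (homOfLE hWV).op s = 0)
    (hflat : ∀ x' : ↥(pullback f g), pullback.fst f g x' = x →
      FlatMod.IsFlatOverAt (pullback.snd f g) ((Scheme.Modules.pullback (pullback.fst f g)).obj F) x') :
    FlatMod.IsFlatOverAt f F x := by
  classical
  let B := CommRingCat.of A
  let D := H2.Rigid.SubDiagram.diagram B
  let c := H2.Rigid.SubDiagram.cone B
  let hc : IsLimit c := H2.Rigid.SubDiagram.isLimitCone B
  haveI hD : ∀ (i j : (Finset B)ᵒᵖ) (φ : i ⟶ j), IsAffineHom (D.map φ) := fun i j φ => inferInstance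
  haveI : ∀ {i j : (Finset B)ᵒᵖ} (φ : i ⟶ j), IsAffineHom (D.map φ) := fun φ => hD _ _ φ
  haveI : ∀ i, IsAffine (D.obj i) := fun i => inferInstance
  haveI : ∀ i, IsLocallyNoetherian (D.obj i) := fun i => inferInstance
  haveI : CompactSpace Y' := QuasiCompact.compactSpace_of_compactSpace g
  haveI : QuasiSeparatedSpace Y' := quasiSeparatedSpace_of_quasiSeparated g
  -- models
  obtain ⟨k₁, X₁, f₁, q₁, hf₁, hX₁c, hX₁q, F₁, hF₁c, hF₁, hsq₁, ⟨e₁⟩⟩ :=
    NoethModule.exists_model (D := D) (c := c) hc (X := X) f F hF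
  obtain ⟨k₂, Y₂, g₂, q₂, hY₂c, hY₂q, hg₂, hsq₂⟩ :=
    Lim.FPDescend.exists_descent (D := D) (c := c) hc (X := Y') g
  obtain ⟨j, φj, hproper⟩ := Lim.Valuative.isProper_descends D c hc hD k₂ inferInstance inferInstance
    g₂ hY₂c hY₂q (inferInstance : LocallyOfFiniteType g₂) g q₂ hsq₂ inferInstance
  let i₀ := IsCofiltered.min k₁ j
  let φ₁ : i₀ ⟶ k₁ := IsCofiltered.minToLeft k₁ j
  let φ₂ : i₀ ⟶ k₂ := IsCofiltered.minToRight k₁ j ≫ φj
  let X₀ := pullback f₁ (D.map φ₁)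
  let f₀ : X₀ ⟶ D.obj i₀ := pullback.snd f₁ (D.map φ₁)
  let Y₀ := pullback g₂ (D.map φ₂)
  let g₀ : Y₀ ⟶ D.obj i₀ := pullback.snd g₂ (D.map φ₂)
  haveI : LocallyOfFinitePresentation f₀ := MorphismProperty.pullback_snd _ _ hf₁
  haveI : LocallyOfFinitePresentation g₀ := MorphismProperty.pullback_snd _ _ hg₂
  haveI hg₀ : IsProper g₀ := Lim.Descend.prop_of_factor (P := @IsProper) hproper
    (D.map (IsCofiltered.minToRight k₁ j)) (D.map_comp _ _).symm (IsPullback.of_hasPullback g₂ (D.map φ₂))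
  obtain ⟨qX, hqX, hX⟩ : ∃ qX : X ⟶ X₀, qX ≫ pullback.fst f₁ (D.map φ₁) = q₁ ∧
      IsPullback qX f f₀ (c.π.app i₀) :=
    ⟨_, pullback.lift_fst _ _ _, Lim.FPDescend.move (c := c) hsq₁ φ₁⟩
  obtain ⟨qY, hY⟩ : ∃ qY : Y' ⟶ Y₀, IsPullback qY g g₀ (c.π.app i₀) :=
    ⟨_, Lim.FPDescend.move (c := c) hsq₂ φ₂⟩
  let F₀ := (Scheme.Modules.pullback (pullback.fst f₁ (D.map φ₁))).obj F₁
  haveI := hF₁c.1
  haveI : F₁.IsQuasicoherent := hF₁c.1
  haveI : F₀.IsQuasicoherent := QCoh.Pullback.isQCoh_pullback _ F₁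
  have hF₀c : Coh.IsCoh F₀ := Cyc.FP.Stalk.isCoh_pullback _ hF₁c
  have hF₀ : CohB1.IsFP F₀ := FlatLimit.isFP_pullback _ F₁ hF₁
  let e : (Scheme.Modules.pullback qX).obj F₀ ≅ F :=
    (Scheme.Modules.pullbackComp qX (pullback.fst f₁ (D.map φ₁))).app F₁ ≪≫
      (Scheme.Modules.pullbackCongr hqX).app F₁ ≪≫ e₁
  -- the fibre product
  let P₀ := pullback f₀ g₀
  let qP : pullback f g ⟶ P₀ := pullback.map f g f₀ g₀ qX qY (c.π.app i₀) hX.w.symm hY.w.symm
  have hqP1 : qP ≫ pullback.fst f₀ g₀ = pullback.fst f g ≫ qX := pullback.lift_fst _ _ _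
  have hqP2 : qP ≫ pullback.snd f₀ g₀ = pullback.snd f g ≫ qY := pullback.lift_snd _ _ _
  have hP : IsPullback qP (pullback.snd f g) (pullback.snd f₀ g₀) qY :=
    isPullback_snd hX hY.w qP hqP1 hqP2
  let G₀ := (Scheme.Modules.pullback (pullback.fst f₀ g₀)).obj F₀
  haveI : G₀.IsQuasicoherent := QCoh.Pullback.isQCoh_pullback _ F₀
  have hG₀ : CohB1.IsFP G₀ := FlatLimit.isFP_pullback _ F₀ hF₀
  let eP : (Scheme.Modules.pullback (pullback.fst f g)).obj F ≅ (Scheme.Modules.pullback qP).obj G₀ :=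
    (Scheme.Modules.pullback (pullback.fst f g)).mapIso e.symm ≪≫
      (Scheme.Modules.pullbackComp (pullback.fst f g) qX).app F₀ ≪≫
      (Scheme.Modules.pullbackCongr hqP1.symm).app F₀ ≪≫
      ((Scheme.Modules.pullbackComp qP (pullback.fst f₀ g₀)).app F₀).symm
  -- a flat stage at each point of the fibre
  have hst := fun (x' : ↥(pullback f g)) (hx' : pullback.fst f g x' = x) =>
    FlatLimit.exists_stage_flatAt hc G₀ hG₀ hY hP x'
      (Flat55.FlatOverAt.of_iso _ eP x' (hflat x' hx'))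
  choose iP φP XP YP fP gP pYP pXP vYP vXP h1P h2P h3P h4P h5P h6P h7P using hst
  let ι := {x' : ↥(pullback f g) // pullback.fst f g x' = x}
  let O : ι → Set ↥(pullback f g) := fun p => vXP p.1 p.2 ⁻¹'
    {z | FlatMod.IsFlatOverAt (fP p.1 p.2) ((Scheme.Modules.pullback (pXP p.1 p.2)).obj G₀) z}
  have hO : ∀ p, IsOpen (O p) := fun p => by
    haveI : LocallyOfFinitePresentation (fP p.1 p.2) :=
      MorphismProperty.of_isPullback (P := @LocallyOfFinitePresentation) (h2P p.1 p.2) inferInstance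
    haveI := QCoh.Pullback.isQCoh_pullback (pXP p.1 p.2) G₀
    haveI : SheafOfModules.IsFinitePresentation (R := (XP p.1 p.2).ringCatSheaf)
        ((Scheme.Modules.pullback (pXP p.1 p.2)).obj G₀) := FlatLimit.isFP_pullback _ G₀ hG₀
    exact (H19.FlatLocus.Scheme.isOpen_isFlatOverAt (fP p.1 p.2) _).preimage (vXP p.1 p.2).continuous
  obtain ⟨fin, hfin⟩ := ((pullback.fst f g).isCompact_preimage_singleton x).elim_finite_subcover O hO
    fun x' hx' => Set.mem_iUnion.2 ⟨⟨x', hx'⟩, h7P x' hx'⟩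
  obtain ⟨i, hi⟩ := IsCofiltered.inf_objs_exists (insert i₀ (fin.image fun p : ι => iP p.1 p.2))
  obtain ⟨φi⟩ := hi (Finset.mem_insert_self _ _)
  -- the Noetherian stage
  let Xi := pullback f₀ (D.map φi)
  let fi : Xi ⟶ D.obj i := pullback.snd f₀ (D.map φi)
  let Yi := pullback g₀ (D.map φi)
  let gi : Yi ⟶ D.obj i := pullback.snd g₀ (D.map φi)
  let a : Xi ⟶ X₀ := pullback.fst f₀ (D.map φi)
  let b : Yi ⟶ Y₀ := pullback.fst g₀ (D.map φi)
  obtain ⟨qXi, hqXi, hXi⟩ : ∃ q : X ⟶ Xi, q ≫ a = qX ∧ IsPullback q f fi (c.π.app i) :=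
    ⟨_, pullback.lift_fst _ _ _, Lim.FPDescend.move (c := c) hX φi⟩
  obtain ⟨qYi, hqYi, hYi⟩ : ∃ q : Y' ⟶ Yi, q ≫ b = qY ∧ IsPullback q g gi (c.π.app i) :=
    ⟨_, pullback.lift_fst _ _ _, Lim.FPDescend.move (c := c) hY φi⟩
  have ha : IsPullback a fi f₀ (D.map φi) := IsPullback.of_hasPullback _ _
  have hb : IsPullback b gi g₀ (D.map φi) := IsPullback.of_hasPullback _ _
  let rr : pullback f g ⟶ pullback fi gi :=
    pullback.map f g fi gi qXi qYi (c.π.app i) hXi.w.symm hYi.w.symm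
  have hrr1 : rr ≫ pullback.fst fi gi = pullback.fst f g ≫ qXi := pullback.lift_fst _ _ _
  have hrr2 : rr ≫ pullback.snd fi gi = pullback.snd f g ≫ qYi := pullback.lift_snd _ _ _
  let r : pullback fi gi ⟶ P₀ := pullback.map fi gi f₀ g₀ a b (D.map φi) ha.w.symm hb.w.symm
  have hr1 : r ≫ pullback.fst f₀ g₀ = pullback.fst fi gi ≫ a := pullback.lift_fst _ _ _
  have hr2 : r ≫ pullback.snd f₀ g₀ = pullback.snd fi gi ≫ b := pullback.lift_snd _ _ _
  have hr : IsPullback r (pullback.snd fi gi) (pullback.snd f₀ g₀) b := isPullback_snd ha hb.w r hr1 hr2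
  let Fi := (Scheme.Modules.pullback a).obj F₀
  haveI : LocallyOfFinitePresentation fi := MorphismProperty.pullback_snd _ _ inferInstance
  have key : FlatMod.IsFlatOverAt fi Fi (qXi x) := by
    refine FlatProperCore.isFlatOverAt fi Fi (Cyc.FP.Stalk.isCoh_pullback a hF₀c) (qXi x) gi ?_ ?_
    · intro V s hV hs
      let bm : Spec B ⟶ D.obj i := c.π.app i
      have hfx : fi (qXi x) = bm (f x) := by
        rw [← Scheme.Hom.comp_apply, hXi.w, Scheme.Hom.comp_apply]

      have hfV : f x ∈ bm ⁻¹ᵁ V := by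
        show bm (f x) ∈ V
        rw [← hfx]
        exact hV
      have h0 : g.app (bm ⁻¹ᵁ V) (bm.app V s) = 0 := by
        have e1 : (g ≫ bm).app V s = g.app (bm ⁻¹ᵁ V) (bm.app V s) := rfl
        have e2 : (qYi ≫ gi).app V s = qYi.app (gi ⁻¹ᵁ V) (gi.app V s) := rfl
        have e3 : qYi ≫ gi = g ≫ bm := hYi.w
        rw [hs, map_zero] at e2
        rw [← e1]
        have := Scheme.Hom.congr_app e3 V
        rw [show (g ≫ bm).app V s = (Y'.presheaf.map (eqToHom (by rw [e3])).op) ((qYi ≫ gi).app V s) by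
          rw [this]
          simp [← Functor.map_comp_apply]]
        rw [e2, map_zero]
      obtain ⟨W, hxW, hWV, hW⟩ := hinj _ _ hfV h0
      have h1 : (Spec B).presheaf.germ (bm ⁻¹ᵁ V) (f x) hfV (bm.app V s) = 0 := by
        rw [← TopCat.Presheaf.germ_res_apply (Spec B).presheaf (homOfLE hWV) (f x) hxW, hW, map_zero]
      have hinj' : Function.Injective (bm.stalkMap (f x)).hom := by
        rw [hx]
        exact injective_stalkMap_closedPoint
          (Algebra.adjoin ℤ ((i.unop : Finset B) : Set B)).val.toRingHom Subtype.val_injective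
      have h2 : (D.obj i).presheaf.germ V (bm (f x)) hfV s = 0 := hinj' (by
        rw [map_zero, ← h1]
        exact Scheme.Hom.germ_stalkMap_apply bm V (f x) hfV s)
      obtain ⟨W', hW'x, i₁, i₂, hW'⟩ := TopCat.Presheaf.germ_eq (D.obj i).presheaf (bm (f x)) hfV hfV s 0
        (h2.trans (map_zero _).symm)
      refine ⟨W', hfx ▸ hW'x, i₁.le, ?_⟩
      rw [map_zero] at hW'
      exact hW'
    · intro w hw
      obtain ⟨x', hx'w, hx'⟩ := Scheme.exists_preimage_of_isPullback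
        (isPullback_fst hXi.w hYi rr hrr1 hrr2).flip x w hw.symm
      obtain ⟨p, hp, hpO⟩ := Set.mem_iUnion₂.1 (hfin hx'w)
      obtain ⟨ψ⟩ := hi (Finset.mem_insert_of_mem (Finset.mem_image_of_mem (fun p : ι => iP p.1 p.2) hp))
      let k := iP p.1 p.2
      have hψ : D.map ψ ≫ D.map (φP p.1 p.2) = D.map φi := by
        rw [← D.map_comp]
        exact congrArg D.map (Subsingleton.elim _ _)
      let tY : Yi ⟶ YP p.1 p.2 := (h1P p.1 p.2).lift b (gi ≫ D.map ψ) (by
        rw [Category.assoc, hψ, hb.w])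
      have htY1 : tY ≫ pYP p.1 p.2 = b := (h1P p.1 p.2).lift_fst _ _ _
      have htY2 : tY ≫ gP p.1 p.2 = gi ≫ D.map ψ := (h1P p.1 p.2).lift_snd _ _ _
      let tX : pullback fi gi ⟶ XP p.1 p.2 := (h2P p.1 p.2).lift r (pullback.snd fi gi ≫ tY) (by
        rw [hr2, Category.assoc, htY1])
      have htX1 : tX ≫ pXP p.1 p.2 = r := (h2P p.1 p.2).lift_fst _ _ _
      have htX2 : tX ≫ fP p.1 p.2 = pullback.snd fi gi ≫ tY := (h2P p.1 p.2).lift_snd _ _ _
      have hsq : IsPullback tX (pullback.snd fi gi) (fP p.1 p.2) tY := by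
        refine IsPullback.of_right ?_ htX2 (h2P p.1 p.2)
        rw [htX1, htY1]
        exact hr
      have hvY : qYi ≫ tY = vYP p.1 p.2 := by
        apply (h1P p.1 p.2).hom_ext
        · rw [Category.assoc, htY1, hqYi, h3P]
        · rw [Category.assoc, htY2, h4P, ← Category.assoc, hYi.w, Category.assoc, c.w]
      have hvX : rr ≫ tX = vXP p.1 p.2 := by
        apply (h2P p.1 p.2).hom_ext
        · rw [Category.assoc, htX1, h5P]
          apply pullback.hom_ext
          · rw [Category.assoc, hr1, ← Category.assoc, hrr1, Category.assoc, hqXi, hqP1]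
          · rw [Category.assoc, hr2, ← Category.assoc, hrr2, Category.assoc, hqYi, hqP2]
        · rw [Category.assoc, htX2, h6P, ← Category.assoc, hrr2, Category.assoc, hvY]
      have hfl : FlatMod.IsFlatOverAt (pullback.snd fi gi) ((Scheme.Modules.pullback r).obj G₀) w := by
        refine FlatLimit.flat_of_comp hsq G₀ htX1 w ?_
        rw [← hx', ← Scheme.Hom.comp_apply, hvX]
        exact hpO
      exact Flat55.FlatOverAt.of_iso _
        ((Scheme.Modules.pullbackComp r (pullback.fst f₀ g₀)).app F₀ ≪≫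
          (Scheme.Modules.pullbackCongr hr1).app F₀ ≪≫
          ((Scheme.Modules.pullbackComp (pullback.fst fi gi) a).app F₀).symm) w hfl
  exact Flat55.FlatOverAt.of_iso f
    ((Scheme.Modules.pullbackComp qXi a).app F₀ ≪≫ (Scheme.Modules.pullbackCongr hqXi).app F₀ ≪≫ e) x
    (Flat55.FlatOverAt.isFlatOverAt_baseChange fi f qXi (c.π.app i) hXi Fi x key)

end

end Groth.Agent.H47.FlatProperStage
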