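import Groth.Agent.H47.FlatTransfer
import Groth.Agent.H47.FlatAdic
import Groth.Agent.H47.GenericFreeDomain
import Groth.Prelude.Def_FlatCA
import Mathlib.RingTheory.Polynomial.Basic
import Mathlib.RingTheory.Ideal.MinimalPrime.Noetherian

/-!
# Flatness of a finitely presented module descends to a stage of a colimit of Noetherian rings
-/

set_option autoImplicit false

universe u

open TensorProduct

namespace Groth.Agent.H47.FlatStage

open FlatTransfer

variable {R₀ : Type u} [CommRing R₀] {n m : ℕ}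
  (T₀ : Finset (Fin m → MvPolynomial (Fin n) R₀))

/-- the presented module -/
abbrev Pres : Type u :=
  (Fin m → MvPolynomial (Fin n) R₀) ⧸
    Submodule.span (MvPolynomial (Fin n) R₀) (T₀ : Set (Fin m → MvPolynomial (Fin n) R₀))

/-- the base change as a finite module over a polynomial ring -/
abbrev Model (E : Type u) [CommRing E] [Algebra R₀ E] : Type u :=
  (Fin m → MvPolynomial (Fin n) E) ⧸ Submodule.span (MvPolynomial (Fin n) E)
    ((fun (t : Fin m → MvPolynomial (Fin n) R₀) => fun i =>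
      MvPolynomial.map (algebraMap R₀ E) (t i)) '' (T₀ : Set (Fin m → MvPolynomial (Fin n) R₀)))

theorem nonempty_model (E : Type u) [CommRing E] [Algebra R₀ E] :
    Nonempty ((E ⊗[R₀] Pres T₀) ≃ₗ[E] Model T₀ E) :=
  GenericFreeDomain.nonempty_quotEquiv T₀ _ rfl

theorem flat_baseChange_of_equiv {R E : Type u} [CommRing R] [CommRing E] [Algebra R₀ R]
    [Algebra R₀ E] [Algebra R E] [IsScalarTower R₀ R E] {N : Type u} [AddCommGroup N] [Module R N]
    (e : (R ⊗[R₀] Pres T₀) ≃ₗ[R] N) :
    Module.Flat E (E ⊗[R] N) ↔ Module.Flat E (E ⊗[R₀] Pres T₀) := by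
  let e' := (LinearEquiv.baseChange R E _ _ e).symm.trans
    (AlgebraTensorModule.cancelBaseChange R₀ R E E (Pres T₀))
  exact ⟨fun _ => Module.Flat.of_linearEquiv e'.symm, fun _ => Module.Flat.of_linearEquiv e'⟩

theorem injective_lTensor_of_equiv {R : Type u} [CommRing R] {M M' N N' : Type u} [AddCommGroup M]
    [Module R M] [AddCommGroup M'] [Module R M'] [AddCommGroup N] [Module R N] [AddCommGroup N']
    [Module R N'] (e : M ≃ₗ[R] M') (f : N →ₗ[R] N') (h : Function.Injective (f.lTensor M)) :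
    Function.Injective (f.lTensor M') := by
  have : f.lTensor M' = (e.rTensor N').toLinearMap ∘ₗ f.lTensor M ∘ₗ (e.rTensor N).symm.toLinearMap := by
    ext a b
    simp
  rw [this]
  exact (e.rTensor N').injective.comp (h.comp (e.rTensor N).symm.injective)

theorem injective_ideal_iff {R A : Type u} [CommRing R] [CommRing A] [Algebra R A] (M : Type u)
    [AddCommGroup M] [Module R M] (a : Ideal A) :
    Function.Injective (a.subtype.lTensor (A ⊗[R] M)) ↔
      Function.Injective ((a.restrictScalars R).subtype.lTensor M) := by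
  have h := injective_lTensor_baseChange_iff (R := R) M a.subtype
  exact h

section step

variable {ι : Type u} [Preorder ι] (G : ι → Type u) [∀ i, CommRing (G i)] [∀ i, Algebra R₀ (G i)]
  [∀ i, IsNoetherianRing (G i)]
  (g : ∀ i j, i ≤ j → G i →ₐ[R₀] G j)
  (A : Type u) [CommRing A] [Algebra R₀ A] [∀ i, Algebra (G i) A] [∀ i, IsScalarTower R₀ (G i) A]

/-- The step of the induction: flatness modulo `J` and away from `J` imply flatness at a stage. -/
theorem step (hcolim : FlatCA.IsDirectedColimitRing G (fun i j h => (g i j h).toRingHom) A)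
    (hA : Module.Flat A (A ⊗[R₀] Pres T₀)) (J : Ideal R₀) (i₀ : ι)
    (hJ : Module.Flat (G i₀ ⧸ J.map (algebraMap R₀ (G i₀)))
      ((G i₀ ⧸ J.map (algebraMap R₀ (G i₀))) ⊗[R₀] Pres T₀))
    (haway : ∀ (E : Type u) [CommRing E] [Algebra R₀ E] (k : ι) (φ : G k →ₐ[R₀] E),
      J.map (algebraMap R₀ E) = ⊤ → Module.Flat E (E ⊗[R₀] Pres T₀)) :
    ∃ i, Module.Flat (G i) (G i ⊗[R₀] Pres T₀) := by
  classical
  obtain ⟨hdir, hne, hid, htrans, hcomp, hsurj, hker⟩ := hcolim
  have : IsDirectedOrder ι := hdir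
  let R := G i₀
  let JR : Ideal R := J.map (algebraMap R₀ R)
  let inst : ∀ j : {j // i₀ ≤ j}, Algebra R (G j.1) := fun j => (g i₀ j.1 j.2).toRingHom.toAlgebra
  have hinst : ∀ (j : {j // i₀ ≤ j}) (r : R), algebraMap R (G j.1) r = g i₀ j.1 j.2 r := fun j r => rfl
  have tow : ∀ j : {j // i₀ ≤ j}, IsScalarTower R₀ R (G j.1) := fun j =>
    IsScalarTower.of_algebraMap_eq fun r => ((g i₀ j.1 j.2).commutes r).symm
  have towA : ∀ j : {j // i₀ ≤ j}, ∀ r : R,
      algebraMap (G j.1) A (algebraMap R (G j.1) r) = algebraMap R A r := fun j r =>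
    RingHom.congr_fun (hcomp i₀ j.1 j.2) r
  have : IsDirectedOrder {j // i₀ ≤ j} := ⟨fun a b => by
    obtain ⟨c, h1, h2⟩ := exists_ge_ge a.1 b.1
    exact ⟨⟨c, a.2.trans h1⟩, h1, h2⟩⟩
  obtain ⟨e⟩ := nonempty_model T₀ R
  let N := Model T₀ R
  let S := MvPolynomial (Fin n) R
  let V : {j // i₀ ≤ j} → Type u := fun j => ↥((JR.map (algebraMap R (G j.1))).restrictScalars R)
  let instV : ∀ j, Module R (V j) := fun j =>
    ((JR.map (algebraMap R (G j.1))).restrictScalars R).module
  let gl : ∀ a b : {j // i₀ ≤ j}, a ≤ b → G a.1 →ₗ[R] G b.1 := fun a b h =>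
    { toFun := g a.1 b.1 h
      map_add' := map_add _
      map_smul' := fun r x => by
        rw [Algebra.smul_def, map_mul, RingHom.id_apply, Algebra.smul_def, hinst, hinst]
        exact congrArg (· * _) (RingHom.congr_fun (htrans i₀ a.1 b.1 a.2 h) r) }
  have hV : ∀ (a b : {j // i₀ ≤ j}) (h : a ≤ b) (x : G a.1),
      x ∈ JR.map (algebraMap R (G a.1)) → gl a b h x ∈ JR.map (algebraMap R (G b.1)) := by
    intro a b h x hx
    have h1 := Ideal.mem_map_of_mem (g a.1 b.1 h).toRingHom hx
    rw [Ideal.map_map] at h1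
    have e : (g a.1 b.1 h).toRingHom.comp (algebraMap R (G a.1)) = algebraMap R (G b.1) :=
      htrans i₀ a.1 b.1 a.2 h
    rw [e] at h1
    exact h1
  let t : ∀ a b, a ≤ b → V a →ₗ[R] V b := fun a b h => (gl a b h).restrict (hV a b h)
  let W := ↥((JR.map (algebraMap R A)).restrictScalars R)
  let instW : Module R W := ((JR.map (algebraMap R A)).restrictScalars R).module
  let pl : ∀ a : {j // i₀ ≤ j}, G a.1 →ₗ[R] A := fun a =>
    { toFun := algebraMap (G a.1) A
      map_add' := map_add _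
      map_smul' := fun r x => by
        rw [Algebra.smul_def, map_mul, RingHom.id_apply, towA, ← Algebra.smul_def] }
  have hpV : ∀ (a : {j // i₀ ≤ j}) (x : G a.1),
      x ∈ JR.map (algebraMap R (G a.1)) → pl a x ∈ JR.map (algebraMap R A) := by
    intro a x hx
    have h1 := Ideal.mem_map_of_mem (algebraMap (G a.1) A) hx
    rw [Ideal.map_map] at h1
    have e : (algebraMap (G a.1) A).comp (algebraMap R (G a.1)) = algebraMap R A :=
      RingHom.ext (towA a)
    rw [e] at h1
    exact h1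
  let p : ∀ a, V a →ₗ[R] W := fun a => (pl a).restrict (hpV a)
  let base : {j // i₀ ≤ j} := ⟨i₀, le_rfl⟩
  have hps : ∀ w : W, ∃ a v, p a v = w := by
    rintro ⟨w, hw⟩
    suffices ∃ (a : {j // i₀ ≤ j}) (v : G a.1), v ∈ JR.map (algebraMap R (G a.1)) ∧ pl a v = w by
      obtain ⟨a, v, hv, hvw⟩ := this
      exact ⟨a, ⟨v, hv⟩, Subtype.ext hvw⟩
    have hw' : w ∈ Submodule.span A (algebraMap R A '' JR) := hw
    clear hw
    induction hw' using Submodule.span_induction with
    | mem w hw =>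
      obtain ⟨r, hr, rfl⟩ := hw
      exact ⟨base, algebraMap R (G base.1) r, Ideal.mem_map_of_mem _ hr, towA base r⟩
    | zero => exact ⟨base, 0, zero_mem _, map_zero _⟩
    | add x y _ _ hx hy =>
      obtain ⟨a, v, hv, rfl⟩ := hx
      obtain ⟨b, v', hv', rfl⟩ := hy
      obtain ⟨c, h1, h2⟩ := exists_ge_ge a b
      refine ⟨c, gl a c h1 v + gl b c h2 v', add_mem (hV a c h1 v hv) (hV b c h2 v' hv'), ?_⟩
      rw [map_add]
      exact congrArg₂ (· + ·) (RingHom.congr_fun (hcomp a.1 c.1 h1) v)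
        (RingHom.congr_fun (hcomp b.1 c.1 h2) v')
    | smul s x _ hx =>
      obtain ⟨a, v, hv, rfl⟩ := hx
      obtain ⟨k, s', rfl⟩ := hsurj s
      obtain ⟨c, h1, h2⟩ := exists_ge_ge a.1 k
      refine ⟨⟨c, a.2.trans h1⟩, g k c h2 s' * gl a ⟨c, a.2.trans h1⟩ h1 v,
        Ideal.mul_mem_left _ _ (hV a ⟨c, a.2.trans h1⟩ h1 v hv), ?_⟩
      show algebraMap (G c) A _ = algebraMap (G k) A s' • pl a v
      rw [map_mul, smul_eq_mul]
      exact congrArg₂ (· * ·) (RingHom.congr_fun (hcomp k c h2) s')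
        (RingHom.congr_fun (hcomp a.1 c h1) v)
  have hpk : ∀ a v, p a v = 0 → ∃ b, ∃ h : a ≤ b, t a b h v = 0 := by
    intro a v hv
    obtain ⟨k, hk, hk0⟩ := hker a.1 v.1 (congrArg Subtype.val hv)
    exact ⟨⟨k, a.2.trans hk⟩, hk, Subtype.ext hk0⟩
  have htt : ∀ a b c (hab : a ≤ b) (hbc : b ≤ c),
      (t b c hbc).comp (t a b hab) = t a c (hab.trans hbc) := fun a b c hab hbc =>
    LinearMap.ext fun x => Subtype.ext (RingHom.congr_fun (htrans a.1 b.1 c.1 hab hbc) x.1)
  have hpt : ∀ a b (h : a ≤ b), (p b).comp (t a b h) = p a := fun a b h =>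
    LinearMap.ext fun x => Subtype.ext (RingHom.congr_fun (hcomp a.1 b.1 h) x.1)
  -- injectivity over the colimit
  have : Module.Flat A (A ⊗[R] N) := (flat_baseChange_of_equiv T₀ e).2 hA
  have hinjA : Function.Injective (((JR.map (algebraMap R A)).restrictScalars R).subtype.lTensor N) :=
    (injective_ideal_iff N (JR.map (algebraMap R A))).1
      (Module.Flat.lTensor_preserves_injective_linearMap _ (Submodule.injective_subtype _))
  -- the kernel
  let f := AlgebraTensorModule.lTensor S N JR.subtype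
  have : IsNoetherianRing S := inferInstance
  have : Module.Finite R ↥JR := Module.Finite.iff_fg.2 (IsNoetherian.noetherian JR)
  have : Module.Finite S (N ⊗[R] ↥JR) :=
    Module.Finite.equiv (TensorProduct.AlgebraTensorModule.cancelBaseChange R S S N ↥JR)
  have : IsNoetherian S (N ⊗[R] ↥JR) := isNoetherian_of_isNoetherianRing_of_finite S _
  obtain ⟨K, hK⟩ := IsNoetherian.noetherian (LinearMap.ker f)
  let v₀ : ↥JR →ₗ[R] V base := toExt JR
  have hzero : ∀ k ∈ K, (p base).lTensor N (v₀.lTensor N k) = 0 := by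
    intro k hk
    have hk' : JR.subtype.lTensor N k = 0 := by
      have : k ∈ LinearMap.ker f := hK ▸ Submodule.subset_span hk
      exact this
    apply hinjA
    rw [map_zero]
    have e1 : ((JR.map (algebraMap R A)).restrictScalars R).subtype ∘ₗ (p base ∘ₗ v₀) =
        Algebra.linearMap R A ∘ₗ JR.subtype := LinearMap.ext fun x => towA base x.1
    calc _ = ((((JR.map (algebraMap R A)).restrictScalars R).subtype ∘ₗ (p base ∘ₗ v₀)).lTensor N) k := by
          rw [LinearMap.lTensor_comp, LinearMap.lTensor_comp]; rfl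
      _ = 0 := by rw [e1, LinearMap.lTensor_comp, LinearMap.comp_apply, hk', map_zero]
  choose! b hb hb0 using fun k hk => exists_kill t p htt hpt hps hpk (v₀.lTensor N k) (hzero k hk)
  obtain ⟨D, hD⟩ := Finset.exists_le (insert base (K.image b))
  have hDb : base ≤ D := hD _ (Finset.mem_insert_self _ _)
  have hkills : ∀ k, JR.subtype.lTensor N k = 0 → (toExt (R' := G D.1) JR).lTensor N k = 0 := by
    have e1 : toExt (R' := G D.1) JR = (t base D hDb).comp v₀ := LinearMap.ext fun x => Subtype.ext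
      (RingHom.congr_fun (htrans i₀ i₀ D.1 le_rfl D.2) x.1).symm
    let ψ := AlgebraTensorModule.lTensor S N (toExt (R' := G D.1) JR)
    have : LinearMap.ker f ≤ LinearMap.ker ψ := by
      rw [← hK, Submodule.span_le]
      intro k hk
      show (toExt (R' := G D.1) JR).lTensor N k = 0
      have hbD : b k ≤ D := hD _ (Finset.mem_insert_of_mem (Finset.mem_image_of_mem _ hk))
      rw [e1, LinearMap.lTensor_comp, LinearMap.comp_apply,
        ← htt base (b k) D (hb k hk) hbD, LinearMap.lTensor_comp, LinearMap.comp_apply, hb0 k hk,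
        map_zero]
    exact fun k hk => this hk
  -- modulo `J`
  have : Module.Flat (R ⧸ JR) ((R ⧸ JR) ⊗[R] N) := (flat_baseChange_of_equiv T₀ e).2 hJ
  have hinjD := injective_of_kills (R' := G D.1) JR hkills
  refine ⟨D.1, ?_⟩
  obtain ⟨eD⟩ := nonempty_model T₀ (G D.1)
  let ND := Model T₀ (G D.1)
  let JD : Ideal (G D.1) := JR.map (algebraMap R (G D.1))
  have eJD : JD = J.map (algebraMap R₀ (G D.1)) := by
    rw [IsScalarTower.algebraMap_eq R₀ R (G D.1), ← Ideal.map_map]
  suffices Module.Flat (G D.1) ND from Module.Flat.of_linearEquiv eD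
  let eN : (G D.1) ⊗[R] N ≃ₗ[G D.1] ND :=
    ((LinearEquiv.baseChange R (G D.1) _ _ e).symm.trans
      (AlgebraTensorModule.cancelBaseChange R₀ R (G D.1) (G D.1) (Pres T₀))).trans eD
  have : Module.Flat (G D.1 ⧸ JD) ((G D.1 ⧸ JD) ⊗[G D.1] ND) := by
    let : Algebra (R ⧸ JR) (G D.1 ⧸ JD) :=
      (Ideal.quotientMap JD (algebraMap R (G D.1)) Ideal.le_comap_map).toAlgebra
    have : IsScalarTower R₀ (R ⧸ JR) (G D.1 ⧸ JD) := IsScalarTower.of_algebraMap_eq fun r =>
      congrArg (Ideal.Quotient.mk JD) (IsScalarTower.algebraMap_apply R₀ R (G D.1) r)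
    have := FlatAdic.flat_of_tower (A := R₀) (M := Pres T₀) (R ⧸ JR) (G D.1 ⧸ JD)
    exact (flat_baseChange_of_equiv T₀ eD).2 this
  refine flat_of_stratum (S := MvPolynomial (Fin n) (G D.1)) JD
    (injective_lTensor_of_equiv eN _ ((injective_ideal_iff N JD).2 hinjD))
    fun j hj => ?_
  refine (flat_baseChange_of_equiv T₀ eD).2 (haway _ D.1
    (IsScalarTower.toAlgHom R₀ (G D.1) (Localization.Away j)) ?_)
  rw [IsScalarTower.algebraMap_eq R₀ (G D.1) (Localization.Away j), ← Ideal.map_map, ← eJD]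
  exact Ideal.eq_top_of_isUnit_mem _ (Ideal.mem_map_of_mem _ hj)
    (IsLocalization.Away.algebraMap_isUnit j)

end step

end Groth.Agent.H47.FlatStage

namespace Groth.Agent.H47.FlatStage

variable {R₀ : Type u} [CommRing R₀] [IsNoetherianRing R₀] {n m : ℕ}
  (T₀ : Finset (Fin m → MvPolynomial (Fin n) R₀))

omit [IsNoetherianRing R₀] in
theorem algHom_mem_map {E F : Type u} [CommRing E] [CommRing F] [Algebra R₀ E] [Algebra R₀ F]
    (φ : E →ₐ[R₀] F) {I : Ideal R₀} {x : E} (hx : x ∈ I.map (algebraMap R₀ E)) :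
    φ x ∈ I.map (algebraMap R₀ F) := by
  rw [← φ.comp_algebraMap, ← Ideal.map_map]
  exact Ideal.mem_map_of_mem _ hx

/-- a colimit system stays one modulo an ideal of the base -/
theorem colim_quotient {ι : Type u} [Preorder ι] {G : ι → Type u} [∀ i, CommRing (G i)]
    [∀ i, Algebra R₀ (G i)] (g : ∀ i j, i ≤ j → G i →ₐ[R₀] G j) (A : Type u) [CommRing A]
    [Algebra R₀ A] [∀ i, Algebra (G i) A] [∀ i, IsScalarTower R₀ (G i) A]
    (hcolim : FlatCA.IsDirectedColimitRing G (fun i j h => (g i j h).toRingHom) A) (I : Ideal R₀)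
    {i : ι} (x : G i) (hx : algebraMap (G i) A x ∈ I.map (algebraMap R₀ A)) :
    ∃ j, ∃ h : i ≤ j, g i j h x ∈ I.map (algebraMap R₀ (G j)) := by
  obtain ⟨hdir, hne, hid, htrans, hcomp, hsurj, hker⟩ := hcolim
  have : IsDirectedOrder ι := hdir
  have key : ∀ w ∈ Submodule.span A (algebraMap R₀ A '' I),
      ∃ (a : ι) (v : G a), v ∈ I.map (algebraMap R₀ (G a)) ∧ algebraMap (G a) A v = w := by
    intro w hw
    induction hw using Submodule.span_induction with
    | mem w hw =>
      obtain ⟨r, hr, rfl⟩ := hw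
      exact ⟨i, algebraMap R₀ (G i) r, Ideal.mem_map_of_mem _ hr,
        (IsScalarTower.algebraMap_apply R₀ (G i) A r).symm⟩
    | zero => exact ⟨i, 0, zero_mem _, map_zero _⟩
    | add x y _ _ hx hy =>
      obtain ⟨a, v, hv, rfl⟩ := hx
      obtain ⟨b, v', hv', rfl⟩ := hy
      obtain ⟨c, h1, h2⟩ := exists_ge_ge a b
      refine ⟨c, g a c h1 v + g b c h2 v', add_mem ?_ ?_, ?_⟩
      · exact algHom_mem_map (g a c h1) hv
      · exact algHom_mem_map (g b c h2) hv'
      · rw [map_add]
        exact congrArg₂ (· + ·) (RingHom.congr_fun (hcomp a c h1) v)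
          (RingHom.congr_fun (hcomp b c h2) v')
    | smul s x _ hx =>
      obtain ⟨a, v, hv, rfl⟩ := hx
      obtain ⟨k, s', rfl⟩ := hsurj s
      obtain ⟨c, h1, h2⟩ := exists_ge_ge a k
      refine ⟨c, g k c h2 s' * g a c h1 v, Ideal.mul_mem_left _ _ ?_, ?_⟩
      · exact algHom_mem_map (g a c h1) hv
      · rw [map_mul, smul_eq_mul]
        exact congrArg₂ (· * ·) (RingHom.congr_fun (hcomp k c h2) s')
          (RingHom.congr_fun (hcomp a c h1) v)
  obtain ⟨a, v, hv, hva⟩ := key _ hx
  obtain ⟨c, h1, h2⟩ := exists_ge_ge i a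
  have h0 : algebraMap (G c) A (g i c h1 x - g a c h2 v) = 0 := by
    rw [map_sub, sub_eq_zero]
    exact (RingHom.congr_fun (hcomp i c h1) x).trans
      (hva.symm.trans (RingHom.congr_fun (hcomp a c h2) v).symm)
  obtain ⟨j, hj, hj0⟩ := hker c _ h0
  refine ⟨j, h1.trans hj, ?_⟩
  have e : g i j (h1.trans hj) x = g a j (h2.trans hj) v := by
    have h3 : g c j hj (g i c h1 x - g a c h2 v) = 0 := hj0
    rw [map_sub, sub_eq_zero] at h3
    rw [show g i j (h1.trans hj) x = g c j hj (g i c h1 x) from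
      (RingHom.congr_fun (htrans i c j h1 hj) x).symm, h3]
    exact RingHom.congr_fun (htrans a c j h2 hj) v
  rw [e]
  exact algHom_mem_map (g a j (h2.trans hj)) hv

/-- Flatness descends along colimits of Noetherian algebras. -/
theorem exists_flat_stage {ι : Type u} [Preorder ι] (G : ι → Type u) [∀ i, CommRing (G i)]
    [∀ i, Algebra R₀ (G i)] [∀ i, IsNoetherianRing (G i)]
    (g : ∀ i j, i ≤ j → G i →ₐ[R₀] G j)
    (A : Type u) [CommRing A] [Algebra R₀ A] [∀ i, Algebra (G i) A] [∀ i, IsScalarTower R₀ (G i) A]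
    (hcolim : FlatCA.IsDirectedColimitRing G (fun i j h => (g i j h).toRingHom) A)
    (hA : Module.Flat A (A ⊗[R₀] Pres T₀)) :
    ∃ i, Module.Flat (G i) (G i ⊗[R₀] Pres T₀) := by
  classical
  have main : ∀ I : Ideal R₀, ∃ i, Module.Flat (G i ⧸ I.map (algebraMap R₀ (G i)))
      ((G i ⧸ I.map (algebraMap R₀ (G i))) ⊗[R₀] Pres T₀) := by
    intro I
    induction I using IsWellFounded.induction (α := Ideal R₀) (· > ·) with
    | ind I ih =>
    by_cases htop : I = ⊤
    · obtain ⟨i⟩ := hcolim.2.1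
      refine ⟨i, ?_⟩
      have : Subsingleton (G i ⧸ I.map (algebraMap R₀ (G i))) := by
        rw [Ideal.Quotient.subsingleton_iff, htop, Ideal.map_top]
      exact Module.Flat.of_free
    -- the ideal to add
    obtain ⟨J, hlt, haway⟩ : ∃ J : Ideal R₀, I < J ∧ ∀ (E : Type u) [CommRing E] [Algebra R₀ E],
        I.map (algebraMap R₀ E) = ⊥ → J.map (algebraMap R₀ E) = ⊤ →
          Module.Flat E (E ⊗[R₀] Pres T₀) := by
      by_cases hrad : I.radical = I
      · obtain ⟨p, hp⟩ := (Ideal.nonempty_minimalPrimes htop)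
        have hpp : p.IsPrime := hp.1.1
        have hfin := Ideal.finite_minimalPrimes_of_isNoetherianRing R₀ I
        have hg : ∃ a, a ∉ p ∧ ∀ q ∈ I.minimalPrimes, q ≠ p → a ∈ q := by
          let s := hfin.toFinset.erase p
          have hne : ¬ s.inf id ≤ p := fun h => by
            obtain ⟨q, hq, hqp⟩ := (Ideal.IsPrime.inf_le' hpp).1 h
            obtain ⟨hqne, hqm⟩ := Finset.mem_erase.1 hq
            rw [Set.Finite.mem_toFinset] at hqm
            exact hqne (le_antisymm hqp (hp.2 hqm.1 hqp))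
          obtain ⟨a, ha, hap⟩ := SetLike.not_le_iff_exists.1 hne
          refine ⟨a, hap, fun q hq hqp => ?_⟩
          exact (Finset.inf_le (f := id) (Finset.mem_erase.2 ⟨hqp, hfin.mem_toFinset.2 hq⟩)) ha
        obtain ⟨a, hap, haq⟩ := hg
        let Dq := R₀ ⧸ p
        obtain ⟨eq'⟩ := nonempty_model T₀ Dq
        obtain ⟨t, ht0, htfree⟩ := GenericFreeDomain.gf_of_finiteType (R := Dq)
          (MvPolynomial (Fin n) Dq) (Model T₀ Dq)
        obtain ⟨t, rfl⟩ := Ideal.Quotient.mk_surjective t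
        have htp : t ∉ p := fun h => ht0 (Ideal.Quotient.eq_zero_iff_mem.2 h)
        have hatp : a * t ∉ p := fun h => (hpp.mem_or_mem h).elim hap htp
        refine ⟨I ⊔ Ideal.span {a * t}, lt_of_le_not_ge le_sup_left fun h => hatp
          (hp.1.2 (h (Ideal.mem_sup_right (Ideal.mem_span_singleton_self _)))), ?_⟩
        intro E _ _ hI hJ
        rw [Ideal.map_sup, hI, bot_sup_eq, Ideal.map_span, Set.image_singleton,
          Ideal.span_singleton_eq_top, map_mul] at hJ
        obtain ⟨hua, hut⟩ := IsUnit.mul_iff.1 hJ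
        have hp0 : ∀ x ∈ p, algebraMap R₀ E x = 0 := by
          intro x hx
          have h1 : a * x ∈ I := by
            rw [← hrad, ← Ideal.sInf_minimalPrimes, Ideal.mem_sInf]
            intro q hq
            by_cases hqp : q = p
            · exact hqp ▸ p.mul_mem_left a hx
            · exact q.mul_mem_right x (haq q hq hqp)
          have h2 := Ideal.mem_map_of_mem (algebraMap R₀ E) h1
          rw [hI, Ideal.mem_bot, map_mul] at h2
          exact hua.mul_right_eq_zero.1 h2
        let φ : Dq →+* E := Ideal.Quotient.lift p (algebraMap R₀ E) hp0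
        let : Algebra Dq E := φ.toAlgebra
        have : IsScalarTower R₀ Dq E := IsScalarTower.of_algebraMap_eq fun r => rfl
        let L := Localization.Away (Ideal.Quotient.mk p t)
        let ψ : L →+* E := IsLocalization.Away.lift (Ideal.Quotient.mk p t) (g := algebraMap Dq E)
          (by simpa [RingHom.algebraMap_toAlgebra, φ] using hut)
        let : Algebra L E := ψ.toAlgebra
        have : IsScalarTower Dq L E := IsScalarTower.of_algebraMap_eq fun r =>
          (IsLocalization.Away.lift_eq _ _ r).symm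
        have : Module.Free E (E ⊗[Dq] Model T₀ Dq) :=
          Module.Free.of_equiv (AlgebraTensorModule.cancelBaseChange Dq L E E (Model T₀ Dq))
        exact (flat_baseChange_of_equiv T₀ eq').1 inferInstance
      · refine ⟨I.radical, lt_of_le_of_ne Ideal.le_radical (Ne.symm hrad), fun E _ _ hI hJ => ?_⟩
        obtain ⟨k, hk⟩ := Ideal.exists_radical_pow_le_of_fg I I.radical.fg_of_isNoetherianRing
        have h1 := Ideal.map_mono (f := algebraMap R₀ E) hk
        rw [Ideal.map_pow, hJ, Ideal.top_pow, hI, top_le_iff] at h1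
        have h2 : (1 : E) ∈ (⊥ : Ideal E) := h1 ▸ Submodule.mem_top
        have : Subsingleton E := subsingleton_of_zero_eq_one (Ideal.mem_bot.1 h2).symm
        exact Module.Flat.of_free
    obtain ⟨i₀, hi₀⟩ := ih J hlt
    -- the system modulo `I`
    obtain ⟨hdir, hne, hid, htrans, hcomp, hsurj, hker⟩ := hcolim
    let G' := fun i => G i ⧸ I.map (algebraMap R₀ (G i))
    let A' := A ⧸ I.map (algebraMap R₀ A)
    let g' : ∀ i j, i ≤ j → G' i →ₐ[R₀] G' j := fun i j h =>
      Ideal.quotientMapₐ _ (g i j h)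
        fun x hx => algHom_mem_map (g i j h) hx
    let inst : ∀ i, Algebra (G' i) A' := fun i =>
      (Ideal.quotientMap _ (algebraMap (G i) A) (by
        rw [← Ideal.map_le_iff_le_comap, Ideal.map_map, ← IsScalarTower.algebraMap_eq])).toAlgebra
    have : ∀ i, IsScalarTower R₀ (G' i) A' := fun i => IsScalarTower.of_algebraMap_eq fun r =>
      congrArg (Ideal.Quotient.mk _) (IsScalarTower.algebraMap_apply R₀ (G i) A r)
    have hc' : FlatCA.IsDirectedColimitRing G' (fun i j h => (g' i j h).toRingHom) A' := by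
      refine ⟨hdir, hne, fun i => ?_, fun i j k hij hjk => ?_, fun i j h => ?_, fun a => ?_,
        fun i x hx => ?_⟩
      · exact Ideal.Quotient.ringHom_ext (RingHom.ext fun x =>
          congrArg (Ideal.Quotient.mk _) (RingHom.congr_fun (hid i) x))
      · exact Ideal.Quotient.ringHom_ext (RingHom.ext fun x =>
          congrArg (Ideal.Quotient.mk _) (RingHom.congr_fun (htrans i j k hij hjk) x))
      · exact Ideal.Quotient.ringHom_ext (RingHom.ext fun x =>
          congrArg (Ideal.Quotient.mk _) (RingHom.congr_fun (hcomp i j h) x))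
      · obtain ⟨a, rfl⟩ := Ideal.Quotient.mk_surjective a
        obtain ⟨i, x, rfl⟩ := hsurj a
        exact ⟨i, Ideal.Quotient.mk _ x, rfl⟩
      · obtain ⟨x, rfl⟩ := Ideal.Quotient.mk_surjective x
        obtain ⟨j, hj, hj0⟩ := colim_quotient g A
          ⟨hdir, hne, hid, htrans, hcomp, hsurj, hker⟩ I x (Ideal.Quotient.eq_zero_iff_mem.1 hx)
        exact ⟨j, hj, Ideal.Quotient.eq_zero_iff_mem.2 hj0⟩
    have hA' : Module.Flat A' (A' ⊗[R₀] Pres T₀) := FlatAdic.flat_of_tower (A := R₀) A A'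
    refine step T₀ G' g' A' hc' hA' J i₀ ?_ fun E _ _ k φ hJE => haway E ?_ hJE
    · let : Algebra (G i₀ ⧸ J.map (algebraMap R₀ (G i₀))) (G' i₀ ⧸ J.map (algebraMap R₀ (G' i₀))) :=
        (Ideal.quotientMap _ (Ideal.Quotient.mk (I.map (algebraMap R₀ (G i₀)))) (by
          rw [← Ideal.map_le_iff_le_comap, Ideal.map_map]
          exact le_rfl)).toAlgebra
      have : IsScalarTower R₀ (G i₀ ⧸ J.map (algebraMap R₀ (G i₀)))
          (G' i₀ ⧸ J.map (algebraMap R₀ (G' i₀))) := IsScalarTower.of_algebraMap_eq fun r => rfl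
      exact FlatAdic.flat_of_tower (A := R₀) (G i₀ ⧸ J.map (algebraMap R₀ (G i₀))) _
    · rw [← φ.comp_algebraMap, ← Ideal.map_map]
      have : I.map (algebraMap R₀ (G' k)) = ⊥ := by
        rw [show algebraMap R₀ (G' k) = (Ideal.Quotient.mk _).comp (algebraMap R₀ (G k)) from rfl,
          ← Ideal.map_map, Ideal.map_quotient_self]
      rw [this, Ideal.map_bot]
  obtain ⟨i, hi⟩ := main ⊥
  refine ⟨i, ?_⟩
  have e : (⊥ : Ideal R₀).map (algebraMap R₀ (G i)) = ⊥ := Ideal.map_bot
  let ε : (G i ⧸ (⊥ : Ideal R₀).map (algebraMap R₀ (G i))) →+* G i :=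
    Ideal.Quotient.lift _ (RingHom.id _) fun x hx => by rw [e] at hx; exact hx
  let := ε.toAlgebra
  have : IsScalarTower R₀ (G i ⧸ (⊥ : Ideal R₀).map (algebraMap R₀ (G i))) (G i) :=
    IsScalarTower.of_algebraMap_eq fun r => rfl
  exact FlatAdic.flat_of_tower (A := R₀) (G i ⧸ (⊥ : Ideal R₀).map (algebraMap R₀ (G i))) (G i)

end Groth.Agent.H47.FlatStage
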