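import Groth.Agent.H47.FlatNormal
import Groth.Agent.H46.Dvr
import Groth.Agent.H25.MoriNagata.Semilocal
import Mathlib.RingTheory.Valuation.LocalSubring
import Mathlib.RingTheory.Ideal.MinimalPrime.Noetherian
import Mathlib.RingTheory.Ideal.GoingUp

/-!
# Flatness tested by valuation rings and discrete valuation rings
-/

set_option autoImplicit false
set_option linter.style.haveILetI false

universe u

open TensorProduct IsLocalRing

attribute [local instance] Algebra.TensorProduct.rightAlgebra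

namespace Groth.Agent.H47.FlatValuative

open Groth.Agent.H47.FlatLocusColim

/-- The image of the fractions of a subring in a bigger field. -/
theorem mem_of_isIntegral {L : Type u} [Field L] (V : ValuationSubring L) {x : L}
    (hx : IsIntegral V x) : x ∈ V := by
  obtain ⟨y, hy⟩ := IsIntegrallyClosed.algebraMap_eq_of_integral (R := V) (K := L) hx
  rw [← hy]
  exact y.2

/-- The image of the fractions of a subring in a bigger field. -/
theorem mem_of_isIntegral_lift {A K L : Type u} [CommRing A] [Field K] [Algebra A K] [Field L]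
    (f : A →+* L) (ψ : K →+* L) (hψ : ∀ a, ψ (algebraMap A K a) = f a) (V : ValuationSubring L)
    (hf : ∀ a, f a ∈ V) {x : K} (hx : IsIntegral A x) : ψ x ∈ V := by
  obtain ⟨p, hp, hpx⟩ := hx
  let f' : A →+* V := f.codRestrict V.toSubring hf
  refine mem_of_isIntegral V ⟨p.map f', hp.map _, ?_⟩
  rw [Polynomial.eval₂_map]
  have e : (algebraMap V L).comp f' = ψ.comp (algebraMap A K) :=
    RingHom.ext fun a => (hψ a).symm
  rw [e, ← Polynomial.hom_eval₂, hpx, map_zero]

/-- A nonzero prime of a Noetherian domain is the centre of a discrete valuation ring. -/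
theorem exists_dvr_centre {T : Type u} [CommRing T] [IsDomain T] [IsNoetherianRing T] (n : Ideal T)
    [n.IsPrime] (hn : n ≠ ⊥) :
    ∃ (L : Type u) (_ : Field L) (V : ValuationSubring L) (_ : IsDiscreteValuationRing V)
      (g : T →+* V), Function.Injective g ∧ (maximalIdeal V).comap g = n := by
  let C := Localization.AtPrime n
  haveI : IsNoetherianRing C := IsLocalization.isNoetherianRing n.primeCompl C inferInstance
  haveI : IsDomain C := IsLocalization.isDomain_localization n.primeCompl_le_nonZeroDivisors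
  have hC : ¬ IsField C := fun hC => by
    obtain ⟨a, ha, ha0⟩ := Submodule.exists_mem_ne_zero_of_ne_bot hn
    have : algebraMap T C a ∈ maximalIdeal C :=
      (IsLocalization.AtPrime.to_map_mem_maximal_iff C n a).2 ha
    rw [IsLocalRing.isField_iff_maximalIdeal_eq.1 hC, Ideal.mem_bot] at this
    exact ha0 (IsLocalization.injective C n.primeCompl_le_nonZeroDivisors (this.trans (map_zero _).symm))
  obtain ⟨V, hVd, hVmem, hVlt⟩ := H46.Dvr.exists_dvr_dominating (L := FractionRing C) hC
  let g₀ : C →+* V := (algebraMap C (FractionRing C)).codRestrict V.toSubring hVmem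
  refine ⟨_, inferInstance, V, hVd, g₀.comp (algebraMap T C), fun x y hxy => ?_, ?_⟩
  · exact IsLocalization.injective C n.primeCompl_le_nonZeroDivisors
      (IsFractionRing.injective C (FractionRing C) (congrArg Subtype.val hxy))
  · have hm : maximalIdeal C ≤ (maximalIdeal V).comap g₀ := fun c hc =>
      (ValuationSubring.valuation_lt_one_iff V _).2 (hVlt c hc)
    have he : (maximalIdeal V).comap g₀ = maximalIdeal C :=
      ((maximalIdeal.isMaximal C).eq_of_le (Ideal.IsPrime.comap g₀).ne_top hm).symm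
    rw [← Ideal.comap_comap, he]
    exact Localization.AtPrime.under_maximalIdeal

variable {R₀ : Type u} [CommRing R₀] (B₀ : Type u) [CommRing B₀] [Algebra R₀ B₀]

/-- Flatness over a flat extension of the base descends to the point below. -/
theorem flat_descend {E F : Type u} [CommRing E] [CommRing F] [Algebra R₀ E] [Algebra R₀ F]
    (φ : E →ₐ[R₀] F) (hφ : φ.toRingHom.Flat) (p' : PrimeSpectrum (F ⊗[R₀] B₀))
    (h : Module.Flat F (LocalizedModule p'.asIdeal.primeCompl (F ⊗[R₀] B₀))) :
    Module.Flat E (LocalizedModule (p'.comap (stageMap (S₀ := B₀) φ).toRingHom).asIdeal.primeCompl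
      (E ⊗[R₀] B₀)) := by
  letI : Algebra E F := φ.toRingHom.toAlgebra
  haveI : Module.Flat E F := hφ
  have : IsScalarTower R₀ E F := IsScalarTower.of_algebraMap_eq fun a => (φ.commutes a).symm
  letI : Algebra (E ⊗[R₀] B₀) (F ⊗[R₀] B₀) := (stageMap (S₀ := B₀) φ).toRingHom.toAlgebra
  have : IsScalarTower E (E ⊗[R₀] B₀) (F ⊗[R₀] B₀) :=
    IsScalarTower.of_algebraMap_eq (R := E) (S := E ⊗[R₀] B₀) (A := F ⊗[R₀] B₀) fun c => by
    show (algebraMap E F c) ⊗ₜ[R₀] (1 : B₀) = stageMap (S₀ := B₀) φ (c ⊗ₜ 1)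
    simp [stageMap]
    rfl
  haveI : Module.Flat (E ⊗[R₀] B₀) (F ⊗[R₀] B₀) := FlatFiniteInj.flat_stageMap φ hφ
  haveI := h
  haveI : Module.Flat E (LocalizedModule p'.asIdeal.primeCompl (F ⊗[R₀] B₀)) :=
    Module.Flat.trans E F _
  haveI : Module.Flat (E ⊗[R₀] B₀) (Localization.AtPrime p'.asIdeal) :=
    Module.Flat.trans (E ⊗[R₀] B₀) (F ⊗[R₀] B₀) _
  exact (Lib.FlatCA.LocalDescent.flatAt_iff (R := E) (Algebra.linearMap (E ⊗[R₀] B₀) (F ⊗[R₀] B₀))
    (IsBaseChange.linearMap _ _) p'.asIdeal).1 inferInstance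

/-- Primes avoiding the denominators lift to a localization of the base. -/
theorem exists_point {E F : Type u} [CommRing E] [CommRing F] [Algebra R₀ E] [Algebra R₀ F]
    [Algebra E F] [IsScalarTower R₀ E F] (M : Submonoid E) [IsLocalization M F]
    (p : PrimeSpectrum (E ⊗[R₀] B₀)) (hp : ∀ m ∈ M, algebraMap E (E ⊗[R₀] B₀) m ∉ p.asIdeal) :
    ∃ p' : PrimeSpectrum (F ⊗[R₀] B₀),
      p'.comap (stageMap (S₀ := B₀) (IsScalarTower.toAlgHom R₀ E F)).toRingHom = p := by
  let τ := stageMap (S₀ := B₀) (IsScalarTower.toAlgHom R₀ E F)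
  letI : Algebra (E ⊗[R₀] B₀) (F ⊗[R₀] B₀) := τ.toRingHom.toAlgebra
  have : IsScalarTower E (E ⊗[R₀] B₀) (F ⊗[R₀] B₀) :=
    IsScalarTower.of_algebraMap_eq (R := E) (S := E ⊗[R₀] B₀) (A := F ⊗[R₀] B₀) fun c => rfl
  haveI : IsScalarTower B₀ (E ⊗[R₀] B₀) (F ⊗[R₀] B₀) :=
    IsScalarTower.of_algebraMap_eq (R := B₀) (S := E ⊗[R₀] B₀) (A := F ⊗[R₀] B₀) fun b => by
    show (1 : F) ⊗ₜ[R₀] b = τ ((1 : E) ⊗ₜ[R₀] b)
    simp [τ, stageMap]
  haveI : IsScalarTower R₀ (E ⊗[R₀] B₀) (F ⊗[R₀] B₀) :=
    IsScalarTower.of_algebraMap_eq (R := R₀) (S := E ⊗[R₀] B₀) (A := F ⊗[R₀] B₀) fun a =>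
      (τ.commutes a).symm
  haveI : Algebra.IsPushout E F (E ⊗[R₀] B₀) (F ⊗[R₀] B₀) :=
    (Algebra.IsPushout.comp_iff R₀ E B₀ (E ⊗[R₀] B₀)).1 inferInstance
  haveI : Algebra.IsPushout E (E ⊗[R₀] B₀) F (F ⊗[R₀] B₀) := Algebra.IsPushout.symm inferInstance
  haveI : IsLocalization (Algebra.algebraMapSubmonoid (E ⊗[R₀] B₀) M) (F ⊗[R₀] B₀) :=
    (Algebra.isLocalization_iff_isPushout M F).2 inferInstance
  have hd : Disjoint (Algebra.algebraMapSubmonoid (E ⊗[R₀] B₀) M : Set (E ⊗[R₀] B₀)) p.asIdeal :=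
    Set.disjoint_left.2 fun x hx hx' => by
      obtain ⟨m, hm, rfl⟩ := hx
      exact hp m hm hx'
  exact ⟨⟨_, IsLocalization.isPrime_of_isPrime_disjoint _ (F ⊗[R₀] B₀) _ p.isPrime hd⟩,
    PrimeSpectrum.ext (IsLocalization.comap_map_of_isPrime_disjoint _ (F ⊗[R₀] B₀) p.isPrime hd)⟩

/-- The points over a closed point of an integral extension lie over closed points. -/
theorem isMaximal_comap {E F : Type u} [CommRing E] [IsLocalRing E] [CommRing F] [Algebra E F]
    [Algebra.IsIntegral E F] [Algebra R₀ E] [Algebra R₀ F] [IsScalarTower R₀ E F]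
    (q : PrimeSpectrum (E ⊗[R₀] B₀)) (hq : q.asIdeal.comap (algebraMap E (E ⊗[R₀] B₀)) = maximalIdeal E)
    (q' : PrimeSpectrum (F ⊗[R₀] B₀))
    (h : q'.comap (stageMap (S₀ := B₀) (IsScalarTower.toAlgHom R₀ E F)).toRingHom = q) :
    (q'.asIdeal.comap (algebraMap F (F ⊗[R₀] B₀))).comap (algebraMap E F) = maximalIdeal E ∧
      (q'.asIdeal.comap (algebraMap F (F ⊗[R₀] B₀))).IsMaximal := by
  have e : (q'.asIdeal.comap (algebraMap F (F ⊗[R₀] B₀))).comap (algebraMap E F) = maximalIdeal E := by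
    rw [← hq, ← h]
    rfl
  haveI : (q'.asIdeal.comap (algebraMap F (F ⊗[R₀] B₀))).IsPrime := Ideal.IsPrime.comap _
  exact ⟨e, Ideal.isMaximal_of_isIntegral_of_isMaximal_comap _ (by
    rw [e]; exact maximalIdeal.isMaximal E)⟩

set_option backward.isDefEq.respectTransparency false in
set_option maxHeartbeats 1600000 in
/-- Flatness over a unibranch local domain is detected by one dominating local ring. -/
theorem flat_of_unibranch [Algebra.FiniteType ℤ R₀] [Algebra.FinitePresentation R₀ B₀]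
    {A A' : Type u} [CommRing A] [IsDomain A] [IsLocalRing A] [CommRing A'] [IsLocalRing A']
    [Algebra R₀ A] [Algebra R₀ A'] [Algebra A A'] [IsScalarTower R₀ A A'] [IsLocalHom (algebraMap A A')]
    (hA : IsLocalRing (integralClosure A (FractionRing A)))
    (hinj : Function.Injective (algebraMap A A')) (q : PrimeSpectrum (A ⊗[R₀] B₀))
    (hq : q.asIdeal.comap (algebraMap A (A ⊗[R₀] B₀)) = maximalIdeal A)
    (h : ∀ q' : PrimeSpectrum (A' ⊗[R₀] B₀),
      q'.comap (stageMap (S₀ := B₀) (IsScalarTower.toAlgHom R₀ A A')).toRingHom = q →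
      q'.asIdeal.comap (algebraMap A' (A' ⊗[R₀] B₀)) = maximalIdeal A' →
      Module.Flat A' (LocalizedModule q'.asIdeal.primeCompl (A' ⊗[R₀] B₀))) :
    Module.Flat A (LocalizedModule q.asIdeal.primeCompl (A ⊗[R₀] B₀)) := by
  classical
  haveI : IsNoetherianRing R₀ := Algebra.FiniteType.isNoetherianRing ℤ R₀
  let K := FractionRing A
  let A₁ := integralClosure A K
  -- a valuation ring dominating a component of `A'`
  obtain ⟨P, hP, hPA⟩ := Ideal.exists_comap_eq_of_mem_minimalPrimes (f := algebraMap A A')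
    (I := (⊥ : Ideal A')) ⊥ (by
      rw [Ideal.comap_bot_of_injective _ hinj]
      exact ⟨⟨Ideal.isPrime_bot, le_rfl⟩, fun _ _ _ => bot_le⟩)
  haveI : P.IsPrime := hP
  let L := FractionRing (A' ⧸ P)
  let g : A' →+* L := (algebraMap (A' ⧸ P) L).comp (Ideal.Quotient.mk P)
  have hg : ∀ x, g x = 0 → x ∈ P := fun x hx =>
    Ideal.Quotient.eq_zero_iff_mem.1 (IsFractionRing.injective _ L (hx.trans (map_zero _).symm))
  haveI : Nontrivial (A' ⧸ P) := Ideal.Quotient.nontrivial_iff.2 (Ideal.IsPrime.ne_top')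
  obtain ⟨V, hVmem, hVloc⟩ := IsLocalRing.exists_factor_valuationRing g
  let θ : A' →+* V := g.codRestrict V.toSubring hVmem
  haveI : IsLocalHom θ := hVloc
  let f : A →+* L := g.comp (algebraMap A A')
  have hf : Function.Injective f := by
    rw [injective_iff_map_eq_zero]
    intro a ha
    have : a ∈ P.comap (algebraMap A A') := hg _ ha
    rwa [hPA.2, Ideal.mem_bot] at this
  let ψ : K →+* L := IsFractionRing.lift hf
  have hψ : ∀ a, ψ (algebraMap A K a) = f a := fun a => IsFractionRing.lift_algebraMap hf a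
  have hint : ∀ x : A₁, ψ x ∈ V := by
    intro x
    exact mem_of_isIntegral_lift f ψ hψ V (fun a => hVmem _) x.2
  let χ : A₁ →+* V := (ψ.comp (algebraMap A₁ K)).codRestrict V.toSubring hint
  letI : Algebra A₁ V := χ.toAlgebra
  letI : Algebra R₀ V := (θ.comp (algebraMap R₀ A')).toAlgebra
  letI : Algebra A V := (θ.comp (algebraMap A A')).toAlgebra
  haveI : IsScalarTower R₀ A V := IsScalarTower.of_algebraMap_eq fun r => by
    show θ (algebraMap R₀ A' r) = θ (algebraMap A A' (algebraMap R₀ A r))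
    rw [← IsScalarTower.algebraMap_apply]
  have hχA : ∀ a : A, χ (algebraMap A A₁ a) = θ (algebraMap A A' a) := fun a =>
    Subtype.ext (hψ a)
  haveI : IsScalarTower R₀ A₁ V := IsScalarTower.of_algebraMap_eq fun r => by
    show θ (algebraMap R₀ A' r) = χ (algebraMap R₀ A₁ r)
    rw [IsScalarTower.algebraMap_apply R₀ A A₁, hχA, ← IsScalarTower.algebraMap_apply]
  haveI : Algebra.IsIntegral A A₁ := inferInstance
  haveI : IsIntegrallyClosed A₁ := integralClosure.isIntegrallyClosedOfFiniteExtension K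
  haveI : IsLocalRing A₁ := hA
  have hinjV : Function.Injective (algebraMap A₁ V) := fun x y hxy =>
    Subtype.ext (ψ.injective (congrArg Subtype.val hxy))
  have hmax : (maximalIdeal V).comap χ = maximalIdeal A₁ := by
    haveI : ((maximalIdeal V).comap χ).IsPrime := Ideal.IsPrime.comap _
    refine eq_maximalIdeal (Ideal.isMaximal_of_isIntegral_of_isMaximal_comap (R := A) _ ?_)
    have e : ((maximalIdeal V).comap χ).comap (algebraMap A A₁) = maximalIdeal A := by
      refine Ideal.ext fun a => ?_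
      show χ (algebraMap A A₁ a) ∈ maximalIdeal V ↔ a ∈ maximalIdeal A
      rw [hχA]
      exact (map_mem_nonunits_iff θ _).trans (map_mem_nonunits_iff (algebraMap A A') a)
    rw [e]
    exact maximalIdeal.isMaximal A
  haveI : IsLocalHom (algebraMap A₁ V) :=
    ((IsLocalRing.local_hom_TFAE χ).out 0 4 rfl rfl).2 hmax
  refine FlatIntegralInj.flat_of_integral_injective (R₀ := R₀) (A' := A₁)
    (fun a b hab => IsFractionRing.injective A K (congrArg Subtype.val hab)) B₀ q fun q₁ hq₁ => ?_
  have hn : q₁.asIdeal.comap (algebraMap A₁ (A₁ ⊗[R₀] B₀)) = maximalIdeal A₁ :=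
    eq_maximalIdeal (isMaximal_comap B₀ q hq q₁ hq₁).2
  refine FlatNormal.flat_of_normal (A' := V) hinjV B₀ q₁ hn fun q'' hq'' hm'' => ?_
  let θa : A' →ₐ[R₀] V := { θ with commutes' := fun r => rfl }
  have hp : Module.Flat A' (LocalizedModule
      (q''.comap (stageMap (S₀ := B₀) θa).toRingHom).asIdeal.primeCompl (A' ⊗[R₀] B₀)) := by
    refine h _ ?_ ?_
    · rw [← hq₁, ← hq'']
      refine PrimeSpectrum.ext (Ideal.ext fun z => ?_)
      show stageMap (S₀ := B₀) θa (stageMap (S₀ := B₀) (IsScalarTower.toAlgHom R₀ A A') z) ∈ q''.asIdeal ↔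
        stageMap (S₀ := B₀) (IsScalarTower.toAlgHom R₀ A₁ V)
          (stageMap (S₀ := B₀) (IsScalarTower.toAlgHom R₀ A A₁) z) ∈ q''.asIdeal
      have : stageMap (S₀ := B₀) θa (stageMap (S₀ := B₀) (IsScalarTower.toAlgHom R₀ A A') z) =
          stageMap (S₀ := B₀) (IsScalarTower.toAlgHom R₀ A₁ V)
            (stageMap (S₀ := B₀) (IsScalarTower.toAlgHom R₀ A A₁) z) := by
        induction z using TensorProduct.induction_on with
        | zero => simp only [map_zero]
        | tmul a b => exact congrArg (· ⊗ₜ[R₀] b) (hχA a).symm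
        | add a b ha hb => simp only [map_add, ha, hb]
      rw [this]
    · refine Ideal.ext fun x => ?_
      show stageMap (S₀ := B₀) θa (x ⊗ₜ 1) ∈ q''.asIdeal ↔ x ∈ maximalIdeal A'
      refine Iff.trans ?_ (map_mem_nonunits_iff θ x)
      show algebraMap V (V ⊗[R₀] B₀) (θ x) ∈ q''.asIdeal ↔ θ x ∈ maximalIdeal V
      rw [← hm'']
      rfl
  exact (InjFlatBC.flat_localized_congr q''.asIdeal.primeCompl
    (AlgebraTensorModule.rid B₀ (V ⊗[R₀] B₀) (V ⊗[R₀] B₀))).1
      (flat_stage (S₀ := B₀) B₀ θa q'' ((InjFlatBC.flat_localized_congr _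
        (AlgebraTensorModule.rid B₀ (A' ⊗[R₀] B₀) (A' ⊗[R₀] B₀))).2 hp))

/-- Flatness at `q` after every base change to a discrete valuation ring dominating the base. -/
def DvrFlat (A : Type u) [CommRing A] [IsLocalRing A] [Algebra R₀ A]
    (q : PrimeSpectrum (A ⊗[R₀] B₀)) : Prop :=
  ∀ (V : Type u) [CommRing V] [IsDomain V] [IsDiscreteValuationRing V] [Algebra A V] [Algebra R₀ V]
    [IsScalarTower R₀ A V] [IsLocalHom (algebraMap A V)] (q' : PrimeSpectrum (V ⊗[R₀] B₀)),
    q'.comap (stageMap (S₀ := B₀) (IsScalarTower.toAlgHom R₀ A V)).toRingHom = q →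
    q'.asIdeal.comap (algebraMap V (V ⊗[R₀] B₀)) = maximalIdeal V →
    Module.Flat V (LocalizedModule q'.asIdeal.primeCompl (V ⊗[R₀] B₀))

set_option maxHeartbeats 1600000 in
/-- The normal step of the valuative criterion. -/
theorem flat_of_dvr_normal [Algebra.FiniteType ℤ R₀] [Algebra.FinitePresentation R₀ B₀]
    {A N V : Type u} [CommRing A] [IsLocalRing A] [Algebra R₀ A] [CommRing N] [IsDomain N]
    [IsIntegrallyClosed N] [Algebra A N] [Algebra R₀ N] [IsScalarTower R₀ A N]
    [CommRing V] [IsDomain V] [IsDiscreteValuationRing V] (χ : N →+* V) (hχinj : Function.Injective χ)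
    (q : PrimeSpectrum (A ⊗[R₀] B₀)) (h : DvrFlat B₀ A q) (q₁ : PrimeSpectrum (N ⊗[R₀] B₀))
    (hq₁ : q₁.comap (stageMap (S₀ := B₀) (IsScalarTower.toAlgHom R₀ A N)).toRingHom = q)
    (n : Ideal N) [n.IsPrime] (hn : q₁.asIdeal.comap (algebraMap N (N ⊗[R₀] B₀)) = n)
    (hnm : n.comap (algebraMap A N) = maximalIdeal A) (hχn : (maximalIdeal V).comap χ = n) :
    Module.Flat N (LocalizedModule q₁.asIdeal.primeCompl (N ⊗[R₀] B₀)) := by
  -- descend along the localization
  let A₂ := Localization.AtPrime n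
  haveI : IsDomain A₂ := IsLocalization.isDomain_localization n.primeCompl_le_nonZeroDivisors
  haveI : IsIntegrallyClosed A₂ :=
    isIntegrallyClosed_of_isLocalization _ n.primeCompl n.primeCompl_le_nonZeroDivisors
  have hunits : ∀ s : n.primeCompl, IsUnit (χ s) := fun s =>
    IsLocalRing.notMem_maximalIdeal.1 fun hs => s.2 (hχn.le hs)
  let χ₂ : A₂ →+* V := IsLocalization.lift hunits
  have hχ₂ : ∀ x, χ₂ (algebraMap N A₂ x) = χ x := fun x => IsLocalization.lift_eq hunits x
  letI : Algebra A₂ V := χ₂.toAlgebra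
  letI : Algebra A V := (χ.comp (algebraMap A N)).toAlgebra
  letI : Algebra R₀ V := (χ.comp (algebraMap R₀ N)).toAlgebra
  haveI : IsScalarTower R₀ A V := IsScalarTower.of_algebraMap_eq fun r => by
    show χ (algebraMap R₀ N r) = χ (algebraMap A N (algebraMap R₀ A r))
    rw [← IsScalarTower.algebraMap_apply]
  haveI : IsScalarTower R₀ A₂ V := IsScalarTower.of_algebraMap_eq fun r => by
    show χ (algebraMap R₀ N r) = χ₂ (algebraMap R₀ A₂ r)
    rw [IsScalarTower.algebraMap_apply R₀ N A₂, hχ₂]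
  haveI : IsLocalHom (algebraMap A V) := ((IsLocalRing.local_hom_TFAE _).out 0 4 rfl rfl).2 (by
    show (maximalIdeal V).comap (χ.comp (algebraMap A N)) = maximalIdeal A
    rw [← Ideal.comap_comap, hχn]
    exact hnm)
  haveI : IsLocalHom (algebraMap A₂ V) := ((IsLocalRing.local_hom_TFAE _).out 0 4 rfl rfl).2 (by
    refine ((maximalIdeal.isMaximal A₂).eq_of_le (Ideal.IsPrime.ne_top') fun x hx => ?_).symm
    obtain ⟨⟨a, s⟩, has⟩ := IsLocalization.surj n.primeCompl x
    have ha : a ∈ n := by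
      rw [← IsLocalization.AtPrime.to_map_mem_maximal_iff A₂ n, ← has]
      exact Ideal.mul_mem_right _ _ hx
    show χ₂ x ∈ maximalIdeal V
    have h1 : χ₂ x * χ s = χ a := by rw [← hχ₂, ← map_mul, has, hχ₂]
    have h2 : χ a ∈ maximalIdeal V := hχn.ge ha
    rw [← h1] at h2
    exact ((maximalIdeal.isMaximal V).isPrime.mem_or_mem h2).resolve_right fun hs => s.2 (hχn.le hs))
  have hinjV : Function.Injective (algebraMap A₂ V) := by
    refine (IsLocalization.lift_injective_iff hunits).2 fun x y => ?_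
    exact ⟨fun hxy => congrArg χ (IsLocalization.injective A₂ n.primeCompl_le_nonZeroDivisors hxy),
      fun hxy => congrArg _ (hχinj hxy)⟩
  obtain ⟨q₂, hq₂⟩ := exists_point B₀ (F := A₂) n.primeCompl q₁ fun s hs hc => hs (hn ▸ hc)
  have hq₂n : q₂.asIdeal.comap (algebraMap A₂ (A₂ ⊗[R₀] B₀)) = maximalIdeal A₂ := by
    refine ((maximalIdeal.isMaximal A₂).eq_of_le (Ideal.IsPrime.ne_top') fun x hx => ?_).symm
    obtain ⟨⟨a, s⟩, has⟩ := IsLocalization.surj n.primeCompl x
    have ha : a ∈ n := by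
      rw [← IsLocalization.AtPrime.to_map_mem_maximal_iff A₂ n, ← has]
      exact Ideal.mul_mem_right _ _ hx
    have h1 : algebraMap A₂ (A₂ ⊗[R₀] B₀) (x * algebraMap N A₂ s) ∈ q₂.asIdeal := by
      rw [has]
      have ha' : algebraMap N (N ⊗[R₀] B₀) a ∈ q₁.asIdeal := hn.ge ha
      rw [← hq₂] at ha'
      exact ha'
    rw [map_mul] at h1
    refine (q₂.isPrime.mem_or_mem h1).resolve_right fun hs => s.2 ?_
    refine hn.le ?_
    show algebraMap N (N ⊗[R₀] B₀) s ∈ q₁.asIdeal
    rw [← hq₂]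
    exact hs
  have hflat₂ : Module.Flat A₂ (LocalizedModule q₂.asIdeal.primeCompl (A₂ ⊗[R₀] B₀)) := by
    refine FlatNormal.flat_of_normal (A' := V) hinjV B₀ q₂ hq₂n fun q'' hq'' hm'' => h V q'' ?_ hm''
    rw [← hq₁, ← hq₂, ← hq'']
    refine PrimeSpectrum.ext (Ideal.ext fun z => ?_)
    have : stageMap (S₀ := B₀) (IsScalarTower.toAlgHom R₀ A V) z =
        stageMap (S₀ := B₀) (IsScalarTower.toAlgHom R₀ A₂ V)
          (stageMap (S₀ := B₀) (IsScalarTower.toAlgHom R₀ N A₂)
            (stageMap (S₀ := B₀) (IsScalarTower.toAlgHom R₀ A N) z)) := by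
      induction z using TensorProduct.induction_on with
      | zero => simp only [map_zero]
      | tmul a b => exact congrArg (· ⊗ₜ[R₀] b) (hχ₂ (algebraMap A N a)).symm
      | add a b ha hb => simp only [map_add, ha, hb]
    show stageMap (S₀ := B₀) (IsScalarTower.toAlgHom R₀ A V) z ∈ q''.asIdeal ↔ _ ∈ q''.asIdeal
    rw [this]
    rfl
  have hφ : (IsScalarTower.toAlgHom R₀ N A₂).toRingHom.Flat := by
    show (algebraMap N A₂).Flat
    rw [RingHom.flat_algebraMap_iff]
    exact IsLocalization.flat A₂ n.primeCompl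
  subst hq₂
  exact flat_descend B₀ _ hφ q₂ hflat₂

set_option backward.isDefEq.respectTransparency false in
set_option maxHeartbeats 1600000 in
/-- The valuative criterion at a point, over a Noetherian local domain. -/
theorem flat_of_dvr_domain [Algebra.FiniteType ℤ R₀] [Algebra.FinitePresentation R₀ B₀]
    {A : Type u} [CommRing A] [IsDomain A] [IsLocalRing A] [IsNoetherianRing A] [Algebra R₀ A]
    (q : PrimeSpectrum (A ⊗[R₀] B₀)) (hq : q.asIdeal.comap (algebraMap A (A ⊗[R₀] B₀)) = maximalIdeal A)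
    (h : DvrFlat B₀ A q) : Module.Flat A (LocalizedModule q.asIdeal.primeCompl (A ⊗[R₀] B₀)) := by
  classical
  haveI : IsNoetherianRing R₀ := Algebra.FiniteType.isNoetherianRing ℤ R₀
  by_cases hfield : IsField A
  · letI := hfield.toField
    infer_instance
  let K := FractionRing A
  let A₁ := integralClosure A K
  haveI : IsIntegrallyClosed A₁ := integralClosure.isIntegrallyClosedOfFiniteExtension K
  refine FlatIntegralInj.flat_of_integral_injective (R₀ := R₀) (A' := A₁)
    (fun a b hab => IsFractionRing.injective A K (congrArg Subtype.val hab)) B₀ q fun q₁ hq₁ => ?_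
  let n := q₁.asIdeal.comap (algebraMap A₁ (A₁ ⊗[R₀] B₀))
  obtain ⟨hnm, hnmax⟩ := isMaximal_comap B₀ q hq q₁ hq₁
  haveI : n.IsMaximal := hnmax
  -- a finite extension in which `n` is separated from the other maximal ideals
  have hfin : {m : Ideal A₁ | m.IsMaximal}.Finite :=
    (H25.MoriNagata.semilocal (A := A) (K' := K)).1
  have hsep : ∀ m : Ideal A₁, m.IsMaximal → m ≠ n → ∃ x ∈ n, x ∉ m := fun m hm hne =>
    Set.not_subset.1 fun hle => hne ((hnmax.eq_of_le hm.ne_top hle).symm)
  choose! xs hxs hxsm using hsep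
  let T : Subalgebra A A₁ := Algebra.adjoin A (hfin.toFinset.image xs : Finset A₁)
  haveI : Module.Finite A T := Module.Finite.iff_fg.2
    (fg_adjoin_of_finite (Finset.finite_toSet _) fun x _ => Algebra.IsIntegral.isIntegral x)
  haveI : IsNoetherianRing T := IsNoetherianRing.of_finite A T
  haveI : IsDomain T := Function.Injective.isDomain ((algebraMap A₁ K).comp T.val.toRingHom)
    (Subtype.val_injective.comp Subtype.val_injective)
  let nT : Ideal T := n.comap (algebraMap T A₁)
  haveI : nT.IsPrime := Ideal.IsPrime.comap _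
  have hnTA : nT.comap (algebraMap A T) = maximalIdeal A := by
    rw [← hnm]
    rfl
  have hinjT : Function.Injective (algebraMap A T) := fun a b hab =>
    IsFractionRing.injective A K (congrArg (fun t : T => ((t : A₁) : K)) hab)
  have hnT : nT ≠ ⊥ := fun h0 => by
    refine hfield (IsLocalRing.isField_iff_maximalIdeal_eq.2 ((Submodule.eq_bot_iff _).2 fun a ha => hinjT ?_))
    rw [map_zero]
    have h1 : algebraMap A T a ∈ nT := hnTA.ge ha
    rw [h0] at h1
    exact h1
  obtain ⟨L, _, V, hVd, γ, hγinj, hγn⟩ := exists_dvr_centre (T := ↥T) nT hnT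
  haveI : IsDiscreteValuationRing V := hVd
  -- the normalisation maps into it
  let f : A →+* L := V.toSubring.subtype.comp (γ.comp (algebraMap A T))
  have hf : Function.Injective f := Subtype.val_injective.comp (hγinj.comp hinjT)
  let ψ : K →+* L := IsFractionRing.lift hf
  have hψ : ∀ a, ψ (algebraMap A K a) = f a := fun a => IsFractionRing.lift_algebraMap _ a
  have hψT : ∀ t : T, ψ ((t : A₁) : K) = (γ t : L) := by
    intro t
    obtain ⟨a, b, hb, hab⟩ := IsFractionRing.div_surjective A ((t : A₁) : K)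
    have hb0 : algebraMap A K b ≠ 0 :=
      (map_ne_zero_iff _ (IsFractionRing.injective A K)).2 (nonZeroDivisors.ne_zero hb)
    rw [div_eq_iff hb0] at hab
    have e : algebraMap A T a = t * algebraMap A T b := Subtype.ext (Subtype.ext hab)
    have h1 : f a = (γ t : L) * f b := by
      show ((γ (algebraMap A T a) : V) : L) = _
      rw [e, map_mul]
      rfl
    have h2 : ψ ((t : A₁) : K) * f b = f a := by rw [← hψ, ← hψ, ← map_mul, hab]
    refine mul_right_cancel₀ ?_ (h2.trans h1)
    rw [← hψ]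
    exact (map_ne_zero ψ).2 hb0
  have hint : ∀ x : A₁, ψ x ∈ V := by
    intro x
    exact mem_of_isIntegral_lift f ψ hψ V (fun a => (γ _).2) x.2
  let χ : A₁ →+* V := (ψ.comp (algebraMap A₁ K)).codRestrict V.toSubring hint
  have hχT : ∀ t : T, χ (algebraMap T A₁ t) = γ t := fun t => Subtype.ext (hψT t)
  have hχn : (maximalIdeal V).comap χ = n := by
    haveI : ((maximalIdeal V).comap χ).IsPrime := Ideal.IsPrime.comap _
    have hA' : ((maximalIdeal V).comap χ).comap (algebraMap A A₁) = maximalIdeal A := by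
      refine ((maximalIdeal.isMaximal A).eq_of_le Ideal.IsPrime.ne_top' fun a ha => ?_).symm
      show χ (algebraMap T A₁ (algebraMap A T a)) ∈ maximalIdeal V
      rw [hχT]
      exact hγn.ge (hnTA.ge ha)
    have hmax' : ((maximalIdeal V).comap χ).IsMaximal :=
      Ideal.isMaximal_of_isIntegral_of_isMaximal_comap (R := A) _ (hA' ▸ maximalIdeal.isMaximal A)
    by_contra hne
    have hx : xs _ ∈ T := Algebra.subset_adjoin
      (Finset.mem_image_of_mem xs (hfin.mem_toFinset.2 hmax'))
    refine hxsm _ hmax' hne ?_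
    show χ (algebraMap T A₁ ⟨_, hx⟩) ∈ maximalIdeal V
    rw [hχT]
    exact hγn.ge (hxs _ hmax' hne : (⟨_, hx⟩ : T) ∈ nT)
  exact flat_of_dvr_normal B₀ χ (fun x y hxy => Subtype.ext (ψ.injective (congrArg Subtype.val hxy)))
    q h q₁ hq₁ n rfl hnm hχn

set_option maxHeartbeats 800000 in
/-- The valuative criterion at a point, over a reduced Noetherian local ring. -/
theorem flat_of_dvr [Algebra.FiniteType ℤ R₀] [Algebra.FinitePresentation R₀ B₀]
    {A : Type u} [CommRing A] [IsReduced A] [IsLocalRing A] [IsNoetherianRing A] [Algebra R₀ A]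
    (q : PrimeSpectrum (A ⊗[R₀] B₀)) (hq : q.asIdeal.comap (algebraMap A (A ⊗[R₀] B₀)) = maximalIdeal A)
    (h : DvrFlat B₀ A q) : Module.Flat A (LocalizedModule q.asIdeal.primeCompl (A ⊗[R₀] B₀)) := by
  classical
  haveI : IsNoetherianRing R₀ := Algebra.FiniteType.isNoetherianRing ℤ R₀
  haveI : Finite (minimalPrimes A) := (minimalPrimes.finite_of_isNoetherianRing A).to_subtype
  let ι := minimalPrimes A
  let E : ι → Type u := fun i => A ⧸ i.1
  let A' := ∀ i, E i
  haveI : ∀ i : ι, i.1.IsPrime := fun i => i.2.1.1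
  have hinj : Function.Injective (algebraMap A A') := by
    rw [injective_iff_map_eq_zero]
    intro a ha
    have h1 : a ∈ sInf (minimalPrimes A) := Ideal.mem_sInf.2 fun {P} hP =>
      Ideal.Quotient.eq_zero_iff_mem.1 (congrFun ha ⟨P, hP⟩)
    rw [show sInf (minimalPrimes A) = (⊥ : Ideal A).radical from
      (Ideal.sInf_minimalPrimes (I := (⊥ : Ideal A)))] at h1
    obtain ⟨k, hk⟩ := h1
    exact IsReduced.eq_zero a ⟨k, hk⟩
  haveI : Fintype ι := Fintype.ofFinite ι
  refine FlatIntegralInj.flat_of_integral_injective (R₀ := R₀) (A' := A') hinj B₀ q fun q' hq' => ?_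
  obtain ⟨i, hi⟩ : ∃ i : ι, (Pi.single i 1 : A') ∉ q'.asIdeal.comap (algebraMap A' (A' ⊗[R₀] B₀)) := by
    by_contra hc
    push Not at hc
    refine (Ideal.IsPrime.comap (algebraMap A' (A' ⊗[R₀] B₀)) : (q'.asIdeal.comap _).IsPrime).ne_top
      ((Ideal.eq_top_iff_one _).2 ?_)
    rw [← Finset.univ_sum_single (1 : A')]
    exact Ideal.sum_mem _ fun i _ => hc i
  let e : A' := Pi.single i 1
  letI : Algebra A' (E i) := (Pi.evalRingHom E i).toAlgebra
  haveI : IsScalarTower R₀ A' (E i) := IsScalarTower.of_algebraMap_eq fun r => rfl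
  haveI : IsScalarTower A A' (E i) := IsScalarTower.of_algebraMap_eq fun r => rfl
  haveI : IsLocalization.Away e (E i) := by
    refine ⟨?_, fun z => ⟨(Pi.single i z, 1), ?_⟩, fun {x y} hxy => ⟨⟨e, 1, pow_one e⟩, ?_⟩⟩
    · rintro ⟨_, k, rfl⟩
      show IsUnit ((e ^ k) i)
      rw [Pi.pow_apply, show e i = 1 from Pi.single_eq_same i 1, one_pow]
      exact isUnit_one
    · show z * (1 : A') i = (Pi.single i z : A') i
      rw [Pi.single_eq_same, Pi.one_apply, mul_one]
    · funext j
      show e j * x j = e j * y j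
      by_cases hj : j = i
      · subst hj
        rw [show x j = y j from hxy]
      · rw [show e j = 0 from Pi.single_eq_of_ne hj 1, zero_mul, zero_mul]
  obtain ⟨q'', hq''⟩ := exists_point B₀ (F := E i) (Submonoid.powers e) q' fun m hm => by
    obtain ⟨k, rfl⟩ := hm
    rw [map_pow]
    exact fun hc => hi (q'.isPrime.mem_of_pow_mem k hc)
  haveI : Nontrivial (E i) := Ideal.Quotient.nontrivial_iff.2 (Ideal.IsPrime.ne_top')
  haveI : IsLocalRing (E i) := IsLocalRing.of_surjective' (Ideal.Quotient.mk i.1) Ideal.Quotient.mk_surjective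
  haveI : IsLocalHom (algebraMap A (E i)) := IsLocalHom.of_surjective _ Ideal.Quotient.mk_surjective
  have hcomp : q''.comap (stageMap (S₀ := B₀) (IsScalarTower.toAlgHom R₀ A (E i))).toRingHom = q := by
    rw [← hq', ← hq'']
    refine PrimeSpectrum.ext (Ideal.ext fun z => ?_)
    have : stageMap (S₀ := B₀) (IsScalarTower.toAlgHom R₀ A (E i)) z =
        stageMap (S₀ := B₀) (IsScalarTower.toAlgHom R₀ A' (E i))
          (stageMap (S₀ := B₀) (IsScalarTower.toAlgHom R₀ A A') z) := by
      induction z using TensorProduct.induction_on with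
      | zero => simp only [map_zero]
      | tmul a b => rfl
      | add a b ha hb => simp only [map_add, ha, hb]
    show stageMap (S₀ := B₀) (IsScalarTower.toAlgHom R₀ A (E i)) z ∈ q''.asIdeal ↔ _
    rw [this]
    rfl
  have hqm : q''.asIdeal.comap (algebraMap (E i) (E i ⊗[R₀] B₀)) = maximalIdeal (E i) := by
    refine ((maximalIdeal.isMaximal (E i)).eq_of_le (Ideal.IsPrime.ne_top') fun z hz => ?_).symm
    obtain ⟨a, rfl⟩ := Ideal.Quotient.mk_surjective z
    have ha : algebraMap A (A ⊗[R₀] B₀) a ∈ q.asIdeal :=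
      hq.ge ((map_mem_nonunits_iff (algebraMap A (E i)) a).1 hz)
    rw [← hcomp] at ha
    exact ha
  have hflat : Module.Flat (E i) (LocalizedModule q''.asIdeal.primeCompl (E i ⊗[R₀] B₀)) := by
    refine flat_of_dvr_domain B₀ q'' hqm ?_
    intro V _ _ _ _ _ _ _ p hp hpm
    letI : Algebra A V := ((algebraMap (E i) V).comp (algebraMap A (E i))).toAlgebra
    haveI : IsScalarTower R₀ A V := IsScalarTower.of_algebraMap_eq fun r => by
      show algebraMap R₀ V r = algebraMap (E i) V (algebraMap A (E i) (algebraMap R₀ A r))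
      rw [← IsScalarTower.algebraMap_apply R₀ A (E i), ← IsScalarTower.algebraMap_apply R₀ (E i) V]
    haveI : IsLocalHom (algebraMap A V) :=
      RingHom.isLocalHom_comp (algebraMap (E i) V) (algebraMap A (E i))
    refine h V p ?_ hpm
    rw [← hcomp, ← hp]
    refine PrimeSpectrum.ext (Ideal.ext fun z => ?_)
    have : stageMap (S₀ := B₀) (IsScalarTower.toAlgHom R₀ A V) z =
        stageMap (S₀ := B₀) (IsScalarTower.toAlgHom R₀ (E i) V)
          (stageMap (S₀ := B₀) (IsScalarTower.toAlgHom R₀ A (E i)) z) := by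
      induction z using TensorProduct.induction_on with
      | zero => simp only [map_zero]
      | tmul a b => rfl
      | add a b ha hb => simp only [map_add, ha, hb]
    show stageMap (S₀ := B₀) (IsScalarTower.toAlgHom R₀ A V) z ∈ p.asIdeal ↔ _
    rw [this]
    rfl
  have hφ : (IsScalarTower.toAlgHom R₀ A' (E i)).toRingHom.Flat := by
    show (algebraMap A' (E i)).Flat
    rw [RingHom.flat_algebraMap_iff]
    exact IsLocalization.flat (E i) (Submonoid.powers e)
  rw [← hq'']
  exact flat_descend B₀ _ hφ q'' hflat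

end Groth.Agent.H47.FlatValuative
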