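import Mathlib.RingTheory.Ideal.KrullsHeightTheorem
import Mathlib.RingTheory.Spectrum.Prime.Jacobson
import Mathlib.RingTheory.Jacobson.Artinian
import Mathlib.RingTheory.KrullDimension.Basic
import Mathlib.AlgebraicGeometry.Noetherian
import Mathlib.Topology.JacobsonSpace

/-!
# Artin-Tate: locally closed points of Noetherian spectra
-/

namespace Groth.Agent.H47.GDomain

open Set AlgebraicGeometry

universe u

section ring

variable {A : Type u} [CommRing A]

lemma no_chain_domain [IsNoetherianRing A] [IsDomain A] {f : A} (hf : f ≠ 0)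
    (h : ∀ P : Ideal A, P.IsPrime → P ≠ ⊥ → f ∈ P) :
    ∀ P : Ideal A, P.IsPrime → P ≠ ⊥ → P ∈ (Ideal.span {f}).minimalPrimes := by
  intro Q hQ hQb
  have hfin := Ideal.finite_minimalPrimes_of_isNoetherianRing A (Ideal.span {f})
  have hf0 : ∀ q ∈ (Ideal.span {f}).minimalPrimes, q ≠ ⊥ := fun q hq e ↦
    hf (by simpa [e] using hq.1.2)
  have hfQ : Ideal.span {f} ≤ Q := (Ideal.span_singleton_le_iff_mem Q).2 (h Q hQ hQb)
  by_contra hQm
  have hnot : ∀ q ∈ (Ideal.span {f}).minimalPrimes, ¬ Q ≤ q := fun q hq hle ↦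
    hQm (le_antisymm (hq.2 ⟨hQ, hfQ⟩ hle) hle ▸ hq)
  have hsub : ¬ (Q : Set A) ⊆ ⋃ q ∈ (Ideal.span {f}).minimalPrimes, (q : Set A) := fun hs ↦ by
    obtain ⟨q, hq, hle⟩ :=
      (Ideal.subset_union_prime_finite hfin (f := id) ⊥ ⊥ (fun i hi _ _ ↦ hi.1.1)).1 hs
    exact hnot q hq hle
  obtain ⟨x, hxQ, hx⟩ := not_subset.1 hsub
  simp only [mem_iUnion, SetLike.mem_coe, not_exists] at hx
  obtain ⟨r, hr, hrQ⟩ := Ideal.exists_minimalPrimes_le ((Ideal.span_singleton_le_iff_mem Q).2 hxQ)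
  have hx0 : x ≠ 0 := by
    rintro rfl
    obtain ⟨q, hq, -⟩ := Ideal.exists_minimalPrimes_le hfQ
    exact hx q hq q.zero_mem
  have hrb : r ≠ ⊥ := fun e ↦ hx0 (by simpa [e] using hr.1.2)
  have := hr.1.1
  obtain ⟨q, hq, hqr⟩ := Ideal.exists_minimalPrimes_le (J := r) (I := Ideal.span {f})
    ((Ideal.span_singleton_le_iff_mem r).2 (h r hr.1.1 hrb))
  have hlt : q < r := lt_of_le_of_ne hqr fun e ↦
    hx q hq (e ▸ (Ideal.span_singleton_le_iff_mem r).1 hr.1.2)
  have := hq.1.1; have := hr.1.1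
  have h1 := Ideal.height_le_one_of_isPrincipal_of_mem_minimalPrimes _ r hr
  have h2 := Ideal.height_strict_mono_of_isPrime_of_isPrime hlt
  have h3 : q.height = 0 := by
    have h4 := h2.trans_le h1
    rwa [Order.lt_one_iff] at h4
  exact hf0 q hq (Ideal.height_eq_zero_iff_eq_bot.1 h3)

/-- nonzero primes containing a common element: all maximal, finitely many -/
lemma key_domain [IsNoetherianRing A] [IsDomain A] {f : A} (hf : f ≠ 0)
    (h : ∀ P : Ideal A, P.IsPrime → P ≠ ⊥ → f ∈ P) :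
    (∀ P Q : Ideal A, P.IsPrime → Q.IsPrime → P ≠ ⊥ → P ≤ Q → P = Q) ∧
      Finite (PrimeSpectrum A) := by
  refine ⟨fun P Q hP hQ hPb hPQ ↦ ?_, ?_⟩
  · have hQ' := no_chain_domain hf h Q hQ (fun e ↦ hPb (le_bot_iff.1 (e ▸ hPQ)))
    exact hPQ.antisymm (hQ'.2 ⟨hP, (Ideal.span_singleton_le_iff_mem P).2 (h P hP hPb)⟩ hPQ)
  · have hfin := (Ideal.finite_minimalPrimes_of_isNoetherianRing A (Ideal.span {f})).insert ⊥
    have : Finite (↥(insert ⊥ (Ideal.span {f}).minimalPrimes)) := hfin.to_subtype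
    refine Finite.of_injective (β := ↥(insert ⊥ (Ideal.span {f}).minimalPrimes))
      (fun P ↦ ⟨P.asIdeal, (em (P.asIdeal = ⊥)).imp id (no_chain_domain hf h _ P.2)⟩)
      fun P Q e ↦ PrimeSpectrum.ext (congrArg Subtype.val e)

lemma exists_quot [IsNoetherianRing A] (q : Ideal A) [q.IsPrime] {f : A} (hf : f ∉ q)
    (h : ∀ P : Ideal A, P.IsPrime → q < P → f ∈ P) :
    (∀ P Q : Ideal A, P.IsPrime → Q.IsPrime → q < P → P ≤ Q → P = Q) ∧
      Finite (PrimeSpectrum (A ⧸ q)) ∧ {P : PrimeSpectrum A | q ≤ P.asIdeal}.Finite := by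
  have hf' : Ideal.Quotient.mk q f ≠ 0 := fun e ↦ hf (Ideal.Quotient.eq_zero_iff_mem.1 e)
  have h' : ∀ P : Ideal (A ⧸ q), P.IsPrime → P ≠ ⊥ → Ideal.Quotient.mk q f ∈ P := fun P hP hPb ↦ by
    refine h (P.comap (Ideal.Quotient.mk q)) (hP.comap _) (lt_of_le_of_ne ?_ fun e ↦ hPb ?_)
    · exact (Ideal.mk_ker (I := q)).ge.trans (Ideal.ker_le_comap _)
    · rw [← Ideal.map_comap_of_surjective _ Ideal.Quotient.mk_surjective P, ← e, Ideal.map_quotient_self]
  obtain ⟨h1, h2⟩ := key_domain hf' h'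
  refine ⟨fun P Q hP hQ hqP hPQ ↦ ?_, h2, ?_⟩
  · have e : ∀ R : Ideal A, q ≤ R → (R.map (Ideal.Quotient.mk q)).comap (Ideal.Quotient.mk q) = R :=
      fun R hR ↦ by simpa [Ideal.comap_map_of_surjective _ Ideal.Quotient.mk_surjective, ← RingHom.ker_eq_comap_bot] using hR
    have := h1 _ _ (Ideal.map_isPrime_of_surjective Ideal.Quotient.mk_surjective (by simpa using hqP.le))
      (Ideal.map_isPrime_of_surjective Ideal.Quotient.mk_surjective (by simpa using hqP.le.trans hPQ))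
      (fun e' ↦ hqP.ne (by rw [← e P hqP.le, e', ← RingHom.ker_eq_comap_bot, Ideal.mk_ker]))
      (Ideal.map_mono hPQ)
    rw [← e P hqP.le, this, e Q (hqP.le.trans hPQ)]
  · refine (Set.finite_range (PrimeSpectrum.comap (Ideal.Quotient.mk q))).subset fun P hP ↦ ?_
    exact ⟨⟨P.asIdeal.map (Ideal.Quotient.mk q),
      Ideal.map_isPrime_of_surjective Ideal.Quotient.mk_surjective (by simpa using hP)⟩,
      PrimeSpectrum.ext (by
        show (P.asIdeal.map _).comap _ = _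
        simpa [Ideal.comap_map_of_surjective _ Ideal.Quotient.mk_surjective, ← RingHom.ker_eq_comap_bot] using hP)⟩

lemma exists_f_of_isLocallyClosed_singleton (p : PrimeSpectrum A) (h : IsLocallyClosed ({p} : Set (PrimeSpectrum A))) :
    ∃ f, f ∉ p.asIdeal ∧ ∀ P : Ideal A, P.IsPrime → p.asIdeal < P → f ∈ P := by
  obtain ⟨U, F, hU, hF, he⟩ := h
  obtain ⟨hpU, hpF⟩ := he.le (mem_singleton p)
  obtain ⟨_, ⟨f, rfl⟩, hpf, hfU⟩ :=
    PrimeSpectrum.isTopologicalBasis_basic_opens.exists_subset_of_mem_open hpU hU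
  refine ⟨f, hpf, fun P hP hlt ↦ by_contra fun hfP ↦ ?_⟩
  have hs : p ⤳ (⟨P, hP⟩ : PrimeSpectrum A) := (PrimeSpectrum.le_iff_specializes _ _).1 hlt.le
  have : (⟨P, hP⟩ : PrimeSpectrum A) = p :=
    he.ge ⟨hfU hfP, hs.mem_closed hF hpF⟩
  exact hlt.ne (congrArg PrimeSpectrum.asIdeal this).symm

/-- In an affine Noetherian scheme a locally closed point has no chains of specializations -/
lemma spec_key [IsNoetherianRing A] (p : PrimeSpectrum A) (h : IsLocallyClosed ({p} : Set (PrimeSpectrum A))) :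
    (∀ w y : PrimeSpectrum A, p ⤳ w → p ≠ w → w ⤳ y → w = y) ∧
      (closure ({p} : Set (PrimeSpectrum A))).Finite := by
  obtain ⟨f, hf, hf'⟩ := exists_f_of_isLocallyClosed_singleton p h
  obtain ⟨h1, -, h2⟩ := exists_quot p.asIdeal hf hf'
  refine ⟨fun w y hpw hne hwy ↦ PrimeSpectrum.ext (h1 _ _ w.2 y.2 ?_ ?_), ?_⟩
  · exact lt_of_le_of_ne ((PrimeSpectrum.le_iff_specializes _ _).2 hpw) fun e ↦ hne (PrimeSpectrum.ext e)
  · exact (PrimeSpectrum.le_iff_specializes _ _).2 hwy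
  · rw [PrimeSpectrum.closure_singleton]; exact h2

/-- every nonempty locally closed subset of a Noetherian spectrum contains a locally closed point -/
lemma exists_locallyClosed_point [IsNoetherianRing A] {S : Set (PrimeSpectrum A)}
    (hS : IsLocallyClosed S) (hne : S.Nonempty) :
    ∃ p ∈ S, IsLocallyClosed ({p} : Set (PrimeSpectrum A)) := by
  obtain ⟨I, ⟨p, hp, rfl⟩, hI⟩ := set_has_maximal_iff_noetherian.2 (inferInstance : IsNoetherian A A)
    (PrimeSpectrum.asIdeal '' S) (hne.image _)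
  refine ⟨p, hp, ?_⟩
  have : ({p} : Set (PrimeSpectrum A)) = S ∩ closure {p} := by
    refine Subset.antisymm (fun x hx ↦ ⟨hx ▸ hp, subset_closure hx⟩) fun x hx ↦ ?_
    rw [PrimeSpectrum.closure_singleton] at hx
    by_contra hne'
    exact hI x.asIdeal ⟨x, hx.1, rfl⟩ (lt_of_le_of_ne hx.2 fun e ↦ hne' (PrimeSpectrum.ext e).symm)
  rw [this]
  exact hS.inter isClosed_closure.isLocallyClosed

end ring

section scheme

variable {X : Scheme.{u}} [IsLocallyNoetherian X]

lemma noChain {q w y : X} (hq : IsLocallyClosed ({q} : Set X)) (hqw : q ⤳ w) (hne : q ≠ w)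
    (hwy : w ⤳ y) : w = y := by
  obtain ⟨_, ⟨U, hU, rfl⟩, hyU, -⟩ :=
    X.isBasis_affineOpens.exists_subset_of_mem_open (mem_univ y) isOpen_univ
  have : IsNoetherianRing Γ(X, U) := IsLocallyNoetherian.component_noetherian ⟨U, hU⟩
  have hwU : w ∈ U := hwy.mem_open U.isOpen hyU
  have hqU : q ∈ U := hqw.mem_open U.isOpen hwU
  have := hU.isOpenImmersion_fromSpec
  have he := hU.fromSpec.isOpenEmbedding
  obtain ⟨q', hq'⟩ : q ∈ Set.range hU.fromSpec := by rwa [hU.range_fromSpec]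
  obtain ⟨w', hw'⟩ : w ∈ Set.range hU.fromSpec := by rwa [hU.range_fromSpec]
  obtain ⟨y', hy'⟩ : y ∈ Set.range hU.fromSpec := by rwa [hU.range_fromSpec]
  subst hq' hw' hy'
  have hlc : IsLocallyClosed ({q'} : Set (PrimeSpectrum Γ(X, U))) := by
    have := hq.preimage he.continuous
    rwa [← Set.image_singleton, he.injective.preimage_image] at this
  exact congrArg _ ((spec_key q' hlc).1 w' y' (he.isInducing.specializes_iff.1 hqw)
    (fun e ↦ hne (congrArg _ e)) (he.isInducing.specializes_iff.1 hwy))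

lemma finite_closure [CompactSpace X] {q : X} (hq : IsLocallyClosed ({q} : Set X)) :
    (closure ({q} : Set X)).Finite := by
  have hx : ∀ x : X, ∃ U : X.Opens, IsAffineOpen U ∧ x ∈ U := fun x ↦ by
    obtain ⟨_, ⟨U, hU, rfl⟩, hx, -⟩ :=
      X.isBasis_affineOpens.exists_subset_of_mem_open (mem_univ x) isOpen_univ
    exact ⟨U, hU, hx⟩
  choose U hU hmem using hx
  obtain ⟨s, hs⟩ := isCompact_univ.elim_finite_subcover (fun x ↦ (U x : Set X))
    (fun x ↦ (U x).isOpen) (fun x _ ↦ mem_iUnion.2 ⟨x, hmem x⟩)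
  have : closure ({q} : Set X) ⊆ ⋃ x ∈ s, (U x : Set X) ∩ closure {q} := fun z hz ↦ by
    obtain ⟨x, hx, hzx⟩ := mem_iUnion₂.1 (hs (mem_univ z))
    exact mem_iUnion₂.2 ⟨x, hx, hzx, hz⟩
  refine (Finite.biUnion s.finite_toSet fun x _ ↦ ?_).subset this
  have : IsNoetherianRing Γ(X, U x) := IsLocallyNoetherian.component_noetherian ⟨U x, hU x⟩
  have := (hU x).isOpenImmersion_fromSpec
  have he := (hU x).fromSpec.isOpenEmbedding
  by_cases hqU : q ∈ U x
  · obtain ⟨q', hq'⟩ : q ∈ Set.range (hU x).fromSpec := by rwa [(hU x).range_fromSpec]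
    subst hq'
    have hlc : IsLocallyClosed ({q'} : Set (PrimeSpectrum Γ(X, U x))) := by
      have := hq.preimage he.continuous
      rwa [← Set.image_singleton, he.injective.preimage_image] at this
    refine ((spec_key q' hlc).2.image (hU x).fromSpec).subset ?_
    rintro z ⟨hzU, hz⟩
    obtain ⟨z', hz'⟩ : z ∈ Set.range (hU x).fromSpec := by rwa [(hU x).range_fromSpec]
    subst hz'
    exact ⟨z', specializes_iff_mem_closure.1
      (he.isInducing.specializes_iff.1 (specializes_iff_mem_closure.2 hz)), rfl⟩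
  · refine Set.finite_empty.subset ?_
    rintro z ⟨hzU, hz⟩
    exact hqU ((specializes_iff_mem_closure.2 hz).mem_open (U x).isOpen hzU)

lemma exists_locallyClosed_point_scheme {S : Set X} (hS : IsLocallyClosed S) (hne : S.Nonempty) :
    ∃ p ∈ S, IsLocallyClosed ({p} : Set X) := by
  obtain ⟨z, hz⟩ := hne
  obtain ⟨_, ⟨U, hU, rfl⟩, hzU, -⟩ :=
    X.isBasis_affineOpens.exists_subset_of_mem_open (mem_univ z) isOpen_univ
  have : IsNoetherianRing Γ(X, U) := IsLocallyNoetherian.component_noetherian ⟨U, hU⟩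
  have := hU.isOpenImmersion_fromSpec
  have he := hU.fromSpec.isOpenEmbedding
  obtain ⟨z', hz'⟩ : z ∈ Set.range hU.fromSpec := by rwa [hU.range_fromSpec]
  subst hz'
  obtain ⟨p, hp, hpl⟩ := exists_locallyClosed_point (hS.preimage he.continuous) ⟨z', hz⟩
  refine ⟨hU.fromSpec p, hp, ?_⟩
  have := hpl.image he.isInducing he.isOpen_range.isLocallyClosed
  convert this
  ext z
  exact ⟨fun h ↦ ⟨p, rfl, h.symm⟩, fun ⟨a, ha, h⟩ ↦ ha ▸ h.symm⟩

end scheme

end Groth.Agent.H47.GDomain
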