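import Groth.Agent.H47.GenericFreeDomain
import Mathlib.RingTheory.LocalRing.ResidueField.Ideal
import Mathlib.RingTheory.Flat.Basic

/-!
# Generic exactness of the fibres of a sequence of modules
-/

set_option autoImplicit false

universe u

open TensorProduct

namespace Groth.Agent.H47.GenericExact

variable {R : Type u} [CommRing R]

theorem baseChange_natural {A L : Type u} [CommRing A] [Algebra R A] [CommRing L] [Algebra R L]
    [Algebra A L] [IsScalarTower R A L] {M N : Type u} [AddCommGroup M] [Module R M] [AddCommGroup N]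
    [Module R N] (g : M →ₗ[R] N) :
    g.baseChange L ∘ₗ (AlgebraTensorModule.cancelBaseChange R A L L M).toLinearMap =
      (AlgebraTensorModule.cancelBaseChange R A L L N).toLinearMap ∘ₗ
        (g.baseChange A).baseChange L := by
  refine LinearMap.ext fun z => ?_
  induction z using TensorProduct.induction_on with
  | zero => simp
  | tmul l w =>
    induction w using TensorProduct.induction_on with
    | zero => simp
    | tmul a x => simp
    | add a b ha hb => simp only [tmul_add, map_add, ha, hb]
  | add a b ha hb => simp only [map_add, ha, hb]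

theorem rTensor_natural {A K : Type u} [AddCommGroup A] [Module R A] [AddCommGroup K] [Module R K]
    (ι : A →ₗ[R] K) {M N : Type u} [AddCommGroup M] [Module R M] [AddCommGroup N] [Module R N]
    (g : M →ₗ[R] N) (z : A ⊗[R] M) :
    g.lTensor K (ι.rTensor M z) = ι.rTensor N (g.lTensor A z) := by
  induction z using TensorProduct.induction_on with
  | zero => simp
  | tmul a x => simp
  | add a b ha hb => simp only [map_add, ha, hb]

theorem rTensor_injective_of_free {A K : Type u} [CommRing A] [Algebra R A] [CommRing K]
    [Algebra R K] [Algebra A K] [IsScalarTower R A K] (hAK : Function.Injective (algebraMap A K))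
    (M : Type u) [AddCommGroup M] [Module R M] [Module.Free A (A ⊗[R] M)] :
    Function.Injective ((IsScalarTower.toAlgHom R A K).toLinearMap.rTensor M) := by
  have h1 : Function.Injective ((Algebra.linearMap A K).rTensor (A ⊗[R] M)) :=
    Module.Flat.rTensor_preserves_injective_linearMap _ hAK
  have e : ∀ z : A ⊗[R] M, (AlgebraTensorModule.cancelBaseChange R A A K M)
      ((Algebra.linearMap A K).rTensor (A ⊗[R] M) ((TensorProduct.lid A (A ⊗[R] M)).symm z)) =
        (IsScalarTower.toAlgHom R A K).toLinearMap.rTensor M z := by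
    intro z
    induction z using TensorProduct.induction_on with
    | zero => simp
    | tmul a x => simp [Algebra.smul_def]
    | add a b ha hb => simp only [map_add, ha, hb]
  intro a b hab
  rw [← e, ← e] at hab
  exact (TensorProduct.lid A (A ⊗[R] M)).symm.injective (h1 ((LinearEquiv.injective _) hab))

/-- the linear algebra of the proof -/
theorem exact_of_free {A K L : Type u} [CommRing A] [Algebra R A] [CommRing K] [Algebra R K]
    [Algebra A K] [IsScalarTower R A K] (hAK : Function.Injective (algebraMap A K))
    [CommRing L] [Algebra R L] [Algebra A L] [IsScalarTower R A L]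
    {F G H Q P : Type u} [AddCommGroup F] [Module R F] [AddCommGroup G] [Module R G]
    [AddCommGroup H] [Module R H] [AddCommGroup Q] [Module R Q] [AddCommGroup P] [Module R P]
    (u : F →ₗ[R] G) (v : G →ₗ[R] H) (q : G →ₗ[R] Q) (p : H →ₗ[R] P)
    (hequ : Function.Exact u q) (hq : Function.Surjective q)
    (heqv : Function.Exact v p) (hp : Function.Surjective p)
    [Module.Free A (A ⊗[R] Q)] [Module.Free A (A ⊗[R] P)]
    (hvu : ∀ x : F, (1 : A) ⊗ₜ[R] v (u x) = 0)
    (hgen : Function.Exact (u.baseChange K) (v.baseChange K)) :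
    Function.Exact (u.baseChange L) (v.baseChange L) := by
  have hqs : Function.Surjective (q.baseChange A) := LinearMap.lTensor_surjective A hq
  have hps : Function.Surjective (p.baseChange A) := LinearMap.lTensor_surjective A hp
  have hexq : Function.Exact (u.baseChange A) (q.baseChange A) := lTensor_exact A hequ hq
  have hexp : Function.Exact (v.baseChange A) (p.baseChange A) := lTensor_exact A heqv hp
  have hvu' : ∀ z, v.baseChange A (u.baseChange A z) = 0 := by
    intro z
    induction z using TensorProduct.induction_on with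
    | zero => simp
    | tmul a x =>
      rw [LinearMap.baseChange_tmul, LinearMap.baseChange_tmul,
        show a ⊗ₜ[R] v (u x) = a • ((1 : A) ⊗ₜ[R] v (u x)) by simp [TensorProduct.smul_tmul'],
        hvu, smul_zero]
    | add a b ha hb => rw [map_add, map_add, ha, hb, add_zero]
  have hle : LinearMap.ker (q.baseChange A) ≤ LinearMap.ker (v.baseChange A) := by
    intro z hz
    obtain ⟨w, rfl⟩ := (hexq z).1 hz
    exact hvu' w
  let vbar : (A ⊗[R] Q) →ₗ[A] A ⊗[R] H :=
    (LinearMap.ker (q.baseChange A)).liftQ (v.baseChange A) hle ∘ₗ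
      ((q.baseChange A).quotKerEquivOfSurjective hqs).symm.toLinearMap
  have hvbar : ∀ z, vbar (q.baseChange A z) = v.baseChange A z := by
    intro z
    have : ((q.baseChange A).quotKerEquivOfSurjective hqs).symm (q.baseChange A z) =
        Submodule.Quotient.mk z := by
      rw [LinearEquiv.symm_apply_eq]; rfl
    exact (congrArg ((LinearMap.ker (q.baseChange A)).liftQ (v.baseChange A) hle) this).trans rfl
  let ι : A →ₗ[R] K := (IsScalarTower.toAlgHom R A K).toLinearMap
  have hinj : Function.Injective vbar := by
    rw [injective_iff_map_eq_zero]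
    intro z hz
    obtain ⟨y, rfl⟩ := hqs z
    rw [hvbar] at hz
    refine rTensor_injective_of_free (K := K) hAK Q ?_
    rw [map_zero]
    show ι.rTensor Q (q.lTensor A y) = 0
    rw [← rTensor_natural]
    have h1 : v.baseChange K (ι.rTensor G y) = 0 := by
      show v.lTensor K (ι.rTensor G y) = 0
      rw [rTensor_natural, show v.lTensor A y = 0 from hz, map_zero]
    obtain ⟨w, hw⟩ := (hgen _).1 h1
    rw [← hw]
    exact (lTensor_exact K hequ hq).apply_apply_eq_zero w
  have hex : Function.Exact vbar (p.baseChange A) := by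
    intro y
    rw [hexp y]
    constructor
    · rintro ⟨z, rfl⟩; exact ⟨_, hvbar z⟩
    · rintro ⟨z, rfl⟩
      obtain ⟨y, rfl⟩ := hqs z
      exact ⟨y, (hvbar y).symm⟩
  obtain ⟨sec, hsec⟩ := Module.projective_lifting_property (p.baseChange A) LinearMap.id hps
  obtain ⟨r, hr⟩ : ∃ r, r ∘ₗ vbar = LinearMap.id := by
    have h := (hex.split_tfae (M := A ⊗[R] Q) hinj hps).out 0 1
    exact h.1 ⟨sec, hsec⟩
  have hexL : Function.Exact ((u.baseChange A).baseChange L) ((v.baseChange A).baseChange L) := by
    intro y
    have hcomp : (v.baseChange A).baseChange L y =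
        vbar.baseChange L ((q.baseChange A).baseChange L y) := by
      rw [← LinearMap.comp_apply, ← LinearMap.baseChange_comp]
      congr 2
      exact LinearMap.ext fun z => (hvbar z).symm
    have hLinj : Function.Injective (vbar.baseChange L) := by
      refine Function.LeftInverse.injective (g := r.baseChange L) fun z => ?_
      rw [← LinearMap.comp_apply, ← LinearMap.baseChange_comp, hr, LinearMap.baseChange_id,
        LinearMap.id_apply]
    rw [hcomp, map_eq_zero_iff _ hLinj]
    exact lTensor_exact L hexq hqs y
  exact Function.Exact.of_ladder_linearEquiv_of_exact (baseChange_natural u) (baseChange_natural v)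
    hexL

variable [IsDomain R]

theorem exists_forall_exact {B : Type u} [CommRing B] [Algebra R B] [Algebra.FiniteType R B]
    {F G H : Type u} [AddCommGroup F] [Module B F] [Module R F] [IsScalarTower R B F]
    [Module.Finite B F] [AddCommGroup G] [Module B G] [Module R G] [IsScalarTower R B G]
    [Module.Finite B G] [AddCommGroup H] [Module B H] [Module R H] [IsScalarTower R B H]
    [Module.Finite B H] (u : F →ₗ[B] G) (v : G →ₗ[B] H)
    (hgen : Function.Exact ((u.restrictScalars R).baseChange (FractionRing R))
      ((v.restrictScalars R).baseChange (FractionRing R))) :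
    ∃ f : R, f ≠ 0 ∧ ∀ (L : Type u) [Field L] [Algebra R L], algebraMap R L f ≠ 0 →
      Function.Exact ((u.restrictScalars R).baseChange L) ((v.restrictScalars R).baseChange L) := by
  classical
  obtain ⟨s, hs⟩ := Module.Finite.fg_top (R := B) (M := F)
  have hzero : ∀ x : F, ∃ c : nonZeroDivisors R, c • v (u x) = 0 := fun x => by
    have : TensorProduct.mk R (FractionRing R) H 1 (v (u x)) = 0 := by
      have := hgen.apply_apply_eq_zero (1 ⊗ₜ x)
      simpa using! this
    exact (IsLocalizedModule.eq_zero_iff (nonZeroDivisors R)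
      (TensorProduct.mk R (FractionRing R) H 1)).1 this
  choose c hc using hzero
  let c₀ : R := ∏ x ∈ s, (c x : R)
  have hc₀ : c₀ ≠ 0 := Finset.prod_ne_zero_iff.2 fun x _ => nonZeroDivisors.coe_ne_zero _
  have hkill : ∀ x : F, c₀ • v (u x) = 0 := by
    intro x
    have hx : x ∈ Submodule.span B (s : Set F) := hs ▸ trivial
    induction hx using Submodule.span_induction with
    | mem y hy =>
      show (∏ x ∈ s, (c x : R)) • v (u y) = 0
      rw [← Finset.prod_erase_mul s _ hy, mul_smul]
      exact (congrArg _ (hc y)).trans (smul_zero _)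
    | zero => simp
    | add a b _ _ ha hb => simp [ha, hb]
    | smul b a _ ha => rw [map_smul, map_smul, smul_comm, ha, smul_zero]
  obtain ⟨f₁, hf₁, hfree₁⟩ := GenericFreeDomain.gf_of_finiteType (R := R) B (G ⧸ LinearMap.range u)
  obtain ⟨f₂, hf₂, hfree₂⟩ := GenericFreeDomain.gf_of_finiteType (R := R) B (H ⧸ LinearMap.range v)
  have hf : c₀ * f₁ * f₂ ≠ 0 := mul_ne_zero (mul_ne_zero hc₀ hf₁) hf₂
  refine ⟨c₀ * f₁ * f₂, hf, fun L _ _ hL => ?_⟩
  have hQfree := GenericFree.free_of_dvd (M := G ⧸ LinearMap.range u) (f := f₁)
    (g := c₀ * f₁ * f₂) ⟨c₀ * f₂, by ring⟩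
  have hPfree := GenericFree.free_of_dvd (M := H ⧸ LinearMap.range v) (f := f₂)
    (g := c₀ * f₁ * f₂) (dvd_mul_left f₂ _)
  have hu : IsUnit (algebraMap R (FractionRing R) (c₀ * f₁ * f₂)) := isUnit_iff_ne_zero.2 fun h =>
    hf (IsFractionRing.injective R (FractionRing R) (h.trans (map_zero _).symm))
  let φ := IsLocalization.Away.lift (S := Localization.Away (c₀ * f₁ * f₂)) (c₀ * f₁ * f₂) hu
  letI : Algebra (Localization.Away (c₀ * f₁ * f₂)) (FractionRing R) := φ.toAlgebra
  have : IsScalarTower R (Localization.Away (c₀ * f₁ * f₂)) (FractionRing R) :=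
    IsScalarTower.of_algebraMap_eq fun r => (IsLocalization.Away.lift_eq _ hu r).symm
  have hAK : Function.Injective (algebraMap (Localization.Away (c₀ * f₁ * f₂)) (FractionRing R)) :=
    (IsLocalization.lift_injective_iff _).2 fun x y =>
      ⟨fun h => congrArg _ (IsLocalization.injective _
          (powers_le_nonZeroDivisors_of_noZeroDivisors hf) h),
        fun h => congrArg _ (IsFractionRing.injective R (FractionRing R) h)⟩
  have hL' : IsUnit (algebraMap R L (c₀ * f₁ * f₂)) := isUnit_iff_ne_zero.2 hL
  let ψ := IsLocalization.Away.lift (S := Localization.Away (c₀ * f₁ * f₂)) (c₀ * f₁ * f₂) hL'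
  letI : Algebra (Localization.Away (c₀ * f₁ * f₂)) L := ψ.toAlgebra
  have : IsScalarTower R (Localization.Away (c₀ * f₁ * f₂)) L :=
    IsScalarTower.of_algebraMap_eq fun r => (IsLocalization.Away.lift_eq _ hL' r).symm
  refine @exact_of_free R _ (Localization.Away (c₀ * f₁ * f₂)) (FractionRing R) L _ _ _ _ _ _ hAK _ _ _ _
    F G H (G ⧸ LinearMap.range u) (H ⧸ LinearMap.range v) _ _ _ _ _ _ _ _ _ _
    (u.restrictScalars R) (v.restrictScalars R)
    ((LinearMap.range u).mkQ.restrictScalars R) ((LinearMap.range v).mkQ.restrictScalars R)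
    ?_ ?_ ?_ ?_ hQfree hPfree ?_ hgen
  · intro y
    exact LinearMap.exact_map_mkQ_range u y
  · exact (LinearMap.range u).mkQ_surjective
  · intro y
    exact LinearMap.exact_map_mkQ_range v y
  · exact (LinearMap.range v).mkQ_surjective
  intro x
  have hunit : IsUnit (algebraMap R (Localization.Away (c₀ * f₁ * f₂)) c₀) :=
    isUnit_of_dvd_unit (map_dvd _ ⟨f₁ * f₂, mul_assoc _ _ _⟩)
      (IsLocalization.Away.algebraMap_isUnit _)
  have h1 : algebraMap R (Localization.Away (c₀ * f₁ * f₂)) c₀ •
      ((1 : Localization.Away (c₀ * f₁ * f₂)) ⊗ₜ[R] v (u x)) = 0 := by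
    rw [algebraMap_smul, ← TensorProduct.tmul_smul, hkill, TensorProduct.tmul_zero]
  exact hunit.smul_eq_zero.1 h1

end Groth.Agent.H47.GenericExact
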