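import Groth.Agent.H47.FlatTransfer
import Mathlib.RingTheory.TensorProduct.Maps
import Mathlib.RingTheory.Filtration
import Mathlib.RingTheory.Flat.Stability

/-!
# Tensor products `X ⊗ M` as modules over `E ⊗ P`; flatness of the associated graded module

`P` is an algebra over `R`, `M` a `P`-module, `E` an `R`-algebra and `X` an `E`-module.
-/

set_option autoImplicit false

universe u

open TensorProduct

namespace Groth.Agent.H47.GrFlat

set_option linter.dupNamespace false

variable {R : Type u} [CommRing R] {P : Type u} [CommRing P] [Algebra R P]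
  {M : Type u} [AddCommGroup M] [Module R M] [Module P M] [IsScalarTower R P M]
  {N : Type u} [AddCommGroup N] [Module R N] [Module P N] [IsScalarTower R P N]
  {E : Type u} [CommRing E] [Algebra R E]
  {X : Type u} [AddCommGroup X] [Module R X] [Module E X] [IsScalarTower R E X]
  {Y : Type u} [AddCommGroup Y] [Module R Y] [Module E Y] [IsScalarTower R E Y]

/-- the action of `E ⊗ P` on `X ⊗ M` -/
noncomputable def act (R P M E X : Type u) [CommRing R] [CommRing P] [Algebra R P] [AddCommGroup M]
    [Module R M] [Module P M] [IsScalarTower R P M] [CommRing E] [Algebra R E] [AddCommGroup X]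
    [Module R X] [Module E X] [IsScalarTower R E X] :
    E ⊗[R] P →ₐ[R] Module.End E (X ⊗[R] M) :=
  (Module.endTensorEndAlgHom (R := R) (S := R) (A := E) (M := X) (N := M)).comp
    (Algebra.TensorProduct.map (Algebra.lsmul R E X) (Algebra.lsmul R R M))

/-- `X ⊗ M` as a module over `E ⊗ P` -/
noncomputable scoped instance wModule : Module (E ⊗[R] P) (X ⊗[R] M) :=
  Module.compHom _ (act R P M E X).toRingHom

theorem smul_def (s : E ⊗[R] P) (z : X ⊗[R] M) : s • z = act R P M E X s z := rfl

@[simp] theorem tmul_smul_tmul (e : E) (p : P) (x : X) (m : M) :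
    (e ⊗ₜ[R] p) • (x ⊗ₜ[R] m) = (e • x) ⊗ₜ[R] (p • m) := rfl

scoped instance : IsScalarTower E (E ⊗[R] P) (X ⊗[R] M) := by
  refine ⟨fun e s z => ?_⟩
  induction s using TensorProduct.induction_on with
  | zero => simp
  | add a b ha hb => rw [smul_add, add_smul, add_smul, ha, hb, smul_add]
  | tmul a p =>
    induction z using TensorProduct.induction_on with
    | zero => simp
    | add a b ha hb => simp only [smul_add, ha, hb]
    | tmul x m => rw [TensorProduct.smul_tmul', tmul_smul_tmul, tmul_smul_tmul,
        TensorProduct.smul_tmul', smul_eq_mul, mul_smul]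

/-- the linear map `f ⊗ g` -/
noncomputable def wmap (f : X →ₗ[E] Y) (g : M →ₗ[P] N) : X ⊗[R] M →ₗ[E ⊗[R] P] Y ⊗[R] N where
  toFun := TensorProduct.map (f.restrictScalars R) (g.restrictScalars R)
  map_add' := map_add _
  map_smul' s z := by
    induction s using TensorProduct.induction_on with
    | zero => simp
    | add a b ha hb => simp only [add_smul, map_add, RingHom.id_apply] at *; rw [ha, hb]
    | tmul e p =>
      induction z using TensorProduct.induction_on with
      | zero => simp
      | add a b ha hb => simp only [smul_add, map_add, RingHom.id_apply] at *; rw [ha, hb]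
      | tmul x m => simp

theorem wmap_tmul (f : X →ₗ[E] Y) (g : M →ₗ[P] N) (x : X) (m : M) :
    wmap (R := R) f g (x ⊗ₜ[R] m) = f x ⊗ₜ[R] g m := rfl

theorem wmap_comp_wmap (f : X →ₗ[E] Y) (g : M →ₗ[P] N) (z : X ⊗[R] M) :
    wmap (R := R) f (LinearMap.id : N →ₗ[P] N) (wmap (R := R) (LinearMap.id : X →ₗ[E] X) g z) =
      wmap (R := R) (LinearMap.id : Y →ₗ[E] Y) g (wmap (R := R) f (LinearMap.id : M →ₗ[P] M) z) := by
  induction z using TensorProduct.induction_on with
  | zero => simp
  | tmul x m => rfl
  | add a b ha hb => simp only [map_add, ha, hb]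

/-- `X ⊗ M` is finite over `E ⊗ P`. -/
theorem finite_tensor [Module.Finite E X] [Module.Finite P M] :
    Module.Finite (E ⊗[R] P) (X ⊗[R] M) := by
  classical
  obtain ⟨s, hs⟩ := ‹Module.Finite E X›.fg_top
  obtain ⟨t, ht⟩ := ‹Module.Finite P M›.fg_top
  refine ⟨⟨(s ×ˢ t).image fun xm => xm.1 ⊗ₜ[R] xm.2, top_unique fun z _ => ?_⟩⟩
  rw [Finset.coe_image, Finset.coe_product]
  induction z using TensorProduct.induction_on with
  | zero => exact zero_mem _
  | add a b ha hb => exact add_mem (ha trivial) (hb trivial)
  | tmul x m =>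
    have hx : x ∈ Submodule.span E (s : Set X) := hs ▸ Submodule.mem_top
    induction hx using Submodule.span_induction with
    | zero => rw [zero_tmul]; exact zero_mem _
    | add a b _ _ ha hb => rw [add_tmul]; exact add_mem (ha trivial) (hb trivial)
    | smul e a _ ha =>
      have := Submodule.smul_mem _ (e ⊗ₜ[R] (1 : P)) (ha trivial)
      rwa [tmul_smul_tmul, one_smul] at this
    | mem x hx =>
      have hm : m ∈ Submodule.span P (t : Set M) := ht ▸ Submodule.mem_top
      induction hm using Submodule.span_induction with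
      | zero => rw [tmul_zero]; exact zero_mem _
      | add a b _ _ ha hb => rw [tmul_add]; exact add_mem (ha trivial) (hb trivial)
      | smul p a _ ha =>
        have := Submodule.smul_mem _ ((1 : E) ⊗ₜ[R] p) (ha trivial)
        rwa [tmul_smul_tmul, one_smul] at this
      | mem m hm => exact Submodule.subset_span ⟨(x, m), ⟨hx, hm⟩, rfl⟩

section ideal

variable (R E) (J : Ideal P)

/-- the extension of an ideal of `P` to `E ⊗ P` -/
noncomputable abbrev ext : Ideal (E ⊗[R] P) :=
  J.map (Algebra.TensorProduct.includeRight : P →ₐ[R] E ⊗[R] P)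

variable {R E}

set_option maxHeartbeats 1000000 in
/-- The kernel of `X ⊗ M → X ⊗ (M / J M)`. -/
theorem wmap_mkQ_eq_zero_iff (z : X ⊗[R] M) :
    wmap (R := R) (LinearMap.id : X →ₗ[E] X) (J • ⊤ : Submodule P M).mkQ z = 0 ↔
      z ∈ ext R E J • (⊤ : Submodule (E ⊗[R] P) (X ⊗[R] M)) := by
  constructor
  · intro h
    let q := (J • ⊤ : Submodule P M).restrictScalars R
    have hex : Function.Exact q.subtype ((J • ⊤ : Submodule P M).mkQ.restrictScalars R) := fun m => by
      simp [q, Submodule.Quotient.mk_eq_zero]
    have h' : LinearMap.lTensor X ((J • ⊤ : Submodule P M).mkQ.restrictScalars R) z = 0 := by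
      rw [← h]
      show _ = TensorProduct.map _ _ z
      rw [LinearMap.lTensor]
      rfl
    obtain ⟨w, rfl⟩ := (lTensor_exact (R := R) (M := ↥q) (N := M) (P := M ⧸ (J • ⊤ : Submodule P M)) X hex
      (Submodule.mkQ_surjective (J • ⊤ : Submodule P M)) z).1 h'
    clear h h'
    induction w using TensorProduct.induction_on with
    | zero => simp
    | add a b ha hb => rw [map_add]; exact add_mem ha hb
    | tmul x m =>
      rw [LinearMap.lTensor_tmul]
      refine Submodule.smul_induction_on (p := fun y : M => x ⊗ₜ[R] y ∈ ext R E J • (⊤ :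
        Submodule (E ⊗[R] P) (X ⊗[R] M))) (show (m : M) ∈ J • (⊤ : Submodule P M) from m.2) ?_ ?_
      · intro p hp y _
        rw [show x ⊗ₜ[R] (p • y) = ((1 : E) ⊗ₜ[R] p) • (x ⊗ₜ[R] y) by rw [tmul_smul_tmul, one_smul]]
        exact Submodule.smul_mem_smul (Ideal.mem_map_of_mem _ hp) trivial
      · intro a b ha hb
        rw [tmul_add]; exact add_mem ha hb
  · intro h
    refine Submodule.smul_induction_on h (fun s hs y _ => ?_) fun a b ha hb => by
      rw [map_add, ha, hb, add_zero]
    rw [map_smul]
    generalize wmap (R := R) (LinearMap.id : X →ₗ[E] X) (J • ⊤ : Submodule P M).mkQ y = w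
    induction hs using Submodule.span_induction with
    | zero => rw [zero_smul]
    | add a b _ _ ha hb => rw [add_smul, ha, hb, add_zero]
    | smul a b _ hb => rw [smul_eq_mul, mul_smul, hb, smul_zero]
    | mem s hs =>
      obtain ⟨p, hp, rfl⟩ := hs
      induction w using TensorProduct.induction_on with
      | zero => rw [smul_zero]
      | add a b ha hb => rw [smul_add, ha, hb, add_zero]
      | tmul x n =>
        obtain ⟨n, rfl⟩ := Submodule.mkQ_surjective _ n
        rw [Algebra.TensorProduct.includeRight_apply, tmul_smul_tmul, ← map_smul,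
          Submodule.mkQ_apply, (Submodule.Quotient.mk_eq_zero _).2
            (Submodule.smul_mem_smul hp Submodule.mem_top), tmul_zero]

theorem ext_pow (k : ℕ) : ext R E (J ^ k) = ext R E J ^ k := Ideal.map_pow _ J k

end ideal

/-- `M / J ^ k M` -/
abbrev Nk (M : Type u) [AddCommGroup M] [Module P M] (J : Ideal P) (k : ℕ) : Type u :=
  M ⧸ (J ^ k • ⊤ : Submodule P M)

/-- the projection to `X ⊗ (M / J ^ k M)` -/
noncomputable abbrev red (R : Type u) [CommRing R] [Algebra R P] [Module R M] [IsScalarTower R P M]
    (E X : Type u) [CommRing E] [Algebra R E] [AddCommGroup X] [Module R X]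
    [Module E X] [IsScalarTower R E X] (J : Ideal P) (k : ℕ) :
    X ⊗[R] M →ₗ[E ⊗[R] P] X ⊗[R] Nk M J k :=
  wmap (R := R) (LinearMap.id : X →ₗ[E] X) (J ^ k • ⊤ : Submodule P M).mkQ

theorem red_eq_zero_iff (J : Ideal P) (k : ℕ) (z : X ⊗[R] M) :
    red R E X J k z = 0 ↔ z ∈ ext R E J ^ k • (⊤ : Submodule (E ⊗[R] P) (X ⊗[R] M)) := by
  rw [wmap_mkQ_eq_zero_iff, ext_pow]

/-- An injective map stays injective after tensoring with a module with flat base change. -/
theorem wmap_injective (f : X →ₗ[E] Y) (hf : Function.Injective f)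
    (h : Module.Flat E (E ⊗[R] N)) :
    Function.Injective (wmap (R := R) f (LinearMap.id : N →ₗ[P] N)) := by
  have h1 := Module.Flat.rTensor_preserves_injective_linearMap (M := E ⊗[R] N) f hf
  let cX := AlgebraTensorModule.cancelBaseChange R E E X N
  let cY := AlgebraTensorModule.cancelBaseChange R E E Y N
  have key : ∀ z, wmap (R := R) f (LinearMap.id : N →ₗ[P] N) (cX z) = cY (f.rTensor _ z) := by
    intro z
    induction z using TensorProduct.induction_on with
    | zero => simp
    | add a b ha hb => simp only [map_add, ha, hb]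
    | tmul x w =>
      induction w using TensorProduct.induction_on with
      | zero => simp
      | add a b ha hb => simp only [tmul_add, map_add, ha, hb]
      | tmul e n => simp [cX, cY, wmap_tmul]
  intro a b hab
  obtain ⟨a, rfl⟩ := cX.surjective a
  obtain ⟨b, rfl⟩ := cX.surjective b
  rw [key, key] at hab
  exact congrArg cX (h1 (cY.injective hab))

/-- The same over a quotient of `E`. -/
theorem wmap_injective_quotient (I : Ideal E) (f : X →ₗ[E] Y) (hf : Function.Injective f)
    (hI : ∀ r ∈ I, ∀ y : Y, r • y = 0) (h : Module.Flat (E ⧸ I) ((E ⧸ I) ⊗[R] N)) :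
    Function.Injective (wmap (R := R) f (LinearMap.id : N →ₗ[P] N)) := by
  have : Module.Flat (E ⧸ I) ((E ⧸ I) ⊗[E] (E ⊗[R] N)) :=
    Module.Flat.of_linearEquiv (AlgebraTensorModule.cancelBaseChange R E (E ⧸ I) (E ⧸ I) N)
  have h1 := Lib.LocalFlat.Basic.lTensor_injective_of_smul_eq_zero (I := I) (M := E ⊗[R] N) f hf hI
  let cX := (TensorProduct.comm E (E ⊗[R] N) X).trans (AlgebraTensorModule.cancelBaseChange R E E X N)
  let cY := (TensorProduct.comm E (E ⊗[R] N) Y).trans (AlgebraTensorModule.cancelBaseChange R E E Y N)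
  have key : ∀ z, wmap (R := R) f (LinearMap.id : N →ₗ[P] N) (cX z) = cY (f.lTensor _ z) := by
    intro z
    induction z using TensorProduct.induction_on with
    | zero => simp
    | add a b ha hb => simp only [map_add, ha, hb]
    | tmul w x =>
      induction w using TensorProduct.induction_on with
      | zero => simp
      | add a b ha hb => simp only [add_tmul, map_add, ha, hb]
      | tmul e n => simp [cX, cY, wmap_tmul]
  intro a b hab
  obtain ⟨a, rfl⟩ := cX.surjective a
  obtain ⟨b, rfl⟩ := cX.surjective b
  rw [key, key] at hab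
  exact congrArg cX (h1 (cY.injective hab))

/-- every `M / J ^ k M` becomes flat over `E` -/
def GrFlat (R : Type u) [CommRing R] {P : Type u} [CommRing P] [Algebra R P] (M : Type u)
    [AddCommGroup M] [Module R M] [Module P M] [IsScalarTower R P M] (J : Ideal P) (E : Type u)
    [CommRing E] [Algebra R E] : Prop :=
  ∀ k, Module.Flat E (E ⊗[R] Nk M J k)

theorem GrFlat.baseChange {J : Ideal P} (h : GrFlat R M J E) (F : Type u) [CommRing F] [Algebra R F]
    [Algebra E F] [IsScalarTower R E F] : GrFlat R M J F := fun k => by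
  have := h k
  exact Module.Flat.of_linearEquiv (AlgebraTensorModule.cancelBaseChange R E F F (Nk M J k)).symm

/-- `M` is flat over `E` at the prime `q` of `E ⊗ P` -/
def FlatAt (R : Type u) [CommRing R] {P : Type u} [CommRing P] [Algebra R P] (M : Type u)
    [AddCommGroup M] [Module R M] [Module P M] [IsScalarTower R P M] (E : Type u)
    [CommRing E] [Algebra R E] (q : Ideal (E ⊗[R] P)) : Prop :=
  ∀ (X Y : Type u) [AddCommGroup X] [AddCommGroup Y] [Module R X] [Module R Y] [Module E X]
    [Module E Y] [IsScalarTower R E X] [IsScalarTower R E Y] (f : X →ₗ[E] Y),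
    Function.Injective f → ∀ z : X ⊗[R] M, wmap (R := R) f (LinearMap.id : M →ₗ[P] M) z = 0 →
      ∃ s, s ∉ q ∧ s • z = 0

section restrict

variable {F : Type u} [CommRing F] [Algebra R F] [Algebra E F] [IsScalarTower R E F]

variable (R P F E) in
/-- `E ⊗ P → F ⊗ P` -/
noncomputable def baseHom : E ⊗[R] P →ₐ[R] F ⊗[R] P :=
  Algebra.TensorProduct.map (IsScalarTower.toAlgHom R E F) (AlgHom.id R P)

variable {Z : Type u} [AddCommGroup Z] [Module R Z] [Module E Z] [Module F Z] [IsScalarTower R E Z]
  [IsScalarTower R F Z] [IsScalarTower E F Z]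

theorem baseHom_smul (s : E ⊗[R] P) (z : Z ⊗[R] M) : baseHom R P E F s • z = s • z := by
  induction s using TensorProduct.induction_on with
  | zero => simp
  | add a b ha hb => simp only [map_add, add_smul, ha, hb]
  | tmul e p =>
    induction z using TensorProduct.induction_on with
    | zero => simp
    | add a b ha hb => simp only [smul_add, ha, hb]
    | tmul x m =>
      show ((algebraMap E F e) ⊗ₜ[R] p) • _ = _
      rw [tmul_smul_tmul, tmul_smul_tmul, algebraMap_smul]

end restrict

/-- Flatness at a prime is stable under change of base. -/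
theorem FlatAt.baseChange {F : Type u} [CommRing F] [Algebra R F] [Algebra E F]
    [IsScalarTower R E F] (q : Ideal (F ⊗[R] P))
    (h : FlatAt R M E (q.comap (baseHom R P E F))) : FlatAt R M F q := by
  intro X Y _ _ _ _ _ _ _ _ f hf z hz
  letI : Module E X := Module.compHom X (algebraMap E F)
  letI : Module E Y := Module.compHom Y (algebraMap E F)
  have : IsScalarTower E F X := IsScalarTower.of_algebraMap_smul fun e x => rfl
  have : IsScalarTower E F Y := IsScalarTower.of_algebraMap_smul fun e x => rfl
  have : IsScalarTower R E X := IsScalarTower.to₁₂₄ R E F X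
  have : IsScalarTower R E Y := IsScalarTower.to₁₂₄ R E F Y
  obtain ⟨s, hs, hs0⟩ := h X Y (f.restrictScalars E) hf z hz
  exact ⟨baseHom R P E F s, hs, by rw [baseHom_smul, hs0]⟩

end Groth.Agent.H47.GrFlat
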