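import Groth.Agent.H47.GrBasic
import Mathlib.RingTheory.LocalRing.ResidueField.Ideal
import Mathlib.LinearAlgebra.Basis.VectorSpace
import Mathlib.RingTheory.Flat.FaithfullyFlat.Basic

/-!
# Descent of flatness at a prime along a flat algebra; primes of tensor products
-/

set_option autoImplicit false

universe u

open TensorProduct

namespace Groth.Agent.H47.GrFlat

/-- A prime of a tensor product over two given compatible primes. -/
theorem exists_prime_tensor {A S T : Type u} [CommRing A] [CommRing S] [CommRing T] [Algebra A S]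
    [Algebra A T] (q : Ideal S) [q.IsPrime] (r : Ideal T) [r.IsPrime]
    (h : q.comap (algebraMap A S) = r.comap (algebraMap A T)) :
    ∃ Q : Ideal (S ⊗[A] T), Q.IsPrime ∧
      Q.comap (Algebra.TensorProduct.includeLeft : S →ₐ[A] S ⊗[A] T) = q ∧
      Q.comap (Algebra.TensorProduct.includeRight : T →ₐ[A] S ⊗[A] T) = r := by
  let p : Ideal A := r.comap (algebraMap A T)
  let k := p.ResidueField
  letI : Algebra k q.ResidueField := (Ideal.ResidueField.map p q (algebraMap A S) h.symm).toAlgebra
  letI : Algebra k r.ResidueField := (Ideal.ResidueField.map p r (algebraMap A T) rfl).toAlgebra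
  have : IsScalarTower A k q.ResidueField := IsScalarTower.of_algebraMap_eq fun a => by
    rw [IsScalarTower.algebraMap_apply A S q.ResidueField]
    exact (Ideal.ResidueField.map_algebraMap p q (algebraMap A S) h.symm a).symm
  have : IsScalarTower A k r.ResidueField := IsScalarTower.of_algebraMap_eq fun a => by
    rw [IsScalarTower.algebraMap_apply A T r.ResidueField]
    exact (Ideal.ResidueField.map_algebraMap p r (algebraMap A T) rfl a).symm
  let W := q.ResidueField ⊗[k] r.ResidueField
  have : Module.Flat k q.ResidueField := inferInstanceAs (Module.Flat p.ResidueField q.ResidueField)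
  have : Nontrivial W := (Algebra.TensorProduct.includeLeft_injective (R := k) (S := k) (A := q.ResidueField)
    (B := r.ResidueField) (algebraMap k r.ResidueField).injective).nontrivial
  let ψ : S ⊗[A] T →ₐ[A] W := Algebra.TensorProduct.lift
    (((Algebra.TensorProduct.includeLeft : q.ResidueField →ₐ[k] W).restrictScalars A).comp
      (IsScalarTower.toAlgHom A S q.ResidueField))
    (((Algebra.TensorProduct.includeRight : r.ResidueField →ₐ[k] W).restrictScalars A).comp
      (IsScalarTower.toAlgHom A T r.ResidueField))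
    fun _ _ => Commute.all _ _
  obtain ⟨w, hw⟩ := Ideal.exists_maximal W
  refine ⟨w.comap ψ, Ideal.IsPrime.comap _, ?_, ?_⟩
  · ext s
    have e : ψ (s ⊗ₜ 1) = algebraMap S q.ResidueField s ⊗ₜ[k] 1 := by
      simp only [ψ, Algebra.TensorProduct.lift_tmul, map_one]
      exact mul_one _
    rw [Ideal.mem_comap, Ideal.mem_comap, Algebra.TensorProduct.includeLeft_apply, e]
    refine ⟨fun hs => ?_, fun hs => by
      rw [Ideal.algebraMap_residueField_eq_zero.2 hs, TensorProduct.zero_tmul]; exact w.zero_mem⟩
    by_contra hne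
    exact hw.ne_top (w.eq_top_of_isUnit_mem hs
      ((isUnit_iff_ne_zero.2 (mt Ideal.algebraMap_residueField_eq_zero.1 hne)).map (Algebra.TensorProduct.includeLeft : q.ResidueField →ₐ[k] W)))
  · ext t
    have e : ψ (1 ⊗ₜ t) = (1 : q.ResidueField) ⊗ₜ[k] algebraMap T r.ResidueField t := by
      simp only [ψ, Algebra.TensorProduct.lift_tmul, map_one]
      exact one_mul _
    rw [Ideal.mem_comap, Ideal.mem_comap, Algebra.TensorProduct.includeRight_apply, e]
    refine ⟨fun ht => ?_, fun ht => by
      rw [Ideal.algebraMap_residueField_eq_zero.2 ht, TensorProduct.tmul_zero]; exact w.zero_mem⟩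
    by_contra hne
    exact hw.ne_top (w.eq_top_of_isUnit_mem ht
      ((isUnit_iff_ne_zero.2 (mt Ideal.algebraMap_residueField_eq_zero.1 hne)).map (Algebra.TensorProduct.includeRight : r.ResidueField →ₐ[k] W)))

variable {R : Type u} [CommRing R] {P : Type u} [CommRing P] [Algebra R P]
  {M : Type u} [AddCommGroup M] [Module R M] [Module P M] [IsScalarTower R P M]
  {E : Type u} [CommRing E] [Algebra R E] {F : Type u} [CommRing F] [Algebra R F] [Algebra E F]
  [IsScalarTower R E F]

/-- A prime of `F ⊗ P` over given primes of `E ⊗ P` and `F`. -/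
theorem exists_prime_over (q : Ideal (E ⊗[R] P)) [q.IsPrime] (r : Ideal F) [r.IsPrime]
    (h : q.comap (algebraMap E (E ⊗[R] P)) = r.comap (algebraMap E F)) :
    ∃ Q : Ideal (F ⊗[R] P), Q.IsPrime ∧ Q.comap (baseHom R P E F) = q ∧
      Q.comap (algebraMap F (F ⊗[R] P)) = r := by
  obtain ⟨Q, hQ, h1, h2⟩ := exists_prime_tensor (A := E) r q h.symm
  let c := Algebra.TensorProduct.cancelBaseChange R E F F P
  refine ⟨Q.comap c.symm, Ideal.IsPrime.comap _, ?_, ?_⟩
  · rw [← h2]
    ext s
    simp only [Ideal.mem_comap]
    suffices c.symm (baseHom R P E F s) = (1 : F) ⊗ₜ[E] s by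
      rw [this, Algebra.TensorProduct.includeRight_apply]
    induction s using TensorProduct.induction_on with
    | zero => simp
    | add a b ha hb => simp only [map_add, ha, hb, tmul_add]
    | tmul e p =>
      show c.symm ((algebraMap E F e) ⊗ₜ[R] p) = _
      rw [Algebra.TensorProduct.cancelBaseChange_symm_tmul, Algebra.algebraMap_eq_smul_one,
        TensorProduct.smul_tmul, smul_tmul', smul_eq_mul, mul_one]
  · rw [← h1]
    ext f
    simp only [Ideal.mem_comap, Algebra.TensorProduct.algebraMap_apply, Algebra.algebraMap_self,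
      RingHom.id_apply, c, Algebra.TensorProduct.cancelBaseChange_symm_tmul]
    rfl

/-- Flatness at a prime descends along a flat algebra. -/
theorem FlatAt.descend [Module.Flat E F] (q : Ideal (E ⊗[R] P)) (Q : Ideal (F ⊗[R] P))
    (hQ : Q.comap (baseHom R P E F) = q) (h : FlatAt R M F Q) : FlatAt R M E q := by
  intro X Y _ _ _ _ _ _ _ _ f hf z hz
  let mX : X →ₗ[E] F ⊗[E] X := TensorProduct.mk E F X 1
  let mY : Y →ₗ[E] F ⊗[E] Y := TensorProduct.mk E F Y 1
  let f' : F ⊗[E] X →ₗ[F] F ⊗[E] Y := f.baseChange F
  have hf' : Function.Injective f' := Module.Flat.lTensor_preserves_injective_linearMap f hf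
  let z' : (F ⊗[E] X) ⊗[R] M := wmap (R := R) mX (LinearMap.id : M →ₗ[P] M) z
  have hz' : wmap (R := R) f' (LinearMap.id : M →ₗ[P] M) z' = 0 := by
    have : ∀ z : X ⊗[R] M, wmap (R := R) f' (LinearMap.id : M →ₗ[P] M)
        (wmap (R := R) mX (LinearMap.id : M →ₗ[P] M) z) =
        wmap (R := R) mY (LinearMap.id : M →ₗ[P] M) (wmap (R := R) f (LinearMap.id : M →ₗ[P] M) z) := by
      intro z
      induction z using TensorProduct.induction_on with
      | zero => simp
      | add a b ha hb => simp only [map_add, ha, hb]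
      | tmul x m => simp [wmap_tmul, f', mX, mY]
    rw [this, hz, map_zero]
  obtain ⟨s', hs', hs0⟩ := h _ _ f' hf' z' hz'
  by_contra hne
  push_neg at hne
  let ρ : E ⊗[R] P →ₗ[E] X ⊗[R] M := (LinearMap.toSpanSingleton (E ⊗[R] P) _ z).restrictScalars E
  let c := AlgebraTensorModule.cancelBaseChange R E F F P
  let d := (AlgebraTensorModule.assoc R E F F X M).symm
  have key : ∀ w, c w • z' = d (ρ.lTensor F w) := by
    intro w
    induction w using TensorProduct.induction_on with
    | zero => rw [map_zero, map_zero, map_zero]; exact zero_smul (F ⊗[R] P) z'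
    | add a b ha hb => simp only [map_add, add_smul, ha, hb]
    | tmul a s =>
      induction s using TensorProduct.induction_on with
      | zero => rw [tmul_zero, map_zero, map_zero, map_zero]; exact zero_smul (F ⊗[R] P) z'
      | add b b' hb hb' => simp only [tmul_add, map_add, add_smul, hb, hb']
      | tmul e p =>
        show ((e • a) ⊗ₜ[R] p) • z' = d (a ⊗ₜ[E] ((e ⊗ₜ[R] p) • z))
        clear hne hz' hs0 hz
        simp only [z']
        induction z using TensorProduct.induction_on with
        | zero => simp
        | add b b' hb hb' => simp only [map_add, smul_add, tmul_add, hb, hb']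
        | tmul x m =>
          rw [wmap_tmul, tmul_smul_tmul, tmul_smul_tmul]
          show ((e • a) • ((1 : F) ⊗ₜ[E] x)) ⊗ₜ[R] (p • m) = (a ⊗ₜ[E] (e • x)) ⊗ₜ[R] (p • m)
          rw [TensorProduct.smul_tmul', smul_eq_mul, mul_one, TensorProduct.smul_tmul]
  obtain ⟨w, rfl⟩ := c.surjective s'
  rw [key, LinearEquiv.map_eq_zero_iff] at hs0
  obtain ⟨v, rfl⟩ := (Module.Flat.lTensor_exact F (LinearMap.exact_subtype_ker_map ρ) w).1 hs0
  apply hs'
  clear hs0 hs'
  induction v using TensorProduct.induction_on with
  | zero => simp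
  | add a b ha hb => rw [map_add, map_add]; exact Q.add_mem ha hb
  | tmul a k =>
    have hk : (k : E ⊗[R] P) ∈ q := by
      by_contra hkq
      exact hne k hkq k.2
    rw [← hQ, Ideal.mem_comap] at hk
    rw [LinearMap.lTensor_tmul, Submodule.subtype_apply]
    have e : ∀ s : E ⊗[R] P, c (a ⊗ₜ[E] s) = (a ⊗ₜ[R] (1 : P)) * baseHom R P E F s := by
      intro s
      induction s using TensorProduct.induction_on with
      | zero => simp
      | add b b' hb hb' => simp only [tmul_add, map_add, mul_add, hb, hb']
      | tmul e p =>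
        show (e • a) ⊗ₜ[R] p = (a ⊗ₜ[R] (1 : P)) * ((algebraMap E F e) ⊗ₜ[R] p)
        rw [Algebra.TensorProduct.tmul_mul_tmul, one_mul, Algebra.smul_def, mul_comm]
    rw [e]
    exact Q.mul_mem_left _ hk

end Groth.Agent.H47.GrFlat
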