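import Groth.Agent.H47.GrBasic
import Groth.Agent.H47.GenericFreeDomain
import Mathlib.RingTheory.Filtration
import Mathlib.RingTheory.ReesAlgebra

/-!
# Generic flatness of the associated graded module
-/

set_option autoImplicit false

universe u

set_option backward.isDefEq.respectTransparency false

open TensorProduct

namespace Groth.Agent.H47.GrFlat

theorem flat_extension {A : Type u} [CommRing A] {X Y Z : Type u} [AddCommGroup X] [Module A X]
    [AddCommGroup Y] [Module A Y] [AddCommGroup Z] [Module A Z] (f : X →ₗ[A] Y) (g : Y →ₗ[A] Z)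
    (hf : Function.Injective f) (hg : Function.Surjective g) (h : Function.Exact f g)
    [Module.Flat A X] [Module.Flat A Z] : Module.Flat A Y := by
  rw [Module.Flat.iff_lTensor_injective']
  intro a
  rw [injective_iff_map_eq_zero]
  intro x hx
  have hgx : g.rTensor a x = 0 := by
    apply Module.Flat.lTensor_preserves_injective_linearMap (M := Z) a.subtype a.injective_subtype
    rw [map_zero, ← LinearMap.comp_apply, LinearMap.lTensor_comp_rTensor,
      ← LinearMap.rTensor_comp_lTensor, LinearMap.comp_apply, hx, map_zero]
  obtain ⟨k, rfl⟩ := (rTensor_exact (R := A) (M := X) (N := Y) (P := Z) ↥a h hg x).1 hgx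
  have : k = 0 := by
    apply Module.Flat.lTensor_preserves_injective_linearMap (M := X) a.subtype a.injective_subtype
    apply Module.Flat.rTensor_preserves_injective_linearMap (M := A) f hf
    rw [map_zero, map_zero, ← LinearMap.comp_apply, LinearMap.rTensor_comp_lTensor,
      ← LinearMap.lTensor_comp_rTensor, LinearMap.comp_apply, hx]
  rw [this, map_zero]

section filt

variable {D : Type u} [CommRing D] [IsDomain D] {S : Type u} [CommRing S] [Algebra D S]
  [Algebra.FiniteType D S] [IsNoetherianRing S] (I : Ideal S) (W : Type u) [AddCommGroup W]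
  [Module D W] [Module S W] [IsScalarTower D S W] [Module.Finite S W]

local notation "F" => I.stableFiltration (⊤ : Submodule S W)

set_option maxHeartbeats 1000000 in
/-- Generic flatness of all truncations. -/
theorem exists_flat_truncations :
    ∃ t : D, t ≠ 0 ∧ ∀ k : ℕ, Module.Flat (Localization.Away t)
      (Localization.Away t ⊗[D] (W ⧸ (I ^ k • ⊤ : Submodule S W))) := by
  classical
  let RM := (F).submodule
  have hfg : RM.FG := ((F).submodule_fg_iff_stable fun i => IsNoetherian.noetherian _).2
    (I.stableFiltration_stable ⊤)
  have : Module.Finite (reesAlgebra I) RM := Module.Finite.iff_fg.2 hfg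
  let JR : Ideal (reesAlgebra I) := I.map (algebraMap S (reesAlgebra I))
  letI : AddCommGroup ↥RM := by infer_instance
  let GR := RM ⧸ (JR • ⊤ : Submodule (reesAlgebra I) RM)
  have : Algebra.FiniteType D (reesAlgebra I) := Algebra.FiniteType.trans (inferInstance : Algebra.FiniteType D S)
    (inferInstance : Algebra.FiniteType S (reesAlgebra I))
  obtain ⟨t, ht, hfree⟩ := GenericFreeDomain.gf_of_finiteType (R := D) (reesAlgebra I) GR
  refine ⟨t, ht, fun k => ?_⟩
  let L := Localization.Away t
  have hGR : Module.Flat L (L ⊗[D] GR) := Module.Flat.of_free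
  -- the graded pieces are retracts
  have hpiece : ∀ k, Module.Flat L (L ⊗[D]
      (↥(I ^ k • (⊤ : Submodule S W)) ⧸
        Submodule.comap (I ^ k • (⊤ : Submodule S W)).subtype (I ^ (k + 1) • ⊤))) := by
    intro k
    let Fk : Submodule S W := I ^ k • ⊤
    let Gk := Submodule.comap Fk.subtype (I ^ (k + 1) • ⊤)
    let mk0 : ↥Fk →ₗ[S] ↥RM :=
      { toFun := fun x => ⟨PolynomialModule.single S k x.1, fun i => by
          rw [PolynomialModule.coeff_single, Finsupp.single_apply]
          split
          · rename_i h; subst h; exact x.2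
          · exact zero_mem _⟩
        map_add' := fun x y => Subtype.ext (by simp)
        map_smul' := fun s x => Subtype.ext (by
          show PolynomialModule.single S k (s • x.1) = s • PolynomialModule.single S k x.1
          exact PolynomialModule.single_smul k s x.1) }
    let q : ↥RM →ₗ[S] GR := (JR • ⊤ : Submodule (reesAlgebra I) RM).mkQ.restrictScalars S
    have hq : ∀ x : ↥Fk, x.1 ∈ I ^ (k + 1) • (⊤ : Submodule S W) → q (mk0 x) = 0 := by
      intro x hx
      show Submodule.Quotient.mk (mk0 x) = 0
      rw [Submodule.Quotient.mk_eq_zero]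
      have key : ∀ y (hy : y ∈ I • Fk), ∃ z : ↥Fk, z.1 = y ∧ mk0 z ∈ JR • (⊤ : Submodule (reesAlgebra I) RM) := by
        intro y hy
        refine Submodule.smul_induction_on hy (fun r hr w hw => ⟨r • ⟨w, hw⟩, rfl, ?_⟩) ?_
        · rw [map_smul, ← algebraMap_smul (reesAlgebra I) r]
          exact Submodule.smul_mem_smul (Ideal.mem_map_of_mem _ hr) Submodule.mem_top
        · rintro a b ⟨za, rfl, ha⟩ ⟨zb, rfl, hb⟩
          exact ⟨za + zb, rfl, by rw [map_add]; exact add_mem ha hb⟩
      obtain ⟨z, hz, hzm⟩ := key x.1 (by rw [pow_succ', mul_smul] at hx; exact hx)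
      rwa [show z = x from Subtype.ext hz] at hzm
    let ι : (↥Fk ⧸ Gk) →ₗ[D] GR :=
      (Gk.liftQ (q ∘ₗ mk0) fun x hx => hq x hx).restrictScalars D
    let cf : ↥RM →ₗ[S] ↥Fk ⧸ Gk := Gk.mkQ ∘ₗ
      { toFun := fun f => (⟨f.1.coeff k, f.2 k⟩ : ↥Fk)
        map_add' := fun x y => Subtype.ext (by simp)
        map_smul' := fun s x => Subtype.ext rfl }
    have hcf : ∀ y ∈ (JR • ⊤ : Submodule (reesAlgebra I) RM), cf y = 0 := by
      intro y hy
      have key : ∀ y ∈ (JR • ⊤ : Submodule (reesAlgebra I) RM), ∀ i, y.1.coeff i ∈ I ^ (i + 1) • (⊤ : Submodule S W) := by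
        intro y hy
        refine Submodule.smul_induction_on hy (fun r hr w _ => ?_) fun a b ha hb i => by
          simpa using add_mem (ha i) (hb i)
        clear hy
        induction hr using Submodule.span_induction generalizing w with
        | zero => intro i; simp
        | add a b _ _ ha hb => intro i; rw [add_smul]; simpa using add_mem (ha w trivial i) (hb w trivial i)
        | smul a b _ hb => intro i; rw [smul_eq_mul, mul_comm, mul_smul]; exact hb _ trivial i
        | mem r hr =>
          obtain ⟨s, hs, rfl⟩ := hr
          intro i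
          rw [algebraMap_smul, Submodule.coe_smul_of_tower, pow_succ', mul_smul]
          have : (s • w.1).coeff i = s • w.1.coeff i := rfl
          rw [this]
          exact Submodule.smul_mem_smul hs (w.2 i)
      show Submodule.Quotient.mk _ = 0
      rw [Submodule.Quotient.mk_eq_zero]
      exact key y hy k
    let π : GR →ₗ[D] ↥Fk ⧸ Gk :=
      { toFun := fun g => Quotient.liftOn' g cf fun a b h => by
          rw [← sub_eq_zero, ← map_sub]
          exact hcf _ ((Submodule.quotientRel_def _).1 h)
        map_add' := fun x y => by
          induction x using Submodule.Quotient.induction_on with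
          | _ x => induction y using Submodule.Quotient.induction_on with
            | _ y => exact map_add cf x y
        map_smul' := fun d x => by
          induction x using Submodule.Quotient.induction_on with
          | _ x =>
            show cf (d • x) = d • cf x
            exact LinearMap.map_smul_of_tower cf d x }
    have hπι : π ∘ₗ ι = LinearMap.id := by
      refine LinearMap.ext fun x => ?_
      obtain ⟨x, rfl⟩ := Submodule.mkQ_surjective _ x
      show cf (mk0 x) = Gk.mkQ x
      show Gk.mkQ _ = Gk.mkQ x
      congr 1
      exact Subtype.ext (by simp [mk0])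
    exact Module.Flat.of_retract (ι.baseChange L) (π.baseChange L)
      (by rw [← LinearMap.baseChange_comp, hπι, LinearMap.baseChange_id])
  induction k with
  | zero =>
    have : Subsingleton (W ⧸ (I ^ 0 • ⊤ : Submodule S W)) :=
      Submodule.Quotient.subsingleton_iff.2 (by rw [pow_zero, Ideal.one_eq_top, Submodule.top_smul])
    exact Module.Flat.of_free
  | succ k ih =>
    let Fk : Submodule S W := I ^ k • ⊤
    let Fs : Submodule S W := I ^ (k + 1) • ⊤
    have hle : Fs ≤ Fk := Submodule.smul_mono (Ideal.pow_le_pow_right k.le_succ) le_rfl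
    let f : (↥Fk ⧸ Submodule.comap Fk.subtype Fs) →ₗ[D] W ⧸ Fs :=
      (Submodule.mapQ _ Fs Fk.subtype le_rfl).restrictScalars D
    let g : (W ⧸ Fs) →ₗ[D] W ⧸ Fk := (Submodule.factor hle).restrictScalars D
    have hf : Function.Injective f := by
      show Function.Injective (Submodule.mapQ _ Fs Fk.subtype le_rfl)
      rw [← LinearMap.ker_eq_bot, Submodule.ker_mapQ, Submodule.mkQ_map_self]
    have hfg' : Function.Exact f g := by
      intro x
      constructor
      · intro hx
        obtain ⟨x, rfl⟩ := Submodule.mkQ_surjective _ x
        exact ⟨Submodule.Quotient.mk ⟨x, (Submodule.Quotient.mk_eq_zero _).1 hx⟩, rfl⟩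
      · rintro ⟨y, rfl⟩
        obtain ⟨y, rfl⟩ := Submodule.mkQ_surjective _ y
        exact (Submodule.Quotient.mk_eq_zero _).2 y.2
    have hgs : Function.Surjective g := Submodule.factor_surjective hle
    have := hpiece k
    have : Module.Flat D L := IsLocalization.flat L (Submonoid.powers t)
    exact flat_extension (f.baseChange L) (g.baseChange L)
      (Module.Flat.lTensor_preserves_injective_linearMap f hf) (LinearMap.lTensor_surjective L hgs)
      (lTensor_exact L hfg' hgs)

end filt

end Groth.Agent.H47.GrFlat
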