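import Groth.Agent.H47.GrDescend
import Groth.Agent.H47.FlatModel
import Mathlib.RingTheory.AdicCompletion.Noetherian
import Mathlib.RingTheory.Ideal.Quotient.PowTransition

/-!
# Flatness at a prime from flatness of the truncations at all infinitesimal levels
-/

set_option autoImplicit false

universe u

open TensorProduct

namespace Groth.Agent.H47.GrFlat

variable {R : Type u} [CommRing R] {P : Type u} [CommRing P] [Algebra R P]
  {M : Type u} [AddCommGroup M] [Module R M] [Module P M] [IsScalarTower R P M]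
  {E : Type u} [CommRing E] [Algebra R E]

variable (R M E) in
/-- `(E ⊗ M) ⊗ X ≅ X ⊗ M` -/
noncomputable def cancelW (X : Type u) [AddCommGroup X] [Module R X] [Module E X] [IsScalarTower R E X] :
    (E ⊗[R] M) ⊗[E] X ≃ₗ[E] X ⊗[R] M :=
  (TensorProduct.comm E (E ⊗[R] M) X).trans (AlgebraTensorModule.cancelBaseChange R E E X M)

theorem cancelW_smul {X : Type u} [AddCommGroup X] [Module R X] [Module E X] [IsScalarTower R E X]
    (s : E ⊗[R] P) (y : (E ⊗[R] M) ⊗[E] X) : cancelW R M E X (s • y) = s • cancelW R M E X y := by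
  induction y using TensorProduct.induction_on with
  | zero => simp
  | add a b ha hb => simp only [smul_add, map_add, ha, hb]
  | tmul w x =>
    rw [TensorProduct.smul_tmul']
    induction w using TensorProduct.induction_on with
    | zero => simp
    | add a b ha hb => simp only [smul_add, add_tmul, map_add, ha, hb]
    | tmul e m =>
      induction s using TensorProduct.induction_on with
      | zero => simp
      | add a b ha hb => simp only [add_smul, add_tmul, map_add, ha, hb]
      | tmul e' p => simp [cancelW, mul_smul]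

theorem cancelW_natural {X Y : Type u} [AddCommGroup X] [Module R X] [Module E X] [IsScalarTower R E X]
    [AddCommGroup Y] [Module R Y] [Module E Y] [IsScalarTower R E Y] (f : X →ₗ[E] Y)
    (y : (E ⊗[R] M) ⊗[E] X) :
    cancelW R M E Y (f.lTensor _ y) = wmap (R := R) f (LinearMap.id : M →ₗ[P] M) (cancelW R M E X y) := by
  induction y using TensorProduct.induction_on with
  | zero => simp
  | add a b ha hb => simp only [map_add, ha, hb]
  | tmul w x =>
    induction w using TensorProduct.induction_on with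
    | zero => simp
    | add a b ha hb => simp only [add_tmul, map_add, ha, hb]
    | tmul e m => simp [cancelW, wmap_tmul]

/-- Flatness at a prime is the flatness of the localization of `E ⊗ M`. -/
theorem flat_localized_of_flatAt {q : Ideal (E ⊗[R] P)} [q.IsPrime] (h : FlatAt R M E q) :
    Module.Flat E (LocalizedModule q.primeCompl (E ⊗[R] M)) := by
  refine (Module.Flat.iff_lTensor_injective' (R := E) (M := LocalizedModule q.primeCompl (E ⊗[R] M))).2 fun a => ?_
  refine FlatTransfer.injective_lTensor_localized (R := E) (M := E ⊗[R] M) q a.subtype fun y hy => ?_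
  obtain ⟨s, hs, hs0⟩ := h _ _ a.subtype Subtype.val_injective (cancelW R M E ↥a y) (by
    rw [← cancelW_natural (P := P)]
    exact (congrArg _ hy).trans (map_zero _))
  exact ⟨s, hs, (cancelW R M E ↥a).injective (by rw [cancelW_smul, hs0, map_zero])⟩

/-- Flatness at a prime is tested on ideals. -/
theorem flatAt_of_ideals {q : Ideal (E ⊗[R] P)} [q.IsPrime]
    (h : ∀ a : Ideal E, a.FG → ∀ z : ↥a ⊗[R] M,
      wmap (R := R) a.subtype (LinearMap.id : M →ₗ[P] M) z = 0 → ∃ s, s ∉ q ∧ s • z = 0) :
    FlatAt R M E q := by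
  have hflat : Module.Flat E (LocalizedModule q.primeCompl (E ⊗[R] M)) := by
    refine (Module.Flat.iff_lTensor_injective (R := E) (M := LocalizedModule q.primeCompl (E ⊗[R] M))).2 fun a ha => ?_
    refine FlatTransfer.injective_lTensor_localized (R := E) (M := E ⊗[R] M) q a.subtype fun y hy => ?_
    obtain ⟨s, hs, hs0⟩ := h a ha (cancelW R M E ↥a y) (by
      rw [← cancelW_natural (P := P)]
      exact (congrArg _ hy).trans (map_zero _))
    exact ⟨s, hs, (cancelW R M E ↥a).injective (by rw [cancelW_smul, hs0, map_zero])⟩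
  intro X Y _ _ _ _ _ _ _ _ f hf z hz
  obtain ⟨y, rfl⟩ := (cancelW R M E X).surjective z
  rw [← cancelW_natural (P := P), LinearEquiv.map_eq_zero_iff] at hz
  let L := LocalizedModule.mkLinearMap q.primeCompl (E ⊗[R] M)
  let LX := AlgebraTensorModule.rTensor E X L
  have h1 : f.lTensor (LocalizedModule q.primeCompl (E ⊗[R] M)) (LX y) = 0 := by
    have : ∀ y, f.lTensor (LocalizedModule q.primeCompl (E ⊗[R] M)) (LX y) =
        AlgebraTensorModule.rTensor E Y L (f.lTensor _ y) := by
      intro y
      induction y using TensorProduct.induction_on with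
      | zero => simp
      | tmul m n => simp [LX]
      | add a b ha hb => simp [ha, hb]
    rw [this, hz, map_zero]
  have h2 : LX y = 0 := Module.Flat.lTensor_preserves_injective_linearMap f hf (by rw [h1, map_zero])
  obtain ⟨c, hc⟩ := (IsLocalizedModule.eq_zero_iff q.primeCompl LX).1 h2
  refine ⟨c, c.2, ?_⟩
  rw [← cancelW_smul, show (c : E ⊗[R] P) • y = 0 from hc, map_zero]

set_option maxHeartbeats 1000000 in
/-- Flatness at a prime from the flatness of all truncations modulo all powers of an ideal. -/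
theorem flatAt_of_levels [IsNoetherianRing E] [IsNoetherianRing (E ⊗[R] P)] [Module.Finite P M]
    (J : Ideal P) (m : Ideal E)
    (hl : ∀ l k, Module.Flat (E ⧸ m ^ l) ((E ⧸ m ^ l) ⊗[R] Nk M J k))
    (q : Ideal (E ⊗[R] P)) [q.IsPrime] (hJ : ext R E J ≤ q)
    (hm : m.map (algebraMap E (E ⊗[R] P)) ≤ q) : FlatAt R M E q := by
  refine flatAt_of_ideals fun a ha z hz => ?_
  have : Module.Finite E ↥a := Module.Finite.iff_fg.2 ha
  have : Module.Finite (E ⊗[R] P) (↥a ⊗[R] M) := finite_tensor
  let mS := m.map (algebraMap E (E ⊗[R] P))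
  obtain ⟨c, hc⟩ := m.exists_pow_inf_eq_pow_smul (N := (a : Submodule E E))
  have key : ∀ l, ∃ s, s ∉ q ∧ s • z ∈ mS ^ l • (⊤ : Submodule (E ⊗[R] P) (↥a ⊗[R] M)) := by
    intro l
    let T : Submodule E ↥a := Submodule.comap a.subtype (m ^ (c + l) : Ideal E)
    let f : (↥a ⧸ T) →ₗ[E] (E ⧸ m ^ (c + l)) := T.mapQ (m ^ (c + l)) a.subtype le_rfl
    have hf : Function.Injective f := by
      rw [← LinearMap.ker_eq_bot, Submodule.ker_mapQ, Submodule.mkQ_map_self]
    have hkill : ∀ r ∈ m ^ (c + l), ∀ y : E ⧸ m ^ (c + l), r • y = 0 := fun r hr y => by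
      obtain ⟨y, rfl⟩ := Ideal.Quotient.mk_surjective y
      rw [Algebra.smul_def, Ideal.Quotient.algebraMap_eq, ← map_mul, Ideal.Quotient.eq_zero_iff_mem]
      exact Ideal.mul_mem_right y _ hr
    let π := wmap (R := R) T.mkQ (LinearMap.id : M →ₗ[P] M)
    have : Module.Finite (E ⊗[R] P) ((↥a ⧸ T) ⊗[R] M) := finite_tensor
    have hπz : π z ∈ (⨅ k : ℕ, ext R E J ^ k • ⊤ : Submodule (E ⊗[R] P) ((↥a ⧸ T) ⊗[R] M)) := by
      rw [Submodule.mem_iInf]
      intro k
      rw [← red_eq_zero_iff]
      apply wmap_injective_quotient (P := P) (N := Nk M J k) (m ^ (c + l)) f hf hkill (hl (c + l) k)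
      rw [map_zero]
      refine (wmap_comp_wmap f _ (π z)).trans ?_
      have : ∀ z : ↥a ⊗[R] M, wmap (R := R) f (LinearMap.id : M →ₗ[P] M) (π z) =
          wmap (R := R) (Submodule.mkQ (m ^ (c + l) : Submodule E E)) (LinearMap.id : M →ₗ[P] M)
            (wmap (R := R) a.subtype (LinearMap.id : M →ₗ[P] M) z) := by
        intro z
        induction z using TensorProduct.induction_on with
        | zero => simp
        | add a b ha hb => simp only [map_add, ha, hb]
        | tmul x m' => simp only [π, wmap_tmul]; rfl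
      rw [this, hz, map_zero, map_zero]
    obtain ⟨r, hr⟩ := (Ideal.mem_iInf_smul_pow_eq_bot_iff _ _).1 hπz
    refine ⟨1 - r.1, fun h1 => (Ideal.IsPrime.ne_top' : q ≠ ⊤) ((Ideal.eq_top_iff_one q).2
      (by simpa using q.add_mem h1 (hJ r.2))), ?_⟩
    have h0 : π ((1 - r.1) • z) = 0 := by rw [map_smul, sub_smul, one_smul, hr, sub_self]
    obtain ⟨w, hw⟩ := (rTensor_exact (R := R) (M := ↥T) (N := ↥a) (P := ↥a ⧸ T) M
      (f := T.subtype.restrictScalars R) (g := T.mkQ.restrictScalars R)
      (LinearMap.exact_subtype_mkQ T) T.mkQ_surjective ((1 - r.1) • z)).1 h0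
    rw [← hw]
    clear hw h0
    induction w using TensorProduct.induction_on with
    | zero => simp
    | add a b ha hb => rw [map_add]; exact add_mem ha hb
    | tmul x m' =>
      rw [LinearMap.rTensor_tmul]
      have hx : (x : ↥a) ∈ m ^ l • (⊤ : Submodule E ↥a) := by
        rw [Submodule.mem_smul_top_iff]
        have h1 : ((x : ↥a) : E) ∈ (m ^ (c + l) • (⊤ : Submodule E E)) ⊓ a :=
          ⟨by rw [smul_eq_mul, Ideal.mul_top]; exact x.2, x.1.2⟩
        rw [hc (c + l) (by omega), Nat.add_sub_cancel_left] at h1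
        exact Submodule.smul_mono le_rfl inf_le_right h1
      refine Submodule.smul_induction_on (p := fun y : ↥a => y ⊗ₜ[R] m' ∈ mS ^ l •
        (⊤ : Submodule (E ⊗[R] P) (↥a ⊗[R] M))) hx ?_ ?_
      · intro e he y _
        rw [show (e • y) ⊗ₜ[R] m' = (algebraMap E (E ⊗[R] P) e) • (y ⊗ₜ[R] m') by
          rw [Algebra.TensorProduct.algebraMap_apply, tmul_smul_tmul, one_smul]; rfl]
        refine Submodule.smul_mem_smul ?_ Submodule.mem_top
        rw [← Ideal.map_pow]
        exact Ideal.mem_map_of_mem _ he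
      · intro a b ha hb
        rw [add_tmul]; exact add_mem ha hb
  let Sq := Localization.AtPrime q
  let W := ↥a ⊗[R] M
  let Wq := LocalizedModule q.primeCompl W
  let L := LocalizedModule.mkLinearMap q.primeCompl W
  have : Module.Finite Sq Wq := Module.Finite.of_isLocalizedModule q.primeCompl L
  have : IsNoetherianRing Sq := inferInstance
  have hH : IsHausdorff (IsLocalRing.maximalIdeal Sq) Wq :=
    IsHausdorff.of_isLocalRing _ _ (IsLocalRing.maximalIdeal.isMaximal Sq).ne_top
  have hL : L z = 0 := by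
    refine hH.haus' _ fun l => ?_
    rw [SModEq.zero]
    obtain ⟨s, hs, hsz⟩ := key l
    have h1 : L (s • z) ∈ IsLocalRing.maximalIdeal Sq ^ l • (⊤ : Submodule Sq Wq) := by
      refine Submodule.smul_induction_on (p := fun y => L y ∈ IsLocalRing.maximalIdeal Sq ^ l •
        (⊤ : Submodule Sq Wq)) hsz ?_ ?_
      · intro e he y _
        rw [map_smul, ← algebraMap_smul Sq e (L y)]
        refine Submodule.smul_mem_smul ?_ Submodule.mem_top
        have : mS.map (algebraMap (E ⊗[R] P) Sq) ≤ IsLocalRing.maximalIdeal Sq := by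
          rw [← Localization.AtPrime.map_eq_maximalIdeal]
          exact Ideal.map_mono hm
        exact Ideal.pow_right_mono this l (by rw [← Ideal.map_pow]; exact Ideal.mem_map_of_mem _ he)
      · intro a b ha hb
        rw [map_add]; exact add_mem ha hb
    rw [map_smul, ← algebraMap_smul Sq s (L z)] at h1
    obtain ⟨v, hv⟩ := IsLocalization.map_units Sq (⟨s, hs⟩ : q.primeCompl)
    have := Submodule.smul_mem _ ((v⁻¹ : Sqˣ) : Sq) h1
    rwa [← mul_smul, ← show (v : Sq) = algebraMap (E ⊗[R] P) Sq s from hv, Units.inv_mul, one_smul] at this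
  obtain ⟨t, ht⟩ := (IsLocalizedModule.eq_zero_iff q.primeCompl L).1 hL
  exact ⟨t, t.2, ht⟩

end Groth.Agent.H47.GrFlat
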