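import Groth.Agent.H47.GrLevels
import Groth.Agent.H47.Chevalley
import Groth.Agent.Lib.Excellent.CompletionNoetherian
import Mathlib.RingTheory.AdicCompletion.LocalRing
import Mathlib.RingTheory.AdicCompletion.AsTensorProduct

/-!
# Flatness along `V(J)` from flatness of the associated graded module, over an arbitrary base
-/

set_option autoImplicit false

universe u

open TensorProduct

namespace Groth.Agent.H47.GrFlat

set_option maxHeartbeats 800000 in
/-- Flatness of a finite module over an algebra of finite type descends to a finitely generated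
subalgebra. -/
theorem exists_fg_subalgebra_flat {R : Type u} [CommRing R] [IsNoetherianRing R] {P : Type u}
    [CommRing P] [Algebra R P] [Algebra.FiniteType R P] (N : Type u) [AddCommGroup N] [Module R N]
    [Module P N] [IsScalarTower R P N] [Module.Finite P N] (A : Type u) [CommRing A] [Algebra R A]
    (h : Module.Flat A (A ⊗[R] N)) : ∃ C : Subalgebra R A, C.FG ∧ Module.Flat C (C ⊗[R] N) := by
  classical
  obtain ⟨n, π, hπ⟩ := Algebra.FiniteType.iff_quotient_mvPolynomial''.1 ‹Algebra.FiniteType R P›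
  letI : Algebra (MvPolynomial (Fin n) R) P := π.toRingHom.toAlgebra
  letI : Module (MvPolynomial (Fin n) R) N := Module.compHom N π.toRingHom
  have : IsScalarTower (MvPolynomial (Fin n) R) P N := IsScalarTower.of_algebraMap_smul fun p y => rfl
  have : IsScalarTower R (MvPolynomial (Fin n) R) N := ⟨fun r p y => by
    show π (r • p) • y = r • π p • y
    rw [map_smul, smul_assoc]⟩
  have : Module.Finite (MvPolynomial (Fin n) R) P := Module.Finite.of_surjective
    (Algebra.linearMap (MvPolynomial (Fin n) R) P) hπ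
  have : Module.Finite (MvPolynomial (Fin n) R) N := Module.Finite.trans P N
  have : Module.FinitePresentation (MvPolynomial (Fin n) R) N :=
    Module.finitePresentation_of_finite _ _
  obtain ⟨m, K, e, T, hT⟩ := Module.FinitePresentation.exists_fin (MvPolynomial (Fin n) R) N
  let e' : FlatStage.Pres T ≃ₗ[R] N :=
    ((Submodule.quotEquivOfEq _ _ hT).trans e.symm).restrictScalars R
  have hA : Module.Flat A (A ⊗[R] FlatStage.Pres T) :=
    Module.Flat.of_linearEquiv (LinearEquiv.baseChange R A _ _ e')
  obtain ⟨C, hC, hflat⟩ := FlatModel.exists_fg_subalgebra_flat T A hA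
  exact ⟨C, hC, Module.Flat.of_linearEquiv (LinearEquiv.baseChange R C _ _ e').symm⟩

set_option backward.isDefEq.respectTransparency false in
/-- A complete Noetherian local ring flat over a Noetherian ring, centred at a prime. -/
theorem exists_complete_local {R : Type u} [CommRing R] [IsNoetherianRing R] (p : Ideal R) [p.IsPrime] :
    ∃ (S : Type u) (_ : CommRing S) (_ : Algebra R S) (_ : Module.Flat R S) (_ : IsNoetherianRing S)
      (_ : IsLocalRing S) (_ : IsAdicComplete (IsLocalRing.maximalIdeal S) S),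
      (IsLocalRing.maximalIdeal S).comap (algebraMap R S) = p := by
  let R₁ := Localization.AtPrime p
  let R₂ := AdicCompletion (IsLocalRing.maximalIdeal R₁) R₁
  have : Module.Flat R R₁ := IsLocalization.flat R₁ p.primeCompl
  have : Module.Flat R R₂ := Module.Flat.trans R R₁ R₂
  refine ⟨R₂, inferInstance, inferInstance, inferInstance, inferInstance, inferInstance, inferInstance, ?_⟩
  rw [IsScalarTower.algebraMap_eq R R₁ R₂, ← Ideal.comap_comap]
  have h : (IsLocalRing.maximalIdeal R₂).comap (algebraMap R₁ R₂) = IsLocalRing.maximalIdeal R₁ :=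
    ((IsLocalRing.local_hom_TFAE (algebraMap R₁ R₂)).out 0 4).1 (inferInstance : IsLocalHom (algebraMap R₁ R₂))
  rw [h]
  exact Localization.AtPrime.comap_maximalIdeal

variable {R : Type u} [CommRing R] {P : Type u} [CommRing P] [Algebra R P]
  {M : Type u} [AddCommGroup M] [Module R M] [Module P M] [IsScalarTower R P M]

set_option backward.isDefEq.respectTransparency false in
set_option maxHeartbeats 1000000 in
/-- Descent of flatness of a truncation to a power of the maximal ideal of a complete local ring. -/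
theorem flat_level [IsNoetherianRing R] [Algebra.FiniteType R P] [Module.Finite P M]
    {S : Type u} [CommRing S] [Algebra R S] [IsNoetherianRing S] [IsLocalRing S]
    [IsAdicComplete (IsLocalRing.maximalIdeal S) S]
    {A : Type u} [CommRing A] [Algebra R A] [Algebra S A] [IsScalarTower R S A] [IsLocalRing A]
    [IsLocalHom (algebraMap S A)] (N : Type u) [AddCommGroup N] [Module R N] [Module P N]
    [IsScalarTower R P N] [Module.Finite P N] (h : Module.Flat A (A ⊗[R] N)) (l : ℕ) :
    Module.Flat (S ⧸ (RingHom.ker (algebraMap S A) ⊔ IsLocalRing.maximalIdeal S ^ l))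
      ((S ⧸ (RingHom.ker (algebraMap S A) ⊔ IsLocalRing.maximalIdeal S ^ l)) ⊗[R] N) := by
  classical
  obtain ⟨C, ⟨s, hs⟩, hC⟩ := exists_fg_subalgebra_flat (P := P) N A h
  let C' : Subalgebra S A := Algebra.adjoin S (s : Set A)
  have hle : C ≤ C'.restrictScalars R := hs ▸ Algebra.adjoin_le (fun x hx => Algebra.subset_adjoin hx)
  letI : Algebra C C' := (Subalgebra.inclusion hle).toRingHom.toAlgebra
  have : IsScalarTower R C C' := IsScalarTower.of_algebraMap_eq fun r => rfl
  have : Module.Flat C' (C' ⊗[R] N) := FlatAdic.flat_of_tower (A := R) C C'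
  have : Algebra.FiniteType S C' := .adjoin_of_finite s.finite_toSet
  have : IsNoetherianRing C' := Algebra.FiniteType.isNoetherianRing S C'
  let c : Ideal C' := (IsLocalRing.maximalIdeal A).comap C'.val
  have : c.IsPrime := Ideal.IsPrime.comap _
  let L := Localization.AtPrime c
  have : IsNoetherianRing L := inferInstance
  let b : ℕ → Ideal S := fun n => ((IsLocalRing.maximalIdeal L) ^ n).comap (algebraMap S L)
  have hmem : ∀ x ∈ IsLocalRing.maximalIdeal S, algebraMap S L x ∈ IsLocalRing.maximalIdeal L := by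
    intro x hx
    rw [IsScalarTower.algebraMap_apply S C' L, IsLocalization.AtPrime.to_map_mem_maximal_iff L c]
    show algebraMap S A x ∈ IsLocalRing.maximalIdeal A
    exact (IsLocalRing.mem_maximalIdeal _).2 fun hu => (IsLocalRing.mem_maximalIdeal x).1 hx
      (IsLocalHom.map_nonunit (f := algebraMap S A) x hu)
  have hb : Antitone b := fun i j h => Ideal.comap_mono (Ideal.pow_le_pow_right h)
  have hker : ∀ x, (∀ n, x ∈ b n) → x ∈ RingHom.ker (algebraMap S A) := by
    intro x hx
    have h0 : algebraMap S L x = 0 := by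
      have := Ideal.iInf_pow_eq_bot_of_isLocalRing (IsLocalRing.maximalIdeal L)
        (IsLocalRing.maximalIdeal.isMaximal L).ne_top
      exact (Ideal.mem_bot).1 (this ▸ (Ideal.mem_iInf.2 fun n => hx n))
    rw [IsScalarTower.algebraMap_apply S C' L, ← map_zero (algebraMap C' L)] at h0
    obtain ⟨u, hu⟩ := (IsLocalization.eq_iff_exists c.primeCompl L).1 h0
    rw [RingHom.mem_ker]
    have h1 : (u.1 : A) * algebraMap S A x = (u.1 : A) * 0 := congrArg C'.val hu
    have hu' : IsUnit (u.1 : A) := by
      by_contra hn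
      exact u.2 ((IsLocalRing.mem_maximalIdeal _).2 hn)
    exact hu'.mul_left_cancel h1
  obtain ⟨n, hn⟩ := Chevalley.exists_le_sup b hb _ hker l
  let E := S ⧸ b n
  let Q := L ⧸ (IsLocalRing.maximalIdeal L) ^ n
  let ε : E →+* Q := Ideal.quotientMap ((IsLocalRing.maximalIdeal L) ^ n) (algebraMap S L) le_rfl
  letI : Algebra E Q := RingHom.toAlgebra (R := E) (S := Q) ε
  have : IsScalarTower R E Q := IsScalarTower.of_algebraMap_eq fun r => by
    show _ = Ideal.Quotient.mk _ (algebraMap S L (algebraMap R S r))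
    rw [← IsScalarTower.algebraMap_apply R S L]
    rfl
  have : IsScalarTower R C' Q := IsScalarTower.of_algebraMap_eq fun r =>
    congrArg (Ideal.Quotient.mk _) (IsScalarTower.algebraMap_apply R C' L r)
  have : Module.Flat Q (Q ⊗[R] N) := FlatAdic.flat_of_tower (A := R) C' Q
  have : Module.Flat Q (Q ⊗[E] (E ⊗[R] N)) := FlatAdic.flat_cancel (A := R) E Q
  let J : Ideal E := (IsLocalRing.maximalIdeal S).map (Ideal.Quotient.mk (b n))
  have hJ : IsNilpotent J := ⟨n, by
    rw [← Ideal.map_pow, Ideal.zero_eq_bot, Ideal.map_eq_bot_iff_le_ker, Ideal.mk_ker]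
    intro x hx
    show algebraMap S L x ∈ IsLocalRing.maximalIdeal L ^ n
    exact Ideal.pow_right_mono (Ideal.map_le_iff_le_comap.2 hmem) n
      (by rw [← Ideal.map_pow]; exact Ideal.mem_map_of_mem _ hx)⟩
  have : Module.Flat (E ⧸ J) ((E ⧸ J) ⊗[E] (E ⊗[R] N)) := by
    rcases eq_or_ne J ⊤ with htop | hne
    · have : Subsingleton (E ⧸ J) := Ideal.Quotient.subsingleton_iff.2 htop
      exact Module.Flat.of_free
    · have : J.IsMaximal := by
        rcases Ideal.map_eq_top_or_isMaximal_of_surjective (Ideal.Quotient.mk (b n))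
          Ideal.Quotient.mk_surjective (IsLocalRing.maximalIdeal.isMaximal S) with h | h
        · exact absurd h hne
        · exact h
      letI := Ideal.Quotient.field J
      exact Module.Flat.of_free
  have hE : Module.Flat E (E ⊗[R] N) := FlatFamily.flat_of_finite_family (A := E) (M := E ⊗[R] N) (J := J)
    (B := fun _ : Unit => Q) hJ (fun a ha => by
      obtain ⟨a, rfl⟩ := Ideal.Quotient.mk_surjective a
      rw [Ideal.Quotient.eq_zero_iff_mem]
      show algebraMap S L a ∈ IsLocalRing.maximalIdeal L ^ n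
      exact (Ideal.Quotient.eq_zero_iff_mem (I := IsLocalRing.maximalIdeal L ^ n)).1 (ha ())) (fun _ => inferInstance)
  letI : Algebra E (S ⧸ (RingHom.ker (algebraMap S A) ⊔ IsLocalRing.maximalIdeal S ^ l)) :=
    (Ideal.Quotient.factor hn).toAlgebra
  have : IsScalarTower R E (S ⧸ (RingHom.ker (algebraMap S A) ⊔ IsLocalRing.maximalIdeal S ^ l)) :=
    IsScalarTower.of_algebraMap_eq fun r => rfl
  exact FlatAdic.flat_of_tower (A := R) E _

set_option backward.isDefEq.respectTransparency false in
set_option maxHeartbeats 1000000 in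
/-- If all `A ⊗ (M / J ^ k M)` are flat, then `A ⊗ M` is flat at every prime containing `J`. -/
theorem flatAt_of_grFlat [IsNoetherianRing R] [Algebra.FiniteType R P] [Module.Finite P M]
    (J : Ideal P) {A : Type u} [CommRing A] [Algebra R A] (h : GrFlat R M J A)
    (q : Ideal (A ⊗[R] P)) [q.IsPrime] (hJ : ext R A J ≤ q) : FlatAt R M A q := by
  classical
  let PA : Ideal A := q.comap (algebraMap A (A ⊗[R] P))
  have hPA : PA.IsPrime := Ideal.IsPrime.comap _
  let p : Ideal R := PA.comap (algebraMap R A)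
  have hp : p.IsPrime := Ideal.IsPrime.comap _
  obtain ⟨R₂, i₁, i₂, i₃, i₄, i₅, i₆, hcomap⟩ := exists_complete_local p
  let mR : Ideal R₂ := IsLocalRing.maximalIdeal R₂
  obtain ⟨Q₁, hQ₁, hQ₁A, hQ₁R⟩ := exists_prime_tensor (A := R) PA mR (by rw [hcomap])
  let T := A ⊗[R] R₂
  let A' := Localization.AtPrime Q₁
  letI : Algebra R₂ A' := ((algebraMap T A').comp (Algebra.TensorProduct.includeRight : R₂ →ₐ[R] T).toRingHom).toAlgebra
  have : IsScalarTower R R₂ A' := IsScalarTower.of_algebraMap_eq (R := R) (S := R₂) (A := A') fun r => by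
    show _ = algebraMap T A' ((Algebra.TensorProduct.includeRight : R₂ →ₐ[R] T) (algebraMap R R₂ r))
    rw [AlgHom.commutes, ← IsScalarTower.algebraMap_apply]
  have : Module.Flat T A' := IsLocalization.flat A' Q₁.primeCompl
  have : Module.Flat A A' := Module.Flat.trans A T A'
  let P' : Ideal A' := IsLocalRing.maximalIdeal A'
  have hP'A : P'.comap (algebraMap A A') = PA := by
    rw [IsScalarTower.algebraMap_eq A T A', ← Ideal.comap_comap, show Ideal.comap (algebraMap T A') P' = Q₁ from Localization.AtPrime.comap_maximalIdeal]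
    exact hQ₁A
  have hP'R : P'.comap (algebraMap R₂ A') = mR := by
    rw [show algebraMap R₂ A' = (algebraMap T A').comp (Algebra.TensorProduct.includeRight : R₂ →ₐ[R] T).toRingHom from rfl,
      ← Ideal.comap_comap, show Ideal.comap (algebraMap T A') P' = Q₁ from Localization.AtPrime.comap_maximalIdeal]
    exact hQ₁R
  have : IsLocalHom (algebraMap R₂ A') :=
    ((IsLocalRing.local_hom_TFAE (algebraMap R₂ A')).out 0 4).2 hP'R
  obtain ⟨q', hq', hq'A, hq'P⟩ := exists_prime_over (F := A') q P' hP'A.symm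
  -- the complete Noetherian local model
  let K : Ideal R₂ := RingHom.ker (algebraMap R₂ A')
  let S := R₂ ⧸ K
  let φ : S →ₐ[R] A' :=
    Ideal.Quotient.liftₐ K (IsScalarTower.toAlgHom R R₂ A') fun x hx => hx
  letI : Algebra S A' := φ.toRingHom.toAlgebra
  have : IsScalarTower R S A' := IsScalarTower.of_algebraMap_eq fun r => (φ.commutes r).symm
  have : IsNoetherianRing S := isNoetherianRing_of_surjective R₂ S (Ideal.Quotient.mk K) Ideal.Quotient.mk_surjective
  have : IsNoetherianRing (S ⊗[R] P) := by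
    have : Algebra.FiniteType S (S ⊗[R] P) := inferInstance
    exact Algebra.FiniteType.isNoetherianRing S _
  let mS : Ideal S := mR.map (Ideal.Quotient.mk K)
  have hl : ∀ l k, Module.Flat (S ⧸ mS ^ l) ((S ⧸ mS ^ l) ⊗[R] Nk M J k) := by
    intro l k
    have := flat_level (P := P) (M := M) (S := R₂) (A := A') (Nk M J k) ((h.baseChange A') k) l
    let ψ : R₂ ⧸ (K ⊔ mR ^ l) →+* S ⧸ mS ^ l :=
      Ideal.Quotient.lift _ ((Ideal.Quotient.mk (mS ^ l)).comp (Ideal.Quotient.mk K)) fun x hx => by
        rw [RingHom.comp_apply, Ideal.Quotient.eq_zero_iff_mem]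
        obtain ⟨a, ha, b, hb, rfl⟩ := Submodule.mem_sup.1 hx
        rw [map_add, Ideal.Quotient.eq_zero_iff_mem.2 ha, zero_add, ← Ideal.map_pow]
        exact Ideal.mem_map_of_mem _ hb
    letI : Algebra (R₂ ⧸ (K ⊔ mR ^ l)) (S ⧸ mS ^ l) := ψ.toAlgebra
    have : IsScalarTower R (R₂ ⧸ (K ⊔ mR ^ l)) (S ⧸ mS ^ l) := IsScalarTower.of_algebraMap_eq fun r => rfl
    exact FlatAdic.flat_of_tower (A := R) (R₂ ⧸ (K ⊔ mR ^ l)) _
  let q₀ := q'.comap (baseHom R P S A')
  have hext : ext R S J ≤ q₀ := by
    rw [Ideal.map_le_iff_le_comap]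
    intro x hx
    show baseHom R P S A' ((1 : S) ⊗ₜ[R] x) ∈ q'
    have h1 : (1 : A) ⊗ₜ[R] x ∈ q := hJ (Ideal.mem_map_of_mem _ hx)
    rw [← hq'A] at h1
    have e1 : baseHom R P A A' ((1 : A) ⊗ₜ[R] x) = (1 : A') ⊗ₜ[R] x := by simp [baseHom]
    have e2 : baseHom R P S A' ((1 : S) ⊗ₜ[R] x) = (1 : A') ⊗ₜ[R] x := by simp [baseHom]
    rw [Ideal.mem_comap, e1] at h1
    rw [e2]
    exact h1
  have hmS : mS.map (algebraMap S (S ⊗[R] P)) ≤ q₀ := by
    rw [Ideal.map_le_iff_le_comap, Ideal.map_le_iff_le_comap]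
    intro x hx
    show baseHom R P S A' ((Ideal.Quotient.mk K x) ⊗ₜ[R] (1 : P)) ∈ q'
    have h1 : algebraMap R₂ A' x ∈ q'.comap (algebraMap A' (A' ⊗[R] P)) := by
      rw [hq'P]
      exact hP'R.ge hx
    exact h1
  have h0 : FlatAt R M S q₀ := flatAt_of_levels J mS hl q₀ hext hmS
  exact FlatAt.descend q q' hq'A (FlatAt.baseChange (F := A') q' h0)

end Groth.Agent.H47.GrFlat
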