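import Groth.Agent.H47.ExactLocus
import Groth.Agent.H47.ConsPreimage
import Mathlib.RingTheory.TensorProduct.MvPolynomial
import Mathlib.RingTheory.Finiteness.ModuleFinitePresentation
import Mathlib.RingTheory.Spectrum.Prime.Topology

/-!
# A Noetherian model of a sequence of finitely presented modules; the locus of exact fibres
-/

set_option autoImplicit false

universe u

open TensorProduct

attribute [local instance] MvPolynomial.algebraMvPolynomial

namespace Groth.Agent.H47.SeqModel

theorem baseChange_square {R L : Type u} [CommRing R] [CommRing L] [Algebra R L]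
    {M M' N N' : Type u} [AddCommGroup M] [Module R M] [AddCommGroup M'] [Module R M']
    [AddCommGroup N] [Module R N] [AddCommGroup N'] [Module R N']
    (e : M' ≃ₗ[R] M) (e' : N' ≃ₗ[R] N) (f : M →ₗ[R] N) (g : M' →ₗ[R] N')
    (h : f ∘ₗ e.toLinearMap = e'.toLinearMap ∘ₗ g) :
    f.baseChange L ∘ₗ (LinearEquiv.baseChange R L _ _ e).toLinearMap =
      (LinearEquiv.baseChange R L _ _ e').toLinearMap ∘ₗ g.baseChange L :=
  TensorProduct.AlgebraTensorModule.ext fun l x => congrArg (fun t => l ⊗ₜ[R] t) (LinearMap.congr_fun h x)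

variable {R : Type u} [CommRing R] {n : ℕ}


/-- reduction of coefficients -/
noncomputable def mu (R₀ : Subalgebra ℤ R) (a : ℕ) :
    (Fin a → MvPolynomial (Fin n) R₀) →ₗ[MvPolynomial (Fin n) R₀] (Fin a → (MvPolynomial (Fin n) R)) :=
  LinearMap.pi fun i => (Algebra.linearMap (MvPolynomial (Fin n) R₀) (MvPolynomial (Fin n) R)).comp (LinearMap.proj i)

theorem mu_apply (R₀ : Subalgebra ℤ R) {a : ℕ} (v : Fin a → MvPolynomial (Fin n) R₀) (i : Fin a) :
    mu R₀ a v i = algebraMap (MvPolynomial (Fin n) R₀) (MvPolynomial (Fin n) R) (v i) := rfl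

theorem mu_injective (R₀ : Subalgebra ℤ R) (a : ℕ) : Function.Injective (mu (n := n) R₀ a) := by
  intro v w h
  funext i
  have hi : mu R₀ a v i = mu R₀ a w i := congrFun h i
  rw [mu_apply, mu_apply, MvPolynomial.algebraMap_def] at hi
  exact MvPolynomial.map_injective _ Subtype.val_injective hi

theorem mu_single (R₀ : Subalgebra ℤ R) {a : ℕ} (i : Fin a) :
    mu (n := n) R₀ a (Pi.single i 1) = Pi.single i 1 := by
  funext j
  rw [mu_apply, Pi.single_apply, Pi.single_apply]
  split <;> simp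

/-- a lift of a map of free modules to a subring -/
def Lifts (R₀ : Subalgebra ℤ R) {a b : ℕ} (Φ : (Fin a → (MvPolynomial (Fin n) R)) →ₗ[(MvPolynomial (Fin n) R)] (Fin b → (MvPolynomial (Fin n) R))) : Prop :=
  ∃ Φ₀ : (Fin a → MvPolynomial (Fin n) R₀) →ₗ[MvPolynomial (Fin n) R₀]
      (Fin b → MvPolynomial (Fin n) R₀), ∀ v, mu R₀ b (Φ₀ v) = Φ (mu R₀ a v)

theorem exists_coef {a b : ℕ} (Φ : (Fin a → (MvPolynomial (Fin n) R)) →ₗ[(MvPolynomial (Fin n) R)] (Fin b → (MvPolynomial (Fin n) R))) :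
    ∃ S : Finset R, ∀ R₀ : Subalgebra ℤ R, (S : Set R) ⊆ R₀ → Lifts R₀ Φ := by
  classical
  refine ⟨Finset.univ.biUnion fun i : Fin a => Finset.univ.biUnion fun j : Fin b =>
    (Φ (Pi.single i 1) j).support.image fun d => (Φ (Pi.single i 1) j).coeff d, fun R₀ hS => ?_⟩
  have : ∀ i j, ∃ p : MvPolynomial (Fin n) R₀,
      MvPolynomial.map (algebraMap R₀ R) p = Φ (Pi.single i 1) j := fun i j => by
    refine MvPolynomial.mem_range_map_iff_coeffs_subset.2 fun c hc => ?_
    obtain ⟨d, hd, rfl⟩ := MvPolynomial.mem_coeffs_iff.1 hc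
    exact ⟨⟨_, hS (Finset.mem_biUnion.2 ⟨i, Finset.mem_univ _, Finset.mem_biUnion.2
      ⟨j, Finset.mem_univ _, Finset.mem_image_of_mem _ hd⟩⟩)⟩, rfl⟩
  choose p hp using this
  refine ⟨(Pi.basisFun (MvPolynomial (Fin n) R₀) (Fin a)).constr ℕ p, fun v => ?_⟩
  have e : (mu R₀ b).comp ((Pi.basisFun (MvPolynomial (Fin n) R₀) (Fin a)).constr ℕ p) =
      (Φ.restrictScalars (MvPolynomial (Fin n) R₀)).comp (mu R₀ a) := by
    refine (Pi.basisFun (MvPolynomial (Fin n) R₀) (Fin a)).ext fun i => ?_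
    rw [LinearMap.comp_apply, Module.Basis.constr_basis, LinearMap.comp_apply, Pi.basisFun_apply,
      mu_single]
    funext j
    rw [mu_apply, MvPolynomial.algebraMap_def]
    exact hp i j
  exact LinearMap.congr_fun e v

theorem exists_factor {A : Type u} [CommRing A] {a : ℕ} {M N : Type u} [AddCommGroup M] [Module A M]
    [AddCommGroup N] [Module A N] (f : M →ₗ[A] N) (h : (Fin a → A) →ₗ[A] N)
    (hh : ∀ i, h (Pi.single i 1) ∈ LinearMap.range f) : ∃ U : (Fin a → A) →ₗ[A] M, f ∘ₗ U = h := by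
  choose x hx using hh
  exact ⟨(Pi.basisFun A (Fin a)).constr ℕ x,
    (Pi.basisFun A (Fin a)).ext fun i => by
      rw [LinearMap.comp_apply, Module.Basis.constr_basis, hx, Pi.basisFun_apply]⟩

section present

variable (R₀ : Subalgebra ℤ R)


variable {a a' : ℕ} (g₀ : (Fin a' → (MvPolynomial (Fin n) R₀)) →ₗ[(MvPolynomial (Fin n) R₀)] (Fin a → (MvPolynomial (Fin n) R₀))) (g : (Fin a' → (MvPolynomial (Fin n) R)) →ₗ[(MvPolynomial (Fin n) R)] (Fin a → (MvPolynomial (Fin n) R)))
  (hg : ∀ v, mu R₀ a (g₀ v) = g (mu R₀ a' v))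
  {M : Type u} [AddCommGroup M] [Module (MvPolynomial (Fin n) R) M] [Module (MvPolynomial (Fin n) R₀) M] [IsScalarTower (MvPolynomial (Fin n) R₀) (MvPolynomial (Fin n) R) M]
  (f : (Fin a → (MvPolynomial (Fin n) R)) →ₗ[(MvPolynomial (Fin n) R)] M) (hf : Function.Surjective f) (hfg : Function.Exact g f)

include hg hfg in
theorem range_le : LinearMap.range g₀ ≤ LinearMap.ker ((f.restrictScalars (MvPolynomial (Fin n) R₀)).comp (mu R₀ a)) := by
  rintro _ ⟨v, rfl⟩
  show f (mu R₀ a (g₀ v)) = 0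
  rw [hg]
  exact hfg.apply_apply_eq_zero _

/-- the map from the model -/
noncomputable def phi : ((Fin a → (MvPolynomial (Fin n) R₀)) ⧸ LinearMap.range g₀) →ₗ[(MvPolynomial (Fin n) R₀)] M :=
  (LinearMap.range g₀).liftQ ((f.restrictScalars (MvPolynomial (Fin n) R₀)).comp (mu R₀ a)) (range_le R₀ g₀ g hg f hfg)

theorem phi_mk (v : Fin a → (MvPolynomial (Fin n) R₀)) :
    phi R₀ g₀ g hg f hfg (Submodule.Quotient.mk v) = f (mu R₀ a v) := rfl

include hf in
theorem isBaseChange_phi : IsBaseChange (MvPolynomial (Fin n) R) (phi R₀ g₀ g hg f hfg) := by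
  refine IsBaseChange.of_lift_unique _ fun Q _ _ _ _ θ => ?_
  let eb := Pi.basisFun (MvPolynomial (Fin n) R) (Fin a)
  let h : (Fin a → (MvPolynomial (Fin n) R)) →ₗ[(MvPolynomial (Fin n) R)] Q := eb.constr ℕ fun i => θ (Submodule.Quotient.mk (Pi.single i 1))
  have key : (h.restrictScalars (MvPolynomial (Fin n) R₀)).comp (mu R₀ a) = θ.comp (LinearMap.range g₀).mkQ := by
    refine (Pi.basisFun (MvPolynomial (Fin n) R₀) (Fin a)).ext fun i => ?_
    rw [LinearMap.comp_apply, Pi.basisFun_apply, mu_single]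
    exact (congrArg h (Pi.basisFun_apply (MvPolynomial (Fin n) R) (Fin a) i).symm).trans (eb.constr_basis ℕ _ i)
  have hker : LinearMap.ker f ≤ LinearMap.ker h := by
    intro x hx
    obtain ⟨y, rfl⟩ := (hfg x).1 hx
    have : h.comp g = 0 := (Pi.basisFun (MvPolynomial (Fin n) R) (Fin a')).ext fun i => by
      rw [LinearMap.comp_apply, Pi.basisFun_apply, ← mu_single R₀ i, ← hg]
      refine (LinearMap.congr_fun key (g₀ (Pi.single i 1))).trans ?_
      rw [LinearMap.comp_apply, Submodule.mkQ_apply, (Submodule.Quotient.mk_eq_zero _).2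
        (LinearMap.mem_range_self _ _), map_zero, LinearMap.zero_apply]
    exact LinearMap.congr_fun this y
  letI : AddCommGroup Q := Module.addCommMonoidToAddCommGroup (MvPolynomial (Fin n) R)
  let h' : M →ₗ[(MvPolynomial (Fin n) R)] Q := (LinearMap.ker f).liftQ h hker ∘ₗ (f.quotKerEquivOfSurjective hf).symm.toLinearMap
  have hh' : ∀ x, h' (f x) = h x := fun x => by
    have : (f.quotKerEquivOfSurjective hf).symm (f x) = Submodule.Quotient.mk x := by
      rw [LinearEquiv.symm_apply_eq]; rfl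
    exact congrArg ((LinearMap.ker f).liftQ h hker) this
  refine ⟨h', ?_, fun h'' e => ?_⟩
  · refine Submodule.linearMap_qext _ (LinearMap.ext fun v => ?_)
    show h' (f (mu R₀ a v)) = θ (Submodule.Quotient.mk v)
    rw [hh']
    exact LinearMap.congr_fun key v
  · refine LinearMap.ext fun m => ?_
    obtain ⟨x, rfl⟩ := hf m
    rw [hh']
    have : h''.comp f = h := eb.ext fun i => by
      rw [LinearMap.comp_apply, eb.constr_basis, Pi.basisFun_apply, ← mu_single R₀ i]
      exact LinearMap.congr_fun e (Submodule.Quotient.mk (Pi.single i 1))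
    exact LinearMap.congr_fun this x

include hf hg hfg in
theorem exists_equiv [Module R M] [IsScalarTower R (MvPolynomial (Fin n) R) M] :
    ∃ e : (R ⊗[R₀] ((Fin a → (MvPolynomial (Fin n) R₀)) ⧸ LinearMap.range g₀)) ≃ₗ[R] M,
      ∀ x, e (1 ⊗ₜ x) = phi R₀ g₀ g hg f hfg x := by
  refine ⟨(Algebra.IsPushout.cancelBaseChange R₀ R (MvPolynomial (Fin n) R₀) (MvPolynomial (Fin n) R) _).symm.trans
    ((isBaseChange_phi R₀ g₀ g hg f hf hfg).equiv.restrictScalars R), fun x => ?_⟩
  rw [LinearEquiv.trans_apply, Algebra.IsPushout.cancelBaseChange_symm_tmul, map_one]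
  simp [IsBaseChange.equiv_tmul]

end present

set_option maxHeartbeats 1000000 in
/-- The locus of the primes with exact fibre of a sequence of finitely presented modules. -/
theorem isConstructible_exact {R B : Type u} [CommRing R] [CommRing B] [Algebra R B]
    [Algebra.FinitePresentation R B]
    {F G H : Type u} [AddCommGroup F] [Module B F] [Module R F] [IsScalarTower R B F]
    [Module.FinitePresentation B F] [AddCommGroup G] [Module B G] [Module R G] [IsScalarTower R B G]
    [Module.FinitePresentation B G] [AddCommGroup H] [Module B H] [Module R H] [IsScalarTower R B H]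
    [Module.FinitePresentation B H] (u : F →ₗ[B] G) (v : G →ₗ[B] H) :
    Topology.IsConstructible {p : PrimeSpectrum R |
      Function.Exact ((u.restrictScalars R).baseChange p.asIdeal.ResidueField)
        ((v.restrictScalars R).baseChange p.asIdeal.ResidueField)} := by
  classical
  obtain ⟨n, π, hπ, hkerπ⟩ := ‹Algebra.FinitePresentation R B›.out
  let P := MvPolynomial (Fin n) R
  letI : Algebra P B := π.toRingHom.toAlgebra
  letI : Module P F := Module.compHom F π.toRingHom
  letI : Module P G := Module.compHom G π.toRingHom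
  letI : Module P H := Module.compHom H π.toRingHom
  have : IsScalarTower P B F := IsScalarTower.of_algebraMap_smul fun p y => rfl
  have : IsScalarTower P B G := IsScalarTower.of_algebraMap_smul fun p y => rfl
  have : IsScalarTower P B H := IsScalarTower.of_algebraMap_smul fun p y => rfl
  have tF : IsScalarTower R P F := ⟨fun r p y => by
    show π (r • p) • y = r • π p • y
    rw [map_smul, smul_assoc]⟩
  have tG : IsScalarTower R P G := ⟨fun r p y => by
    show π (r • p) • y = r • π p • y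
    rw [map_smul, smul_assoc]⟩
  have tH : IsScalarTower R P H := ⟨fun r p y => by
    show π (r • p) • y = r • π p • y
    rw [map_smul, smul_assoc]⟩
  have : Module.FinitePresentation P B :=
    Module.finitePresentation_of_surjective (Algebra.linearMap P B) hπ hkerπ
  have : Module.FinitePresentation P F := Module.FinitePresentation.trans P F B
  have : Module.FinitePresentation P G := Module.FinitePresentation.trans P G B
  have : Module.FinitePresentation P H := Module.FinitePresentation.trans P H B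
  obtain ⟨aF, bF, fF, gF, hfF, hexF⟩ := Module.FinitePresentation.exists_fin' P F
  obtain ⟨aG, bG, fG, gG, hfG, hexG⟩ := Module.FinitePresentation.exists_fin' P G
  obtain ⟨aH, bH, fH, gH, hfH, hexH⟩ := Module.FinitePresentation.exists_fin' P H
  obtain ⟨U, hU⟩ := exists_factor fG ((u.restrictScalars P).comp fF) fun i => hfG _
  obtain ⟨V, hV⟩ := exists_factor fH ((v.restrictScalars P).comp fG) fun i => hfH _
  obtain ⟨C, hC⟩ := exists_factor gG (U.comp gF) fun i => (hexG _).1 (by
    show fG (U (gF _)) = 0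
    rw [← LinearMap.comp_apply fG U, hU, LinearMap.comp_apply, hexF.apply_apply_eq_zero, map_zero])
  obtain ⟨C', hC'⟩ := exists_factor gH (V.comp gG) fun i => (hexH _).1 (by
    show fH (V (gG _)) = 0
    rw [← LinearMap.comp_apply fH V, hV, LinearMap.comp_apply, hexG.apply_apply_eq_zero, map_zero])
  obtain ⟨S₁, h₁⟩ := exists_coef gF
  obtain ⟨S₂, h₂⟩ := exists_coef gG
  obtain ⟨S₃, h₃⟩ := exists_coef gH
  obtain ⟨S₄, h₄⟩ := exists_coef U
  obtain ⟨S₅, h₅⟩ := exists_coef V
  obtain ⟨S₆, h₆⟩ := exists_coef C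
  obtain ⟨S₇, h₇⟩ := exists_coef C'
  let S := S₁ ∪ S₂ ∪ S₃ ∪ S₄ ∪ S₅ ∪ S₆ ∪ S₇
  let R₀ : Subalgebra ℤ R := Algebra.adjoin ℤ (S : Set R)
  have hsub : ∀ T : Finset R, T ⊆ S → (T : Set R) ⊆ R₀ := fun T hT x hx =>
    Algebra.subset_adjoin (hT hx)
  obtain ⟨gF₀, egF⟩ := h₁ R₀ (hsub _ (by intro x; simp +contextual [S]))
  obtain ⟨gG₀, egG⟩ := h₂ R₀ (hsub _ (by intro x; simp +contextual [S]))
  obtain ⟨gH₀, egH⟩ := h₃ R₀ (hsub _ (by intro x; simp +contextual [S]))
  obtain ⟨U₀, eU⟩ := h₄ R₀ (hsub _ (by intro x; simp +contextual [S]))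
  obtain ⟨V₀, eV⟩ := h₅ R₀ (hsub _ (by intro x; simp +contextual [S]))
  obtain ⟨C₀, eC⟩ := h₆ R₀ (hsub _ (by intro x; simp +contextual [S]))
  obtain ⟨C'₀, eC'⟩ := h₇ R₀ (hsub _ (by intro x; simp +contextual [S]))
  have : Algebra.FiniteType ℤ R₀ := .adjoin_of_finite S.finite_toSet
  have : IsNoetherianRing R₀ := Algebra.FiniteType.isNoetherianRing ℤ R₀
  let P₀ := MvPolynomial (Fin n) R₀
  letI : Module P₀ F := Module.compHom F (algebraMap P₀ P)
  letI : Module P₀ G := Module.compHom G (algebraMap P₀ P)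
  letI : Module P₀ H := Module.compHom H (algebraMap P₀ P)
  have : IsScalarTower P₀ P F := IsScalarTower.of_algebraMap_smul fun p y => rfl
  have : IsScalarTower P₀ P G := IsScalarTower.of_algebraMap_smul fun p y => rfl
  have : IsScalarTower P₀ P H := IsScalarTower.of_algebraMap_smul fun p y => rfl
  have hUG : ∀ v, U₀ (gF₀ v) = gG₀ (C₀ v) := fun v => mu_injective R₀ _ (by
    rw [eU, egF, egG, eC]
    exact (LinearMap.congr_fun hC _).symm)
  have hVH : ∀ v, V₀ (gG₀ v) = gH₀ (C'₀ v) := fun v => mu_injective R₀ _ (by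
    rw [eV, egG, egH, eC']
    exact (LinearMap.congr_fun hC' _).symm)
  let F₀ := (Fin aF → P₀) ⧸ LinearMap.range gF₀
  let G₀ := (Fin aG → P₀) ⧸ LinearMap.range gG₀
  let H₀ := (Fin aH → P₀) ⧸ LinearMap.range gH₀
  let u₀ : F₀ →ₗ[P₀] G₀ := (LinearMap.range gF₀).mapQ (LinearMap.range gG₀) U₀ (by
    rintro _ ⟨v, rfl⟩
    exact ⟨C₀ v, (hUG v).symm⟩)
  let v₀ : G₀ →ₗ[P₀] H₀ := (LinearMap.range gG₀).mapQ (LinearMap.range gH₀) V₀ (by
    rintro _ ⟨v, rfl⟩
    exact ⟨C'₀ v, (hVH v).symm⟩)
  obtain ⟨eF, heF⟩ := exists_equiv R₀ gF₀ gF egF fF hfF hexF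
  obtain ⟨eG, heG⟩ := exists_equiv R₀ gG₀ gG egG fG hfG hexG
  obtain ⟨eH, heH⟩ := exists_equiv R₀ gH₀ gH egH fH hfH hexH
  have sqU : (u.restrictScalars R) ∘ₗ eF.toLinearMap =
      eG.toLinearMap ∘ₗ (u₀.restrictScalars R₀).baseChange R := by
    refine TensorProduct.AlgebraTensorModule.ext fun r x => ?_
    obtain ⟨x, rfl⟩ := Submodule.Quotient.mk_surjective _ x
    rw [show r ⊗ₜ[R₀] (Submodule.Quotient.mk x : F₀) = r • ((1 : R) ⊗ₜ[R₀] (Submodule.Quotient.mk x : F₀))
      by simp [TensorProduct.smul_tmul'], map_smul, map_smul]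
    congr 1
    simp only [LinearMap.comp_apply, LinearEquiv.coe_coe, LinearMap.baseChange_tmul,
      LinearMap.restrictScalars_apply, heF]
    rw [heG, phi_mk, show u₀ (Submodule.Quotient.mk x) = Submodule.Quotient.mk (U₀ x) from rfl,
      phi_mk, eU]
    exact (LinearMap.congr_fun hU _).symm
  have sqV : (v.restrictScalars R) ∘ₗ eG.toLinearMap =
      eH.toLinearMap ∘ₗ (v₀.restrictScalars R₀).baseChange R := by
    refine TensorProduct.AlgebraTensorModule.ext fun r x => ?_
    obtain ⟨x, rfl⟩ := Submodule.Quotient.mk_surjective _ x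
    rw [show r ⊗ₜ[R₀] (Submodule.Quotient.mk x : G₀) = r • ((1 : R) ⊗ₜ[R₀] (Submodule.Quotient.mk x : G₀))
      by simp [TensorProduct.smul_tmul'], map_smul, map_smul]
    congr 1
    simp only [LinearMap.comp_apply, LinearEquiv.coe_coe, LinearMap.baseChange_tmul,
      LinearMap.restrictScalars_apply, heG]
    rw [heH, phi_mk, show v₀ (Submodule.Quotient.mk x) = Submodule.Quotient.mk (V₀ x) from rfl,
      phi_mk, eV]
    exact (LinearMap.congr_fun hV _).symm
  have hE := ExactLocus.isConstructible_exact (R := R₀) u₀ v₀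
  let φ : PrimeSpectrum R → PrimeSpectrum R₀ := PrimeSpectrum.comap (algebraMap R₀ R)
  have hset : {p : PrimeSpectrum R |
      Function.Exact ((u.restrictScalars R).baseChange p.asIdeal.ResidueField)
        ((v.restrictScalars R).baseChange p.asIdeal.ResidueField)} =
      φ ⁻¹' {p : PrimeSpectrum R₀ |
        Function.Exact ((u₀.restrictScalars R₀).baseChange p.asIdeal.ResidueField)
          ((v₀.restrictScalars R₀).baseChange p.asIdeal.ResidueField)} := by
    ext p
    let k := (φ p).asIdeal.ResidueField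
    let L := p.asIdeal.ResidueField
    let ψ : k →+* L := Ideal.ResidueField.map (φ p).asIdeal p.asIdeal (algebraMap R₀ R) rfl
    letI : Algebra k L := ψ.toAlgebra
    have : IsScalarTower R₀ k L := IsScalarTower.of_algebraMap_eq fun r => by
      show algebraMap R₀ L r = ψ (algebraMap R₀ k r)
      rw [IsScalarTower.algebraMap_apply R₀ R L]
      exact (Ideal.ResidueField.map_algebraMap (φ p).asIdeal p.asIdeal (algebraMap R₀ R) rfl r).symm
    show Function.Exact _ _ ↔ Function.Exact _ _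
    rw [ExactLocus.exact_field_iff (u₀.restrictScalars R₀) (v₀.restrictScalars R₀) k L,
      ← ExactLocus.exact_cancel (D := R) (u₀.restrictScalars R₀) (v₀.restrictScalars R₀) L]
    refine (Function.Exact.iff_of_ladder_linearEquiv
      (e₁ := LinearEquiv.baseChange R L _ _ eF) (e₂ := LinearEquiv.baseChange R L _ _ eG)
      (e₃ := LinearEquiv.baseChange R L _ _ eH) ?_ ?_)
    · exact baseChange_square eF eG _ _ sqU
    · exact baseChange_square eG eH _ _ sqV
  rw [hset]
  exact Groth.Agent.H47.ConsPreimage.isConstructible_preimage_affine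
    (AlgebraicGeometry.Spec.map (CommRingCat.ofHom (algebraMap R₀ R))) hE

end Groth.Agent.H47.SeqModel
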