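import Groth.Agent.H47.GrStage
import Groth.Agent.H47.SeqModel

/-!
# Models of finitely presented modules with an ideal; the general forms of the descent
-/

set_option autoImplicit false

universe u

open TensorProduct

namespace Groth.Agent.H47.GrFlat

variable {R₀ : Type u} [CommRing R₀] [IsNoetherianRing R₀] {P : Type u} [CommRing P] [Algebra R₀ P]
  [Algebra.FiniteType R₀ P] {M : Type u} [AddCommGroup M] [Module R₀ M] [Module P M]
  [IsScalarTower R₀ P M] [Module.Finite P M] (J : Ideal P)

/-- Flatness of the associated graded module over some finitely generated subalgebra. -/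
theorem exists_fg_subalgebra_grFlat (A : Type u) [CommRing A] [Algebra R₀ A] (hA : GrFlat R₀ M J A) :
    ∃ C : Subalgebra R₀ A, C.FG ∧ GrFlat R₀ M J C := by
  classical
  let ι : Type u := {C : Subalgebra R₀ A // C.FG}
  let G : ι → Type u := fun C => C.1
  have : ∀ C : ι, IsNoetherianRing (G C) := fun C =>
    have : Algebra.FiniteType R₀ C.1 := C.1.fg_iff_finiteType.1 C.2
    Algebra.FiniteType.isNoetherianRing R₀ C.1
  let g : ∀ C D : ι, C ≤ D → G C →ₐ[R₀] G D := fun C D h => Subalgebra.inclusion h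
  have hcolim : FlatCA.IsDirectedColimitRing G (fun C D h => (g C D h).toRingHom) A := by
    refine ⟨⟨fun C D => ⟨⟨C.1 ⊔ D.1, C.2.sup D.2⟩, (le_sup_left : C.1 ≤ _), (le_sup_right : D.1 ≤ _)⟩⟩,
      ⟨⟨⊥, Subalgebra.fg_bot⟩⟩, fun C => RingHom.ext fun x => rfl,
      fun C D E h h' => RingHom.ext fun x => rfl, fun C D h => RingHom.ext fun x => rfl,
      fun a => ⟨⟨Algebra.adjoin R₀ {a}, ⟨{a}, by simp⟩⟩, ⟨a, Algebra.subset_adjoin rfl⟩, rfl⟩,
      fun C x hx => ⟨C, le_rfl, Subtype.ext hx⟩⟩
  obtain ⟨C, hC⟩ := exists_flat_stage J G g A hcolim hA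
  exact ⟨C.1, C.2, hC⟩

/-- Flatness of the associated graded module descends to a stage of any directed colimit. -/
theorem exists_grFlat_stage {ι : Type u} [Preorder ι] (G : ι → Type u) [∀ i, CommRing (G i)]
    [∀ i, Algebra R₀ (G i)] (g : ∀ i j, i ≤ j → G i →ₐ[R₀] G j)
    (A : Type u) [CommRing A] [Algebra R₀ A] [∀ i, Algebra (G i) A] [∀ i, IsScalarTower R₀ (G i) A]
    (hcolim : FlatCA.IsDirectedColimitRing G (fun i j h => (g i j h).toRingHom) A)
    (hA : GrFlat R₀ M J A) : ∃ i, GrFlat R₀ M J (G i) := by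
  obtain ⟨C, hCfg, hC⟩ := exists_fg_subalgebra_grFlat J A hA
  obtain ⟨i, φ, -⟩ := FlatModel.exists_lift g A hcolim C hCfg
  refine ⟨i, ?_⟩
  let := φ.toRingHom.toAlgebra
  have : IsScalarTower R₀ C (G i) := IsScalarTower.of_algebraMap_eq fun r => (φ.commutes r).symm
  exact hC.baseChange (G i)

omit [IsNoetherianRing R₀] in
set_option maxHeartbeats 1000000 in
/-- A finitely presented module with an ideal over a finitely presented algebra has a model. -/
theorem exists_model (A : Type u) [CommRing A] (B : Type u) [CommRing B] [Algebra A B]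
    [Algebra.FinitePresentation A B] (I : Ideal B) (hI : I.FG) (N : Type u) [AddCommGroup N]
    [Module B N] [Module A N] [IsScalarTower A B N] [Module.FinitePresentation B N] :
    ∃ (R : Subalgebra ℤ A) (_ : R.FG) (n : ℕ) (M₀ : Type u) (_ : AddCommGroup M₀) (_ : Module R M₀)
      (_ : Module (MvPolynomial (Fin n) R) M₀) (_ : IsScalarTower R (MvPolynomial (Fin n) R) M₀)
      (_ : Module.Finite (MvPolynomial (Fin n) R) M₀) (J₀ : Ideal (MvPolynomial (Fin n) R))
      (π : A ⊗[R] MvPolynomial (Fin n) R →ₐ[A] B) (e : A ⊗[R] M₀ ≃ₗ[A] N),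
      Function.Surjective π ∧ (ext R A J₀).map π = I ∧ ∀ s w, e (s • w) = π s • e w := by
  classical
  obtain ⟨n, π, hπ, hker⟩ := ‹Algebra.FinitePresentation A B›.out
  let Q := MvPolynomial (Fin n) A
  letI : Algebra Q B := π.toRingHom.toAlgebra
  letI : Module Q N := Module.compHom N π.toRingHom
  have : IsScalarTower Q B N := IsScalarTower.of_algebraMap_smul fun p y => rfl
  have : IsScalarTower A Q N := ⟨fun r p y => by
    show π (r • p) • y = r • π p • y
    rw [map_smul, smul_assoc]⟩
  have : Module.FinitePresentation Q B :=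
    Module.finitePresentation_of_surjective (Algebra.linearMap Q B) hπ hker
  have : Module.FinitePresentation Q N := Module.FinitePresentation.trans Q N B
  obtain ⟨aN, bN, fN, gN, hfN, hexN⟩ := Module.FinitePresentation.exists_fin' Q N
  obtain ⟨S₁, h₁⟩ := SeqModel.exists_coef gN
  obtain ⟨sI, hsI⟩ := hI
  choose lift hlift using fun b : sI => hπ b.1
  let coef : Finset A := Finset.univ.biUnion fun b : sI =>
    (lift b).support.image fun d => (lift b).coeff d
  let R : Subalgebra ℤ A := Algebra.adjoin ℤ ((S₁ ∪ coef : Finset A) : Set A)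
  obtain ⟨gN₀, egN⟩ := h₁ R (fun x hx => Algebra.subset_adjoin (Finset.mem_union_left _ hx))
  let P₀ := MvPolynomial (Fin n) R
  letI := MvPolynomial.algebraMvPolynomial (σ := Fin n) (R := R) (S := A)
  letI : Module P₀ N := Module.compHom N (algebraMap P₀ Q)
  have : IsScalarTower P₀ Q N := IsScalarTower.of_algebraMap_smul fun p y => rfl
  obtain ⟨e, he⟩ := SeqModel.exists_equiv R gN₀ gN egN fN hfN hexN
  have : ∀ b : sI, ∃ p : P₀, MvPolynomial.map (algebraMap R A) p = lift b := fun b => by
    refine MvPolynomial.mem_range_map_iff_coeffs_subset.2 fun c hc => ?_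
    obtain ⟨d, hd, rfl⟩ := MvPolynomial.mem_coeffs_iff.1 hc
    exact ⟨⟨_, Algebra.subset_adjoin (Finset.mem_union_right _ (Finset.mem_biUnion.2
      ⟨b, Finset.mem_univ _, Finset.mem_image_of_mem _ hd⟩))⟩, rfl⟩
  choose p₀ hp₀ using this
  let M₀ := (Fin aN → P₀) ⧸ LinearMap.range gN₀
  let c : A ⊗[R] P₀ ≃ₐ[A] Q := MvPolynomial.algebraTensorAlgEquiv R A
  let πA : A ⊗[R] P₀ →ₐ[A] B := π.comp c.toAlgHom
  have hc1 : ∀ (r : A) (q : P₀), c (r ⊗ₜ[R] q) = r • MvPolynomial.map (algebraMap R A) q := fun r q =>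
    MvPolynomial.algebraTensorAlgEquiv_tmul ..
  have ha : ∀ (a : A) (m : M₀), a ⊗ₜ[R] m = a • ((1 : A) ⊗ₜ[R] m) := fun a m => by
    rw [TensorProduct.smul_tmul']
    exact congrArg (fun x : A => x ⊗ₜ[R] m) (mul_one a).symm
  have hQ : ∀ (x : Q) (y : N), x • y = π x • y := fun x y => rfl
  have hπA : ∀ (r : A) (q : P₀), πA (r ⊗ₜ[R] q) = π (c (r ⊗ₜ[R] q)) := fun r q => rfl
  have hsmul : ∀ s w, e (s • w) = πA s • e w := by
    intro s w
    induction s using TensorProduct.induction_on with
    | zero =>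
      rw [map_zero, zero_smul B]
      exact (congrArg e (zero_smul (A ⊗[R] P₀) w)).trans (map_zero e)
    | add x y hx hy => simp only [map_add, add_smul, hx, hy]
    | tmul r q =>
      induction w using TensorProduct.induction_on with
      | zero => rw [smul_zero, map_zero, smul_zero]
      | add x y hx hy => simp only [map_add, smul_add, hx, hy]
      | tmul a m =>
        rw [tmul_smul_tmul, ha (r • a), ha a, map_smul, map_smul, he, he, LinearMap.map_smul,
          ← algebraMap_smul Q q, MvPolynomial.algebraMap_def]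
        rw [hQ, hπA, hc1, map_smul, smul_assoc r (π _) (a • _), smul_comm (π _) a, smul_smul, smul_eq_mul]
  refine ⟨R, ⟨S₁ ∪ coef, rfl⟩, n, M₀, inferInstance, inferInstance, inferInstance, inferInstance,
    inferInstance, Ideal.span (Set.range p₀), πA, e, hπ.comp c.surjective, ?_, hsmul⟩
  show Ideal.map πA.toRingHom (Ideal.map (Algebra.TensorProduct.includeRight : P₀ →ₐ[R] A ⊗[R] P₀).toRingHom
    (Ideal.span (Set.range p₀))) = I
  rw [Ideal.map_map, Ideal.map_span, ← hsI, ← Set.range_comp]
  congr 1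
  have : ∀ b : sI, πA ((1 : A) ⊗ₜ[R] p₀ b) = b.1 := fun b => by
    show π (c ((1 : A) ⊗ₜ[R] p₀ b)) = b.1
    rw [hc1, one_smul, hp₀, hlift]
  ext x
  constructor
  · rintro ⟨b, rfl⟩
    show πA ((1 : A) ⊗ₜ[R] p₀ b) ∈ (sI : Set B)
    rw [this b]
    exact b.2
  · exact fun hx => ⟨⟨x, hx⟩, this ⟨x, hx⟩⟩

section compare

omit [IsNoetherianRing R₀] [Algebra.FiniteType R₀ P] [Module.Finite P M]

variable {A B : Type u} [CommRing A] [Algebra R₀ A] [CommRing B] [Algebra A B]
  {N : Type u} [AddCommGroup N] [Module A N] [Module B N] [IsScalarTower A B N]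
  (I : Ideal B) (π : A ⊗[R₀] P →ₐ[A] B) (e : A ⊗[R₀] M ≃ₗ[A] N)

/-- The truncations of a module and of its model agree. -/
theorem nonempty_truncation_equiv (hπ : Function.Surjective π) (hJ : (ext R₀ A J).map π = I)
    (he : ∀ s w, e (s • w) = π s • e w) (k : ℕ) :
    Nonempty ((A ⊗[R₀] Nk M J k) ≃ₗ[A] (N ⧸ (I ^ k • ⊤ : Submodule B N))) := by
  let ψ : A ⊗[R₀] M →ₗ[A] N ⧸ (I ^ k • ⊤ : Submodule B N) :=
    ((I ^ k • ⊤ : Submodule B N).mkQ.restrictScalars A).comp e.toLinearMap
  have hψ : Function.Surjective ψ := (Submodule.mkQ_surjective _).comp e.surjective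
  let r := (red (M := M) R₀ A A J k).restrictScalars A
  have hker : LinearMap.ker r = LinearMap.ker ψ := by
    ext z
    show red R₀ A A J k z = 0 ↔ Submodule.Quotient.mk (e z) = 0
    rw [red_eq_zero_iff, Submodule.Quotient.mk_eq_zero, ← hJ, ← Ideal.map_pow π (ext R₀ A J) k]
    constructor
    · intro hz
      refine Submodule.smul_induction_on hz (fun s hs y _ => ?_) fun a b ha hb => by
        rw [map_add]; exact add_mem ha hb
      rw [he]
      exact Submodule.smul_mem_smul (Ideal.mem_map_of_mem _ hs) Submodule.mem_top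
    · intro hz
      suffices ∀ y ∈ (Ideal.map π (ext R₀ A J ^ k)) • (⊤ : Submodule B N),
          e.symm y ∈ ext R₀ A J ^ k • (⊤ : Submodule (A ⊗[R₀] P) (A ⊗[R₀] M)) by
        simpa using this _ hz
      intro y hy
      refine Submodule.smul_induction_on hy (fun b hb y _ => ?_) fun a b ha hb => by
        rw [map_add]; exact add_mem ha hb
      obtain ⟨s, hs, rfl⟩ := (Ideal.mem_map_iff_of_surjective _ hπ).1 hb
      have : e.symm (π s • y) = s • e.symm y := e.injective (by rw [he, e.apply_symm_apply, e.apply_symm_apply])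
      rw [this]
      exact Submodule.smul_mem_smul hs Submodule.mem_top
  exact ⟨((r.quotKerEquivOfSurjective (red_surjective J k)).symm.trans
    (Submodule.quotEquivOfEq _ _ hker)).trans (ψ.quotKerEquivOfSurjective hψ)⟩

end compare

/-- Flat graded pieces give flat truncations. -/
theorem flat_truncation_of_pieces {A B : Type u} [CommRing A] [CommRing B] [Algebra A B]
    {N : Type u} [AddCommGroup N] [Module B N] [Module A N] [IsScalarTower A B N] (I : Ideal B)
    (h : ∀ k : ℕ, Module.Flat A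
      (↥(I ^ k • (⊤ : Submodule B N)) ⧸ Submodule.comap (I ^ k • (⊤ : Submodule B N)).subtype (I ^ (k + 1) • ⊤)))
    (k : ℕ) : Module.Flat A (N ⧸ (I ^ k • ⊤ : Submodule B N)) := by
  induction k with
  | zero =>
    have : Subsingleton (N ⧸ (I ^ 0 • ⊤ : Submodule B N)) :=
      Submodule.Quotient.subsingleton_iff.2 (by rw [pow_zero, Ideal.one_eq_top, Submodule.top_smul])
    exact Module.Flat.of_free
  | succ k ih =>
    let Fk : Submodule B N := I ^ k • ⊤
    let Fs : Submodule B N := I ^ (k + 1) • ⊤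
    have hle : Fs ≤ Fk := Submodule.smul_mono (Ideal.pow_le_pow_right k.le_succ) le_rfl
    let f : (↥Fk ⧸ Submodule.comap Fk.subtype Fs) →ₗ[A] N ⧸ Fs :=
      (Submodule.mapQ _ Fs Fk.subtype le_rfl).restrictScalars A
    let g : (N ⧸ Fs) →ₗ[A] N ⧸ Fk := (Submodule.factor hle).restrictScalars A
    have hf : Function.Injective f := by
      show Function.Injective (Submodule.mapQ _ Fs Fk.subtype le_rfl)
      rw [← LinearMap.ker_eq_bot, Submodule.ker_mapQ, Submodule.mkQ_map_self]
    have hfg' : Function.Exact f g := by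
      intro x
      constructor
      · intro hx
        obtain ⟨x, rfl⟩ := Submodule.mkQ_surjective _ x
        exact ⟨Submodule.Quotient.mk ⟨x, (Submodule.Quotient.mk_eq_zero _).1 hx⟩, rfl⟩
      · rintro ⟨y, rfl⟩
        obtain ⟨y, rfl⟩ := Submodule.mkQ_surjective _ y
        exact (Submodule.Quotient.mk_eq_zero _).2 y.2
    have := h k
    exact flat_extension f g hf (Submodule.factor_surjective hle) hfg'

/-- Flat graded pieces give flatness at the primes containing the ideal. -/
theorem flat_localized_of_gr_flat {A B : Type u} [CommRing A] [CommRing B] [Algebra A B]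
    [Algebra.FinitePresentation A B] (I : Ideal B) (hI : I.FG)
    (N : Type u) [AddCommGroup N] [Module B N] [Module A N] [IsScalarTower A B N]
    [Module.FinitePresentation B N]
    (h : ∀ k, Module.Flat A (N ⧸ (I ^ k • ⊤ : Submodule B N))) (q : Ideal B) [q.IsPrime] (hq : I ≤ q) :
    Module.Flat A (LocalizedModule q.primeCompl N) := by
  obtain ⟨R, hRfg, n, M₀, _, _, _, _, _, J₀, π, e, hπ, hJ, he⟩ := exists_model A B I hI N
  have : Algebra.FiniteType ℤ R := R.fg_iff_finiteType.1 hRfg
  have : IsNoetherianRing R := Algebra.FiniteType.isNoetherianRing ℤ R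
  have hgr : GrFlat R M₀ J₀ A := fun k => by
    obtain ⟨ek⟩ := nonempty_truncation_equiv J₀ I π e hπ hJ he k
    have := h k
    exact Module.Flat.of_linearEquiv ek
  have hext : ext R A J₀ ≤ q.comap π := Ideal.map_le_iff_le_comap.1 (hJ.le.trans hq)
  have hat := flatAt_of_grFlat J₀ hgr (q.comap π) hext
  refine (Module.Flat.iff_lTensor_injective' (R := A) (M := LocalizedModule q.primeCompl N)).2 fun a => ?_
  refine FlatTransfer.injective_lTensor_localized (R := A) (M := N) q a.subtype fun y hy => ?_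
  let y₁ := e.symm.toLinearMap.rTensor ↥a y
  obtain ⟨s, hs, hs0⟩ := hat _ _ a.subtype Subtype.val_injective (cancelW R M₀ A ↥a y₁) (by
    rw [← cancelW_natural (P := MvPolynomial (Fin n) R)]
    have : a.subtype.lTensor _ y₁ = 0 := by
      rw [← LinearMap.comp_apply, LinearMap.lTensor_comp_rTensor, ← LinearMap.rTensor_comp_lTensor,
        LinearMap.comp_apply, hy, map_zero]
    rw [this, map_zero])
  have hs1 : s • y₁ = 0 := (cancelW R M₀ A ↥a).injective (by rw [cancelW_smul, hs0, map_zero])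
  have key : ∀ w : (A ⊗[R] M₀) ⊗[A] ↥a, e.toLinearMap.rTensor ↥a (s • w) = π s • e.toLinearMap.rTensor ↥a w := by
    intro w
    induction w using TensorProduct.induction_on with
    | zero => simp
    | add x y hx hy => simp only [smul_add, map_add, hx, hy]
    | tmul x z =>
      rw [TensorProduct.smul_tmul', LinearMap.rTensor_tmul, LinearMap.rTensor_tmul,
        TensorProduct.smul_tmul']
      exact congrArg (· ⊗ₜ[A] z) (he s x)
  refine ⟨π s, hs, ?_⟩
  have h1 := key y₁
  rw [hs1, map_zero] at h1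
  have h2 : e.toLinearMap.rTensor ↥a y₁ = y := by
    rw [← LinearMap.rTensor_comp_apply, LinearEquiv.comp_symm, LinearMap.rTensor_id, LinearMap.id_apply]
  rw [h2] at h1
  exact h1.symm

end Groth.Agent.H47.GrFlat

namespace Groth.Agent.H47.GrFlat

set_option maxHeartbeats 1000000 in
/-- Descent of flatness of the associated graded module, general base. -/
theorem grFlat_colimit_iff {A₀ : Type u} [CommRing A₀]
    {ι : Type u} [Preorder ι] (G : ι → Type u) [∀ i, CommRing (G i)] [∀ i, Algebra A₀ (G i)]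
    (g : ∀ i j, i ≤ j → G i →ₐ[A₀] G j)
    (A : Type u) [CommRing A] [Algebra A₀ A] [∀ i, Algebra (G i) A] [∀ i, IsScalarTower A₀ (G i) A]
    (hcolim : FlatCA.IsDirectedColimitRing G (fun i j h => (g i j h).toRingHom) A)
    {B₀ : Type u} [CommRing B₀] [Algebra A₀ B₀] [Algebra.FinitePresentation A₀ B₀]
    (J₀ : Ideal B₀) (hJ₀ : J₀.FG)
    (N : Type u) [AddCommGroup N] [Module B₀ N] [Module A₀ N] [IsScalarTower A₀ B₀ N]
    [Module.FinitePresentation B₀ N] :
    (∀ k : ℕ, Module.Flat A ((A ⊗[A₀] N) ⧸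
        LinearMap.range (((J₀ ^ k • (⊤ : Submodule B₀ N)).restrictScalars A₀).subtype.baseChange A))) ↔
      ∃ i : ι, ∀ k : ℕ, Module.Flat (G i) ((G i ⊗[A₀] N) ⧸
        LinearMap.range (((J₀ ^ k • (⊤ : Submodule B₀ N)).restrictScalars A₀).subtype.baseChange (G i))) := by
  obtain ⟨R, hRfg, n, M₀, _, _, _, _, _, I, π, e, hπ, hJ, he⟩ := exists_model A₀ B₀ J₀ hJ₀ N
  have : Algebra.FiniteType ℤ R := R.fg_iff_finiteType.1 hRfg
  have : IsNoetherianRing R := Algebra.FiniteType.isNoetherianRing ℤ R
  choose ek hek using fun k => nonempty_truncation_equiv I J₀ π e hπ hJ he k |>.elim fun x =>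
    (⟨x, trivial⟩ : ∃ _ : ((A₀ ⊗[R] Nk M₀ I k) ≃ₗ[A₀] (N ⧸ (J₀ ^ k • ⊤ : Submodule B₀ N))), True)
  have key : ∀ (E : Type u) [CommRing E] [Algebra A₀ E] (k : ℕ),
      Module.Flat E ((E ⊗[A₀] N) ⧸ LinearMap.range
        (((J₀ ^ k • (⊤ : Submodule B₀ N)).restrictScalars A₀).subtype.baseChange E)) ↔
      Module.Flat E (E ⊗[R] Nk M₀ I k) := by
    intro E _ _ k
    let q := (J₀ ^ k • ⊤ : Submodule B₀ N).mkQ.restrictScalars A₀
    have hq : Function.Surjective q := Submodule.mkQ_surjective _
    have hex : Function.Exact ((J₀ ^ k • (⊤ : Submodule B₀ N)).restrictScalars A₀).subtype q := fun x => by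
      simp [q, Submodule.Quotient.mk_eq_zero]
    have hker : LinearMap.range (((J₀ ^ k • (⊤ : Submodule B₀ N)).restrictScalars A₀).subtype.baseChange E) =
        LinearMap.ker (q.baseChange E) := by
      ext x
      exact ((lTensor_exact E hex hq) x).symm
    let f := (Submodule.quotEquivOfEq _ _ hker).trans ((q.baseChange E).quotKerEquivOfSurjective
        (LinearMap.lTensor_surjective E hq)) |>.trans ((LinearEquiv.baseChange A₀ E _ _ (ek k).symm).trans
          (AlgebraTensorModule.cancelBaseChange R A₀ E E (Nk M₀ I k)))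
    exact ⟨fun _ => Module.Flat.of_linearEquiv f.symm, fun _ => Module.Flat.of_linearEquiv f⟩
  let g' : ∀ i j, i ≤ j → G i →ₐ[R] G j := fun i j h => (g i j h).restrictScalars R
  constructor
  · intro h
    obtain ⟨i, hi⟩ := exists_grFlat_stage I G g' A hcolim fun k => (key A k).1 (h k)
    exact ⟨i, fun k => (key (G i) k).2 (hi k)⟩
  · rintro ⟨i, hi⟩ k
    have hi' : GrFlat R M₀ I (G i) := fun k => (key (G i) k).1 (hi k)
    exact (key A k).2 (hi'.baseChange A k)

end Groth.Agent.H47.GrFlat
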