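import Groth.Agent.H47.GrStageLemmas
import Groth.Agent.H47.GrGeneric

/-!
# Flatness of the associated graded module descends to a stage
-/

set_option autoImplicit false

universe u

set_option backward.isDefEq.respectTransparency false

open TensorProduct

namespace Groth.Agent.H47.GrFlat

open FlatTransfer

variable {R₀ : Type u} [CommRing R₀] {P : Type u} [CommRing P] [Algebra R₀ P]
  {M : Type u} [AddCommGroup M] [Module R₀ M] [Module P M] [IsScalarTower R₀ P M]

theorem map_mem_ext {E F : Type u} [CommRing E] [CommRing F] [Algebra R₀ E] [Algebra R₀ F]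
    (φ : E →ₐ[R₀] F) (J : Ideal P) {x : E ⊗[R₀] P} (hx : x ∈ ext R₀ E J) :
    Algebra.TensorProduct.map φ (AlgHom.id R₀ P) x ∈ ext R₀ F J := by
  have hle : ext R₀ E J ≤ (ext R₀ F J).comap (Algebra.TensorProduct.map φ (AlgHom.id R₀ P)) := by
    refine Ideal.map_le_iff_le_comap.2 fun y hy => ?_
    show (Algebra.TensorProduct.map φ (AlgHom.id R₀ P)) ((1 : E) ⊗ₜ[R₀] y) ∈ ext R₀ F J
    rw [Algebra.TensorProduct.map_tmul, map_one, AlgHom.id_apply]
    exact Ideal.mem_map_of_mem _ hy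
  exact hle hx

theorem rTensor_semilinear {E F : Type u} [CommRing E] [CommRing F] [Algebra R₀ E] [Algebra R₀ F]
    (φ : E →ₐ[R₀] F) {X Y : Type u} [AddCommGroup X] [Module R₀ X] [Module E X] [IsScalarTower R₀ E X]
    [AddCommGroup Y] [Module R₀ Y] [Module F Y] [IsScalarTower R₀ F Y] (h : X →ₗ[R₀] Y)
    (hh : ∀ e x, h (e • x) = φ e • h x) (s : E ⊗[R₀] P) (z : X ⊗[R₀] M) :
    h.rTensor M (s • z) = Algebra.TensorProduct.map φ (AlgHom.id R₀ P) s • h.rTensor M z := by
  induction s using TensorProduct.induction_on with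
  | zero => simp
  | add a b ha hb => simp only [map_add, add_smul, ha, hb]
  | tmul e p =>
    induction z using TensorProduct.induction_on with
    | zero => simp
    | add a b ha hb => simp only [smul_add, map_add, ha, hb]
    | tmul x m => simp [hh]

theorem exists_kill_right {N : Type u} [AddCommGroup N] [Module R₀ N] {ι : Type u} [Preorder ι]
    [IsDirectedOrder ι] {V : ι → Type u} [∀ i, AddCommGroup (V i)] [∀ i, Module R₀ (V i)]
    {W : Type u} [AddCommGroup W] [Module R₀ W] (t : ∀ i j, i ≤ j → V i →ₗ[R₀] V j)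
    (p : ∀ i, V i →ₗ[R₀] W)
    (ht : ∀ i j k (hij : i ≤ j) (hjk : j ≤ k), (t j k hjk).comp (t i j hij) = t i k (hij.trans hjk))
    (hp : ∀ i j (h : i ≤ j), (p j).comp (t i j h) = p i) (hsurj : ∀ w, ∃ i v, p i v = w)
    (hkill : ∀ i v, p i v = 0 → ∃ j, ∃ h : i ≤ j, t i j h v = 0)
    {i : ι} (x : V i ⊗[R₀] N) (hx : (p i).rTensor N x = 0) :
    ∃ j, ∃ h : i ≤ j, (t i j h).rTensor N x = 0 := by
  obtain ⟨y, rfl⟩ := (TensorProduct.comm R₀ N (V i)).surjective x
  have e : ∀ {U : Type u} [AddCommGroup U] [Module R₀ U] (f : V i →ₗ[R₀] U),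
      f.rTensor N (TensorProduct.comm R₀ N (V i) y) = TensorProduct.comm R₀ N U (f.lTensor N y) := by
    intro U _ _ f
    rw [← LinearMap.comm_comp_lTensor_comp_comm_eq]
    simp
  rw [e, LinearEquiv.map_eq_zero_iff] at hx
  obtain ⟨j, hij, hj⟩ := exists_kill t p ht hp hsurj hkill y hx
  exact ⟨j, hij, by rw [e, hj, map_zero]⟩

set_option maxHeartbeats 1000000 in
/-- Generic flatness of the truncations over a domain. -/
theorem exists_flat_dom [Algebra.FiniteType R₀ P] [Module.Finite P M] (J : Ideal P) (D : Type u)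
    [CommRing D] [IsDomain D] [IsNoetherianRing D] [Algebra R₀ D] :
    ∃ t : D, t ≠ 0 ∧ GrFlat R₀ M J (Localization.Away t) := by
  have : Algebra.FiniteType D (D ⊗[R₀] P) := inferInstance
  have : IsNoetherianRing (D ⊗[R₀] P) := Algebra.FiniteType.isNoetherianRing D _
  have : Module.Finite (D ⊗[R₀] P) (D ⊗[R₀] M) := finite_tensor
  obtain ⟨t, ht, h⟩ := exists_flat_truncations (D := D) (ext R₀ D J) (D ⊗[R₀] M)
  refine ⟨t, ht, fun k => ?_⟩
  have hk : LinearMap.ker (red (M := M) R₀ D D J k) = ext R₀ D J ^ k • ⊤ := by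
    ext z; exact red_eq_zero_iff J k z
  let e : ((D ⊗[R₀] M) ⧸ (ext R₀ D J ^ k • ⊤ : Submodule (D ⊗[R₀] P) (D ⊗[R₀] M))) ≃ₗ[D] D ⊗[R₀] Nk M J k :=
    ((Submodule.quotEquivOfEq _ _ hk.symm).trans
      ((red (M := M) R₀ D D J k).quotKerEquivOfSurjective (red_surjective J k))).restrictScalars D
  have := h k
  exact Module.Flat.of_linearEquiv ((LinearEquiv.baseChange D (Localization.Away t) _ _ e).trans
    (AlgebraTensorModule.cancelBaseChange R₀ D (Localization.Away t) (Localization.Away t) (Nk M J k))).symm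

variable (J₀ : Ideal P) [IsNoetherianRing R₀] [Algebra.FiniteType R₀ P] [Module.Finite P M]

section step

variable {ι : Type u} [Preorder ι] (G : ι → Type u) [∀ i, CommRing (G i)] [∀ i, Algebra R₀ (G i)]
  [∀ i, IsNoetherianRing (G i)]
  (g : ∀ i j, i ≤ j → G i →ₐ[R₀] G j)
  (A : Type u) [CommRing A] [Algebra R₀ A] [∀ i, Algebra (G i) A] [∀ i, IsScalarTower R₀ (G i) A]

set_option maxHeartbeats 2000000 in
/-- The step of the induction. -/
theorem step (hcolim : FlatCA.IsDirectedColimitRing G (fun i j h => (g i j h).toRingHom) A)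
    (hA : GrFlat R₀ M J₀ A) (J : Ideal R₀) (i₀ : ι)
    (hJ : GrFlat R₀ M J₀ (G i₀ ⧸ J.map (algebraMap R₀ (G i₀))))
    (haway : ∀ (E : Type u) [CommRing E] [Algebra R₀ E] (k : ι) (φ : G k →ₐ[R₀] E),
      J.map (algebraMap R₀ E) = ⊤ → GrFlat R₀ M J₀ E) :
    ∃ i, GrFlat R₀ M J₀ (G i) := by
  classical
  have hcolim' := hcolim
  obtain ⟨hdir, hne, hid, htrans, hcomp, hsurj, hker⟩ := hcolim
  have : IsDirectedOrder ι := hdir
  let R := G i₀
  let JR : Ideal R := J.map (algebraMap R₀ R)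
  let inst : ∀ j : {j // i₀ ≤ j}, Algebra R (G j.1) := fun j => (g i₀ j.1 j.2).toRingHom.toAlgebra
  have hinst : ∀ (j : {j // i₀ ≤ j}) (r : R), algebraMap R (G j.1) r = g i₀ j.1 j.2 r := fun j r => rfl
  have tow : ∀ j : {j // i₀ ≤ j}, IsScalarTower R₀ R (G j.1) := fun j =>
    IsScalarTower.of_algebraMap_eq fun r => ((g i₀ j.1 j.2).commutes r).symm
  have towA : ∀ j : {j // i₀ ≤ j}, ∀ r : R,
      algebraMap (G j.1) A (algebraMap R (G j.1) r) = algebraMap R A r := fun j r =>
    RingHom.congr_fun (hcomp i₀ j.1 j.2) r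
  have : IsDirectedOrder {j // i₀ ≤ j} := ⟨fun a b => by
    obtain ⟨c, h1, h2⟩ := exists_ge_ge a.1 b.1
    exact ⟨⟨c, a.2.trans h1⟩, h1, h2⟩⟩
  let a : Ideal R := JR
  let aj : ∀ j : {j // i₀ ≤ j}, Ideal (G j.1) := fun j => a.map (algebraMap R (G j.1))
  let V : {j // i₀ ≤ j} → Type u := fun j => ↥(aj j)
  have hV : ∀ (b c : {j // i₀ ≤ j}) (h : b ≤ c) (x : G b.1), x ∈ aj b → g b.1 c.1 h x ∈ aj c := by
    intro b c h x hx
    have h1 := Ideal.mem_map_of_mem (g b.1 c.1 h).toRingHom hx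
    rw [Ideal.map_map] at h1
    have e : (g b.1 c.1 h).toRingHom.comp (algebraMap R (G b.1)) = algebraMap R (G c.1) :=
      htrans i₀ b.1 c.1 b.2 h
    rw [e] at h1
    exact h1
  let t : ∀ b c, b ≤ c → V b →ₗ[R₀] V c := fun b c h =>
    { toFun := fun x => ⟨g b.1 c.1 h x.1, hV b c h x.1 x.2⟩
      map_add' := fun x y => Subtype.ext (map_add (g b.1 c.1 h) x.1 y.1)
      map_smul' := fun r x => Subtype.ext ((g b.1 c.1 h).toLinearMap.map_smul r x.1) }
  let aA : Ideal A := a.map (algebraMap R A)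
  have hpV : ∀ (b : {j // i₀ ≤ j}) (x : G b.1), x ∈ aj b → algebraMap (G b.1) A x ∈ aA := by
    intro b x hx
    have h1 := Ideal.mem_map_of_mem (algebraMap (G b.1) A) hx
    rw [Ideal.map_map] at h1
    have e : (algebraMap (G b.1) A).comp (algebraMap R (G b.1)) = algebraMap R A := RingHom.ext (towA b)
    rw [e] at h1
    exact h1
  let p : ∀ b, V b →ₗ[R₀] ↥aA := fun b =>
    { toFun := fun x => ⟨algebraMap (G b.1) A x.1, hpV b x.1 x.2⟩
      map_add' := fun x y => Subtype.ext (map_add (algebraMap (G b.1) A) x.1 y.1)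
      map_smul' := fun r x => Subtype.ext
        ((IsScalarTower.toAlgHom R₀ (G b.1) A).toLinearMap.map_smul r x.1) }
  let base : {j // i₀ ≤ j} := ⟨i₀, le_rfl⟩
  have hps : ∀ w : ↥aA, ∃ b v, p b v = w := by
    rintro ⟨w, hw⟩
    suffices ∃ (b : {j // i₀ ≤ j}) (v : G b.1), v ∈ aj b ∧ algebraMap (G b.1) A v = w by
      obtain ⟨b, v, hv, hvw⟩ := this
      exact ⟨b, ⟨v, hv⟩, Subtype.ext hvw⟩
    have hw' : w ∈ Submodule.span A (algebraMap R A '' a) := hw
    clear hw
    induction hw' using Submodule.span_induction with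
    | mem w hw =>
      obtain ⟨r, hr, rfl⟩ := hw
      exact ⟨base, algebraMap R (G base.1) r, Ideal.mem_map_of_mem _ hr, towA base r⟩
    | zero => exact ⟨base, 0, zero_mem _, map_zero _⟩
    | add x y _ _ hx hy =>
      obtain ⟨b, v, hv, rfl⟩ := hx
      obtain ⟨b', v', hv', rfl⟩ := hy
      obtain ⟨c, h1, h2⟩ := exists_ge_ge b b'
      refine ⟨c, g b.1 c.1 h1 v + g b'.1 c.1 h2 v', add_mem (hV b c h1 v hv) (hV b' c h2 v' hv'), ?_⟩
      rw [map_add]
      exact congrArg₂ (· + ·) (RingHom.congr_fun (hcomp b.1 c.1 h1) v)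
        (RingHom.congr_fun (hcomp b'.1 c.1 h2) v')
    | smul s x _ hx =>
      obtain ⟨b, v, hv, rfl⟩ := hx
      obtain ⟨k, s', rfl⟩ := hsurj s
      obtain ⟨c, h1, h2⟩ := exists_ge_ge b.1 k
      refine ⟨⟨c, b.2.trans h1⟩, g k c h2 s' * g b.1 c h1 v,
        Ideal.mul_mem_left _ _ (hV b ⟨c, b.2.trans h1⟩ h1 v hv), ?_⟩
      rw [map_mul, smul_eq_mul]
      exact congrArg₂ (· * ·) (RingHom.congr_fun (hcomp k c h2) s')
        (RingHom.congr_fun (hcomp b.1 c h1) v)
  have hpk : ∀ b v, p b v = 0 → ∃ c, ∃ h : b ≤ c, t b c h v = 0 := by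
    intro b v hv
    obtain ⟨k, hk, hk0⟩ := hker b.1 v.1 (congrArg Subtype.val hv)
    exact ⟨⟨k, b.2.trans hk⟩, hk, Subtype.ext hk0⟩
  have htt : ∀ b c d (hbc : b ≤ c) (hcd : c ≤ d),
      (t c d hcd).comp (t b c hbc) = t b d (hbc.trans hcd) := fun b c d hbc hcd =>
    LinearMap.ext fun x => Subtype.ext (RingHom.congr_fun (htrans b.1 c.1 d.1 hbc hcd) x.1)
  have hpt : ∀ b c (h : b ≤ c), (p c).comp (t b c h) = p b := fun b c h =>
    LinearMap.ext fun x => Subtype.ext (RingHom.congr_fun (hcomp b.1 c.1 h) x.1)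
  let τ : ∀ b, ↥a →ₗ[R] V b := fun b =>
    { toFun := fun x => ⟨algebraMap R (G b.1) x.1, Ideal.mem_map_of_mem _ x.2⟩
      map_add' := fun x y => Subtype.ext (map_add (algebraMap R (G b.1)) x.1 y.1)
      map_smul' := fun r x => Subtype.ext ((Algebra.linearMap R (G b.1)).map_smul r x.1) }
  let τ₀ : ∀ b, ↥a →ₗ[R₀] V b := fun b => (τ b).restrictScalars R₀
  let τA : ↥a →ₗ[R₀] ↥aA := (p base).comp (τ₀ base)
  have hτ : ∀ b (h : base ≤ b), (t base b h).comp (τ₀ base) = τ₀ b :=
    fun b h => LinearMap.ext fun x => Subtype.ext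
      (RingHom.congr_fun (htrans i₀ i₀ b.1 le_rfl h) x.1)
  have : Algebra.FiniteType R (R ⊗[R₀] P) := inferInstance
  have : IsNoetherianRing (R ⊗[R₀] P) := Algebra.FiniteType.isNoetherianRing R _
  have : Module.Finite R ↥a := Module.Finite.iff_fg.2 (IsNoetherian.noetherian a)
  obtain ⟨k₀, Gg, Z, hGg, hZ, hctrl⟩ := exists_control (R := R₀) (M := M) (X := ↥a) (Y := R) J₀ a.subtype
  -- images over the colimit lie in the kernels
  have hkerA : ∀ (N : Type u) [AddCommGroup N] [Module R₀ N] [Module P N] [IsScalarTower R₀ P N]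
      (y : ↥a ⊗[R₀] N), wmap (R := R₀) a.subtype (LinearMap.id : N →ₗ[P] N) y = 0 →
      wmap (R := R₀) aA.subtype (LinearMap.id : N →ₗ[P] N) (τA.rTensor N y) = 0 := by
    intro N _ _ _ _ y hy
    have e : ∀ y : ↥a ⊗[R₀] N, wmap (R := R₀) aA.subtype (LinearMap.id : N →ₗ[P] N) (τA.rTensor N y) =
        ((IsScalarTower.toAlgHom R₀ R A).toLinearMap).rTensor N
          (wmap (R := R₀) a.subtype (LinearMap.id : N →ₗ[P] N) y) := by
      intro y
      induction y using TensorProduct.induction_on with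
      | zero => simp
      | add x y hx hy => simp only [map_add, hx, hy]
      | tmul x n =>
        rw [LinearMap.rTensor_tmul, wmap_tmul, wmap_tmul, LinearMap.rTensor_tmul]
        refine congrArg (· ⊗ₜ[R₀] n) ?_
        exact towA base x.1
    rw [e, hy, map_zero]
  have killG : ∀ k, ∀ y ∈ Gg k, ∃ b, ∃ h : base ≤ b,
      wmap (R := R₀) (τ b) (LinearMap.id : Nk M J₀ k →ₗ[P] Nk M J₀ k) (red R₀ R ↥a J₀ k y) = 0 := by
    intro k y hy
    let z := red R₀ R ↥a J₀ k y
    have h0 : (p base).rTensor (Nk M J₀ k) ((τ₀ base).rTensor (Nk M J₀ k) z) = 0 := by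
      rw [← LinearMap.rTensor_comp_apply]
      apply wmap_injective (R := R₀) (P := P) (N := Nk M J₀ k) aA.subtype aA.injective_subtype (hA k)
      rw [map_zero]
      exact hkerA _ z (hGg k y hy)
    obtain ⟨b, hb, hb0⟩ := exists_kill_right t p htt hpt hps hpk _ h0
    refine ⟨b, hb, ?_⟩
    rw [← LinearMap.rTensor_comp_apply, hτ] at hb0
    exact hb0
  have killZ : ∀ z ∈ Z, ∃ b, ∃ h : base ≤ b, ∀ d, b ≤ d → ∀ k,
      red R₀ R (V d) J₀ k (wmap (R := R₀) (τ d) (LinearMap.id : M →ₗ[P] M) z) = 0 := by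
    intro z hz
    let x₀ : V base ⊗[R₀] M := (τ₀ base).rTensor M z
    let yA : ↥aA ⊗[R₀] M := τA.rTensor M z
    obtain ⟨j, hj, hjy⟩ := exists_smul_eq_self J₀ hA aA.subtype aA.injective_subtype yA (hkerA M z (hZ z hz))
    obtain ⟨i, j', hj', hj'j⟩ := exists_lift_ext g A hcolim' J₀ hj
    obtain ⟨c, hc1, hc2⟩ := exists_ge_ge i i₀
    let cc : {j // i₀ ≤ j} := ⟨c, hc2⟩
    let jc : G c ⊗[R₀] P := Algebra.TensorProduct.map (g i c hc1) (AlgHom.id R₀ P) j'
    let xc : V cc ⊗[R₀] M := (t base cc hc2).rTensor M x₀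
    have hpc : ∀ (d : {j // i₀ ≤ j}) (e : G d.1) (x : V d),
        p d (e • x) = IsScalarTower.toAlgHom R₀ (G d.1) A e • p d x := fun d e x =>
      Subtype.ext (map_mul (algebraMap (G d.1) A) e x.1)
    have hjc : Algebra.TensorProduct.map (IsScalarTower.toAlgHom R₀ (G c) A) (AlgHom.id R₀ P) jc = j := by
      rw [← hj'j]
      show _ = Algebra.TensorProduct.map (IsScalarTower.toAlgHom R₀ (G i) A) (AlgHom.id R₀ P) j'
      simp only [jc]
      have key : ∀ y : G i ⊗[R₀] P, Algebra.TensorProduct.map (IsScalarTower.toAlgHom R₀ (G c) A) (AlgHom.id R₀ P)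
          (Algebra.TensorProduct.map (g i c hc1) (AlgHom.id R₀ P) y) =
            Algebra.TensorProduct.map (IsScalarTower.toAlgHom R₀ (G i) A) (AlgHom.id R₀ P) y := fun y => by
        induction y using TensorProduct.induction_on with
        | zero => simp
        | add x y hx hy => simp only [map_add, hx, hy]
        | tmul e q => exact congrArg (· ⊗ₜ[R₀] q) (RingHom.congr_fun (hcomp i c hc1) e)
      exact key j'
    have hxc : (p cc).rTensor M xc = yA := by
      rw [← LinearMap.rTensor_comp_apply, hpt, ← LinearMap.rTensor_comp_apply]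
    have h0 : (p cc).rTensor M (jc • xc - xc) = 0 := by
      rw [map_sub, rTensor_semilinear (IsScalarTower.toAlgHom R₀ (G c) A) (p cc) (hpc cc), hxc, hjc,
        hjy, sub_self]
    obtain ⟨b, hb, hb0⟩ := exists_kill_right t p htt hpt hps hpk _ h0
    refine ⟨b, b.2, fun d hbd k => ?_⟩
    have hcd : cc ≤ d := hb.trans hbd
    have ht' : ∀ (e : G c) (x : V cc), t cc d hcd (e • x) = g c d.1 hcd e • t cc d hcd x := fun e x =>
      Subtype.ext (map_mul (g c d.1 hcd) e x.1)
    have hfix : Algebra.TensorProduct.map (g c d.1 hcd) (AlgHom.id R₀ P) jc • (t cc d hcd).rTensor M xc =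
        (t cc d hcd).rTensor M xc := by
      rw [← rTensor_semilinear (g c d.1 hcd) (t cc d hcd) ht', ← sub_eq_zero, ← map_sub, ← htt cc b d hb hbd,
        LinearMap.rTensor_comp_apply, hb0, map_zero]
    have hmem := map_mem_ext (g c d.1 hcd) J₀ (map_mem_ext (g i c hc1) J₀ hj')
    have hzero := red_eq_zero_of_smul (E := G d.1) J₀ hmem hfix k
    have e : (t cc d hcd).rTensor M xc = wmap (R := R₀) (τ d) (LinearMap.id : M →ₗ[P] M) z := by
      rw [← LinearMap.rTensor_comp_apply, htt base cc d hc2 hcd, ← LinearMap.rTensor_comp_apply, hτ]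
      rfl
    rw [← e]
    exact hzero
  choose! bG hbG hbG0 using killG
  choose! bZ hbZ hbZ0 using killZ
  obtain ⟨D, hD⟩ := Finset.exists_le (insert base
    ((Finset.range (k₀ + 1)).biUnion (fun k => (Gg k).image (bG k)) ∪ Z.image bZ))
  have hDb : base ≤ D := hD _ (Finset.mem_insert_self _ _)
  have htD : IsScalarTower R₀ R ↥(aj D) := ⟨fun r s x => Subtype.ext (smul_assoc r s x.1)⟩
  have hkills : ∀ k (y : ↥a ⊗[R₀] Nk M J₀ k),
      wmap (R := R₀) a.subtype (LinearMap.id : Nk M J₀ k →ₗ[P] Nk M J₀ k) y = 0 →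
      wmap (R := R₀) (τ D) (LinearMap.id : Nk M J₀ k →ₗ[P] Nk M J₀ k) y = 0 := by
    refine hctrl (V D) (τ D) (fun k hk y hy => ?_) (fun z hz k => ?_)
    · have hle : bG k y ≤ D := hD _ (Finset.mem_insert_of_mem (Finset.mem_union_left _
        (Finset.mem_biUnion.2 ⟨k, Finset.mem_range.2 (Nat.lt_succ_of_le hk), Finset.mem_image_of_mem _ hy⟩)))
      have h1 := congrArg ((t (bG k y) D hle).rTensor (Nk M J₀ k)) (hbG0 k y hy)
      rw [map_zero] at h1
      rw [← h1]
      show (τ₀ D).rTensor _ _ =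
        (t (bG k y) D hle).rTensor _ ((τ₀ (bG k y)).rTensor _ _)
      rw [← LinearMap.rTensor_comp_apply, ← hτ (bG k y) (hbG k y hy), ← LinearMap.comp_assoc, htt, hτ]
    · exact hbZ0 z hz D (hD _ (Finset.mem_insert_of_mem (Finset.mem_union_right _
        (Finset.mem_image_of_mem _ hz)))) k
  refine ⟨D.1, fun k => ?_⟩
  have hJk := hJ k
  have : Module.Flat (R ⧸ a) ((R ⧸ a) ⊗[R] (R ⊗[R₀] Nk M J₀ k)) :=
    FlatAdic.flat_cancel (A := R₀) R (R ⧸ a)
  have hinjD := injective_of_kills (R' := G D.1) (M := R ⊗[R₀] Nk M J₀ k) a fun y hy => by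
    apply (cancelW R₀ (Nk M J₀ k) R ↥(aj D)).injective
    rw [map_zero]
    refine (cancelW_natural (P := P) (τ D) y).trans (hkills k _ ?_)
    rw [← cancelW_natural (P := P), hy, map_zero]
  let JD : Ideal (G D.1) := a.map (algebraMap R (G D.1))
  have eJD : JD = J.map (algebraMap R₀ (G D.1)) := by
    show Ideal.map _ (J.map _) = _
    rw [IsScalarTower.algebraMap_eq R₀ R (G D.1), ← Ideal.map_map]
  let ND := G D.1 ⊗[R₀] Nk M J₀ k
  have : Module.Flat (G D.1 ⧸ JD) ((G D.1 ⧸ JD) ⊗[G D.1] ND) := by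
    let : Algebra (R ⧸ a) (G D.1 ⧸ JD) :=
      (Ideal.quotientMap JD (algebraMap R (G D.1)) Ideal.le_comap_map).toAlgebra
    have : IsScalarTower R₀ (R ⧸ a) (G D.1 ⧸ JD) := IsScalarTower.of_algebraMap_eq fun r =>
      congrArg (Ideal.Quotient.mk JD) (IsScalarTower.algebraMap_apply R₀ R (G D.1) r)
    have := FlatAdic.flat_of_tower (A := R₀) (M := Nk M J₀ k) (R ⧸ a) (G D.1 ⧸ JD)
    exact FlatAdic.flat_cancel (A := R₀) (G D.1) (G D.1 ⧸ JD)
  have : Module.Finite (G D.1 ⊗[R₀] P) ND := finite_tensor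
  have : Algebra.FiniteType (G D.1) (G D.1 ⊗[R₀] P) := inferInstance
  have : IsNoetherianRing (G D.1 ⊗[R₀] P) := Algebra.FiniteType.isNoetherianRing (G D.1) _
  refine flat_of_stratum (S := G D.1 ⊗[R₀] P) (M := ND) JD
    (FlatStage.injective_lTensor_of_equiv
      (AlgebraTensorModule.cancelBaseChange R₀ R (G D.1) (G D.1) (Nk M J₀ k)) _
      ((FlatStage.injective_ideal_iff (R ⊗[R₀] Nk M J₀ k) JD).2 hinjD))
    fun j hj => ?_
  have := haway _ D.1 (IsScalarTower.toAlgHom R₀ (G D.1) (Localization.Away j)) (by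
    rw [IsScalarTower.algebraMap_eq R₀ (G D.1) (Localization.Away j), ← Ideal.map_map, ← eJD]
    exact Ideal.eq_top_of_isUnit_mem _ (Ideal.mem_map_of_mem _ hj)
      (IsLocalization.Away.algebraMap_isUnit j)) k
  exact FlatAdic.flat_cancel (A := R₀) (G D.1) (Localization.Away j)

end step

set_option maxHeartbeats 1000000 in
/-- Flatness descends along colimits of Noetherian algebras. -/
theorem exists_flat_stage {ι : Type u} [Preorder ι] (G : ι → Type u) [∀ i, CommRing (G i)]
    [∀ i, Algebra R₀ (G i)] [∀ i, IsNoetherianRing (G i)]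
    (g : ∀ i j, i ≤ j → G i →ₐ[R₀] G j)
    (A : Type u) [CommRing A] [Algebra R₀ A] [∀ i, Algebra (G i) A] [∀ i, IsScalarTower R₀ (G i) A]
    (hcolim : FlatCA.IsDirectedColimitRing G (fun i j h => (g i j h).toRingHom) A)
    (hA : GrFlat R₀ M J₀ A) :
    ∃ i, GrFlat R₀ M J₀ (G i) := by
  classical
  have main : ∀ I : Ideal R₀, ∃ i, GrFlat R₀ M J₀ (G i ⧸ I.map (algebraMap R₀ (G i))) := by
    intro I
    induction I using IsWellFounded.induction (α := Ideal R₀) (· > ·) with
    | ind I ih =>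
    by_cases htop : I = ⊤
    · obtain ⟨i⟩ := hcolim.2.1
      refine ⟨i, fun k => ?_⟩
      have : Subsingleton (G i ⧸ I.map (algebraMap R₀ (G i))) := by
        rw [Ideal.Quotient.subsingleton_iff, htop, Ideal.map_top]
      exact Module.Flat.of_free
    -- the ideal to add
    obtain ⟨J, hlt, haway⟩ : ∃ J : Ideal R₀, I < J ∧ ∀ (E : Type u) [CommRing E] [Algebra R₀ E],
        I.map (algebraMap R₀ E) = ⊥ → J.map (algebraMap R₀ E) = ⊤ →
          GrFlat R₀ M J₀ E := by
      by_cases hrad : I.radical = I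
      · obtain ⟨p, hp⟩ := (Ideal.nonempty_minimalPrimes htop)
        have hpp : p.IsPrime := hp.1.1
        have hfin := Ideal.finite_minimalPrimes_of_isNoetherianRing R₀ I
        have hg : ∃ a, a ∉ p ∧ ∀ q ∈ I.minimalPrimes, q ≠ p → a ∈ q := by
          let s := hfin.toFinset.erase p
          have hne : ¬ s.inf id ≤ p := fun h => by
            obtain ⟨q, hq, hqp⟩ := (Ideal.IsPrime.inf_le' hpp).1 h
            obtain ⟨hqne, hqm⟩ := Finset.mem_erase.1 hq
            rw [Set.Finite.mem_toFinset] at hqm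
            exact hqne (le_antisymm hqp (hp.2 hqm.1 hqp))
          obtain ⟨a, ha, hap⟩ := SetLike.not_le_iff_exists.1 hne
          refine ⟨a, hap, fun q hq hqp => ?_⟩
          exact (Finset.inf_le (f := id) (Finset.mem_erase.2 ⟨hqp, hfin.mem_toFinset.2 hq⟩)) ha
        obtain ⟨a, hap, haq⟩ := hg
        let Dq := R₀ ⧸ p
        obtain ⟨t, ht0, htflat⟩ := exists_flat_dom (R₀ := R₀) (M := M) J₀ Dq
        obtain ⟨t, rfl⟩ := Ideal.Quotient.mk_surjective t
        have htp : t ∉ p := fun h => ht0 (Ideal.Quotient.eq_zero_iff_mem.2 h)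
        have hatp : a * t ∉ p := fun h => (hpp.mem_or_mem h).elim hap htp
        refine ⟨I ⊔ Ideal.span {a * t}, lt_of_le_not_ge le_sup_left fun h => hatp
          (hp.1.2 (h (Ideal.mem_sup_right (Ideal.mem_span_singleton_self _)))), ?_⟩
        intro E _ _ hI hJ
        rw [Ideal.map_sup, hI, bot_sup_eq, Ideal.map_span, Set.image_singleton,
          Ideal.span_singleton_eq_top, map_mul] at hJ
        obtain ⟨hua, hut⟩ := IsUnit.mul_iff.1 hJ
        have hp0 : ∀ x ∈ p, algebraMap R₀ E x = 0 := by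
          intro x hx
          have h1 : a * x ∈ I := by
            rw [← hrad, ← Ideal.sInf_minimalPrimes, Ideal.mem_sInf]
            intro q hq
            by_cases hqp : q = p
            · exact hqp ▸ p.mul_mem_left a hx
            · exact q.mul_mem_right x (haq q hq hqp)
          have h2 := Ideal.mem_map_of_mem (algebraMap R₀ E) h1
          rw [hI, Ideal.mem_bot, map_mul] at h2
          exact hua.mul_right_eq_zero.1 h2
        let φ : Dq →+* E := Ideal.Quotient.lift p (algebraMap R₀ E) hp0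
        let : Algebra Dq E := φ.toAlgebra
        have : IsScalarTower R₀ Dq E := IsScalarTower.of_algebraMap_eq fun r => rfl
        let L := Localization.Away (Ideal.Quotient.mk p t)
        let ψ : L →+* E := IsLocalization.Away.lift (Ideal.Quotient.mk p t) (g := algebraMap Dq E)
          (by simpa [RingHom.algebraMap_toAlgebra, φ] using hut)
        let : Algebra L E := ψ.toAlgebra
        have : IsScalarTower Dq L E := IsScalarTower.of_algebraMap_eq fun r =>
          (IsLocalization.Away.lift_eq _ _ r).symm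
        have : IsScalarTower R₀ L E := IsScalarTower.of_algebraMap_eq fun r => by
          rw [IsScalarTower.algebraMap_apply R₀ Dq L, ← IsScalarTower.algebraMap_apply Dq L E,
            ← IsScalarTower.algebraMap_apply R₀ Dq E]
        exact htflat.baseChange E
      · refine ⟨I.radical, lt_of_le_of_ne Ideal.le_radical (Ne.symm hrad), fun E _ _ hI hJ => ?_⟩
        obtain ⟨k, hk⟩ := Ideal.exists_radical_pow_le_of_fg I I.radical.fg_of_isNoetherianRing
        have h1 := Ideal.map_mono (f := algebraMap R₀ E) hk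
        rw [Ideal.map_pow, hJ, Ideal.top_pow, hI, top_le_iff] at h1
        have h2 : (1 : E) ∈ (⊥ : Ideal E) := h1 ▸ Submodule.mem_top
        have : Subsingleton E := subsingleton_of_zero_eq_one (Ideal.mem_bot.1 h2).symm
        exact fun _ => Module.Flat.of_free
    obtain ⟨i₀, hi₀⟩ := ih J hlt
    -- the system modulo `I`
    obtain ⟨hdir, hne, hid, htrans, hcomp, hsurj, hker⟩ := hcolim
    let G' := fun i => G i ⧸ I.map (algebraMap R₀ (G i))
    let A' := A ⧸ I.map (algebraMap R₀ A)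
    let g' : ∀ i j, i ≤ j → G' i →ₐ[R₀] G' j := fun i j h =>
      Ideal.quotientMapₐ _ (g i j h)
        fun x hx => FlatStage.algHom_mem_map (g i j h) hx
    let inst : ∀ i, Algebra (G' i) A' := fun i =>
      (Ideal.quotientMap _ (algebraMap (G i) A) (by
        rw [← Ideal.map_le_iff_le_comap, Ideal.map_map, ← IsScalarTower.algebraMap_eq])).toAlgebra
    have : ∀ i, IsScalarTower R₀ (G' i) A' := fun i => IsScalarTower.of_algebraMap_eq fun r =>
      congrArg (Ideal.Quotient.mk _) (IsScalarTower.algebraMap_apply R₀ (G i) A r)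
    have hc' : FlatCA.IsDirectedColimitRing G' (fun i j h => (g' i j h).toRingHom) A' := by
      refine ⟨hdir, hne, fun i => ?_, fun i j k hij hjk => ?_, fun i j h => ?_, fun a => ?_,
        fun i x hx => ?_⟩
      · exact Ideal.Quotient.ringHom_ext (RingHom.ext fun x =>
          congrArg (Ideal.Quotient.mk _) (RingHom.congr_fun (hid i) x))
      · exact Ideal.Quotient.ringHom_ext (RingHom.ext fun x =>
          congrArg (Ideal.Quotient.mk _) (RingHom.congr_fun (htrans i j k hij hjk) x))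
      · exact Ideal.Quotient.ringHom_ext (RingHom.ext fun x =>
          congrArg (Ideal.Quotient.mk _) (RingHom.congr_fun (hcomp i j h) x))
      · obtain ⟨a, rfl⟩ := Ideal.Quotient.mk_surjective a
        obtain ⟨i, x, rfl⟩ := hsurj a
        exact ⟨i, Ideal.Quotient.mk _ x, rfl⟩
      · obtain ⟨x, rfl⟩ := Ideal.Quotient.mk_surjective x
        obtain ⟨j, hj, hj0⟩ := FlatStage.colim_quotient g A
          ⟨hdir, hne, hid, htrans, hcomp, hsurj, hker⟩ I x (Ideal.Quotient.eq_zero_iff_mem.1 hx)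
        exact ⟨j, hj, Ideal.Quotient.eq_zero_iff_mem.2 hj0⟩
    have hA' : GrFlat R₀ M J₀ A' := hA.baseChange A'
    refine step J₀ G' g' A' hc' hA' J i₀ ?_ fun E _ _ k φ hJE => haway E ?_ hJE
    · let : Algebra (G i₀ ⧸ J.map (algebraMap R₀ (G i₀))) (G' i₀ ⧸ J.map (algebraMap R₀ (G' i₀))) :=
        (Ideal.quotientMap _ (Ideal.Quotient.mk (I.map (algebraMap R₀ (G i₀)))) (by
          rw [← Ideal.map_le_iff_le_comap, Ideal.map_map]
          exact le_rfl)).toAlgebra
      have : IsScalarTower R₀ (G i₀ ⧸ J.map (algebraMap R₀ (G i₀)))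
          (G' i₀ ⧸ J.map (algebraMap R₀ (G' i₀))) := IsScalarTower.of_algebraMap_eq fun r => rfl
      exact hi₀.baseChange _
    · rw [← φ.comp_algebraMap, ← Ideal.map_map]
      have : I.map (algebraMap R₀ (G' k)) = ⊥ := by
        rw [show algebraMap R₀ (G' k) = (Ideal.Quotient.mk _).comp (algebraMap R₀ (G k)) from rfl,
          ← Ideal.map_map, Ideal.map_quotient_self]
      rw [this, Ideal.map_bot]
  obtain ⟨i, hi⟩ := main ⊥
  refine ⟨i, ?_⟩
  have e : (⊥ : Ideal R₀).map (algebraMap R₀ (G i)) = ⊥ := Ideal.map_bot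
  let ε : (G i ⧸ (⊥ : Ideal R₀).map (algebraMap R₀ (G i))) →+* G i :=
    Ideal.Quotient.lift _ (RingHom.id _) fun x hx => by rw [e] at hx; exact hx
  let := ε.toAlgebra
  have : IsScalarTower R₀ (G i ⧸ (⊥ : Ideal R₀).map (algebraMap R₀ (G i))) (G i) :=
    IsScalarTower.of_algebraMap_eq fun r => rfl
  exact hi.baseChange (G i)

end Groth.Agent.H47.GrFlat
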