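import Groth.Agent.H47.GrLocal

/-!
# Lemmas for descending flatness of the associated graded module
-/

set_option autoImplicit false

universe u

open TensorProduct

namespace Groth.Agent.H47.GrFlat

variable {R : Type u} [CommRing R] {P : Type u} [CommRing P] [Algebra R P]
  {M : Type u} [AddCommGroup M] [Module R M] [Module P M] [IsScalarTower R P M]
  {E : Type u} [CommRing E] [Algebra R E]
  {X Y : Type u} [AddCommGroup X] [Module R X] [Module E X] [IsScalarTower R E X]
  [AddCommGroup Y] [Module R Y] [Module E Y] [IsScalarTower R E Y]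

theorem red_wmap (J : Ideal P) (k : ℕ) (f : X →ₗ[E] Y) (z : X ⊗[R] M) :
    wmap (R := R) f (LinearMap.id : Nk M J k →ₗ[P] Nk M J k) (red R E X J k z) =
      red R E Y J k (wmap (R := R) f (LinearMap.id : M →ₗ[P] M) z) :=
  wmap_comp_wmap f _ z

theorem red_surjective (J : Ideal P) (k : ℕ) : Function.Surjective (red (M := M) R E X J k) :=
  fun y => by
    induction y using TensorProduct.induction_on with
    | zero => exact ⟨0, map_zero _⟩
    | tmul x m =>
      obtain ⟨m, rfl⟩ := Submodule.mkQ_surjective _ m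
      exact ⟨x ⊗ₜ[R] m, rfl⟩
    | add a b ha hb =>
      obtain ⟨a, rfl⟩ := ha
      obtain ⟨b, rfl⟩ := hb
      exact ⟨a + b, map_add _ _ _⟩

/-- An element fixed by an element of `J` vanishes in every truncation. -/
theorem red_eq_zero_of_smul (J : Ideal P) {z : X ⊗[R] M} {j : E ⊗[R] P} (hj : j ∈ ext R E J)
    (h : j • z = z) (k : ℕ) : red R E X J k z = 0 := by
  rw [red_eq_zero_iff]
  induction k with
  | zero => rw [pow_zero, Ideal.one_eq_top, Submodule.top_smul]; trivial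
  | succ k ih =>
    rw [← h, pow_succ', ← smul_eq_mul, Submodule.smul_assoc]
    exact Submodule.smul_mem_smul hj ih

/-- Flatness of all truncations gives elements of `J` fixing the kernels. -/
theorem exists_smul_eq_self [IsNoetherianRing R] [Algebra.FiniteType R P] [Module.Finite P M]
    (J : Ideal P) (h : GrFlat R M J E) (f : X →ₗ[E] Y) (hf : Function.Injective f) (z : X ⊗[R] M)
    (hz : wmap (R := R) f (LinearMap.id : M →ₗ[P] M) z = 0) :
    ∃ j ∈ ext R E J, j • z = z := by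
  let a : Ideal (E ⊗[R] P) := LinearMap.ker (LinearMap.toSpanSingleton (E ⊗[R] P) (X ⊗[R] M) z)
  have htop : a ⊔ ext R E J = ⊤ := by
    by_contra hne
    obtain ⟨q, hq, hle⟩ := Ideal.exists_le_maximal _ hne
    obtain ⟨s, hs, hs0⟩ := flatAt_of_grFlat J h q (le_sup_right.trans hle) X Y f hf z hz
    exact hs (hle (Ideal.mem_sup_left hs0))
  obtain ⟨s, hs, j, hj, he⟩ := Submodule.mem_sup.1 (htop ▸ Submodule.mem_top (x := (1 : E ⊗[R] P)))
  refine ⟨j, hj, ?_⟩
  calc j • z = s • z + j • z := by rw [show s • z = 0 from hs, zero_add]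
    _ = z := by rw [← add_smul, he, one_smul]

/-- Finitely many elements control the kernels in all truncations. -/
theorem exists_control [IsNoetherianRing (E ⊗[R] P)] [Module.Finite P M] [Module.Finite E X]
    [Module.Finite E Y] (J : Ideal P) (f : X →ₗ[E] Y) :
    ∃ (k₀ : ℕ) (G : ℕ → Finset (X ⊗[R] M)) (Z : Finset (X ⊗[R] M)),
      (∀ k, ∀ g ∈ G k, wmap (R := R) f (LinearMap.id : Nk M J k →ₗ[P] Nk M J k) (red R E X J k g) = 0) ∧
      (∀ z ∈ Z, wmap (R := R) f (LinearMap.id : M →ₗ[P] M) z = 0) ∧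
      ∀ (V : Type u) [AddCommGroup V] [Module R V] [Module E V] [IsScalarTower R E V] (τ : X →ₗ[E] V),
        (∀ k ≤ k₀, ∀ g ∈ G k,
          wmap (R := R) τ (LinearMap.id : Nk M J k →ₗ[P] Nk M J k) (red R E X J k g) = 0) →
        (∀ z ∈ Z, ∀ k, red R E V J k (wmap (R := R) τ (LinearMap.id : M →ₗ[P] M) z) = 0) →
        ∀ k (y : X ⊗[R] Nk M J k), wmap (R := R) f (LinearMap.id : Nk M J k →ₗ[P] Nk M J k) y = 0 →
          wmap (R := R) τ (LinearMap.id : Nk M J k →ₗ[P] Nk M J k) y = 0 := by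
  classical
  let φ := wmap (R := R) f (LinearMap.id : M →ₗ[P] M)
  let JE := ext R E J
  have : Module.Finite (E ⊗[R] P) (X ⊗[R] M) := finite_tensor
  have : Module.Finite (E ⊗[R] P) (Y ⊗[R] M) := finite_tensor
  obtain ⟨k₀, hk₀⟩ := JE.exists_pow_inf_eq_pow_smul (N := LinearMap.range φ)
  let U : ℕ → Submodule (E ⊗[R] P) (X ⊗[R] M) := fun k => ((JE ^ k • ⊤ : Submodule (E ⊗[R] P) (Y ⊗[R] M))).comap φ
  choose G hG using fun k => IsNoetherian.noetherian (U k)
  obtain ⟨Z, hZ⟩ := IsNoetherian.noetherian (LinearMap.ker φ)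
  refine ⟨k₀, G, Z, fun k g hg => ?_, fun z hz => ?_, fun V _ _ _ _ τ hG0 hZ0 k y hy => ?_⟩
  · rw [red_wmap, red_eq_zero_iff]
    exact (hG k).le (Submodule.subset_span hg)
  · exact hZ.le (Submodule.subset_span hz)
  let ψ := wmap (R := R) τ (LinearMap.id : M →ₗ[P] M)
  have hlow : ∀ k ≤ k₀, U k ≤ ((JE ^ k • ⊤ : Submodule (E ⊗[R] P) (V ⊗[R] M))).comap ψ := by
    intro k hk
    rw [← hG k, Submodule.span_le]
    intro g hg
    show ψ g ∈ JE ^ k • (⊤ : Submodule (E ⊗[R] P) (V ⊗[R] M))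
    rw [← red_eq_zero_iff, ← red_wmap]
    exact hG0 k hk g hg
  have hker : ∀ k, LinearMap.ker φ ≤ ((JE ^ k • ⊤ : Submodule (E ⊗[R] P) (V ⊗[R] M))).comap ψ := by
    intro k
    rw [← hZ, Submodule.span_le]
    intro z hz
    exact (red_eq_zero_iff J k _).1 (hZ0 z hz k)
  have hall : ∀ k, U k ≤ ((JE ^ k • ⊤ : Submodule (E ⊗[R] P) (V ⊗[R] M))).comap ψ := by
    intro k
    rcases le_or_gt k k₀ with hk | hk
    · exact hlow k hk
    intro x hx
    have h1 : φ x ∈ JE ^ k • ⊤ ⊓ LinearMap.range φ := ⟨hx, LinearMap.mem_range_self _ _⟩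
    rw [hk₀ k hk.le, show JE ^ k₀ • ⊤ ⊓ LinearMap.range φ = (U k₀).map φ by
      rw [Submodule.map_comap_eq, inf_comm], ← Submodule.map_smul''] at h1
    obtain ⟨v, hv, hve⟩ := h1
    rw [show x = v + (x - v) by abel]
    refine add_mem ?_ (hker k (show φ (x - v) = 0 by rw [map_sub, hve, sub_self]))
    show ψ v ∈ JE ^ k • (⊤ : Submodule (E ⊗[R] P) (V ⊗[R] M))
    have h2 : ψ v ∈ (JE ^ (k - k₀) • U k₀).map ψ := Submodule.mem_map_of_mem hv
    rw [Submodule.map_smul''] at h2
    have h3 := Submodule.smul_mono le_rfl (Submodule.map_le_iff_le_comap.2 (hlow k₀ le_rfl)) h2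
    rwa [← Submodule.smul_assoc, smul_eq_mul, ← pow_add, Nat.sub_add_cancel hk.le] at h3
  obtain ⟨x, rfl⟩ := red_surjective (E := E) (X := X) J k y
  rw [red_wmap, red_eq_zero_iff] at hy ⊢
  exact hall k hy

/-- Elements of the extension of `J` to a colimit come from the stages. -/
theorem exists_lift_ext {ι : Type u} [Preorder ι] {G : ι → Type u} [∀ i, CommRing (G i)]
    [∀ i, Algebra R (G i)] (g : ∀ i j, i ≤ j → G i →ₐ[R] G j)
    (A : Type u) [CommRing A] [Algebra R A] [∀ i, Algebra (G i) A] [∀ i, IsScalarTower R (G i) A]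
    (hcolim : FlatCA.IsDirectedColimitRing G (fun i j h => (g i j h).toRingHom) A) (J : Ideal P)
    {s : A ⊗[R] P} (hs : s ∈ ext R A J) :
    ∃ (i : ι) (s' : G i ⊗[R] P), s' ∈ ext R (G i) J ∧ baseHom R P (G i) A s' = s := by
  obtain ⟨hdir, hne, hid, htrans, hcomp, hsurj, hker⟩ := hcolim
  have : IsDirectedOrder ι := hdir
  obtain ⟨i₁⟩ := hne
  have hmove : ∀ {i j : ι} (h : i ≤ j) (x : G i ⊗[R] P),
      baseHom R P (G j) A (Algebra.TensorProduct.map (g i j h) (AlgHom.id R P) x) = baseHom R P (G i) A x := by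
    intro i j h x
    induction x using TensorProduct.induction_on with
    | zero => simp
    | add a b ha hb => simp only [map_add, ha, hb]
    | tmul e p => exact congrArg (· ⊗ₜ[R] p) (RingHom.congr_fun (hcomp i j h) e)
  have hmove' : ∀ {i j : ι} (h : i ≤ j) (x : G i ⊗[R] P), x ∈ ext R (G i) J →
      Algebra.TensorProduct.map (g i j h) (AlgHom.id R P) x ∈ ext R (G j) J := by
    intro i j h x hx
    have hle : ext R (G i) J ≤ (ext R (G j) J).comap (Algebra.TensorProduct.map (g i j h) (AlgHom.id R P)) := by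
      refine Ideal.map_le_iff_le_comap.2 fun y hy => ?_
      show (Algebra.TensorProduct.map (g i j h) (AlgHom.id R P)) ((1 : G i) ⊗ₜ[R] y) ∈ ext R (G j) J
      rw [Algebra.TensorProduct.map_tmul, map_one, AlgHom.id_apply]
      exact Ideal.mem_map_of_mem _ hy
    exact hle hx
  have hall : ∀ y : A ⊗[R] P, ∃ (i : ι) (y' : G i ⊗[R] P), baseHom R P (G i) A y' = y := by
    intro y
    induction y using TensorProduct.induction_on with
    | zero => exact ⟨i₁, 0, map_zero _⟩
    | tmul a p =>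
      obtain ⟨i, x, rfl⟩ := hsurj a
      exact ⟨i, x ⊗ₜ[R] p, rfl⟩
    | add a b ha hb =>
      obtain ⟨i, a', rfl⟩ := ha
      obtain ⟨j, b', rfl⟩ := hb
      obtain ⟨k, h1, h2⟩ := exists_ge_ge i j
      exact ⟨k, Algebra.TensorProduct.map (g i k h1) (AlgHom.id R P) a' +
        Algebra.TensorProduct.map (g j k h2) (AlgHom.id R P) b', by rw [map_add, hmove h1 a', hmove h2 b']⟩
  induction hs using Submodule.span_induction with
  | zero => exact ⟨i₁, 0, zero_mem _, map_zero _⟩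
  | mem x hx =>
    obtain ⟨p, hp, rfl⟩ := hx
    refine ⟨i₁, (1 : G i₁) ⊗ₜ[R] p, Ideal.mem_map_of_mem _ hp, ?_⟩
    simp [baseHom]
  | add a b _ _ ha hb =>
    obtain ⟨i, a', ha', rfl⟩ := ha
    obtain ⟨j, b', hb', rfl⟩ := hb
    obtain ⟨k, h1, h2⟩ := exists_ge_ge i j
    exact ⟨k, Algebra.TensorProduct.map (g i k h1) (AlgHom.id R P) a' +
        Algebra.TensorProduct.map (g j k h2) (AlgHom.id R P) b', add_mem (hmove' h1 a' ha') (hmove' h2 b' hb'),
      by rw [map_add, hmove h1 a', hmove h2 b']⟩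
  | smul c a _ ha =>
    obtain ⟨i, a', ha', rfl⟩ := ha
    obtain ⟨j, c', rfl⟩ := hall c
    obtain ⟨k, h1, h2⟩ := exists_ge_ge i j
    refine ⟨k, Algebra.TensorProduct.map (g j k h2) (AlgHom.id R P) c' *
      Algebra.TensorProduct.map (g i k h1) (AlgHom.id R P) a', Ideal.mul_mem_left _ _ (hmove' h1 a' ha'), ?_⟩
    rw [map_mul, hmove h2 c', hmove h1 a', smul_eq_mul]

end Groth.Agent.H47.GrFlat
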