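import Groth.Agent.H47.GrStage
import Groth.Agent.Lib.DR.FlatAcyclic
import Mathlib.RingTheory.Ideal.MinimalPrime.Noetherian
import Mathlib.AlgebraicGeometry.Morphisms.ClosedImmersion
import Mathlib.AlgebraicGeometry.Morphisms.Immersion

/-!
# Affine stratification with flat graded pieces
-/

set_option autoImplicit false
set_option linter.style.haveILetI false
set_option backward.isDefEq.respectTransparency false

universe u

open TensorProduct CategoryTheory AlgebraicGeometry

namespace Groth.Agent.H47.GrFlat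

variable {A₀ : Type u} [CommRing A₀] [IsNoetherianRing A₀] {B₀ : Type u} [CommRing B₀] [Algebra A₀ B₀]
  [Algebra.FiniteType A₀ B₀] {M₀ : Type u} [AddCommGroup M₀] [Module A₀ M₀] [Module B₀ M₀]
  [IsScalarTower A₀ B₀ M₀] [Module.Finite B₀ M₀] (J₀ : Ideal B₀)

/-- A nonempty closed subset contains an affine stratum, open in it, with flat graded pieces. -/
theorem exists_stratum (Z : TopologicalSpace.Closeds (PrimeSpectrum A₀))
    (hZ : (Z : Set (PrimeSpectrum A₀)).Nonempty) :
    ∃ (A : Type u) (_ : CommRing A) (_ : Algebra A₀ A),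
      IsImmersion (Spec.map (CommRingCat.ofHom (algebraMap A₀ A))) ∧ GrFlat A₀ M₀ J₀ A ∧
      (Set.range (PrimeSpectrum.comap (algebraMap A₀ A))).Nonempty ∧
      ∃ U : Set (PrimeSpectrum A₀), IsOpen U ∧
        U ∩ (Z : Set (PrimeSpectrum A₀)) = Set.range (PrimeSpectrum.comap (algebraMap A₀ A)) := by
  classical
  obtain ⟨I, hI⟩ := (PrimeSpectrum.isClosed_iff_zeroLocus_ideal _).mp Z.isClosed
  obtain ⟨z, hz⟩ := hZ
  obtain ⟨P, hP, -⟩ := Ideal.exists_minimalPrimes_le (J := z.asIdeal) (I := I)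
    (by rw [hI] at hz; exact hz)
  haveI := hP.1.1
  have hfin := Ideal.finite_minimalPrimes_of_isNoetherianRing A₀ I
  let others := hfin.toFinset.erase P
  have hns : ¬ others.inf id ≤ P := fun h => by
    obtain ⟨q, hq, hqP⟩ := (Ideal.IsPrime.inf_le' hP.1.1).mp h
    rw [Finset.mem_erase, hfin.mem_toFinset] at hq
    exact hq.1 (le_antisymm hqP (hP.2 hq.2.1 hqP))
  obtain ⟨s, hs, hsP⟩ := SetLike.not_le_iff_exists.mp hns
  let D := A₀ ⧸ P
  let s' : D := Ideal.Quotient.mk P s
  have hs' : s' ≠ 0 := fun h => hsP (Ideal.Quotient.eq_zero_iff_mem.mp h)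
  let L := Localization.Away s'
  haveI : IsDomain L := IsLocalization.isDomain_of_le_nonZeroDivisors L
    (powers_le_nonZeroDivisors_of_noZeroDivisors hs')
  haveI : IsNoetherianRing L := IsLocalization.isNoetherianRing (Submonoid.powers s') _ inferInstance
  obtain ⟨t, ht, hflat⟩ := exists_flat_dom (R₀ := A₀) (M := M₀) J₀ L
  let A := Localization.Away t
  let j : L →+* A := algebraMap L A
  have e1 : algebraMap A₀ A = j.comp ((algebraMap D L).comp (Ideal.Quotient.mk P)) := by
    rw [IsScalarTower.algebraMap_eq A₀ L A]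
    congr 1
  haveI hclosed : IsClosedImmersion (Spec.map (CommRingCat.ofHom (Ideal.Quotient.mk P))) :=
    IsClosedImmersion.spec_of_surjective _ Ideal.Quotient.mk_surjective
  haveI : IsOpenImmersion (Spec.map (CommRingCat.ofHom (algebraMap D L))) :=
    IsOpenImmersion.of_isLocalization s'
  haveI hlocA : IsLocalization.Away t A := Localization.isLocalization
  haveI : IsOpenImmersion (Spec.map (CommRingCat.ofHom j)) :=
    @IsOpenImmersion.of_isLocalization L A _ _ _ t hlocA
  haveI : IsDomain A := IsLocalization.isDomain_of_le_nonZeroDivisors A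
    (powers_le_nonZeroDivisors_of_noZeroDivisors ht)
  refine ⟨A, inferInstance, inferInstance, ?_, hflat, Set.range_nonempty _, ?_⟩
  · rw [e1, CommRingCat.ofHom_comp, CommRingCat.ofHom_comp, Spec.map_comp, Spec.map_comp]
    infer_instance
  -- the range is open in `Z`
  let c := PrimeSpectrum.comap (Ideal.Quotient.mk P)
  have hc : Topology.IsClosedEmbedding c :=
    PrimeSpectrum.isClosedEmbedding_comap_of_surjective _ _ Ideal.Quotient.mk_surjective
  have ho : IsOpen (Set.range (PrimeSpectrum.comap (algebraMap D L) ∘ PrimeSpectrum.comap j)) :=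
    ((PrimeSpectrum.localization_away_isOpenEmbedding L s').comp
      (PrimeSpectrum.localization_away_isOpenEmbedding A t)).isOpen_range
  obtain ⟨U, hU, hUe⟩ := hc.isInducing.isOpen_iff.mp ho
  refine ⟨U ∩ PrimeSpectrum.basicOpen s, hU.inter (PrimeSpectrum.basicOpen s).isOpen, ?_⟩
  have er : Set.range (PrimeSpectrum.comap (algebraMap A₀ A)) =
      c '' Set.range (PrimeSpectrum.comap (algebraMap D L) ∘ PrimeSpectrum.comap j) := by
    rw [← Set.range_comp, e1, PrimeSpectrum.comap_comp, PrimeSpectrum.comap_comp]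
    rfl
  rw [er, hI]
  ext q
  constructor
  · rintro ⟨⟨hqU, hqs⟩, hqI⟩
    obtain ⟨Q, hQ, hQq⟩ := Ideal.exists_minimalPrimes_le (J := q.asIdeal) (I := I) hqI
    have hQP : Q = P := by
      by_contra hne
      refine hqs (hQq ?_)
      have : Q ∈ others := Finset.mem_erase.mpr ⟨hne, hfin.mem_toFinset.mpr hQ⟩
      exact (Finset.inf_le (f := id) this) hs
    subst hQP
    obtain ⟨d, rfl⟩ : q ∈ Set.range c := by
      rw [_root_.range_comap_of_surjective _ _ Ideal.Quotient.mk_surjective, Ideal.mk_ker]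
      exact hQq
    exact ⟨d, hUe ▸ hqU, rfl⟩
  · rintro ⟨d, hd, rfl⟩
    refine ⟨⟨?_, ?_⟩, ?_⟩
    · rw [← hUe] at hd
      exact hd
    · have : d ∈ Set.range (PrimeSpectrum.comap (algebraMap D L)) := by
        obtain ⟨a, rfl⟩ := hd
        exact ⟨_, rfl⟩
      rw [PrimeSpectrum.localization_away_comap_range L s'] at this
      exact this
    · refine fun a ha => ?_
      show Ideal.Quotient.mk P a ∈ d.asIdeal
      rw [Ideal.Quotient.eq_zero_iff_mem.mpr (hP.1.2 ha)]
      exact zero_mem _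

/-- The stratification of a closed subset. -/
theorem exists_strata (Z : TopologicalSpace.Closeds (PrimeSpectrum A₀)) :
    ∃ (m : ℕ) (A : Fin m → Type u) (_ : ∀ i, CommRing (A i)) (_ : ∀ i, Algebra A₀ (A i)),
      (∀ i, IsImmersion (Spec.map (CommRingCat.ofHom (algebraMap A₀ (A i))))) ∧
      (∀ i j, i ≠ j → Disjoint (Set.range (PrimeSpectrum.comap (algebraMap A₀ (A i))))
        (Set.range (PrimeSpectrum.comap (algebraMap A₀ (A j))))) ∧
      (⋃ i, Set.range (PrimeSpectrum.comap (algebraMap A₀ (A i))) = (Z : Set (PrimeSpectrum A₀))) ∧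
      (∀ i, ∃ U : Set (PrimeSpectrum A₀), IsOpen U ∧
        U ∩ (⋃ j, ⋃ (_ : i ≤ j), Set.range (PrimeSpectrum.comap (algebraMap A₀ (A j)))) =
          Set.range (PrimeSpectrum.comap (algebraMap A₀ (A i)))) ∧
      ∀ i, GrFlat A₀ M₀ J₀ (A i) := by
  induction Z using WellFoundedLT.induction with
  | _ Z ih =>
  rcases (Z : Set (PrimeSpectrum A₀)).eq_empty_or_nonempty with h0 | hne
  · refine ⟨0, Fin.elim0, fun i => i.elim0, fun i => i.elim0, fun i => i.elim0, fun i => i.elim0, ?_,
      fun i => i.elim0, fun i => i.elim0⟩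
    rw [h0]
    exact Set.iUnion_of_empty _
  obtain ⟨A₁, cA₁, aA₁, himm₁, hflat₁, hne₁, U₁, hU₁, hUe₁⟩ :=
    exists_stratum (M₀ := M₀) J₀ Z hne
  let Z' : TopologicalSpace.Closeds (PrimeSpectrum A₀) :=
    ⟨(Z : Set _) ∩ U₁ᶜ, Z.isClosed.inter hU₁.isClosed_compl⟩
  have hlt : Z' < Z := by
    refine lt_of_le_not_ge (fun x hx => hx.1) fun h => ?_
    obtain ⟨x, hx⟩ := hne₁
    rw [← hUe₁] at hx
    exact (h hx.2).2 hx.1
  obtain ⟨m, A, cA, aA, himm, hdisj, hcov, hopen, hflat⟩ := ih Z' hlt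
  let B : Fin (m + 1) → Σ' (A : Type u) (_ : CommRing A), Algebra A₀ A :=
    Fin.cons ⟨A₁, cA₁, aA₁⟩ fun i => ⟨A i, cA i, aA i⟩
  let r : ∀ i, Set (PrimeSpectrum A₀) := fun i =>
    @Set.range _ _ (@PrimeSpectrum.comap A₀ (B i).1 _ (B i).2.1.toCommSemiring
      (@algebraMap A₀ (B i).1 _ (B i).2.1.toSemiring (B i).2.2))
  have hr0 : r 0 = U₁ ∩ (Z : Set _) := hUe₁.symm
  have hrs : ∀ i : Fin m, r i.succ ⊆ (Z' : Set _) := fun i x hx => hcov.le (Set.mem_iUnion.mpr ⟨i, hx⟩)
  refine ⟨m + 1, fun i => (B i).1, fun i => (B i).2.1, fun i => (B i).2.2, Fin.cases himm₁ himm, ?_,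
    ?_, ?_, Fin.cases hflat₁ hflat⟩
  · show ∀ i j, i ≠ j → Disjoint (r i) (r j)
    have h01 : ∀ i : Fin m, Disjoint (r 0) (r i.succ) := fun i =>
      Set.disjoint_left.mpr fun x hx hx' => (hrs i hx').2 (hr0 ▸ hx).1
    intro i j hij
    induction i using Fin.cases with
    | zero => induction j using Fin.cases with
      | zero => exact absurd rfl hij
      | succ j => exact h01 j
    | succ i => induction j using Fin.cases with
      | zero => exact (h01 i).symm
      | succ j => exact hdisj i j fun h => hij (h ▸ rfl)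
  · show (⋃ i, r i) = _
    refine Set.Subset.antisymm (Set.iUnion_subset (Fin.cases (hr0 ▸ Set.inter_subset_right)
      fun i => (hrs i).trans Set.inter_subset_left)) fun x hx => ?_
    by_cases hxU : x ∈ U₁
    · exact Set.mem_iUnion.mpr ⟨0, hr0 ▸ ⟨hxU, hx⟩⟩
    · obtain ⟨i, hi⟩ := Set.mem_iUnion.mp (hcov.ge (⟨hx, hxU⟩ : x ∈ (Z' : Set _)))
      exact Set.mem_iUnion.mpr ⟨i.succ, hi⟩
  · show ∀ i, ∃ U, IsOpen U ∧ U ∩ (⋃ j, ⋃ (_ : i ≤ j), r j) = r i
    refine Fin.cases ⟨U₁, hU₁, ?_⟩ fun i => ?_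
    · refine Set.Subset.antisymm (fun x hx => ?_) fun x hx => ?_
      · obtain ⟨hxU, hx⟩ := hx
        obtain ⟨j, -, hj⟩ := Set.mem_iUnion₂.mp hx
        induction j using Fin.cases with
        | zero => exact hj
        | succ j => exact absurd hxU (hrs j hj).2
      · exact ⟨(hr0 ▸ hx).1, Set.mem_iUnion₂.mpr ⟨0, le_rfl, hx⟩⟩
    · obtain ⟨U, hU, hUe⟩ := hopen i
      refine ⟨U, hU, Eq.trans ?_ hUe⟩
      congr 1
      refine Set.Subset.antisymm (fun x hx => ?_) fun x hx => ?_
      · obtain ⟨j, hj', hj⟩ := Set.mem_iUnion₂.mp hx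
        induction j using Fin.cases with
        | zero => exact absurd hj' (Fin.succ_pos i).not_ge
        | succ j => exact Set.mem_iUnion₂.mpr ⟨j, Fin.succ_le_succ_iff.mp hj', hj⟩
      · obtain ⟨j, hj', hj⟩ := Set.mem_iUnion₂.mp hx
        exact Set.mem_iUnion₂.mpr ⟨j.succ, Fin.succ_le_succ_iff.mpr hj', hj⟩

omit [IsNoetherianRing A₀] in
theorem range_baseChange_mono {A N : Type u} [CommRing A] [Algebra A₀ A] [AddCommGroup N]
    [Module A₀ N] {P Q : Submodule A₀ N} (h : P ≤ Q) :
    LinearMap.range (P.subtype.baseChange A) ≤ LinearMap.range (Q.subtype.baseChange A) := by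
  rw [← Submodule.subtype_comp_inclusion P Q h, LinearMap.baseChange_comp]
  exact LinearMap.range_comp_le_range _ _

omit [IsNoetherianRing A₀] [Algebra.FiniteType A₀ B₀] [Module.Finite B₀ M₀] in
set_option maxHeartbeats 1000000 in
/-- Flat truncations give flat graded pieces. -/
theorem flat_piece {A : Type u} [CommRing A] [Algebra A₀ A] (h : GrFlat A₀ M₀ J₀ A) (n : ℕ) :
    Module.Flat A
      ↥(Submodule.map
        (LinearMap.range (LinearMap.baseChange A
          ((J₀ ^ (n + 1) • (⊤ : Submodule B₀ M₀)).restrictScalars A₀).subtype)).mkQ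
        (LinearMap.range (LinearMap.baseChange A
          ((J₀ ^ n • (⊤ : Submodule B₀ M₀)).restrictScalars A₀).subtype))) := by
  let R : ℕ → Submodule A (A ⊗[A₀] M₀) := fun k => LinearMap.range (LinearMap.baseChange A
    ((J₀ ^ k • (⊤ : Submodule B₀ M₀)).restrictScalars A₀).subtype)
  have hflat : ∀ k, Module.Flat A ((A ⊗[A₀] M₀) ⧸ R k) := fun k => by
    let q : M₀ →ₗ[A₀] Nk M₀ J₀ k := (J₀ ^ k • (⊤ : Submodule B₀ M₀)).mkQ.restrictScalars A₀
    have hex : Function.Exact ((J₀ ^ k • (⊤ : Submodule B₀ M₀)).restrictScalars A₀).subtype q :=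
      fun x => (Submodule.Quotient.mk_eq_zero _).trans ⟨fun hx => ⟨⟨x, hx⟩, rfl⟩, fun ⟨y, hy⟩ => hy ▸ y.2⟩
    have hsur : Function.Surjective q := Submodule.mkQ_surjective _
    have hk : R k = LinearMap.ker (q.baseChange A) := SetLike.ext fun z =>
      ((lTensor_exact A hex hsur) z).symm
    haveI := h k
    exact Module.Flat.of_linearEquiv ((Submodule.quotEquivOfEq _ _ hk).trans
      ((q.baseChange A).quotKerEquivOfSurjective (LinearMap.lTensor_surjective A hsur)))
  have hle : R (n + 1) ≤ R n :=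
    range_baseChange_mono (fun x hx => Submodule.smul_mono (Ideal.pow_le_pow_right n.le_succ) le_rfl hx)
  haveI := hflat (n + 1)
  haveI := hflat n
  have hk : Submodule.map (R (n + 1)).mkQ (R n) = LinearMap.ker (Submodule.factor hle) := by
    rw [Submodule.factor, Submodule.mapQ, Submodule.ker_liftQ, LinearMap.comp_id, Submodule.ker_mkQ]
  show Module.Flat A ↥(Submodule.map (R (n + 1)).mkQ (R n))
  rw [hk]
  exact Groth.Agent.Lib.DR.FlatAcyclic.flat_ker _ (Submodule.factor_surjective hle)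

end Groth.Agent.H47.GrFlat
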