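import Groth.Agent.H47.LocusFlat
import Groth.Agent.Lib.Pure.UI
import Mathlib.LinearAlgebra.DirectSum.TensorProduct
import Mathlib.RingTheory.MvPolynomial.Basic
import Mathlib.LinearAlgebra.TensorProduct.Quotient

/-!
# The sum of the `J ^ k M` as a module over a polynomial ring, and its base change
-/

set_option autoImplicit false

universe u

open TensorProduct DirectSum

namespace Groth.Agent.H47.GrSum

section shift

variable {r : ℕ} {B : Type u} [CommRing B] (jv : Fin r → B) (M : Type u) [AddCommGroup M] [Module B M]

/-- `J ^ k M` -/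
abbrev F (k : ℕ) : Submodule B M := Ideal.span (Set.range jv) ^ k • ⊤

/-- the sum of all `J ^ k M` -/
abbrev V : Type u := ⨁ k : ℕ, ↥(F jv M k)

/-- multiplication by a generator -/
noncomputable def step (i : Fin r) (k : ℕ) : ↥(F jv M k) →ₗ[B] ↥(F jv M (k + 1)) where
  toFun x := ⟨jv i • x.1, by
    unfold F
    rw [pow_succ', mul_smul]
    exact Submodule.smul_mem_smul (Ideal.subset_span (Set.mem_range_self i)) x.2⟩
  map_add' x y := Subtype.ext (smul_add _ _ _)
  map_smul' b x := Subtype.ext (smul_comm (jv i) b x.1)

@[simp] theorem coe_step (i : Fin r) (k : ℕ) (x : ↥(F jv M k)) :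
    (step jv M i k x : M) = jv i • (x : M) := rfl

/-- the shift -/
noncomputable def sh (i : Fin r) : Module.End B (V jv M) :=
  DirectSum.toModule B ℕ (V jv M) fun k =>
    (DirectSum.lof B ℕ (fun k => ↥(F jv M k)) (k + 1)).comp (step jv M i k)

theorem sh_lof (i : Fin r) (k : ℕ) (x : ↥(F jv M k)) :
    sh jv M i (DirectSum.lof B ℕ (fun k => ↥(F jv M k)) k x) =
      DirectSum.lof B ℕ (fun k => ↥(F jv M k)) (k + 1) (step jv M i k x) := by
  simp [sh]

theorem sh_comm (i j : Fin r) : sh jv M i * sh jv M j = sh jv M j * sh jv M i := by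
  refine DirectSum.linearMap_ext B fun k => LinearMap.ext fun x => ?_
  simp only [LinearMap.comp_apply, Module.End.mul_apply, sh_lof]
  congr 1
  exact Subtype.ext (smul_comm (jv i) (jv j) x.1)

/-- the action of the polynomial ring -/
noncomputable def act : MvPolynomial (Fin r) B →ₐ[B] Module.End B (V jv M) :=
  letI := Algebra.adjoinCommRingOfComm B (s := Set.range (sh jv M)) (by
    rintro _ ⟨i, rfl⟩ _ ⟨j, rfl⟩
    exact sh_comm jv M i j)
  (Algebra.adjoin B (Set.range (sh jv M))).val.comp
    (MvPolynomial.aeval fun i => (⟨sh jv M i, Algebra.subset_adjoin (Set.mem_range_self i)⟩ :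
      Algebra.adjoin B (Set.range (sh jv M))))

theorem act_X (i : Fin r) : act jv M (MvPolynomial.X i) = sh jv M i := by
  simp [act]

noncomputable scoped instance polyModule : Module (MvPolynomial (Fin r) B) (V jv M) :=
  Module.compHom (V jv M) (act jv M).toRingHom

theorem smul_def (p : MvPolynomial (Fin r) B) (v : V jv M) : p • v = act jv M p v := rfl

scoped instance polyTower : IsScalarTower B (MvPolynomial (Fin r) B) (V jv M) :=
  ⟨fun b p v => by rw [smul_def, smul_def, map_smul, LinearMap.smul_apply]⟩

theorem X_smul_lof (i : Fin r) (k : ℕ) (x : ↥(F jv M k)) :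
    (MvPolynomial.X i : MvPolynomial (Fin r) B) • DirectSum.lof B ℕ (fun k => ↥(F jv M k)) k x =
      DirectSum.lof B ℕ (fun k => ↥(F jv M k)) (k + 1) (step jv M i k x) := by
  rw [smul_def, act_X, sh_lof]

instance finite [Module.Finite B M] : Module.Finite (MvPolynomial (Fin r) B) (V jv M) := by
  classical
  obtain ⟨G, hG⟩ := Module.Finite.fg_top (R := B) (M := M)
  let l := DirectSum.lof B ℕ (fun k => ↥(F jv M k))
  have h0 : ∀ m : M, m ∈ F jv M 0 := fun m => by
    simp [F]
  let e : M →ₗ[B] ↥(F jv M 0) := LinearMap.codRestrict _ LinearMap.id h0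
  let N : Submodule (MvPolynomial (Fin r) B) (V jv M) :=
    Submodule.span _ ((fun m => l 0 (e m)) '' (G : Set M))
  refine ⟨⟨G.image (fun m => l 0 (e m)), ?_⟩⟩
  rw [Finset.coe_image]
  show N = ⊤
  have key : ∀ k (x : ↥(F jv M k)), l k x ∈ N := by
    intro k
    induction k with
    | zero =>
      intro x
      have hle : (⊤ : Submodule B M) ≤ (N.restrictScalars B).comap ((l 0).comp e) := by
        rw [← hG, Submodule.span_le]
        intro m hm
        exact Submodule.subset_span ⟨m, hm, rfl⟩
      exact hle (Submodule.mem_top (x := x.1))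
    | succ k ih =>
      rintro ⟨y, hy⟩
      have hy' : y ∈ Ideal.span (Set.range jv) • F jv M k := by
        show y ∈ Ideal.span (Set.range jv) • Ideal.span (Set.range jv) ^ k • (⊤ : Submodule B M)
        rw [← mul_smul, ← pow_succ']
        exact hy
      have main : ∃ h, l (k + 1) ⟨y, h⟩ ∈ N := by
        clear hy
        refine Submodule.smul_induction_on hy' (fun a ha z hz => ?_) ?_
        · induction ha using Submodule.span_induction with
          | mem a ha =>
            obtain ⟨i, rfl⟩ := ha
            refine ⟨(step jv M i k ⟨z, hz⟩).2, ?_⟩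
            rw [show (⟨jv i • z, _⟩ : ↥(F jv M (k + 1))) = step jv M i k ⟨z, hz⟩ from rfl,
              ← X_smul_lof]
            exact N.smul_mem _ (ih _)
          | zero =>
            refine ⟨by simp, ?_⟩
            convert zero_mem N
            rw [show (⟨(0 : B) • z, _⟩ : ↥(F jv M (k + 1))) = 0 from Subtype.ext (zero_smul B z), map_zero]
          | add a b _ _ ha hb =>
            obtain ⟨h1, h1'⟩ := ha
            obtain ⟨h2, h2'⟩ := hb
            refine ⟨by rw [add_smul]; exact add_mem h1 h2, ?_⟩
            have e2 := add_mem h1' h2'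
            rw [← map_add] at e2
            convert e2 using 2
            exact Subtype.ext (add_smul a b z)
          | smul c a _ ha =>
            obtain ⟨h1, h1'⟩ := ha
            refine ⟨by rw [smul_eq_mul, mul_smul]; exact Submodule.smul_mem _ _ h1, ?_⟩
            have e2 := (N.restrictScalars B).smul_mem c h1'
            rw [← map_smul] at e2
            rw [Submodule.restrictScalars_mem] at e2
            convert e2 using 2
            exact Subtype.ext (mul_smul c a z)
        · rintro a b ⟨h1, h1'⟩ ⟨h2, h2'⟩
          exact ⟨add_mem h1 h2, by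
            have e2 := add_mem h1' h2'
            rw [← map_add] at e2
            exact e2⟩
      obtain ⟨h, hh⟩ := main
      exact hh
  rw [eq_top_iff]
  intro v _
  induction v using DirectSum.induction_on with
  | zero => exact zero_mem _
  | of k x => exact key k x
  | add a b ha hb => exact add_mem (ha trivial) (hb trivial)

end shift

section baseChange

variable {C A P B : Type u} [CommRing C] [CommRing A] [CommRing P] [CommRing B] [Algebra C A]
  [Algebra C P] [Algebra A B] [Algebra C B] [IsScalarTower C A B] [Algebra P B] [IsScalarTower C P B]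
  {M₁ M : Type u} [AddCommGroup M₁] [Module C M₁] [Module P M₁] [IsScalarTower C P M₁]
  [AddCommGroup M] [Module B M] [Module A M] [IsScalarTower A B M] [Module P M] [IsScalarTower P B M]
  [Module C M] [IsScalarTower C A M] [IsScalarTower C P M] [IsScalarTower C B M]

theorem map_mem {r : ℕ} (jv : Fin r → P) (φ : M₁ →ₗ[P] M) (k : ℕ) {x : M₁}
    (hx : x ∈ F jv M₁ k) : φ x ∈ F (fun i => algebraMap P B (jv i)) M k := by
  refine Submodule.smul_induction_on hx (fun a ha z _ => ?_) fun a b ha hb => by
    rw [map_add]; exact add_mem ha hb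
  rw [map_smul, ← algebraMap_smul B a (φ z)]
  refine Submodule.smul_mem_smul ?_ Submodule.mem_top
  have h := Ideal.mem_map_of_mem (algebraMap P B) ha
  rw [Ideal.map_pow, Ideal.map_span, ← Set.range_comp] at h
  exact h

/-- the comparison of the pieces -/
noncomputable def piece {r : ℕ} (jv : Fin r → P) (φ : M₁ →ₗ[P] M) (k : ℕ) :
    ↥(F jv M₁ k) →ₗ[P] ↥(F (fun i => algebraMap P B (jv i)) M k) where
  toFun x := ⟨φ x.1, map_mem (B := B) jv φ k x.2⟩
  map_add' x y := Subtype.ext (map_add φ _ _)
  map_smul' b x := Subtype.ext (map_smul φ b x.1)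

set_option maxHeartbeats 1000000 in
/-- With flat truncations the pieces base change. -/
theorem isBaseChange_piece {r : ℕ} (jv : Fin r → P) (φ : M₁ →ₗ[P] M)
    (hφ : IsBaseChange A (φ.restrictScalars C)) (k : ℕ) [Module.Flat C (M₁ ⧸ F jv M₁ k)] :
    IsBaseChange A ((piece (B := B) jv φ k).restrictScalars C) := by
  let ι := (F jv M₁ k).subtype.restrictScalars C
  have hui := Lib.Pure.UI.of_flat_right (R := C) (M := M₁) (N := M₁ ⧸ F jv M₁ k) (L₀ := ↥(F jv M₁ k))
    ι ((F jv M₁ k).mkQ.restrictScalars C) Subtype.val_injective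
    (fun x => by
      rw [LinearMap.restrictScalars_apply, Submodule.mkQ_apply, Submodule.Quotient.mk_eq_zero]
      exact ⟨fun h => ⟨⟨x, h⟩, rfl⟩, by rintro ⟨y, rfl⟩; exact y.2⟩)
    (Submodule.mkQ_surjective _)
  have hinj : Function.Injective (ι.lTensor A) := by
    rw [LinearMap.lTensor_inj_iff_rTensor_inj]
    exact hui A
  let L := LinearMap.liftBaseChange A ((piece (B := B) jv φ k).restrictScalars C)
  have hL : ∀ w, (L w : M) = hφ.equiv (ι.lTensor A w) := by
    intro w
    induction w using TensorProduct.induction_on with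
    | zero => simp
    | add a b ha hb => simp only [map_add, Submodule.coe_add, ha, hb]
    | tmul a x =>
      rw [LinearMap.liftBaseChange_tmul, LinearMap.lTensor_tmul, IsBaseChange.equiv_tmul]
      rfl
  refine IsBaseChange.of_equiv (LinearEquiv.ofBijective L ⟨fun a b hab => ?_, fun y => ?_⟩)
    fun x => by
      show L ((1 : A) ⊗ₜ x) = _
      rw [LinearMap.liftBaseChange_tmul, one_smul]
  · refine hinj (hφ.equiv.injective ?_)
    rw [← hL, ← hL, hab]
  · -- the image is the whole piece
    let Sk : Submodule A M := (LinearMap.range L).map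
      (((F (fun i => algebraMap P B (jv i)) M k).subtype).restrictScalars A)
    suffices h : (y : M) ∈ Sk by
      obtain ⟨_, ⟨w, rfl⟩, hw⟩ := h
      exact ⟨w, Subtype.ext hw⟩
    have hspan : Ideal.span (Set.range fun i => algebraMap P B (jv i)) ^ k =
        (Ideal.span (Set.range jv) ^ k).map (algebraMap P B) := by
      rw [Ideal.map_pow, Ideal.map_span, ← Set.range_comp]
      rfl
    have hgen : ∀ a ∈ Ideal.span (Set.range jv) ^ k, ∀ m : M, algebraMap P B a • m ∈ Sk := by
      intro a ha m
      obtain ⟨w, rfl⟩ := hφ.equiv.surjective m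
      induction w using TensorProduct.induction_on with
      | zero => simp
      | add x y hx hy => rw [map_add, smul_add]; exact add_mem hx hy
      | tmul c z =>
        refine ⟨_, ⟨c ⊗ₜ ⟨a • z, Submodule.smul_mem_smul ha Submodule.mem_top⟩, rfl⟩, ?_⟩
        rw [IsBaseChange.equiv_tmul, LinearMap.restrictScalars_apply, Submodule.coe_subtype,
          LinearMap.liftBaseChange_tmul, Submodule.coe_smul_of_tower, smul_comm]
        show c • φ (a • z) = _
        rw [map_smul, algebraMap_smul]
        rfl
    refine Submodule.smul_induction_on y.2 (fun b hb m _ => ?_) fun a b ha hb => add_mem ha hb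
    rw [hspan] at hb
    induction hb using Submodule.span_induction generalizing m with
    | mem b hb =>
      obtain ⟨a, ha, rfl⟩ := hb
      exact hgen a ha m
    | zero => rw [zero_smul]; exact zero_mem _
    | add a b _ _ ha hb => rw [add_smul]; exact add_mem (ha _ trivial) (hb _ trivial)
    | smul c a _ ha => rw [smul_eq_mul, mul_comm, mul_smul]; exact ha _ trivial

/-- the comparison of the sums -/
noncomputable def theta {r : ℕ} (jv : Fin r → P) (φ : M₁ →ₗ[P] M) :
    V jv M₁ →ₗ[P] V (fun i => algebraMap P B (jv i)) M :=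
  DirectSum.lmap fun k => piece (B := B) jv φ k

set_option maxHeartbeats 1000000 in
theorem isBaseChange_theta {r : ℕ} (jv : Fin r → P) (φ : M₁ →ₗ[P] M)
    (hφ : IsBaseChange A (φ.restrictScalars C)) (hflat : ∀ k, Module.Flat C (M₁ ⧸ F jv M₁ k)) :
    IsBaseChange A ((theta (B := B) jv φ).restrictScalars C) := by
  classical
  have hk := fun k => isBaseChange_piece (B := B) jv φ hφ k
  let e := (TensorProduct.directSumRight C A A (fun k => ↥(F jv M₁ k))).trans
    (DirectSum.congrLinearEquiv (fun k => (hk k).equiv))
  refine IsBaseChange.of_equiv e fun v => ?_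
  induction v using DirectSum.induction_on with
  | zero => simp
  | add a b ha hb => simp only [tmul_add, map_add, ha, hb]
  | of k x =>
    show DirectSum.congrLinearEquiv (fun k => (hk k).equiv)
      (TensorProduct.directSumRight C A A (fun k => ↥(F jv M₁ k))
        ((1 : A) ⊗ₜ DirectSum.lof C ℕ (fun k => ↥(F jv M₁ k)) k x)) = _
    rw [TensorProduct.directSumRight_tmul_lof, LinearMap.restrictScalars_apply, theta]
    rw [show DirectSum.of (fun k => ↥(F jv M₁ k)) k x = DirectSum.lof P ℕ (fun k => ↥(F jv M₁ k)) k x
      from rfl, DirectSum.lmap_lof]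
    rw [DirectSum.coe_congrLinearEquiv, DirectSum.lmap_lof]
    refine congrArg _ ?_
    show (hk k).equiv ((1 : A) ⊗ₜ[C] x) = _
    rw [IsBaseChange.equiv_tmul, one_smul]
    rfl

end baseChange

end Groth.Agent.H47.GrSum
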