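import Groth.Agent.H47.GrSum
import Groth.Agent.H47.GrModel

/-!
# Finite presentation of the sum of the `J ^ k M` under flat graded pieces
-/

set_option autoImplicit false

universe u

open TensorProduct DirectSum MvPolynomial

namespace Groth.Agent.H47.GrSum

attribute [local instance] MvPolynomial.algebraMvPolynomial

section core

variable {C A P B : Type u} [CommRing C] [CommRing A] [CommRing P] [CommRing B] [Algebra C A]
  [Algebra C P] [Algebra A B] [Algebra C B] [IsScalarTower C A B] [Algebra P B] [IsScalarTower C P B]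
  {M₁ M : Type u} [AddCommGroup M₁] [Module C M₁] [Module P M₁] [IsScalarTower C P M₁]
  [AddCommGroup M] [Module B M] [Module A M] [IsScalarTower A B M] [Module P M] [IsScalarTower P B M]
  [Module C M] [IsScalarTower C A M] [IsScalarTower C P M] [IsScalarTower C B M]

omit [Algebra C A] [Algebra C P] [Algebra A B] [Algebra C B] [IsScalarTower C A B]
  [IsScalarTower C P B] [Module C M₁] [IsScalarTower C P M₁] [Module A M] [IsScalarTower A B M]
  [Module C M] [IsScalarTower C A M] [IsScalarTower C P M] [IsScalarTower C B M] in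
theorem theta_smul {r : ℕ} (jv : Fin r → P) (φ : M₁ →ₗ[P] M) (p : MvPolynomial (Fin r) P)
    (v : V jv M₁) : theta (B := B) jv φ (p • v) =
      MvPolynomial.map (algebraMap P B) p • theta (B := B) jv φ v := by
  induction p using MvPolynomial.induction_on generalizing v with
  | C a =>
    rw [MvPolynomial.map_C, ← MvPolynomial.algebraMap_eq, ← MvPolynomial.algebraMap_eq,
      algebraMap_smul, algebraMap_smul, map_smul, algebraMap_smul]
  | add p q hp hq => rw [add_smul, map_add, map_add, add_smul, hp, hq]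
  | mul_X p i hp =>
    rw [mul_smul, hp, map_mul, MvPolynomial.map_X, mul_smul]
    congr 1
    induction v using DirectSum.induction_on with
    | zero => simp
    | add a b ha hb => simp only [smul_add, map_add, ha, hb]
    | of k x =>
      rw [show DirectSum.of (fun k => ↥(F jv M₁ k)) k x = DirectSum.lof P ℕ (fun k => ↥(F jv M₁ k)) k x
        from rfl, X_smul_lof]
      rw [theta, DirectSum.lmap_lof, DirectSum.lmap_lof]
      show _ = (X i : MvPolynomial (Fin r) B) •
        DirectSum.lof B ℕ (fun k => ↥(F (fun i => algebraMap P B (jv i)) M k)) k (piece jv φ k x)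
      rw [X_smul_lof]
      show DirectSum.lof B ℕ (fun k => ↥(F (fun i => algebraMap P B (jv i)) M k)) (k + 1) _ = _
      congr 1
      exact Subtype.ext (by
        show φ (jv i • x.1) = algebraMap P B (jv i) • φ x.1
        rw [map_smul, algebraMap_smul])

set_option maxHeartbeats 1000000 in
theorem fp_V [IsNoetherianRing P] [Module.Finite P M₁]
    (hsurj : Function.Surjective
      (Algebra.TensorProduct.productMap (IsScalarTower.toAlgHom C A B) (IsScalarTower.toAlgHom C P B)))
    {r : ℕ} (jv : Fin r → P) (φ : M₁ →ₗ[P] M) (hφ : IsBaseChange A (φ.restrictScalars C))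
    (hflat : ∀ k, Module.Flat C (M₁ ⧸ F jv M₁ k)) :
    Module.FinitePresentation (MvPolynomial (Fin r) B) (V (fun i => algebraMap P B (jv i)) M) := by
  let V' := V (fun i => algebraMap P B (jv i)) M
  letI : Module (MvPolynomial (Fin r) P) V' :=
    Module.compHom V' (MvPolynomial.map (σ := Fin r) (algebraMap P B))
  haveI : IsScalarTower (MvPolynomial (Fin r) P) (MvPolynomial (Fin r) B) V' :=
    IsScalarTower.of_algebraMap_smul fun p v => rfl
  haveI : IsScalarTower C (MvPolynomial (Fin r) P) (MvPolynomial (Fin r) B) :=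
    IsScalarTower.of_algebraMap_eq fun c => by
      rw [MvPolynomial.algebraMap_def, MvPolynomial.algebraMap_apply, MvPolynomial.algebraMap_apply,
        MvPolynomial.map_C, ← IsScalarTower.algebraMap_apply]
  haveI : IsScalarTower A (MvPolynomial (Fin r) B) V' := IsScalarTower.to₁₃₄ A B (MvPolynomial (Fin r) B) V'
  haveI : IsScalarTower C (MvPolynomial (Fin r) P) V' :=
    IsScalarTower.of_algebraMap_smul fun c v => by
      show MvPolynomial.map (algebraMap P B) (algebraMap C (MvPolynomial (Fin r) P) c) • v = c • v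
      rw [MvPolynomial.algebraMap_apply, MvPolynomial.map_C, ← IsScalarTower.algebraMap_apply,
        ← MvPolynomial.algebraMap_eq, algebraMap_smul, algebraMap_smul]
  haveI : IsScalarTower C (MvPolynomial (Fin r) P) (V jv M₁) :=
    IsScalarTower.to₁₃₄ C P (MvPolynomial (Fin r) P) (V jv M₁)
  let θ : V jv M₁ →ₗ[MvPolynomial (Fin r) P] V' :=
    { toFun := theta (B := B) jv φ
      map_add' := map_add _
      map_smul' := fun p v => theta_smul jv φ p v }
  have hθ : IsBaseChange A (θ.restrictScalars C) := isBaseChange_theta (B := B) jv φ hφ hflat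
  haveI : Module.FinitePresentation (MvPolynomial (Fin r) P) (V jv M₁) :=
    Module.finitePresentation_of_finite _ _
  refine LocusFlat.fp_of_baseChange (C := C) (A := A) (fun s => ?_) θ hθ
  -- the comparison of the polynomial rings is surjective
  induction s using MvPolynomial.induction_on with
  | C b =>
    obtain ⟨w, rfl⟩ := hsurj b
    induction w using TensorProduct.induction_on with
    | zero => exact ⟨0, by simp⟩
    | add x y hx hy =>
      obtain ⟨x', hx'⟩ := hx
      obtain ⟨y', hy'⟩ := hy
      exact ⟨x' + y', by rw [map_add, hx', hy', map_add, MvPolynomial.C_add]⟩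
    | tmul a p =>
      refine ⟨a ⊗ₜ MvPolynomial.C p, ?_⟩
      rw [Algebra.TensorProduct.productMap_apply_tmul, Algebra.TensorProduct.productMap_apply_tmul,
        MvPolynomial.C_mul]
      congr 1
      · simp [MvPolynomial.algebraMap_apply]
  | add p q hp hq =>
    obtain ⟨x, hx⟩ := hp
    obtain ⟨y, hy⟩ := hq
    exact ⟨x + y, by rw [map_add, hx, hy]⟩
  | mul_X p i hp =>
    obtain ⟨x, hx⟩ := hp
    refine ⟨x * (1 ⊗ₜ MvPolynomial.X i), ?_⟩
    rw [map_mul, hx]
    congr 1
    simp [MvPolynomial.algebraMap_def]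
    exact MvPolynomial.map_X _ i

end core

section model

open Groth.Agent.H47.GrFlat

variable {R P A B : Type u} [CommRing R] [CommRing P] [CommRing A] [CommRing B] [IsNoetherianRing R]
  [Algebra R P] [Algebra.FiniteType R P] [Algebra R A] [Algebra A B]
  {M₀ M : Type u} [AddCommGroup M₀] [Module R M₀] [Module P M₀] [IsScalarTower R P M₀] [Module.Finite P M₀]
  [AddCommGroup M] [Module A M] [Module B M] [IsScalarTower A B M]

set_option maxHeartbeats 1000000 in
theorem fp_V_of_model (J₀ : Ideal P) (J : Ideal B) (π : A ⊗[R] P →ₐ[A] B) (e : A ⊗[R] M₀ ≃ₗ[A] M)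
    (hπ : Function.Surjective π) (hJ : (ext R A J₀).map π = J) (he : ∀ s w, e (s • w) = π s • e w)
    (hgr : GrFlat R M₀ J₀ A) :
    ∃ (r : ℕ) (jv : Fin r → B), Ideal.span (Set.range jv) = J ∧
      Module.FinitePresentation (MvPolynomial (Fin r) B) (V jv M) := by
  obtain ⟨C, hCfg, hC⟩ := exists_fg_subalgebra_grFlat J₀ A hgr
  have : Algebra.FiniteType R C := C.fg_iff_finiteType.1 hCfg
  have : IsNoetherianRing C := Algebra.FiniteType.isNoetherianRing R C
  have : IsNoetherianRing (C ⊗[R] P) := Algebra.FiniteType.isNoetherianRing C (C ⊗[R] P)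
  have : Module.Finite (C ⊗[R] P) (C ⊗[R] M₀) := finite_tensor
  obtain ⟨r, jv, hjv⟩ := Submodule.fg_iff_exists_fin_generating_family.1
    (IsNoetherian.noetherian (ext R (↥C) J₀))
  let inc : (C ⊗[R] P) →ₐ[R] A ⊗[R] P := Algebra.TensorProduct.map C.val (AlgHom.id R P)
  letI : Algebra (C ⊗[R] P) B := (π.toRingHom.comp inc.toRingHom).toAlgebra
  haveI : IsScalarTower C (C ⊗[R] P) B :=
    IsScalarTower.of_algebraMap_eq (R := C) (S := C ⊗[R] P) (A := B) fun c => by
      show algebraMap A B (c : A) = π (inc (c ⊗ₜ 1))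
      simp only [inc, Algebra.TensorProduct.map_tmul, map_one]
      exact (π.commutes _).symm
  letI : Module (C ⊗[R] P) M := Module.compHom M (algebraMap (C ⊗[R] P) B)
  haveI : IsScalarTower (C ⊗[R] P) B M := IsScalarTower.of_algebraMap_smul fun _ _ => rfl
  haveI : IsScalarTower C B M := IsScalarTower.of_algebraMap_smul fun c m => by
    show algebraMap A B (c : A) • m = _
    rw [algebraMap_smul]; rfl
  haveI : IsScalarTower C (C ⊗[R] P) M := IsScalarTower.to₁₂₄ C (C ⊗[R] P) B M
  let ι : C ⊗[R] M₀ →ₗ[R] A ⊗[R] M₀ := C.val.toLinearMap.rTensor M₀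
  have hι : ∀ s w, ι (s • w) = inc s • ι w := rTensor_semilinear C.val C.val.toLinearMap
    (fun a x => by simp)
  let φ : (C ⊗[R] M₀) →ₗ[C ⊗[R] P] M :=
    { toFun := fun w => e (ι w)
      map_add' := fun a b => by rw [map_add, map_add]
      map_smul' := fun s w => by
        rw [hι, he]
        rfl }
  have hφ : IsBaseChange A (φ.restrictScalars C) := by
    refine IsBaseChange.of_equiv ((AlgebraTensorModule.cancelBaseChange R C A A M₀).trans e) fun w => ?_
    show e (AlgebraTensorModule.cancelBaseChange R C A A M₀ ((1 : A) ⊗ₜ w)) = e (ι w)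
    congr 1
    induction w using TensorProduct.induction_on with
    | zero => simp
    | add a b ha hb => simp only [tmul_add, map_add, ha, hb]
    | tmul c m =>
      rw [AlgebraTensorModule.cancelBaseChange_tmul]
      show ((c : A) * 1) ⊗ₜ[R] m = (c : A) ⊗ₜ[R] m
      rw [mul_one]
  have hsurj : Function.Surjective (Algebra.TensorProduct.productMap (IsScalarTower.toAlgHom C A B)
      (IsScalarTower.toAlgHom C (C ⊗[R] P) B)) := by
    intro b
    obtain ⟨w, rfl⟩ := hπ b
    induction w using TensorProduct.induction_on with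
    | zero => exact ⟨0, by rw [map_zero, map_zero]⟩
    | add a c ha hc =>
      obtain ⟨x, hx⟩ := ha
      obtain ⟨y, hy⟩ := hc
      exact ⟨x + y, by rw [map_add, map_add, hx, hy]⟩
    | tmul a p =>
      refine ⟨a ⊗ₜ ((1 : C) ⊗ₜ p), ?_⟩
      rw [Algebra.TensorProduct.productMap_apply_tmul]
      show algebraMap A B a * π (inc ((1 : C) ⊗ₜ p)) = _
      simp only [inc, Algebra.TensorProduct.map_tmul, map_one, AlgHom.id_apply]
      rw [← Algebra.smul_def, ← map_smul, TensorProduct.smul_tmul', smul_eq_mul, mul_one]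
  have hflat : ∀ k, Module.Flat C ((C ⊗[R] M₀) ⧸ F jv (C ⊗[R] M₀) k) := fun k => by
    obtain ⟨ek⟩ := nonempty_truncation_equiv (A := C) (B := C ⊗[R] P) (N := C ⊗[R] M₀) J₀
      (ext R C J₀) (AlgHom.id C (C ⊗[R] P)) (LinearEquiv.refl C (C ⊗[R] M₀)) Function.surjective_id
      (Ideal.map_id _) (fun _ _ => rfl) k
    have := hC k
    have h := Module.Flat.of_linearEquiv (M := C ⊗[R] Nk M₀ J₀ k) ek.symm
    show Module.Flat C ((C ⊗[R] M₀) ⧸
      (Ideal.span (Set.range jv) ^ k • (⊤ : Submodule (C ⊗[R] P) (C ⊗[R] M₀))))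
    rw [show Ideal.span (Set.range jv) = ext R C J₀ from hjv]
    exact h
  refine ⟨r, fun i => algebraMap (C ⊗[R] P) B (jv i), ?_, fp_V (A := A) hsurj jv φ hφ hflat⟩
  rw [← hJ, Set.range_comp' (algebraMap (C ⊗[R] P) B) jv, ← Ideal.map_span,
    show Ideal.span (Set.range jv) = ext R C J₀ from hjv]
  show Ideal.map (algebraMap (C ⊗[R] P) B)
      (Ideal.map ((Algebra.TensorProduct.includeRight : P →ₐ[R] C ⊗[R] P) : P →+* C ⊗[R] P) J₀) =
    Ideal.map (π : A ⊗[R] P →+* B)
      (Ideal.map ((Algebra.TensorProduct.includeRight : P →ₐ[R] A ⊗[R] P) : P →+* A ⊗[R] P) J₀)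
  rw [Ideal.map_map, Ideal.map_map]
  congr 1
end model

/-- Flat graded pieces: the sum is finitely presented. -/
theorem exists_fp_V {A B : Type u} [CommRing A] [CommRing B] [Algebra A B]
    [Algebra.FinitePresentation A B] (J : Ideal B) (hJ : J.FG) (M : Type u) [AddCommGroup M]
    [Module B M] [Module A M] [IsScalarTower A B M] [Module.FinitePresentation B M]
    (h : ∀ k, Module.Flat A (M ⧸ (J ^ k • ⊤ : Submodule B M))) :
    ∃ (r : ℕ) (jv : Fin r → B), Ideal.span (Set.range jv) = J ∧
      Module.FinitePresentation (MvPolynomial (Fin r) B) (V jv M) := by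
  obtain ⟨R, hRfg, n, M₀, _, _, _, _, _, J₀, π, e, hπ, hJ', he⟩ := GrFlat.exists_model A B J hJ M
  have : Algebra.FiniteType ℤ R := R.fg_iff_finiteType.1 hRfg
  have : IsNoetherianRing R := Algebra.FiniteType.isNoetherianRing ℤ R
  refine fp_V_of_model J₀ J π e hπ hJ' he fun k => ?_
  obtain ⟨ek⟩ := GrFlat.nonempty_truncation_equiv J₀ J π e hπ hJ' he k
  have := h k
  exact Module.Flat.of_linearEquiv ek

end Groth.Agent.H47.GrSum
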