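import Groth.Agent.H47.FlatKernel
import Groth.Agent.H19.FlatLocus.Main
import Groth.Agent.H19.FlatLocus.Model
import Mathlib.RingTheory.Localization.Away.Basic
import Mathlib.RingTheory.Localization.Finiteness
import Mathlib.Algebra.Module.LocalizedModule.Exact

/-!
# The locus where a map is injective with flat cokernel is open
-/

set_option autoImplicit false

universe u

open TensorProduct

namespace Groth.Agent.H47.InjCoker

variable {A B : Type u} [CommRing A] [CommRing B] [Algebra A B]
  {N M : Type u} [AddCommGroup N] [Module B N] [AddCommGroup M] [Module A M] [Module B M]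
  [IsScalarTower A B M]

/-- `u` is injective at `q` with cokernel flat at `q`. -/
def InjFlatAt (u : N →ₗ[B] M) (q : PrimeSpectrum B) : Prop :=
  (∀ z, u z = 0 → ∃ s ∉ q.asIdeal, s • z = 0) ∧
    Module.Flat A (LocalizedModule q.asIdeal.primeCompl (M ⧸ LinearMap.range u))

set_option maxHeartbeats 1000000 in
/-- A single element kills the kernel near a point where `u` is injective with flat cokernel. -/
theorem exists_kills [Algebra.FinitePresentation A B] [Module.FinitePresentation B N]
    [Module.FinitePresentation B M] (u : N →ₗ[B] M) (q : PrimeSpectrum B) (hq : InjFlatAt (A := A) u q) :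
    ∃ s ∉ q.asIdeal, (∀ z, u z = 0 → ∃ n : ℕ, s ^ n • z = 0) ∧
      ∀ q' : PrimeSpectrum B, s ∉ q'.asIdeal →
        Module.Flat A (LocalizedModule q'.asIdeal.primeCompl (M ⧸ LinearMap.range u)) := by
  classical
  let C := M ⧸ LinearMap.range u
  have hR : (LinearMap.range u).FG := Module.Finite.fg_top.map u |> fun h => by
    rwa [Submodule.map_top] at h
  have : Module.FinitePresentation B C :=
    Module.finitePresentation_of_surjective (LinearMap.range u).mkQ (Submodule.mkQ_surjective _)
      (by rwa [Submodule.ker_mkQ])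
  obtain ⟨_, ⟨g, rfl⟩, hqg, hg⟩ := PrimeSpectrum.isTopologicalBasis_basic_opens.exists_subset_of_mem_open
    (show q ∈ {p : PrimeSpectrum B | Module.Flat A (LocalizedModule p.asIdeal.primeCompl C)} from hq.2)
    (H19.FlatLocus.isOpen_flat_of_finitePresentation (R := A) (M := C))
  let W := Submonoid.powers g
  let Bg := Localization.Away g
  have : Algebra.FinitePresentation B Bg := IsLocalization.Away.finitePresentation g
  have : Algebra.FinitePresentation A Bg := Algebra.FinitePresentation.trans A B Bg
  let lN := LocalizedModule.mkLinearMap W N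
  let lM := LocalizedModule.mkLinearMap W M
  let lC := LocalizedModule.mkLinearMap W C
  have : Module.FinitePresentation Bg (LocalizedModule W N) :=
    FinitePresentation.of_isBaseChange lN ((isLocalizedModule_iff_isBaseChange W Bg lN).1 inferInstance)
  have : Module.FinitePresentation Bg (LocalizedModule W M) :=
    FinitePresentation.of_isBaseChange lM ((isLocalizedModule_iff_isBaseChange W Bg lM).1 inferInstance)
  have : Module.FinitePresentation Bg (LocalizedModule W C) :=
    FinitePresentation.of_isBaseChange lC ((isLocalizedModule_iff_isBaseChange W Bg lC).1 inferInstance)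
  let ug : LocalizedModule W N →ₗ[Bg] LocalizedModule W M :=
    IsLocalizedModule.mapExtendScalars W lN lM Bg u
  let pg : LocalizedModule W M →ₗ[Bg] LocalizedModule W C :=
    IsLocalizedModule.mapExtendScalars W lM lC Bg (LinearMap.range u).mkQ
  have hflat : Module.Flat A (LocalizedModule W C) := by
    rw [Module.Flat.iff_lTensor_injective']
    intro J
    refine H19.FlatLocus.lTensor_injective_of_killed W lC J.subtype fun y hy => ?_
    -- the annihilator contains a power of `g`
    let I : Ideal B := LinearMap.ker (LinearMap.toSpanSingleton B _ y)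
    have hI : g ∈ I.radical := by
      rw [Ideal.radical_eq_sInf]
      refine Ideal.mem_sInf.2 fun {p} hp' => ?_
      obtain ⟨hp, hpr⟩ := hp'
      by_contra hgp
      have : Module.Flat A (LocalizedModule p.primeCompl C) := hg (show ⟨p, hpr⟩ ∈ PrimeSpectrum.basicOpen g from hgp)
      obtain ⟨s, hs, hsy⟩ := (H19.FlatLocus.flat_iff_killed p.primeCompl
        (LocalizedModule.mkLinearMap p.primeCompl C)).1 this J y hy
      exact hs (hp hsy)
    obtain ⟨n, hn⟩ := hI
    exact ⟨g ^ n, ⟨n, rfl⟩, hn⟩
  have hp : Function.Surjective pg :=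
    IsLocalizedModule.map_surjective W lM lC _ (Submodule.mkQ_surjective _)
  have hexact : Function.Exact ug pg :=
    IsLocalizedModule.map_exact W lN lM lC u _ (fun x => by
      rw [Submodule.mkQ_apply, Submodule.Quotient.mk_eq_zero]
      rfl)
  have hI : Module.FinitePresentation Bg ↥(LinearMap.ker pg) := FlatKernel.fp_ker (R := A) pg hp
  let ug' : LocalizedModule W N →ₗ[Bg] ↥(LinearMap.ker pg) :=
    ug.codRestrict _ fun z => hexact.apply_apply_eq_zero z
  have hug' : Function.Surjective ug' := fun y => by
    obtain ⟨z, hz⟩ := (hexact y.1).1 y.2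
    exact ⟨z, Subtype.ext hz⟩
  obtain ⟨T, hT⟩ := Module.FinitePresentation.fg_ker ug' hug'
  -- each generator is killed outside `q`
  have hgen : ∀ t ∈ T, ∃ s ∉ q.asIdeal, s • t = 0 := by
    intro t ht
    have ht0 : ug t = 0 := congrArg Subtype.val (show t ∈ LinearMap.ker ug' from hT ▸ Submodule.subset_span ht)
    obtain ⟨⟨z, w⟩, hzw⟩ := IsLocalizedModule.surj W lN t
    have h0 : lM (u z) = 0 := by
      rw [← IsLocalizedModule.map_apply W lN lM, ← hzw, Submonoid.smul_def, map_smul]
      show (w : B) • ug t = 0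
      rw [ht0, smul_zero]
    obtain ⟨w', hw'⟩ := (IsLocalizedModule.eq_zero_iff W lM).1 h0
    rw [Submonoid.smul_def, ← map_smul] at hw'
    obtain ⟨s, hs, hsz⟩ := hq.1 _ hw'
    have hgq : ∀ v ∈ W, v ∉ q.asIdeal := by
      rintro _ ⟨n, rfl⟩ hm
      exact hqg (q.isPrime.mem_of_pow_mem n hm)
    refine ⟨s * w' * w, q.isPrime.mul_notMem (q.isPrime.mul_notMem hs (hgq _ w'.2)) (hgq _ w.2), ?_⟩
    rw [mul_smul]
    change (s * w') • (w • t) = 0
    rw [hzw, ← map_smul, mul_smul, hsz, map_zero]
  choose! σ hσ hσ0 using hgen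
  refine ⟨g * ∏ t ∈ T, σ t, q.isPrime.mul_notMem hqg ?_, fun z hz => ?_, fun q' hq' => ?_⟩
  · intro h
    obtain ⟨t, ht, hmem⟩ := (q.isPrime.prod_mem_iff).1 h
    exact hσ t ht hmem
  · have hzl : lN z ∈ LinearMap.ker ug' := Subtype.ext (by
      show ug (lN z) = 0
      rw [IsLocalizedModule.mapExtendScalars_apply_apply, IsLocalizedModule.map_apply, hz, map_zero])
    rw [← hT] at hzl
    have hkill : ∀ y ∈ Submodule.span Bg (T : Set (LocalizedModule W N)), (∏ t ∈ T, σ t) • y = 0 := by
      intro y hy
      induction hy using Submodule.span_induction with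
      | zero => rw [smul_zero]
      | add a b _ _ ha hb => rw [smul_add, ha, hb, add_zero]
      | smul r a _ ha => rw [smul_comm, ha, smul_zero]
      | mem t ht => rw [← Finset.prod_erase_mul T σ ht, mul_smul, hσ0 t ht, smul_zero]
    have h1 := hkill _ hzl
    rw [← map_smul] at h1
    obtain ⟨⟨_, n, rfl⟩, hn⟩ := (IsLocalizedModule.eq_zero_iff W lN).1 h1
    refine ⟨n + 1, ?_⟩
    rw [mul_pow, mul_comm, pow_succ (∏ t ∈ T, σ t), pow_succ g]
    have hn' : g ^ n • (∏ t ∈ T, σ t) • z = 0 := hn
    calc ((∏ t ∈ T, σ t) ^ n * (∏ t ∈ T, σ t) * (g ^ n * g)) • z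
        = ((∏ t ∈ T, σ t) ^ n * g) • (g ^ n • (∏ t ∈ T, σ t) • z) := by
          rw [← mul_smul, ← mul_smul]; congr 1; ring
      _ = 0 := by rw [hn', smul_zero]
  · exact hg (show q' ∈ PrimeSpectrum.basicOpen g from fun h => hq' (q'.asIdeal.mul_mem_right _ h))

/-- The locus of points where `u` is injective with flat cokernel is open. -/
theorem isOpen_injFlatAt [Algebra.FinitePresentation A B] [Module.FinitePresentation B N]
    [Module.FinitePresentation B M] (u : N →ₗ[B] M) :
    IsOpen {q : PrimeSpectrum B | InjFlatAt (A := A) u q} := by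
  rw [isOpen_iff_forall_mem_open]
  intro q hq
  obtain ⟨s, hs, hker, hflat⟩ := exists_kills u q hq
  exact ⟨PrimeSpectrum.basicOpen s, fun q' hq' => ⟨fun z hz =>
    (hker z hz).elim fun n hn => ⟨s ^ n, fun h => hq' (q'.isPrime.mem_of_pow_mem n h), hn⟩,
      hflat q' hq'⟩, (PrimeSpectrum.basicOpen s).isOpen, hs⟩

end Groth.Agent.H47.InjCoker
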