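import Groth.Agent.H47.InjCokerScheme
import Groth.Agent.H47.InjFlatBC
import Groth.Agent.H47.ChartPullback
import Groth.Agent.Lib.CechRes.PullSec
import Groth.Agent.Lib.Flat55.FlatOverAt

/-!
# Injectivity with flat cokernel of a pulled back homomorphism
-/

set_option autoImplicit false
set_option backward.isDefEq.respectTransparency false

universe u

open CategoryTheory CategoryTheory.Limits AlgebraicGeometry Opposite TensorProduct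

namespace Groth.Agent.H47.InjCokerChart

open Groth.Agent.Lib

/-- Injective on the stalk with flat cokernel. -/
def Good {X Y : Scheme.{u}} (f : X ⟶ Y) {N M : X.Modules} (u : N ⟶ M) (x : X) : Prop :=
  Function.Injective ((TopCat.Presheaf.stalkFunctor Ab x).map (Scheme.Modules.Hom.mapPresheaf u)) ∧
    FlatMod.IsFlatOverAt f (cokernel u) x

theorem good_of_iso {X Y : Scheme.{u}} (f : X ⟶ Y) {N M N' M' : X.Modules} (u : N ⟶ M)
    (u' : N' ⟶ M') (eN : N ≅ N') (eM : M ≅ M') (h : u ≫ eM.hom = eN.hom ≫ u') (x : X)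
    (hu : Good f u x) : Good f u' x := by
  refine ⟨?_, Lib.Flat55.FlatOverAt.of_iso f (cokernel.mapIso u u' eN eM h) x hu.2⟩
  intro a b hab
  let F : X.Modules ⥤ Ab.{u} := Scheme.Modules.toPresheaf X ⋙ TopCat.Presheaf.stalkFunctor Ab.{u} x
  have e : ∀ t, F.map u' (F.map eN.hom t) = F.map eM.hom (F.map u t) := fun t => by
    rw [← ConcreteCategory.comp_apply, ← ConcreteCategory.comp_apply, ← F.map_comp, ← F.map_comp, h]
  have hM : Function.Injective (F.map eM.hom) :=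
    (ConcreteCategory.bijective_of_isIso _).1
  obtain ⟨a, rfl⟩ := (ConcreteCategory.bijective_of_isIso (F.map eN.hom)).2 a
  obtain ⟨b, rfl⟩ := (ConcreteCategory.bijective_of_isIso (F.map eN.hom)).2 b
  have hab' : F.map u' (F.map eN.hom a) = F.map u' (F.map eN.hom b) := hab
  rw [e, e] at hab'
  exact congrArg _ (hu.1 (hM hab'))

set_option maxHeartbeats 1000000 in
/-- On a chart of a pullback square the condition is the base changed condition. -/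
theorem good_iff_chart {X Y X₀ Y₀ : Scheme.{u}} {q : X ⟶ X₀} {f : X ⟶ Y} {f₀ : X₀ ⟶ Y₀}
    {qY : Y ⟶ Y₀} (sq : IsPullback q f f₀ qY) {F₀ G₀ : X₀.Modules} [F₀.IsQuasicoherent]
    [G₀.IsQuasicoherent] (h₀ : F₀ ⟶ G₀) {V₀ : Y₀.Opens} (hV₀ : IsAffineOpen V₀) {U₀ : X₀.Opens}
    (hU₀ : IsAffineOpen U₀) (hUV : U₀ ≤ f₀ ⁻¹ᵁ V₀) {V : Y.Opens} (hV : IsAffineOpen V)
    (hVV : V ≤ qY ⁻¹ᵁ V₀) {x : X} (hx : x ∈ q ⁻¹ᵁ U₀ ⊓ f ⁻¹ᵁ V) :
    letI := (f.appLE V (q ⁻¹ᵁ U₀ ⊓ f ⁻¹ᵁ V) inf_le_right).hom.toAlgebra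
    letI := (q.appLE U₀ (q ⁻¹ᵁ U₀ ⊓ f ⁻¹ᵁ V) inf_le_left).hom.toAlgebra
    (Good f ((Scheme.Modules.pullback q).map h₀) x ↔
      InjCoker.InjFlatAt (A := Γ(Y, V))
        ((InjCokerScheme.secMap h₀ U₀).baseChange Γ(X, q ⁻¹ᵁ U₀ ⊓ f ⁻¹ᵁ V))
        ((ChartPullback.isAffineOpen_chart sq hV₀ hU₀ hUV hV hVV).primeIdealOf ⟨x, hx⟩)) := by
  let U := q ⁻¹ᵁ U₀ ⊓ f ⁻¹ᵁ V
  have hU : IsAffineOpen U := ChartPullback.isAffineOpen_chart sq hV₀ hU₀ hUV hV hVV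
  letI : Algebra Γ(Y, V) Γ(X, U) := (f.appLE V U inf_le_right).hom.toAlgebra
  letI : Algebra Γ(X₀, U₀) Γ(X, U) := (q.appLE U₀ U inf_le_left).hom.toAlgebra
  let P := Scheme.Modules.pullback q
  have : (P.obj F₀).IsQuasicoherent := QCoh.Pullback.isQCoh_pullback q F₀
  have : (P.obj G₀).IsQuasicoherent := QCoh.Pullback.isQCoh_pullback q G₀
  letI : Module Γ(Y, V) Γ(P.obj G₀, U) := Module.compHom _ (f.appLE V U inf_le_right).hom
  haveI : IsScalarTower Γ(Y, V) Γ(X, U) Γ(P.obj G₀, U) :=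
    IsScalarTower.of_algebraMap_smul fun _ _ ↦ rfl
  letI : Module Γ(X₀, U₀) Γ(P.obj F₀, U) := Module.compHom _ (q.appLE U₀ U inf_le_left).hom
  haveI : IsScalarTower Γ(X₀, U₀) Γ(X, U) Γ(P.obj F₀, U) :=
    IsScalarTower.of_algebraMap_smul fun _ _ ↦ rfl
  letI : Module Γ(X₀, U₀) Γ(P.obj G₀, U) := Module.compHom _ (q.appLE U₀ U inf_le_left).hom
  haveI : IsScalarTower Γ(X₀, U₀) Γ(X, U) Γ(P.obj G₀, U) :=
    IsScalarTower.of_algebraMap_smul fun _ _ ↦ rfl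
  have hN := CechRes.PullSec.isBaseChange_mu q F₀ hU₀ hU inf_le_left
  have hM := CechRes.PullSec.isBaseChange_mu q G₀ hU₀ hU inf_le_left
  refine (InjCokerScheme.injFlatAt_iff f (P.map h₀) hV hU inf_le_right hx).trans
    (InjFlatBC.congr _ _ hN.equiv hM.equiv (fun z => ?_) _).symm
  induction z using TensorProduct.induction_on with
  | zero => simp
  | add a b ha hb => simp only [map_add, ha, hb]
  | tmul b m =>
    rw [LinearMap.baseChange_tmul, IsBaseChange.equiv_tmul, IsBaseChange.equiv_tmul, map_smul]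
    exact congrArg (b • ·) (CechRes.PullSec.mu_natural q F₀ h₀ inf_le_left m)

set_option maxHeartbeats 1000000 in
/-- The condition is stable under base change. -/
theorem good_baseChange {X Y X₀ Y₀ : Scheme.{u}} {q : X ⟶ X₀} {f : X ⟶ Y} {f₀ : X₀ ⟶ Y₀}
    {qY : Y ⟶ Y₀} (sq : IsPullback q f f₀ qY) {F₀ G₀ : X₀.Modules} [F₀.IsQuasicoherent]
    [G₀.IsQuasicoherent] (h₀ : F₀ ⟶ G₀) (x : X) (h : Good f₀ h₀ (q x)) :
    Good f ((Scheme.Modules.pullback q).map h₀) x := by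
  obtain ⟨V₀, hV₀, hyV₀, -⟩ := exists_isAffineOpen_mem_and_subset (X := Y₀) (x := f₀ (q x)) (U := ⊤) trivial
  obtain ⟨U₀, hU₀, hxU₀, hUV⟩ := exists_isAffineOpen_mem_and_subset (X := X₀) (x := q x) (U := f₀ ⁻¹ᵁ V₀) hyV₀
  obtain ⟨V, hV, hyV, hVV⟩ := exists_isAffineOpen_mem_and_subset (X := Y) (x := f x) (U := qY ⁻¹ᵁ V₀)
    (show qY (f x) ∈ V₀ by
      rw [← Scheme.Hom.comp_apply, ← sq.w, Scheme.Hom.comp_apply]; exact hyV₀)
  have hx : x ∈ q ⁻¹ᵁ U₀ ⊓ f ⁻¹ᵁ V := ⟨hxU₀, hyV⟩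
  let U := q ⁻¹ᵁ U₀ ⊓ f ⁻¹ᵁ V
  letI : Algebra Γ(Y, V) Γ(X, U) := (f.appLE V U inf_le_right).hom.toAlgebra
  letI : Algebra Γ(X₀, U₀) Γ(X, U) := (q.appLE U₀ U inf_le_left).hom.toAlgebra
  letI : Algebra Γ(Y₀, V₀) Γ(X₀, U₀) := (f₀.appLE V₀ U₀ hUV).hom.toAlgebra
  letI : Algebra Γ(Y₀, V₀) Γ(Y, V) := (qY.appLE V₀ V hVV).hom.toAlgebra
  letI : Algebra Γ(Y₀, V₀) Γ(X, U) :=
    ((f.appLE V U inf_le_right).hom.comp (qY.appLE V₀ V hVV).hom).toAlgebra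
  have hpush := ChartPullback.isPushout_chart sq hV₀ hU₀ hUV hV hVV
  haveI : IsScalarTower Γ(Y₀, V₀) Γ(Y, V) Γ(X, U) := .of_algebraMap_eq' rfl
  haveI : IsScalarTower Γ(Y₀, V₀) Γ(X₀, U₀) Γ(X, U) :=
    .of_algebraMap_eq' (congrArg CommRingCat.Hom.hom hpush.w)
  have hp : Algebra.IsPushout Γ(Y₀, V₀) Γ(Y, V) Γ(X₀, U₀) Γ(X, U) :=
    CommRingCat.isPushout_iff_isPushout.mp hpush
  letI : Module Γ(Y₀, V₀) Γ(G₀, U₀) := Module.compHom _ (f₀.appLE V₀ U₀ hUV).hom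
  haveI : IsScalarTower Γ(Y₀, V₀) Γ(X₀, U₀) Γ(G₀, U₀) :=
    IsScalarTower.of_algebraMap_smul fun _ _ ↦ rfl
  refine (good_iff_chart sq h₀ hV₀ hU₀ hUV hV hVV hx).2
    (InjFlatBC.baseChange (A := Γ(Y₀, V₀)) (InjCokerScheme.secMap h₀ U₀) _ ?_)
  have h1 := (InjCokerScheme.injFlatAt_iff f₀ h₀ hV₀ hU₀ hUV hxU₀).1 h
  rwa [← IsAffineOpen.comap_primeIdealOf_appLE (f := q) U₀ hU₀ U
    (ChartPullback.isAffineOpen_chart sq hV₀ hU₀ hUV hV hVV) inf_le_left hx] at h1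

end Groth.Agent.H47.InjCokerChart
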