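import Groth.Agent.H47.FlatKernel
import Groth.Agent.H47.FlatModel
import Groth.Agent.H47.FlatTransfer
import Groth.Agent.H47.FPColim
import Groth.Agent.H47.GrBasic
import Groth.Agent.Lib.Pure.UI

/-!
# Injectivity with flat cokernel descends to a finitely presented stage
-/

set_option autoImplicit false

universe u

open TensorProduct

namespace Groth.Agent.H47.InjCokerDescend

open Groth.Agent.H47.GrFlat

variable {A₀ : Type u} [CommRing A₀] {B₀ : Type u} [CommRing B₀] [Algebra A₀ B₀]

section fp

variable {E : Type u} [CommRing E] [Algebra A₀ E] (N : Type u) [AddCommGroup N] [Module A₀ N]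
  [Module B₀ N] [IsScalarTower A₀ B₀ N]

/-- `E ⊗ N` is finitely presented over `E ⊗ B₀`. -/
theorem finitePresentation_tensor [Module.FinitePresentation B₀ N] :
    Module.FinitePresentation (E ⊗[A₀] B₀) (E ⊗[A₀] N) := by
  letI : Algebra B₀ (E ⊗[A₀] B₀) := Algebra.TensorProduct.rightAlgebra
  letI : Module B₀ (E ⊗[A₀] N) := Module.compHom _ (algebraMap B₀ (E ⊗[A₀] B₀))
  have : IsScalarTower B₀ (E ⊗[A₀] B₀) (E ⊗[A₀] N) :=
    IsScalarTower.of_algebraMap_smul fun b z => rfl
  let ι : N →ₗ[B₀] E ⊗[A₀] N :=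
    { toFun := fun n => (1 : E) ⊗ₜ n
      map_add' := fun a b => tmul_add _ _ _
      map_smul' := fun b n => by
        show (1 : E) ⊗ₜ[A₀] (b • n) = ((1 : E) ⊗ₜ[A₀] b) • ((1 : E) ⊗ₜ[A₀] n)
        rw [tmul_smul_tmul, smul_eq_mul, one_mul] }
  let Ψ := LinearMap.liftBaseChange (E ⊗[A₀] B₀) ι
  let c := Algebra.IsPushout.cancelBaseChange A₀ E B₀ (E ⊗[A₀] B₀) N
  have hΨ : ∀ y, Ψ (c.symm y) = y := by
    intro y
    induction y using TensorProduct.induction_on with
    | zero => simp
    | add a b ha hb => simp only [map_add, ha, hb]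
    | tmul e n =>
      rw [Algebra.IsPushout.cancelBaseChange_symm_tmul, LinearMap.liftBaseChange_tmul]
      show (e ⊗ₜ[A₀] (1 : B₀)) • ((1 : E) ⊗ₜ[A₀] n) = _
      rw [tmul_smul_tmul, smul_eq_mul, mul_one, one_smul]
  have hb : Function.Bijective Ψ := by
    refine ⟨fun a b hab => ?_, fun y => ⟨_, hΨ y⟩⟩
    obtain ⟨a, rfl⟩ := c.symm.surjective a
    obtain ⟨b, rfl⟩ := c.symm.surjective b
    rw [hΨ, hΨ] at hab
    rw [hab]
  exact Module.FinitePresentation.of_equiv (LinearEquiv.ofBijective Ψ hb)

end fp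

variable {N M : Type u} [AddCommGroup N] [Module A₀ N] [Module B₀ N] [IsScalarTower A₀ B₀ N]
  [AddCommGroup M] [Module A₀ M] [Module B₀ M] [IsScalarTower A₀ B₀ M] (u : N →ₗ[B₀] M)
  {E : Type u} [CommRing E] [Algebra A₀ E]

/-- the base change of `u` -/
noncomputable abbrev uE (A₀ : Type u) [CommRing A₀] [Algebra A₀ B₀] [Module A₀ N] [IsScalarTower A₀ B₀ N]
    [Module A₀ M] [IsScalarTower A₀ B₀ M] (u : N →ₗ[B₀] M) (E : Type u) [CommRing E] [Algebra A₀ E] :
    E ⊗[A₀] N →ₗ[E ⊗[A₀] B₀] E ⊗[A₀] M :=
  wmap (R := A₀) (LinearMap.id : E →ₗ[E] E) u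

/-- the base change of the projection to the cokernel -/
noncomputable abbrev pE (A₀ : Type u) [CommRing A₀] [Algebra A₀ B₀] [Module A₀ N] [IsScalarTower A₀ B₀ N]
    [Module A₀ M] [IsScalarTower A₀ B₀ M] (u : N →ₗ[B₀] M) (E : Type u) [CommRing E] [Algebra A₀ E] :
    E ⊗[A₀] M →ₗ[E ⊗[A₀] B₀] E ⊗[A₀] (M ⧸ LinearMap.range u) :=
  wmap (R := A₀) (LinearMap.id : E →ₗ[E] E) (LinearMap.range u).mkQ

theorem uE_apply (E : Type u) [CommRing E] [Algebra A₀ E] (z : E ⊗[A₀] N) :
    uE A₀ u E z = (u.restrictScalars A₀).lTensor E z := by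
  induction z using TensorProduct.induction_on with
  | zero => simp
  | add a b ha hb => simp only [map_add, ha, hb]
  | tmul e n => simp [uE, wmap_tmul]

theorem pE_apply (E : Type u) [CommRing E] [Algebra A₀ E] (z : E ⊗[A₀] M) :
    pE A₀ u E z = ((LinearMap.range u).mkQ.restrictScalars A₀).lTensor E z := by
  induction z using TensorProduct.induction_on with
  | zero => simp
  | add a b ha hb => simp only [map_add, ha, hb]
  | tmul e n => simp [pE, wmap_tmul]

theorem exact_uE_pE (E : Type u) [CommRing E] [Algebra A₀ E] :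
    Function.Exact (uE A₀ u E) (pE A₀ u E) := by
  have he : Function.Exact (u.restrictScalars A₀) ((LinearMap.range u).mkQ.restrictScalars A₀) :=
    fun x => by
      rw [LinearMap.restrictScalars_apply, Submodule.mkQ_apply, Submodule.Quotient.mk_eq_zero]
      rfl
  have h := lTensor_exact (R := A₀) (M := N) (N := M) (P := M ⧸ LinearMap.range u) E he
    (Submodule.mkQ_surjective (LinearMap.range u))
  intro y
  rw [pE_apply]
  refine (h y).trans ⟨?_, ?_⟩
  · rintro ⟨z, rfl⟩; exact ⟨z, uE_apply u E z⟩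
  · rintro ⟨z, rfl⟩; exact ⟨z, (uE_apply u E z).symm⟩

theorem pE_surjective (E : Type u) [CommRing E] [Algebra A₀ E] :
    Function.Surjective (pE A₀ u E) := fun y => by
  obtain ⟨z, hz⟩ := LinearMap.lTensor_surjective (R := A₀) (N := M) (P := M ⧸ LinearMap.range u) E
    (g := (LinearMap.range u).mkQ.restrictScalars A₀) (Submodule.mkQ_surjective (LinearMap.range u)) y
  exact ⟨z, (pE_apply u E z).trans hz⟩

/-- With flat cokernel, the kernel after base change is generated by the kernel. -/
theorem ker_lTensor_le {R P Q S : Type u} [CommRing R] [AddCommGroup P] [Module R P]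
    [AddCommGroup Q] [Module R Q] [AddCommGroup S] [Module R S] (f : P →ₗ[R] Q) (g : Q →ₗ[R] S)
    (hfg : Function.Exact f g) (hg : Function.Surjective g) [Module.Flat R S]
    (G : Type u) [AddCommGroup G] [Module R G] (w : G ⊗[R] P) (hw : f.lTensor G w = 0) :
    w ∈ AddSubgroup.closure {y | ∃ (a : G) (k : P), f k = 0 ∧ y = a ⊗ₜ k} := by
  have hui := Lib.Pure.UI.of_flat_right (R := R) (M := Q)
    (N := S) (L₀ := ↥(LinearMap.range f)) (LinearMap.range f).subtype g Subtype.val_injective
    (fun x => by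
      refine (hfg x).trans ⟨?_, ?_⟩
      · rintro ⟨a, rfl⟩; exact ⟨⟨_, LinearMap.mem_range_self f a⟩, rfl⟩
      · rintro ⟨⟨_, a, rfl⟩, rfl⟩; exact ⟨a, rfl⟩) hg
  have hinj : Function.Injective ((LinearMap.range f).subtype.lTensor G) := by
    rw [LinearMap.lTensor_inj_iff_rTensor_inj]
    exact hui G
  have h1 : f.rangeRestrict.lTensor G w = 0 := hinj (by
    rw [map_zero, ← LinearMap.comp_apply, ← LinearMap.lTensor_comp]
    exact hw)
  have hex : Function.Exact (LinearMap.ker f).subtype f.rangeRestrict := fun x => by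
    constructor
    · intro hx
      exact ⟨⟨x, congrArg Subtype.val hx⟩, rfl⟩
    · rintro ⟨y, rfl⟩
      exact Subtype.ext y.2
  obtain ⟨v, rfl⟩ := (lTensor_exact G hex f.surjective_rangeRestrict w).1 h1
  clear h1 hw
  induction v using TensorProduct.induction_on with
  | zero => simp
  | add a b ha hb => simp only [map_add]; exact add_mem ha hb
  | tmul g k => exact AddSubgroup.subset_closure ⟨g, k.1, k.2, rfl⟩

/-- With flat cokernel, the kernel after a further base change comes from the kernel. -/
theorem ker_baseChange {G : Type u} [CommRing G] [Algebra A₀ G] [Algebra E G] [IsScalarTower A₀ E G]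
    [Module.Flat E (E ⊗[A₀] (M ⧸ LinearMap.range u))] (z : G ⊗[A₀] N) (hz : uE A₀ u G z = 0) :
    z ∈ AddSubgroup.closure {y | ∃ (g : G) (k : E ⊗[A₀] N), uE A₀ u E k = 0 ∧
      y = AlgebraTensorModule.cancelBaseChange A₀ E G G N (g ⊗ₜ k)} := by
  obtain ⟨w, rfl⟩ := (AlgebraTensorModule.cancelBaseChange A₀ E G G N).surjective z
  have hnat : ∀ w, AlgebraTensorModule.cancelBaseChange A₀ E G G M
      (((uE A₀ u E).restrictScalars E).lTensor G w) =
        uE A₀ u G (AlgebraTensorModule.cancelBaseChange A₀ E G G N w) := by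
    intro w
    induction w using TensorProduct.induction_on with
    | zero => simp
    | add a b ha hb => simp only [map_add, ha, hb]
    | tmul g k =>
      induction k using TensorProduct.induction_on with
      | zero => simp
      | add a b ha hb => simp only [tmul_add, map_add, ha, hb]
      | tmul e n => simp [uE, wmap_tmul]
  have h0 : ((uE A₀ u E).restrictScalars E).lTensor G w = 0 :=
    (AlgebraTensorModule.cancelBaseChange A₀ E G G M).injective (by rw [hnat, hz, map_zero])
  have h1 := ker_lTensor_le ((uE A₀ u E).restrictScalars E) ((pE A₀ u E).restrictScalars E)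
    (exact_uE_pE (A₀ := A₀) u E) (pE_surjective (A₀ := A₀) u E) G w h0
  clear hz h0
  induction h1 using AddSubgroup.closure_induction with
  | mem y hy =>
    obtain ⟨a, k, hk, rfl⟩ := hy
    exact AddSubgroup.subset_closure ⟨a, k, hk, rfl⟩
  | zero => simp
  | add a b _ _ ha hb => rw [map_add]; exact add_mem ha hb
  | neg a _ ha => rw [map_neg]; exact neg_mem ha

/-- Exact with finitely presented kernel and finite source: the kernel is finitely generated. -/
theorem fg_ker_of_exact {R P Q S : Type u} [CommRing R] [AddCommGroup P] [Module R P]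
    [AddCommGroup Q] [Module R Q] [AddCommGroup S] [Module R S] (f : P →ₗ[R] Q) (g : Q →ₗ[R] S)
    (hfg : Function.Exact f g) [Module.Finite R P]
    [Module.FinitePresentation R ↥(LinearMap.ker g)] : (LinearMap.ker f).FG := by
  have hmem : ∀ z, f z ∈ LinearMap.ker g := fun z => hfg.apply_apply_eq_zero z
  have hs : Function.Surjective (f.codRestrict _ hmem) := fun y => by
    obtain ⟨z, hz⟩ := (hfg y.1).1 y.2
    exact ⟨z, Subtype.ext hz⟩
  have h := Module.FinitePresentation.fg_ker (f.codRestrict _ hmem) hs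
  rwa [LinearMap.ker_codRestrict] at h

variable [Algebra.FinitePresentation A₀ B₀] [Module.FinitePresentation B₀ N]
  [Module.FinitePresentation B₀ M]

/-- Over a base with flat cokernel the kernel is finitely generated. -/
theorem fg_ker [Module.Flat E (E ⊗[A₀] (M ⧸ LinearMap.range u))] :
    (LinearMap.ker (uE A₀ u E)).FG := by
  have := finitePresentation_tensor (A₀ := A₀) (B₀ := B₀) (E := E) N
  have := finitePresentation_tensor (A₀ := A₀) (B₀ := B₀) (E := E) M
  have : Module.FinitePresentation B₀ (M ⧸ LinearMap.range u) :=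
    Module.finitePresentation_of_surjective (LinearMap.range u).mkQ (Submodule.mkQ_surjective _) (by
      rw [Submodule.ker_mkQ]
      exact Module.Finite.fg_top.map u |> fun h => by rwa [Submodule.map_top] at h)
  have := finitePresentation_tensor (A₀ := A₀) (B₀ := B₀) (E := E) (M ⧸ LinearMap.range u)
  have : Module.FinitePresentation (E ⊗[A₀] B₀) ↥(LinearMap.ker (pE A₀ u E)) :=
    FlatKernel.fp_ker (R := E) (pE A₀ u E) (pE_surjective (A₀ := A₀) u E)
  exact fg_ker_of_exact (uE A₀ u E) (pE A₀ u E) (exact_uE_pE (A₀ := A₀) u E)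

omit [Algebra.FinitePresentation A₀ B₀] in
/-- Tensors vanishing in `A` vanish at a stage. -/
theorem exists_kill_stage {A : Type u} [CommRing A] [Algebra A₀ A] (N : Type u) [AddCommGroup N]
    [Module A₀ N] (i : FPColim.Idx A₀ A) (k : FPColim.Stage i ⊗[A₀] N)
    (hk : (FPColim.toA i).toLinearMap.rTensor N k = 0) :
    ∃ j, ∃ h : i ≤ j, (FPColim.trans i j h).toLinearMap.rTensor N k = 0 := by
  have hdir : IsDirectedOrder (FPColim.Idx A₀ A) := FPColim.isDirectedColimit.1
  have hnat : ∀ (X : Type u) [AddCommGroup X] [Module A₀ X] (f : FPColim.Stage i →ₗ[A₀] X)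
      (y : FPColim.Stage i ⊗[A₀] N),
      f.lTensor N (TensorProduct.comm A₀ _ N y) = TensorProduct.comm A₀ X N (f.rTensor N y) := by
    intro X _ _ f y
    induction y using TensorProduct.induction_on with
    | zero => simp
    | tmul a b => simp
    | add a b ha hb => simp only [map_add, ha, hb]
  obtain ⟨j, h, hj⟩ := FlatTransfer.exists_kill (R := A₀) (M := N) (V := FPColim.Stage (A₀ := A₀) (A := A))
    (t := fun a b h => (FPColim.trans a b h).toLinearMap)
    (p := fun a => (FPColim.toA a).toLinearMap)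
    (fun a b c hab hbc => LinearMap.ext (FPColim.trans_trans a b c hab hbc))
    (fun a b h => LinearMap.ext (FPColim.toA_trans a b h))
    (fun w => FPColim.isDirectedColimit.2.2.2.2.2.1 w)
    (fun a v hv => FPColim.isDirectedColimit.2.2.2.2.2.2 a v hv)
    (TensorProduct.comm A₀ _ N k) (by rw [hnat, hk, map_zero])
  exact ⟨j, h, (TensorProduct.comm A₀ _ N).injective (by rw [map_zero, ← hnat, hj])⟩

set_option maxHeartbeats 800000 in
/-- Injectivity and flatness of the cokernel descend to a finitely presented algebra. -/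
theorem exists_stage (A : Type u) [CommRing A] [Algebra A₀ A]
    (hinj : Function.Injective ((u.restrictScalars A₀).lTensor A))
    (hflat : Module.Flat A (A ⊗[A₀] (M ⧸ LinearMap.range u))) :
    ∃ (C : Type u) (_ : CommRing C) (_ : Algebra A₀ C) (_ : Algebra.FinitePresentation A₀ C)
      (_ : C →ₐ[A₀] A), Function.Injective ((u.restrictScalars A₀).lTensor C) ∧
        Module.Flat C (C ⊗[A₀] (M ⧸ LinearMap.range u)) := by
  classical
  let G := FPColim.Stage (A₀ := A₀) (A := A)
  have : Module.FinitePresentation B₀ (M ⧸ LinearMap.range u) :=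
    Module.finitePresentation_of_surjective (LinearMap.range u).mkQ (Submodule.mkQ_surjective _) (by
      rw [Submodule.ker_mkQ]
      exact Module.Finite.fg_top.map u |> fun h => by rwa [Submodule.map_top] at h)
  obtain ⟨i, hi⟩ := (FlatModel.flat_baseChange_iff_exists G FPColim.trans A FPColim.isDirectedColimit
    (B₀ := B₀) (M ⧸ LinearMap.range u)).1 hflat
  obtain ⟨T, hT⟩ := fg_ker (A₀ := A₀) u (E := G i)
  have hdir : IsDirectedOrder (FPColim.Idx A₀ A) := FPColim.isDirectedColimit.1
  -- kill the generators at a later stage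
  have hkill : ∀ k ∈ T, ∃ j, ∃ h : i ≤ j,
      (FPColim.trans i j h).toLinearMap.rTensor N k = 0 := by
    intro k hk
    have hk0 : uE A₀ u (G i) k = 0 := (hT ▸ Submodule.subset_span hk : k ∈ LinearMap.ker (uE A₀ u (G i)))
    have hk1 : (FPColim.toA i).toLinearMap.rTensor N k = 0 := hinj (by
      rw [map_zero, ← LinearMap.comp_apply, LinearMap.lTensor_comp_rTensor,
        ← LinearMap.rTensor_comp_lTensor, LinearMap.comp_apply]
      exact (congrArg ((FPColim.toA i).toLinearMap.rTensor M) hk0).trans (map_zero _))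
    exact exists_kill_stage N i k hk1
  have : Nonempty (FPColim.Idx A₀ A) := ⟨i⟩
  choose! J hJ hJ0 using hkill
  obtain ⟨j, hj⟩ := Finset.exists_le (insert i (T.image J))
  have hij : i ≤ j := hj i (Finset.mem_insert_self _ _)
  let _ : Algebra (G i) (G j) := (FPColim.trans i j hij).toRingHom.toAlgebra
  have : IsScalarTower A₀ (G i) (G j) :=
    IsScalarTower.of_algebraMap_eq fun a => ((FPColim.trans i j hij).commutes a).symm
  refine ⟨G j, inferInstance, inferInstance, inferInstance, FPColim.toA j, ?_,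
    FlatAdic.flat_of_tower (A := A₀) (G i) (G j)⟩
  let π := wmap (R := A₀) (Algebra.linearMap (G i) (G j)) (LinearMap.id : N →ₗ[B₀] N)
  have hπT : ∀ k ∈ T, π k = 0 := fun k hk => by
    have hJj : J k ≤ j := hj _ (Finset.mem_insert_of_mem (Finset.mem_image_of_mem _ hk))
    have e : (FPColim.trans i j hij).toLinearMap =
        (FPColim.trans (J k) j hJj).toLinearMap.comp (FPColim.trans i (J k) (hJ k hk)).toLinearMap :=
      LinearMap.ext fun x => (FPColim.trans_trans i (J k) j (hJ k hk) hJj x).symm
    show (FPColim.trans i j hij).toLinearMap.rTensor N k = 0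
    rw [e, LinearMap.rTensor_comp, LinearMap.comp_apply, hJ0 k hk, map_zero]
  have hπ : ∀ k, uE A₀ u (G i) k = 0 → π k = 0 := fun k hk => by
    have : LinearMap.ker (uE A₀ u (G i)) ≤ LinearMap.ker π := hT ▸ Submodule.span_le.2 hπT
    exact this hk
  rw [injective_iff_map_eq_zero]
  intro z hz
  have hle : AddSubgroup.closure {y | ∃ (g : G j) (k : G i ⊗[A₀] N), uE A₀ u (G i) k = 0 ∧
      y = AlgebraTensorModule.cancelBaseChange A₀ (G i) (G j) (G j) N (g ⊗ₜ k)} ≤ ⊥ := by
    refine (AddSubgroup.closure_le _).2 ?_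
    rintro _ ⟨g, k, hk, rfl⟩
    show AlgebraTensorModule.cancelBaseChange A₀ (G i) (G j) (G j) N (g ⊗ₜ k) = 0
    have key : ∀ k : G i ⊗[A₀] N,
        AlgebraTensorModule.cancelBaseChange A₀ (G i) (G j) (G j) N (g ⊗ₜ k) = g • π k := by
      intro k
      induction k using TensorProduct.induction_on with
      | zero => simp
      | add a b ha hb => simp only [tmul_add, map_add, smul_add, ha, hb]
      | tmul e n =>
        rw [AlgebraTensorModule.cancelBaseChange_tmul, wmap_tmul, TensorProduct.smul_tmul',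
          Algebra.linearMap_apply, LinearMap.id_apply, smul_eq_mul, Algebra.smul_def, mul_comm]
    rw [key, hπ k hk, smul_zero]
  exact hle (ker_baseChange (A₀ := A₀) u (E := G i) (G := G j) z hz)

end Groth.Agent.H47.InjCokerDescend
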