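import Groth.Agent.H47.InjCokerStage
import Groth.Agent.H47.InjCokerChart
import Groth.Agent.Lib.Lim.Basic

/-!
# Injectivity with flat cokernel at a point descends to a stage of a limit of schemes
-/

set_option autoImplicit false
set_option backward.isDefEq.respectTransparency false

universe u

open CategoryTheory CategoryTheory.Limits AlgebraicGeometry Opposite TensorProduct

namespace Groth.Agent.H47.InjCokerLimit

open Groth.Agent.Lib Groth.Agent.H47.InjCokerChart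

variable {I : Type u} [SmallCategory I] [IsCofiltered I] {D : I ⥤ Scheme.{u}} {c : Limits.Cone D}
  {i₀ : I} {X₀ Y₀ : Scheme.{u}} {f₀ : X₀ ⟶ Y₀} {g₀ : Y₀ ⟶ D.obj i₀}
  {X Y : Scheme.{u}} {f : X ⟶ Y} {g : Y ⟶ c.pt} {qY : Y ⟶ Y₀} {qX : X ⟶ X₀}

/-- Composed pullbacks of a homomorphism. -/
theorem good_of_comp {X₁ Y₁ : Scheme.{u}} {vX : X ⟶ X₁} {vY : Y ⟶ Y₁} {f₁ : X₁ ⟶ Y₁}
    {pX : X₁ ⟶ X₀} (sq : IsPullback vX f f₁ vY) {F₀ G₀ : X₀.Modules} [F₀.IsQuasicoherent]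
    [G₀.IsQuasicoherent] (h₀ : F₀ ⟶ G₀) (hq : vX ≫ pX = qX) (x : X)
    (h : Good f₁ ((Scheme.Modules.pullback pX).map h₀) (vX x)) :
    Good f ((Scheme.Modules.pullback qX).map h₀) x := by
  subst hq
  have : ((Scheme.Modules.pullback pX).obj F₀).IsQuasicoherent := QCoh.Pullback.isQCoh_pullback pX F₀
  have : ((Scheme.Modules.pullback pX).obj G₀).IsQuasicoherent := QCoh.Pullback.isQCoh_pullback pX G₀
  exact good_of_iso f _ _ ((Scheme.Modules.pullbackComp vX pX).app F₀)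
    ((Scheme.Modules.pullbackComp vX pX).app G₀)
    ((Scheme.Modules.pullbackComp vX pX).hom.naturality h₀) x (good_baseChange sq _ x h)

/-- The square of charts over the limit. -/
theorem isPullback_specChart (hY : IsPullback qY g g₀ (c.π.app i₀)) [IsAffineHom qY]
    {V₀ : Y₀.Opens} (hV₀ : IsAffineOpen V₀) :
    IsPullback (Spec.map (qY.appLE V₀ (qY ⁻¹ᵁ V₀) le_rfl)) ((hV₀.preimage qY).fromSpec ≫ g)
      (hV₀.fromSpec ≫ g₀) (c.π.app i₀) := by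
  haveI := hV₀.isOpenImmersion_fromSpec
  haveI := (hV₀.preimage qY).isOpenImmersion_fromSpec
  refine IsPullback.paste_vert ?_ hY
  exact IsOpenImmersion.isPullback _ _ _ _ (IsAffineOpen.SpecMap_appLE_fromSpec qY hV₀ (hV₀.preimage qY) le_rfl).symm
    (by rw [IsAffineOpen.opensRange_fromSpec, IsAffineOpen.opensRange_fromSpec])

set_option maxHeartbeats 1600000 in
/-- Good at a point over the limit: good at the image in a stage. -/
theorem exists_stage (hc : IsLimit c) [∀ (i j : I) (φ : i ⟶ j), IsAffineHom (D.map φ)]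
    [LocallyOfFinitePresentation f₀] {F₀ G₀ : X₀.Modules} [F₀.IsQuasicoherent] [G₀.IsQuasicoherent]
    (hF₀ : CohB1.IsFP F₀) (hG₀ : CohB1.IsFP G₀) (h₀ : F₀ ⟶ G₀)
    (hY : IsPullback qY g g₀ (c.π.app i₀)) (hX : IsPullback qX f f₀ qY) (x : X)
    (h : Good f ((Scheme.Modules.pullback qX).map h₀) x) :
    ∃ (i : I) (φ : i ⟶ i₀) (Xi Yi : Scheme.{u}) (fi : Xi ⟶ Yi) (gi : Yi ⟶ D.obj i)
      (pY : Yi ⟶ Y₀) (pX : Xi ⟶ X₀) (vY : Y ⟶ Yi) (vX : X ⟶ Xi),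
      IsPullback pY gi g₀ (D.map φ) ∧ IsPullback pX fi f₀ pY ∧
        vY ≫ pY = qY ∧ vY ≫ gi = g ≫ c.π.app i ∧ vX ≫ pX = qX ∧ vX ≫ fi = f ≫ vY ∧
        Good fi ((Scheme.Modules.pullback pX).map h₀) (vX x) := by
  have : IsAffineHom (c.π.app i₀) := Lim.Basic.isAffineHom_π hc i₀
  have : IsAffineHom qY := MorphismProperty.of_isPullback (P := @IsAffineHom) hY.flip inferInstance
  -- charts
  obtain ⟨V₀, hV₀, hyV₀, -⟩ :=
    exists_isAffineOpen_mem_and_subset (X := Y₀) (x := f₀ (qX x)) (U := ⊤) trivial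
  obtain ⟨U₀, hU₀, hxU₀, hUV, hfpF, hfpG⟩ :=
    FlatKernelScheme.exists_affine_le₂ F₀ G₀ hF₀ hG₀ (qX x) (f₀ ⁻¹ᵁ V₀) hyV₀
  have hV : IsAffineOpen (qY ⁻¹ᵁ V₀) := hV₀.preimage qY
  have hxV : f x ∈ qY ⁻¹ᵁ V₀ := by
    show qY (f x) ∈ V₀
    rw [← Scheme.Hom.comp_apply, ← hX.w, Scheme.Hom.comp_apply]; exact hyV₀
  have hx : x ∈ qX ⁻¹ᵁ U₀ ⊓ f ⁻¹ᵁ (qY ⁻¹ᵁ V₀) := ⟨hxU₀, hxV⟩
  have hU := ChartPullback.isAffineOpen_chart hX hV₀ hU₀ hUV hV le_rfl
  let V := qY ⁻¹ᵁ V₀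
  let U := qX ⁻¹ᵁ U₀ ⊓ f ⁻¹ᵁ V
  letI : Algebra Γ(Y, V) Γ(X, U) := (f.appLE V U inf_le_right).hom.toAlgebra
  letI : Algebra Γ(X₀, U₀) Γ(X, U) := (qX.appLE U₀ U inf_le_left).hom.toAlgebra
  letI : Algebra Γ(Y₀, V₀) Γ(X₀, U₀) := (f₀.appLE V₀ U₀ hUV).hom.toAlgebra
  letI : Algebra Γ(Y₀, V₀) Γ(Y, V) := (qY.appLE V₀ V le_rfl).hom.toAlgebra
  letI : Algebra Γ(Y₀, V₀) Γ(X, U) :=
    ((f.appLE V U inf_le_right).hom.comp (qY.appLE V₀ V le_rfl).hom).toAlgebra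
  have hpush := ChartPullback.isPushout_chart hX hV₀ hU₀ hUV hV le_rfl
  haveI : IsScalarTower Γ(Y₀, V₀) Γ(Y, V) Γ(X, U) := .of_algebraMap_eq' rfl
  haveI : IsScalarTower Γ(Y₀, V₀) Γ(X₀, U₀) Γ(X, U) :=
    .of_algebraMap_eq' (congrArg CommRingCat.Hom.hom hpush.w)
  have hp : Algebra.IsPushout Γ(Y₀, V₀) Γ(Y, V) Γ(X₀, U₀) Γ(X, U) :=
    CommRingCat.isPushout_iff_isPushout.mp hpush
  have : Algebra.FinitePresentation Γ(Y₀, V₀) Γ(X₀, U₀) :=
    HasRingHomProperty.appLE @LocallyOfFinitePresentation f₀ inferInstance ⟨V₀, hV₀⟩ ⟨U₀, hU₀⟩ hUV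
  obtain ⟨C, _, _, hCfp, φC, hCgood⟩ := InjCokerStage.exists_stage_at (A₀ := Γ(Y₀, V₀))
    (A := Γ(Y, V)) (B := Γ(X, U)) (InjCokerScheme.secMap h₀ U₀) _
    ((good_iff_chart hX h₀ hV₀ hU₀ hUV hV le_rfl hx).1 h)
  -- lift to a stage
  let sC : Spec (CommRingCat.of C) ⟶ Spec Γ(Y₀, V₀) :=
    Spec.map (CommRingCat.ofHom (algebraMap Γ(Y₀, V₀) C))
  have : LocallyOfFinitePresentation sC :=
    (HasRingHomProperty.Spec_iff (P := @LocallyOfFinitePresentation)).2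
      (RingHom.finitePresentation_algebraMap.2 hCfp)
  have : ∀ {i j : I} (φ : i ⟶ j), IsAffineHom (D.map φ) := fun φ => inferInstance
  obtain ⟨i, φ, g', hg', hg'q⟩ := Lim.Basic.exists_bc_hom hc (isPullback_specChart hY hV₀) sC (𝟙 _)
    (Spec.map (CommRingCat.ofHom φC.toRingHom : CommRingCat.of C ⟶ Γ(Y, V))) (by
      rw [← Spec.map_comp, Category.comp_id]
      congr 1
      ext r
      exact φC.commutes r)
  -- the stage
  have hcw : qY ≫ g₀ = (g ≫ c.π.app i) ≫ D.map φ := by rw [Category.assoc, c.w, hY.w]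
  let pY := pullback.fst g₀ (D.map φ)
  let vY : Y ⟶ pullback g₀ (D.map φ) := pullback.lift qY (g ≫ c.π.app i) hcw
  have hvY : vY ≫ pY = qY := pullback.lift_fst _ _ _
  let pX := pullback.fst f₀ pY
  let fi := pullback.snd f₀ pY
  let vX : X ⟶ pullback f₀ pY := pullback.lift qX (f ≫ vY) (by rw [Category.assoc, hvY, hX.w])
  have hvX : vX ≫ pX = qX := pullback.lift_fst _ _ _
  have hvf : vX ≫ fi = f ≫ vY := pullback.lift_snd _ _ _
  refine ⟨i, φ, _, _, fi, pullback.snd g₀ (D.map φ), pY, pX, vY, vX,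
    IsPullback.of_hasPullback _ _, IsPullback.of_hasPullback _ _, hvY, pullback.lift_snd _ _ _,
    hvX, hvf, ?_⟩
  have : IsAffineHom pY := MorphismProperty.pullback_fst (P := @IsAffineHom) _ _ inferInstance
  have sqi : IsPullback pX fi f₀ pY := IsPullback.of_hasPullback _ _
  let Vi := pY ⁻¹ᵁ V₀
  have hVi : IsAffineOpen Vi := hV₀.preimage pY
  have hVle : V ≤ vY ⁻¹ᵁ Vi := le_of_eq (by rw [← Scheme.Hom.comp_preimage, hvY])
  let Ui := pX ⁻¹ᵁ U₀ ⊓ fi ⁻¹ᵁ Vi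
  have hUi : IsAffineOpen Ui := ChartPullback.isAffineOpen_chart sqi hV₀ hU₀ hUV hVi le_rfl
  have hUle : U ≤ vX ⁻¹ᵁ Ui := show U ≤ vX ⁻¹ᵁ (pX ⁻¹ᵁ U₀) ⊓ vX ⁻¹ᵁ (fi ⁻¹ᵁ Vi) from le_inf
    (by rw [← Scheme.Hom.comp_preimage, hvX]; exact inf_le_left)
    (by rw [← Scheme.Hom.comp_preimage, hvf, Scheme.Hom.comp_preimage]
        exact inf_le_right.trans (f.preimage_mono hVle))
  let k : Spec Γ(pullback g₀ (D.map φ), Vi) ⟶ pullback (hV₀.fromSpec ≫ g₀) (D.map φ) :=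
    pullback.lift (Spec.map (pY.appLE V₀ Vi le_rfl)) (hVi.fromSpec ≫ pullback.snd g₀ (D.map φ)) (by
      rw [← Category.assoc, IsAffineOpen.SpecMap_appLE_fromSpec pY hV₀ hVi le_rfl, Category.assoc,
        Category.assoc, pullback.condition])
  let θ : CommRingCat.of C ⟶ Γ(pullback g₀ (D.map φ), Vi) := Spec.preimage (k ≫ g')
  have hθ₀ : CommRingCat.ofHom (algebraMap Γ(Y₀, V₀) C) ≫ θ = pY.appLE V₀ Vi le_rfl := by
    apply Spec.map_injective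
    rw [Spec.map_comp, Spec.map_preimage, Category.assoc, hg', Category.comp_id, pullback.lift_fst]
  have hkq : Spec.map (vY.appLE Vi V hVle) ≫ k = pullback.lift
      (Spec.map (qY.appLE V₀ V le_rfl)) (((hV₀.preimage qY).fromSpec ≫ g) ≫ c.π.app i)
      (by rw [Category.assoc, c.w, (isPullback_specChart hY hV₀).w]) := by
    apply pullback.hom_ext
    · rw [Category.assoc, pullback.lift_fst, pullback.lift_fst, ← Spec.map_comp,
        Scheme.Hom.appLE_comp_appLE]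
      congr 1
      simp only [hvY]
    · rw [Category.assoc, pullback.lift_snd, pullback.lift_snd, ← Category.assoc,
        IsAffineOpen.SpecMap_appLE_fromSpec vY hVi (hV₀.preimage qY) hVle, Category.assoc,
        pullback.lift_snd, Category.assoc]
  have hθ : θ ≫ vY.appLE Vi V hVle = CommRingCat.ofHom φC.toRingHom := by
    apply Spec.map_injective
    rw [Spec.map_comp, Spec.map_preimage, ← Category.assoc, hkq, hg'q]
  -- the algebra at the stage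
  let P := Γ(pullback g₀ (D.map φ), Vi)
  let Q := Γ(pullback f₀ pY, Ui)
  letI : Algebra P Q := (fi.appLE Vi Ui inf_le_right).hom.toAlgebra
  letI : Algebra Γ(X₀, U₀) Q := (pX.appLE U₀ Ui inf_le_left).hom.toAlgebra
  letI : Algebra Γ(Y₀, V₀) P := (pY.appLE V₀ Vi le_rfl).hom.toAlgebra
  letI : Algebra Γ(Y₀, V₀) Q :=
    ((fi.appLE Vi Ui inf_le_right).hom.comp (pY.appLE V₀ Vi le_rfl).hom).toAlgebra
  have hpushi := ChartPullback.isPushout_chart sqi hV₀ hU₀ hUV hVi le_rfl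
  haveI : IsScalarTower Γ(Y₀, V₀) P Q := .of_algebraMap_eq' rfl
  haveI : IsScalarTower Γ(Y₀, V₀) Γ(X₀, U₀) Q :=
    .of_algebraMap_eq' (congrArg CommRingCat.Hom.hom hpushi.w)
  have hpi : Algebra.IsPushout Γ(Y₀, V₀) P Γ(X₀, U₀) Q :=
    CommRingCat.isPushout_iff_isPushout.mp hpushi
  letI : Algebra C P := θ.hom.toAlgebra
  haveI : IsScalarTower Γ(Y₀, V₀) C P :=
    .of_algebraMap_eq' (congrArg CommRingCat.Hom.hom hθ₀).symm
  let χ : C →ₐ[Γ(Y₀, V₀)] P := IsScalarTower.toAlgHom Γ(Y₀, V₀) C P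
  letI : Algebra C Q := ((algebraMap P Q).comp (algebraMap C P)).toAlgebra
  haveI : IsScalarTower C P Q := .of_algebraMap_eq' rfl
  letI : Algebra (C ⊗[Γ(Y₀, V₀)] Γ(X₀, U₀)) Q :=
    (InjCokerStage.ψ (B₀ := Γ(X₀, U₀)) (B := Q) χ).toRingHom.toAlgebra
  refine (good_iff_chart sqi h₀ hV₀ hU₀ hUV hVi le_rfl (hUle hx)).2 ?_
  letI : Algebra Γ(X₀, U₀) (C ⊗[Γ(Y₀, V₀)] Γ(X₀, U₀)) := Algebra.TensorProduct.rightAlgebra
  haveI : IsScalarTower C (C ⊗[Γ(Y₀, V₀)] Γ(X₀, U₀)) Q :=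
    IsScalarTower.of_algebraMap_eq (R := C) (S := C ⊗[Γ(Y₀, V₀)] Γ(X₀, U₀)) (A := Q) fun z => by
      show algebraMap P Q (χ z) = InjCokerStage.ψ (B₀ := Γ(X₀, U₀)) (B := Q) χ (z ⊗ₜ 1)
      exact ((Algebra.TensorProduct.productMap_apply_tmul _ _ z 1).trans
        ((congrArg _ (map_one _)).trans (mul_one _))).symm
  haveI : IsScalarTower Γ(X₀, U₀) (C ⊗[Γ(Y₀, V₀)] Γ(X₀, U₀)) Q :=
    IsScalarTower.of_algebraMap_eq (R := Γ(X₀, U₀)) (S := C ⊗[Γ(Y₀, V₀)] Γ(X₀, U₀)) (A := Q) fun b => by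
      show algebraMap Γ(X₀, U₀) Q b = InjCokerStage.ψ (B₀ := Γ(X₀, U₀)) (B := Q) χ (1 ⊗ₜ b)
      exact ((Algebra.TensorProduct.productMap_apply_tmul _ _ 1 b).trans
        ((congrArg (· * _) (map_one _)).trans (one_mul _))).symm
  haveI : IsScalarTower Γ(Y₀, V₀) (C ⊗[Γ(Y₀, V₀)] Γ(X₀, U₀)) Q :=
    IsScalarTower.of_algebraMap_eq (R := Γ(Y₀, V₀)) (S := C ⊗[Γ(Y₀, V₀)] Γ(X₀, U₀)) (A := Q) fun a =>
      ((InjCokerStage.ψ (B₀ := Γ(X₀, U₀)) (B := Q) χ).commutes a).symm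
  have hpC : Algebra.IsPushout C P (C ⊗[Γ(Y₀, V₀)] Γ(X₀, U₀)) Q :=
    (Algebra.IsPushout.comp_iff Γ(Y₀, V₀) C Γ(X₀, U₀) (C ⊗[Γ(Y₀, V₀)] Γ(X₀, U₀))).1 inferInstance
  refine (InjFlatBC.congr _ _
    (AlgebraTensorModule.cancelBaseChange Γ(X₀, U₀) (C ⊗[Γ(Y₀, V₀)] Γ(X₀, U₀)) Q Q Γ(F₀, U₀))
    (AlgebraTensorModule.cancelBaseChange Γ(X₀, U₀) (C ⊗[Γ(Y₀, V₀)] Γ(X₀, U₀)) Q Q Γ(G₀, U₀))
    (fun z => ?_) _).1 (InjFlatBC.baseChange (A := C) (A' := P) (B' := Q)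
      ((InjCokerScheme.secMap h₀ U₀).baseChange (C ⊗[Γ(Y₀, V₀)] Γ(X₀, U₀))) _ ?_)
  · induction z using TensorProduct.induction_on with
    | zero => simp
    | add a b ha hb => simp only [map_add, ha, hb]
    | tmul a w =>
      induction w using TensorProduct.induction_on with
      | zero => simp
      | add a b ha hb => simp only [tmul_add, map_add, ha, hb]
      | tmul e n => simp only [LinearMap.baseChange_tmul, AlgebraTensorModule.cancelBaseChange_tmul]; rfl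
  -- the primes
  convert hCgood using 1
  have hq := IsAffineOpen.comap_primeIdealOf_appLE (f := vX) Ui hUi U hU hUle hx
  have e : (vX.appLE Ui U hUle).hom.comp
      (InjCokerStage.ψ (B₀ := Γ(X₀, U₀)) (B := Q) χ).toRingHom =
      (InjCokerStage.ψ (B₀ := Γ(X₀, U₀)) (B := Γ(X, U)) φC).toRingHom := by
    apply RingHom.ext
    intro z
    induction z using TensorProduct.induction_on with
    | zero => simp
    | add a b ha hb => simp only [map_add, ha, hb]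
    | tmul a b =>
      show (vX.appLE Ui U hUle).hom (InjCokerStage.ψ (B₀ := Γ(X₀, U₀)) (B := Q) χ (a ⊗ₜ b)) =
        InjCokerStage.ψ (B₀ := Γ(X₀, U₀)) (B := Γ(X, U)) φC (a ⊗ₜ b)
      rw [InjCokerStage.ψ, Algebra.TensorProduct.productMap_apply_tmul, map_mul,
        InjCokerStage.ψ, Algebra.TensorProduct.productMap_apply_tmul]
      congr 1
      · show (θ ≫ fi.appLE Vi Ui inf_le_right ≫ vX.appLE Ui U hUle) a = f.appLE V U inf_le_right (φC a)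
        have e1 : θ ≫ fi.appLE Vi Ui inf_le_right ≫ vX.appLE Ui U hUle =
            (θ ≫ vY.appLE Vi V hVle) ≫ f.appLE V U inf_le_right := by
          rw [Category.assoc, Scheme.Hom.appLE_comp_appLE, Scheme.Hom.appLE_comp_appLE]
          simp only [hvf]
        rw [e1, hθ]
        rfl
      · show (pX.appLE U₀ Ui inf_le_left ≫ vX.appLE Ui U hUle) b = qX.appLE U₀ U inf_le_left b
        rw [Scheme.Hom.appLE_comp_appLE]
        simp only [hvX]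
  show PrimeSpectrum.comap (InjCokerStage.ψ (B₀ := Γ(X₀, U₀)) (B := Q) χ).toRingHom _ = _
  rw [← e, ← hq]
  rfl

end Groth.Agent.H47.InjCokerLimit
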