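import Groth.Agent.H47.InjCoker
import Groth.Agent.H47.FlatKernelScheme

/-!
# Injectivity with flat cokernel on affine charts
-/

set_option autoImplicit false
set_option backward.isDefEq.respectTransparency false

universe u

open CategoryTheory CategoryTheory.Limits AlgebraicGeometry Opposite

namespace Groth.Agent.H47.InjCokerScheme

open Groth.Agent.Lib

variable {X Y : Scheme.{u}} (f : X ⟶ Y) {N M : X.Modules} (u : N ⟶ M)

/-- sections of a map of modules -/
noncomputable def secMap (U : X.Opens) : Γ(N, U) →ₗ[Γ(X, U)] Γ(M, U) where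
  toFun := u.app U
  map_add' := map_add _
  map_smul' r m := u.app_smul r m

variable [N.IsQuasicoherent] [M.IsQuasicoherent]

/-- Injectivity of the stalk map on an affine chart. -/
theorem injective_stalk_iff {U : X.Opens} (hU : IsAffineOpen U) {x : X} (hx : x ∈ U) :
    Function.Injective ((TopCat.Presheaf.stalkFunctor Ab x).map (Scheme.Modules.Hom.mapPresheaf u)) ↔
      ∀ z, secMap u U z = 0 → ∃ s ∉ (hU.primeIdealOf ⟨x, hx⟩).asIdeal, s • z = 0 := by
  letI := StalkLoc.Basic.moduleSections N hx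
  letI := StalkLoc.Basic.moduleSections M hx
  have hN := StalkLoc.Basic.isLocalizedModule_germ (M := N) hU hx
  have hM := StalkLoc.Basic.isLocalizedModule_germ (M := M) hU hx
  show Function.Injective (Modules.StalkModule.stalkMapₗ u x) ↔ _
  let q := (hU.primeIdealOf ⟨x, hx⟩).asIdeal
  constructor
  · intro hinj z hz
    have h0 : N.presheaf.germ U x hx z = 0 := hinj (by
      rw [Modules.StalkModule.stalkMapₗ_germ, map_zero (Modules.StalkModule.stalkMapₗ u x),
        show u.app U z = 0 from hz, map_zero])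
    obtain ⟨s, hs⟩ := (IsLocalizedModule.eq_zero_iff q.primeCompl (StalkLoc.Basic.germₗ N hx)).1 h0
    exact ⟨s, s.2, hs⟩
  · intro h
    rw [injective_iff_map_eq_zero]
    intro v hv
    obtain ⟨⟨z, w⟩, hzw⟩ := IsLocalizedModule.surj q.primeCompl (StalkLoc.Basic.germₗ N hx) v
    have hzw' : X.presheaf.germ U x hx w.1 • v = N.presheaf.germ U x hx z := hzw
    have h1 : M.presheaf.germ U x hx (secMap u U z) = 0 := by
      show M.presheaf.germ U x hx (u.app U z) = 0
      rw [← Modules.StalkModule.stalkMapₗ_germ, ← hzw', map_smul, hv, smul_zero]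
    obtain ⟨s, hs⟩ := (IsLocalizedModule.eq_zero_iff q.primeCompl (StalkLoc.Basic.germₗ M hx)).1 h1
    rw [Submonoid.smul_def, ← map_smul] at hs
    obtain ⟨t, ht, htz⟩ := h _ hs
    have hmem : t * s.1 ∈ q.primeCompl := q.primeCompl.mul_mem ht s.2
    have h2 : N.presheaf.germ U x hx z = 0 :=
      (IsLocalizedModule.eq_zero_iff q.primeCompl (StalkLoc.Basic.germₗ N hx)).2
        ⟨⟨_, hmem⟩, (mul_smul t s.1 z).trans htz⟩
    have h3 := (Module.End.isUnit_iff _).1
      (IsLocalizedModule.map_units (StalkLoc.Basic.germₗ N hx) w)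
    refine h3.1 ?_
    rw [map_zero]
    exact hzw'.trans h2

/-- The sections of the cokernel on an affine open. -/
theorem exists_cokerEquiv {U : X.Opens} (hU : IsAffineOpen U) :
    Nonempty ((Γ(M, U) ⧸ LinearMap.range (secMap u U)) ≃ₗ[Γ(X, U)] Γ(cokernel u, U)) := by
  have : (cokernel u).IsQuasicoherent := QCoh.Closure.isQCoh_cokernel u
  let π := secMap (cokernel.π u) U
  have hπ : Function.Surjective π := QCoh.Closure.sections_surjective_of_epi (cokernel.π u) hU
  have hker : LinearMap.ker π = LinearMap.range (secMap u U) := by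
    refine le_antisymm (fun y hy => ?_) ?_
    · -- lift through the image
      let S := ShortComplex.mk u (cokernel.π u) (cokernel.condition u)
      have hS : S.Exact := S.exact_of_g_is_cokernel (cokernelIsCokernel u)
      let T := ShortComplex.mk (kernel.ι (cokernel.π u)) (cokernel.π u) (kernel.condition _)
      have hT : T.Exact := T.exact_of_f_is_kernel (kernelIsKernel _)
      have : Mono T.f := inferInstanceAs (Mono (kernel.ι (cokernel.π u)))
      obtain ⟨k, hk⟩ := QCoh.Closure.sections_exact hT U y hy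
      have : Epi (kernel.lift (cokernel.π u) u (cokernel.condition u)) := hS.epi_kernelLift
      have : (kernel (cokernel.π u)).IsQuasicoherent := QCoh.Closure.isQCoh_kernel _
      obtain ⟨z, hz⟩ := QCoh.Closure.sections_surjective_of_epi
        (kernel.lift (cokernel.π u) u (cokernel.condition u)) hU k
      refine ⟨z, ?_⟩
      rw [← hk, ← hz]
      show u.app U z = _
      conv_lhs => rw [← kernel.lift_ι (cokernel.π u) u (cokernel.condition u)]
      rw [Scheme.Modules.Hom.comp_app]
      rfl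
    · rintro _ ⟨z, rfl⟩
      show (cokernel.π u).app U (u.app U z) = 0
      rw [← ConcreteCategory.comp_apply, ← Scheme.Modules.Hom.comp_app, cokernel.condition]
      rfl
  exact ⟨(Submodule.quotEquivOfEq _ _ hker.symm).trans (π.quotKerEquivOfSurjective hπ)⟩

/-- On an affine chart: injectivity of the stalk map and flatness of the cokernel. -/
theorem injFlatAt_iff {V : Y.Opens} (hV : IsAffineOpen V) {U : X.Opens} (hU : IsAffineOpen U)
    (hUV : U ≤ f ⁻¹ᵁ V) {x : X} (hx : x ∈ U) :
    letI := (f.appLE V U hUV).hom.toAlgebra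
    letI := Module.compHom Γ(M, U) (f.appLE V U hUV).hom
    haveI : IsScalarTower Γ(Y, V) Γ(X, U) Γ(M, U) := IsScalarTower.of_algebraMap_smul fun _ _ ↦ rfl
    (Function.Injective ((TopCat.Presheaf.stalkFunctor Ab x).map (Scheme.Modules.Hom.mapPresheaf u)) ∧
      FlatMod.IsFlatOverAt f (cokernel u) x) ↔
      InjCoker.InjFlatAt (A := Γ(Y, V)) (secMap u U) (hU.primeIdealOf ⟨x, hx⟩) := by
  letI : Algebra Γ(Y, V) Γ(X, U) := (f.appLE V U hUV).hom.toAlgebra
  letI : Module Γ(Y, V) Γ(M, U) := Module.compHom Γ(M, U) (f.appLE V U hUV).hom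
  haveI : IsScalarTower Γ(Y, V) Γ(X, U) Γ(M, U) := IsScalarTower.of_algebraMap_smul fun _ _ ↦ rfl
  have : (cokernel u).IsQuasicoherent := QCoh.Closure.isQCoh_cokernel u
  letI : Module Γ(Y, V) Γ(cokernel u, U) := Module.compHom _ (f.appLE V U hUV).hom
  haveI : IsScalarTower Γ(Y, V) Γ(X, U) Γ(cokernel u, U) := IsScalarTower.of_algebraMap_smul fun _ _ ↦ rfl
  obtain ⟨e⟩ := exists_cokerEquiv u hU
  let q := (hU.primeIdealOf ⟨x, hx⟩).asIdeal
  have hflat : Module.Flat Γ(Y, V) (LocalizedModule q.primeCompl (Γ(M, U) ⧸ LinearMap.range (secMap u U))) ↔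
      Module.Flat Γ(Y, V) (LocalizedModule q.primeCompl Γ(cokernel u, U)) := by
    let E := (IsLocalizedModule.mapEquiv q.primeCompl
      (LocalizedModule.mkLinearMap q.primeCompl (Γ(M, U) ⧸ LinearMap.range (secMap u U)))
      (LocalizedModule.mkLinearMap q.primeCompl Γ(cokernel u, U)) (Localization q.primeCompl) e)
    let E' := (E.restrictScalars Γ(X, U)).restrictScalars Γ(Y, V)
    exact ⟨fun _ => Module.Flat.of_linearEquiv E'.symm, fun _ => Module.Flat.of_linearEquiv E'⟩
  rw [H19.FlatLocus.Scheme.isFlatOverAt_iff f (cokernel u) hV hU hUV hx, injective_stalk_iff u hU hx,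
    InjCoker.InjFlatAt, hflat]

/-- Openness of the locus. -/
theorem isOpen_injective_flat_coker [LocallyOfFinitePresentation f] (hM : CohB1.IsFP M)
    (hN : CohB1.IsFP N) :
    IsOpen {x : X | Function.Injective ((TopCat.Presheaf.stalkFunctor Ab x).map
      (Scheme.Modules.Hom.mapPresheaf u)) ∧ FlatMod.IsFlatOverAt f (cokernel u) x} := by
  rw [isOpen_iff_forall_mem_open]
  intro x hx
  obtain ⟨V, hV, hxV, -⟩ := exists_isAffineOpen_mem_and_subset (X := Y) (x := f x) (U := ⊤) trivial
  obtain ⟨U, hU, hxU, hUV, hfpN, hfpM⟩ :=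
    FlatKernelScheme.exists_affine_le₂ N M hN hM x (f ⁻¹ᵁ V) hxV
  let : Algebra Γ(Y, V) Γ(X, U) := (f.appLE V U hUV).hom.toAlgebra
  let : Module Γ(Y, V) Γ(M, U) := Module.compHom Γ(M, U) (f.appLE V U hUV).hom
  have : IsScalarTower Γ(Y, V) Γ(X, U) Γ(M, U) := IsScalarTower.of_algebraMap_smul fun _ _ ↦ rfl
  have : Algebra.FinitePresentation Γ(Y, V) Γ(X, U) :=
    HasRingHomProperty.appLE @LocallyOfFinitePresentation f inferInstance ⟨V, hV⟩ ⟨U, hU⟩ hUV
  exact H19.FlatLocus.Scheme.exists_nhd_of_chart hU _ _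
    (InjCoker.isOpen_injFlatAt (A := Γ(Y, V)) (secMap u U))
    (fun y hy => injFlatAt_iff f u hV hU hUV hy) hxU hx

end Groth.Agent.H47.InjCokerScheme
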