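import Groth.Agent.H47.InjCokerDescend
import Groth.Agent.H47.InjFlatBC

/-!
# Injectivity with flat cokernel at a point descends to a finitely presented algebra
-/

set_option autoImplicit false
set_option backward.isDefEq.respectTransparency false

universe u

open TensorProduct

namespace Groth.Agent.H47.InjCokerStage

open Groth.Agent.H47.InjCoker Groth.Agent.H47.InjFlatBC

section forms

variable {B₀ : Type u} [CommRing B₀] {N M : Type u} [AddCommGroup N] [Module B₀ N] [AddCommGroup M]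
  [Module B₀ M] (u : N →ₗ[B₀] M) {C₁ : Type u} [CommRing C₁] {B₁ : Type u} [CommRing B₁]
  [Algebra B₀ B₁] [Algebra C₁ B₁] (E T : Type u) [CommRing E] [CommRing T] [Algebra C₁ E]
  [Algebra E T] [Algebra B₁ T] [Algebra C₁ T] [IsScalarTower C₁ E T] [IsScalarTower C₁ B₁ T]
  [Algebra.IsPushout C₁ E B₁ T] [Algebra B₀ T] [IsScalarTower B₀ B₁ T]

/-- The two descriptions of the base change. -/
noncomputable def formEquiv (X : Type u) [AddCommGroup X] [Module B₀ X] :
    E ⊗[C₁] (B₁ ⊗[B₀] X) ≃ₗ[E] T ⊗[B₀] X :=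
  (Algebra.IsPushout.cancelBaseChange C₁ E B₁ T (B₁ ⊗[B₀] X)).symm.trans
    ((AlgebraTensorModule.cancelBaseChange B₀ B₁ T T X).restrictScalars E)

theorem formEquiv_tmul (X : Type u) [AddCommGroup X] [Module B₀ X] (e : E) (b : B₁) (x : X) :
    formEquiv (C₁ := C₁) (B₁ := B₁) E T X (e ⊗ₜ[C₁] (b ⊗ₜ[B₀] x)) = (b • algebraMap E T e) ⊗ₜ[B₀] x := by
  simp [formEquiv]

theorem formEquiv_natural (z : E ⊗[C₁] (B₁ ⊗[B₀] N)) :
    formEquiv E T M (((u.baseChange B₁).restrictScalars C₁).lTensor E z) =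
      u.lTensor T (formEquiv E T N z) := by
  induction z using TensorProduct.induction_on with
  | zero => simp
  | add a b ha hb => simp only [map_add, ha, hb]
  | tmul e v =>
    induction v using TensorProduct.induction_on with
    | zero => simp
    | add a b ha hb => simp only [tmul_add, map_add, ha, hb]
    | tmul b x => simp [formEquiv_tmul]

theorem injective_iff :
    Function.Injective (((u.baseChange B₁).restrictScalars C₁).lTensor E) ↔
      Function.Injective (u.lTensor T) := by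
  constructor
  · intro h a b hab
    obtain ⟨a, rfl⟩ := (formEquiv (C₁ := C₁) (B₁ := B₁) E T N).surjective a
    obtain ⟨b, rfl⟩ := (formEquiv (C₁ := C₁) (B₁ := B₁) E T N).surjective b
    rw [← formEquiv_natural, ← formEquiv_natural] at hab
    rw [h ((formEquiv (C₁ := C₁) (B₁ := B₁) E T M).injective hab)]
  · intro h a b hab
    apply (formEquiv (C₁ := C₁) (B₁ := B₁) E T N).injective
    apply h
    rw [← formEquiv_natural, ← formEquiv_natural, hab]

theorem flat_iff :
    Module.Flat E (E ⊗[C₁] ((B₁ ⊗[B₀] M) ⧸ LinearMap.range (u.baseChange B₁))) ↔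
      Module.Flat E (T ⊗[B₀] (M ⧸ LinearMap.range u)) := by
  let e := (LinearEquiv.baseChange C₁ E _ _ ((cokerEquiv B₁ u).restrictScalars C₁)).trans
    (formEquiv E T (M ⧸ LinearMap.range u))
  exact ⟨fun _ => Module.Flat.of_linearEquiv e.symm, fun _ => Module.Flat.of_linearEquiv e⟩

end forms

theorem isAway_tensor {R S R' : Type u} [CommRing R] [CommRing S] [CommRing R'] [Algebra R S]
    [Algebra R R'] (r : R) [IsLocalization.Away r R'] :
    IsLocalization.Away (algebraMap R S r) (S ⊗[R] R') := by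
  have h : IsLocalization (Algebra.algebraMapSubmonoid S (Submonoid.powers r)) (S ⊗[R] R') :=
    inferInstance
  rwa [Algebra.algebraMapSubmonoid, Submonoid.map_powers] at h

theorem exists_stage_elem {A₀ A B₀ : Type u} [CommRing A₀] [CommRing A] [CommRing B₀] [Algebra A₀ A]
    [Algebra A₀ B₀] (z : A ⊗[A₀] B₀) :
    ∃ (i : FPColim.Idx A₀ A) (z₁ : FPColim.Stage i ⊗[A₀] B₀),
      (FPColim.toA i).toLinearMap.rTensor B₀ z₁ = z := by
  induction z using TensorProduct.induction_on with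
  | zero =>
    obtain ⟨i, -, -⟩ := (FPColim.isDirectedColimit (A₀ := A₀) (A := A)).2.2.2.2.2.1 (0 : A)
    exact ⟨i, 0, map_zero _⟩
  | tmul a b =>
    obtain ⟨i, c, hc⟩ := (FPColim.isDirectedColimit (A₀ := A₀) (A := A)).2.2.2.2.2.1 a
    exact ⟨i, c ⊗ₜ b, by rw [LinearMap.rTensor_tmul]; exact congrArg (· ⊗ₜ[A₀] b) hc⟩
  | add x y hx hy =>
    obtain ⟨ix, x', rfl⟩ := hx
    obtain ⟨iy, y', rfl⟩ := hy
    have : IsDirectedOrder (FPColim.Idx A₀ A) := FPColim.isDirectedColimit.1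
    obtain ⟨j, h1, h2⟩ := exists_ge_ge ix iy
    refine ⟨j, (FPColim.trans ix j h1).toLinearMap.rTensor B₀ x' +
      (FPColim.trans iy j h2).toLinearMap.rTensor B₀ y', ?_⟩
    rw [map_add, ← LinearMap.comp_apply,
      ← LinearMap.comp_apply (f := (FPColim.toA (A₀ := A₀) (A := A) j).toLinearMap.rTensor B₀),
      ← LinearMap.rTensor_comp, ← LinearMap.rTensor_comp]
    rw [show (FPColim.toA j).toLinearMap.comp (FPColim.trans ix j h1).toLinearMap = (FPColim.toA ix).toLinearMap from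
        LinearMap.ext (FPColim.toA_trans _ _ h1),
      show (FPColim.toA j).toLinearMap.comp (FPColim.trans iy j h2).toLinearMap = (FPColim.toA iy).toLinearMap from
        LinearMap.ext (FPColim.toA_trans _ _ h2)]

section away

attribute [local instance] Algebra.TensorProduct.rightAlgebra

variable {B₀ : Type u} [CommRing B₀] {N M : Type u} [AddCommGroup N] [Module B₀ N] [AddCommGroup M]
  [Module B₀ M] (u : N →ₗ[B₀] M) {C₁ B₁₀ : Type u} [CommRing C₁] [CommRing B₁₀] [Algebra C₁ B₁₀]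
  [Algebra B₀ B₁₀] (E D : Type u) [CommRing E] [CommRing D] [Algebra C₁ E] [Algebra E D]
  [Algebra C₁ D] [IsScalarTower C₁ E D] [Algebra B₁₀ D] [IsScalarTower C₁ B₁₀ D]
  [Algebra B₀ D] [IsScalarTower B₀ B₁₀ D] [Algebra.IsPushout C₁ E B₁₀ D] (s₁ : B₁₀)

set_option maxHeartbeats 1000000 in
/-- The two descriptions over a localization. -/
theorem forms_away :
    (Function.Injective (((u.baseChange (Localization.Away s₁)).restrictScalars C₁).lTensor E) ↔
      Function.Injective (u.lTensor (D ⊗[B₁₀] Localization.Away s₁))) ∧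
    (Module.Flat E (E ⊗[C₁] ((Localization.Away s₁ ⊗[B₀] M) ⧸
        LinearMap.range (u.baseChange (Localization.Away s₁)))) ↔
      Module.Flat E ((D ⊗[B₁₀] Localization.Away s₁) ⊗[B₀] (M ⧸ LinearMap.range u))) := by
  have : IsScalarTower B₀ (Localization.Away s₁) (D ⊗[B₁₀] Localization.Away s₁) :=
    IsScalarTower.of_algebraMap_eq (R := B₀) (S := Localization.Away s₁) fun b => by
      show (algebraMap B₀ D b) ⊗ₜ[B₁₀] (1 : Localization.Away s₁) =
        (1 : D) ⊗ₜ[B₁₀] (algebraMap B₀ (Localization.Away s₁) b)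
      rw [IsScalarTower.algebraMap_apply B₀ B₁₀ D,
        IsScalarTower.algebraMap_apply B₀ B₁₀ (Localization.Away s₁)]
      exact Algebra.TensorProduct.tmul_one_eq_one_tmul _
  have : IsScalarTower C₁ (Localization.Away s₁) (D ⊗[B₁₀] Localization.Away s₁) :=
    IsScalarTower.of_algebraMap_eq (R := C₁) (S := Localization.Away s₁) fun c => by
      show (algebraMap C₁ D c) ⊗ₜ[B₁₀] (1 : Localization.Away s₁) =
        (1 : D) ⊗ₜ[B₁₀] (algebraMap C₁ (Localization.Away s₁) c)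
      rw [IsScalarTower.algebraMap_apply C₁ B₁₀ D,
        IsScalarTower.algebraMap_apply C₁ B₁₀ (Localization.Away s₁)]
      exact Algebra.TensorProduct.tmul_one_eq_one_tmul _
  have hp' : Algebra.IsPushout C₁ B₁₀ E D := Algebra.IsPushout.symm inferInstance
  have : Algebra.IsPushout C₁ E (Localization.Away s₁) (D ⊗[B₁₀] Localization.Away s₁) :=
    ((Algebra.IsPushout.comp_iff C₁ B₁₀ E D (T := Localization.Away s₁)
      (T' := D ⊗[B₁₀] Localization.Away s₁)).2 inferInstance).symm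
  exact ⟨injective_iff u E _, flat_iff u E _⟩

set_option maxHeartbeats 1000000 in
/-- From the locus `D(s₁)` to the algebraic hypotheses over `E`. -/
theorem hyps_of_away
    (hkill : ∀ z, u.baseChange D z = 0 → ∃ n : ℕ, algebraMap B₁₀ D s₁ ^ n • z = 0)
    (hflat : ∀ p : PrimeSpectrum D, algebraMap B₁₀ D s₁ ∉ p.asIdeal →
      Module.Flat E (LocalizedModule p.asIdeal.primeCompl
        ((D ⊗[B₀] M) ⧸ LinearMap.range (u.baseChange D)))) :
    Function.Injective (((u.baseChange (Localization.Away s₁)).restrictScalars C₁).lTensor E) ∧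
    Module.Flat E (E ⊗[C₁] ((Localization.Away s₁ ⊗[B₀] M) ⧸
      LinearMap.range (u.baseChange (Localization.Away s₁)))) := by
  have := isAway_tensor (S := D) (R' := Localization.Away s₁) s₁
  exact ⟨(forms_away u E D s₁).1.2 (injective_of_kills (algebraMap B₁₀ D s₁) u hkill),
    (forms_away u E D s₁).2.2 (flat_of_forall (A := E) (algebraMap B₁₀ D s₁) u fun p hp =>
      (flat_localized_congr _ (cokerEquiv D u)).1 (hflat p hp))⟩

set_option maxHeartbeats 1000000 in
/-- From the algebraic hypotheses over `E` to the locus `D(s₁)`. -/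
theorem injFlatAt_of_hyps
    (hinj : Function.Injective (((u.baseChange (Localization.Away s₁)).restrictScalars C₁).lTensor E))
    (hflat : Module.Flat E (E ⊗[C₁] ((Localization.Away s₁ ⊗[B₀] M) ⧸
      LinearMap.range (u.baseChange (Localization.Away s₁)))))
    (p : PrimeSpectrum D) (hp : algebraMap B₁₀ D s₁ ∉ p.asIdeal) :
    InjFlatAt (A := E) (u.baseChange D) p := by
  have := isAway_tensor (S := D) (R' := Localization.Away s₁) s₁
  exact injFlatAt_of_away (A := E) (algebraMap B₁₀ D s₁) u ((forms_away u E D s₁).1.1 hinj)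
    ((forms_away u E D s₁).2.1 hflat) p hp

set_option maxHeartbeats 1000000 in
/-- The descent over an open `D(s₁)` of a stage. -/
theorem exists_stage_away [Algebra.FinitePresentation C₁ B₁₀] [Module.FinitePresentation B₀ N]
    [Module.FinitePresentation B₀ M]
    (hkill : ∀ z, u.baseChange D z = 0 → ∃ n : ℕ, algebraMap B₁₀ D s₁ ^ n • z = 0)
    (hflat : ∀ p : PrimeSpectrum D, algebraMap B₁₀ D s₁ ∉ p.asIdeal →
      Module.Flat E (LocalizedModule p.asIdeal.primeCompl
        ((D ⊗[B₀] M) ⧸ LinearMap.range (u.baseChange D)))) :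
    ∃ (C : Type u) (_ : CommRing C) (_ : Algebra C₁ C) (_ : Algebra.FinitePresentation C₁ C)
      (_ : C →ₐ[C₁] E),
      Function.Injective (((u.baseChange (Localization.Away s₁)).restrictScalars C₁).lTensor C) ∧
      Module.Flat C (C ⊗[C₁] ((Localization.Away s₁ ⊗[B₀] M) ⧸
        LinearMap.range (u.baseChange (Localization.Away s₁)))) := by
  obtain ⟨hinjA, hflatA⟩ := hyps_of_away (C₁ := C₁) u E D s₁ hkill hflat
  have : Algebra.FinitePresentation B₁₀ (Localization.Away s₁) :=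
    IsLocalization.Away.finitePresentation s₁
  have : Algebra.FinitePresentation C₁ (Localization.Away s₁) :=
    Algebra.FinitePresentation.trans C₁ B₁₀ (Localization.Away s₁)
  exact InjCokerDescend.exists_stage (A₀ := C₁) (B₀ := Localization.Away s₁)
    (u.baseChange (Localization.Away s₁)) E hinjA hflatA

end away

section main

attribute [local instance] Algebra.TensorProduct.rightAlgebra

variable {A₀ B₀ : Type u} [CommRing A₀] [CommRing B₀] [Algebra A₀ B₀]
  [Algebra.FinitePresentation A₀ B₀] {N M : Type u} [AddCommGroup N] [AddCommGroup M]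
  [Module B₀ N] [Module B₀ M] [Module.FinitePresentation B₀ N] [Module.FinitePresentation B₀ M]
  (u : N →ₗ[B₀] M)

/-- The map `C ⊗ B₀ → B` of an `A₀`-map `C → A`. -/
noncomputable def ψ {A B C : Type u} [CommRing A] [CommRing B] [CommRing C] [Algebra A₀ A]
    [Algebra A₀ C] [Algebra A₀ B] [Algebra A B] [IsScalarTower A₀ A B] [Algebra B₀ B]
    [IsScalarTower A₀ B₀ B] (φ : C →ₐ[A₀] A) : C ⊗[A₀] B₀ →ₐ[A₀] B :=
  Algebra.TensorProduct.productMap ((IsScalarTower.toAlgHom A₀ A B).comp φ)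
    (IsScalarTower.toAlgHom A₀ B₀ B)

set_option maxHeartbeats 1600000 in
theorem exists_stage_of_lift {A B C₁ : Type u} [CommRing A] [CommRing B] [CommRing C₁] [Algebra A₀ A]
    [Algebra A₀ B] [Algebra A B] [IsScalarTower A₀ A B] [Algebra B₀ B] [IsScalarTower A₀ B₀ B]
    [Algebra.IsPushout A₀ A B₀ B] [Algebra A₀ C₁] [Algebra.FinitePresentation A₀ C₁]
    (φ₁ : C₁ →ₐ[A₀] A) (q : PrimeSpectrum B) (s₁ : C₁ ⊗[A₀] B₀)
    (hs : ψ (B₀ := B₀) (B := B) φ₁ s₁ ∉ q.asIdeal)
    (hkill : ∀ z, u.baseChange B z = 0 → ∃ n : ℕ, ψ (B₀ := B₀) (B := B) φ₁ s₁ ^ n • z = 0)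
    (hflat : ∀ p : PrimeSpectrum B, ψ (B₀ := B₀) (B := B) φ₁ s₁ ∉ p.asIdeal →
      Module.Flat A (LocalizedModule p.asIdeal.primeCompl
        ((B ⊗[B₀] M) ⧸ LinearMap.range (u.baseChange B)))) :
    ∃ (C : Type u) (_ : CommRing C) (_ : Algebra A₀ C) (_ : Algebra.FinitePresentation A₀ C)
      (φ : C →ₐ[A₀] A), InjFlatAt (A := C) (u.baseChange (C ⊗[A₀] B₀))
        (q.comap (ψ (B₀ := B₀) (B := B) φ).toRingHom) := by
  let iA : Algebra C₁ A := φ₁.toRingHom.toAlgebra
  have : IsScalarTower A₀ C₁ A := IsScalarTower.of_algebraMap_eq fun a => (φ₁.commutes a).symm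
  let iB : Algebra C₁ B := ((algebraMap A B).comp (algebraMap C₁ A)).toAlgebra
  have : IsScalarTower C₁ A B := IsScalarTower.of_algebraMap_eq fun _ => rfl
  let i10 : Algebra (C₁ ⊗[A₀] B₀) B := (ψ (B₀ := B₀) (B := B) φ₁).toRingHom.toAlgebra
  have : IsScalarTower C₁ (C₁ ⊗[A₀] B₀) B :=
    IsScalarTower.of_algebraMap_eq (R := C₁) (S := C₁ ⊗[A₀] B₀) (A := B) fun c => by
    show algebraMap A B (φ₁ c) = ψ (B₀ := B₀) (B := B) φ₁ (c ⊗ₜ 1)
    exact ((Algebra.TensorProduct.productMap_apply_tmul _ _ c 1).trans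
      ((congrArg _ (map_one _)).trans (mul_one _))).symm
  have : IsScalarTower B₀ (C₁ ⊗[A₀] B₀) B :=
    IsScalarTower.of_algebraMap_eq (R := B₀) (S := C₁ ⊗[A₀] B₀) (A := B) fun b => by
    show algebraMap B₀ B b = ψ (B₀ := B₀) (B := B) φ₁ (1 ⊗ₜ b)
    exact ((Algebra.TensorProduct.productMap_apply_tmul _ _ 1 b).trans
      ((congrArg (· * _) (map_one _)).trans (one_mul _))).symm
  have : IsScalarTower A₀ (C₁ ⊗[A₀] B₀) B :=
    IsScalarTower.of_algebraMap_eq (R := A₀) (S := C₁ ⊗[A₀] B₀) (A := B) fun a =>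
      ((ψ (B₀ := B₀) (B := B) φ₁).commutes a).symm
  have hp : Algebra.IsPushout C₁ A (C₁ ⊗[A₀] B₀) B :=
    (Algebra.IsPushout.comp_iff A₀ C₁ B₀ (C₁ ⊗[A₀] B₀)).1 inferInstance
  obtain ⟨C, _, _, _, φ₂, hinjC, hflatC⟩ :=
    exists_stage_away (C₁ := C₁) (B₁₀ := C₁ ⊗[A₀] B₀) u A B s₁ hkill hflat
  let _ : Algebra A₀ C := ((algebraMap C₁ C).comp (algebraMap A₀ C₁)).toAlgebra
  have : IsScalarTower A₀ C₁ C := IsScalarTower.of_algebraMap_eq fun _ => rfl
  have hfpC : Algebra.FinitePresentation A₀ C := Algebra.FinitePresentation.trans A₀ C₁ C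
  let φ : C →ₐ[A₀] A := φ₂.restrictScalars A₀
  refine ⟨C, inferInstance, inferInstance, hfpC, φ, ?_⟩
  let g : C₁ ⊗[A₀] B₀ →ₐ[A₀] C ⊗[A₀] B₀ :=
    Algebra.TensorProduct.map (IsScalarTower.toAlgHom A₀ C₁ C) (AlgHom.id A₀ B₀)
  let ig : Algebra (C₁ ⊗[A₀] B₀) (C ⊗[A₀] B₀) := g.toRingHom.toAlgebra
  have : IsScalarTower C₁ (C₁ ⊗[A₀] B₀) (C ⊗[A₀] B₀) :=
    IsScalarTower.of_algebraMap_eq (R := C₁) (S := C₁ ⊗[A₀] B₀) (A := C ⊗[A₀] B₀) fun c => by
    show (algebraMap C₁ C c) ⊗ₜ[A₀] (1 : B₀) = g (c ⊗ₜ 1)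
    simp [g]
  have : IsScalarTower B₀ (C₁ ⊗[A₀] B₀) (C ⊗[A₀] B₀) :=
    IsScalarTower.of_algebraMap_eq (R := B₀) (S := C₁ ⊗[A₀] B₀) (A := C ⊗[A₀] B₀) fun b => by
    show (1 : C) ⊗ₜ[A₀] b = g (1 ⊗ₜ b)
    simp [g]
  have : IsScalarTower A₀ (C₁ ⊗[A₀] B₀) (C ⊗[A₀] B₀) :=
    IsScalarTower.of_algebraMap_eq (R := A₀) (S := C₁ ⊗[A₀] B₀) (A := C ⊗[A₀] B₀) fun a =>
      (g.commutes a).symm
  have hpD : Algebra.IsPushout C₁ C (C₁ ⊗[A₀] B₀) (C ⊗[A₀] B₀) :=
    (Algebra.IsPushout.comp_iff A₀ C₁ B₀ (C₁ ⊗[A₀] B₀)).1 inferInstance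
  refine injFlatAt_of_hyps u C (C ⊗[A₀] B₀) s₁ hinjC hflatC _ ?_
  show (ψ (B₀ := B₀) (B := B) φ) (g s₁) ∉ q.asIdeal
  have e : (ψ (B₀ := B₀) (B := B) φ).comp g = ψ (B₀ := B₀) (B := B) φ₁ := by
    refine Algebra.TensorProduct.ext' fun c b => ?_
    simp [g, ψ, φ]
    rfl
  rw [← AlgHom.comp_apply, e]
  exact hs

/-- Injectivity with flat cokernel at a point descends to a finitely presented algebra. -/
theorem exists_stage_at {A B : Type u} [CommRing A] [CommRing B] [Algebra A₀ A] [Algebra A₀ B]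
    [Algebra A B] [IsScalarTower A₀ A B] [Algebra B₀ B] [IsScalarTower A₀ B₀ B]
    [Algebra.IsPushout A₀ A B₀ B] (q : PrimeSpectrum B)
    (h : InjFlatAt (A := A) (u.baseChange B) q) :
    ∃ (C : Type u) (_ : CommRing C) (_ : Algebra A₀ C) (_ : Algebra.FinitePresentation A₀ C)
      (φ : C →ₐ[A₀] A), InjFlatAt (A := C) (u.baseChange (C ⊗[A₀] B₀))
        (q.comap (ψ (B₀ := B₀) (B := B) φ).toRingHom) := by
  have : Algebra.FinitePresentation A B :=
    Algebra.FinitePresentation.equiv (Algebra.IsPushout.equiv A₀ A B₀ B)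
  obtain ⟨s, hs, hkill, hflat⟩ := exists_kills (A := A) (u.baseChange B) q h
  obtain ⟨i, s₁, hs₁⟩ := exists_stage_elem ((Algebra.IsPushout.equiv A₀ A B₀ B).symm s)
  have e : ∀ z, Algebra.IsPushout.equiv A₀ A B₀ B ((FPColim.toA i).toLinearMap.rTensor B₀ z) =
      ψ (B₀ := B₀) (B := B) (FPColim.toA i) z := by
    intro z
    induction z using TensorProduct.induction_on with
    | zero => simp
    | add a b ha hb => simp only [map_add, ha, hb]
    | tmul c b =>
      rw [LinearMap.rTensor_tmul, Algebra.IsPushout.equiv_tmul]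
      exact (Algebra.TensorProduct.productMap_apply_tmul
        ((IsScalarTower.toAlgHom A₀ A B).comp (FPColim.toA i)) (IsScalarTower.toAlgHom A₀ B₀ B) c b).symm
  obtain rfl : ψ (B₀ := B₀) (B := B) (FPColim.toA i) s₁ = s := by
    rw [← e, hs₁, AlgEquiv.apply_symm_apply]
  exact exists_stage_of_lift u (FPColim.toA i) q s₁ hs hkill hflat

end main

end Groth.Agent.H47.InjCokerStage
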