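import Groth.Agent.H47.InjFlatBC
import Groth.Agent.Lib.LocalFlat.InjMod
import Mathlib.RingTheory.Localization.AtPrime.Basic
import Mathlib.LinearAlgebra.TensorProduct.Quotient
import Mathlib.RingTheory.LocalRing.ResidueField.Ideal

/-!
# Injectivity with flat cokernel and injectivity in the fibre
-/

set_option autoImplicit false
set_option backward.isDefEq.respectTransparency false

universe u

open TensorProduct

namespace Groth.Agent.H47.InjFibre

open Groth.Agent.H47.InjCoker

/-- The ideal of the fibre of a prime. -/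
def pB (A : Type u) [CommRing A] {B : Type u} [CommRing B] [Algebra A B] (q : PrimeSpectrum B) :
    Ideal B :=
  (q.asIdeal.comap (algebraMap A B)).map (algebraMap A B)

/-- Injective in the fibre at a prime. -/
def FibreInj (A : Type u) [CommRing A] {B : Type u} [CommRing B] [Algebra A B] {N M : Type u}
    [AddCommGroup N] [Module B N] [AddCommGroup M] [Module B M] (u : N →ₗ[B] M)
    (q : PrimeSpectrum B) : Prop :=
  ∀ z : N, (∃ s ∉ q.asIdeal, s • u z ∈ pB A q • (⊤ : Submodule B M)) →
    ∃ s ∉ q.asIdeal, s • z ∈ pB A q • (⊤ : Submodule B N)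

theorem mem_map_smul_iff {A B : Type u} [CommRing A] [CommRing B] [Algebra A B] {V : Type u}
    [AddCommGroup V] [Module A V] [Module B V] [IsScalarTower A B V] (I : Ideal A) (v : V) :
    v ∈ I.map (algebraMap A B) • (⊤ : Submodule B V) ↔ (1 : A ⧸ I) ⊗ₜ[A] v = 0 := by
  let e := TensorProduct.quotTensorEquivQuotSMul V I
  have he : e ((1 : A ⧸ I) ⊗ₜ[A] v) = Submodule.Quotient.mk v := by
    rw [← map_one (Ideal.Quotient.mk I)]
    exact (TensorProduct.quotTensorEquivQuotSMul_mk_tmul I 1 v).trans (congrArg _ (one_smul A v))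
  rw [← e.map_eq_zero_iff, he, Submodule.Quotient.mk_eq_zero,
    ← Submodule.restrictScalars_mem A, Ideal.smul_restrictScalars, Submodule.restrictScalars_top]

theorem fibreInj_of_injFlatAt {A B : Type u} [CommRing A] [CommRing B] [Algebra A B] {N M : Type u}
    [AddCommGroup N] [Module B N] [AddCommGroup M] [Module A M] [Module B M] [IsScalarTower A B M]
    (u : N →ₗ[B] M) (q : PrimeSpectrum B) (h : InjFlatAt (A := A) u q) : FibreInj A u q := by
  letI : Module A N := Module.compHom N (algebraMap A B)
  haveI : IsScalarTower A B N := IsScalarTower.of_algebraMap_smul fun _ _ => rfl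
  let p : Ideal A := q.asIdeal.comap (algebraMap A B)
  letI : Algebra B ((A ⧸ p) ⊗[A] B) := Algebra.TensorProduct.rightAlgebra
  have hp : ∀ a ∈ p, (Ideal.Quotient.mkₐ A q.asIdeal).comp (IsScalarTower.toAlgHom A A B) a = 0 :=
    fun a _ => by
      show Ideal.Quotient.mk q.asIdeal (algebraMap A B a) = 0
      exact Ideal.Quotient.eq_zero_iff_mem.2 ‹a ∈ p›
  let κ : (A ⧸ p) →ₐ[A] (B ⧸ q.asIdeal) :=
    Ideal.Quotient.liftₐ p (Algebra.ofId A (B ⧸ q.asIdeal)) fun a ha => by
      show Ideal.Quotient.mk q.asIdeal (algebraMap A B a) = 0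
      exact Ideal.Quotient.eq_zero_iff_mem.2 ha
  let χ : (A ⧸ p) ⊗[A] B →ₐ[A] (B ⧸ q.asIdeal) :=
    Algebra.TensorProduct.productMap κ (Ideal.Quotient.mkₐ A q.asIdeal)
  let q' : PrimeSpectrum ((A ⧸ p) ⊗[A] B) := PrimeSpectrum.comap χ.toRingHom ⟨⊥, Ideal.isPrime_bot⟩
  have hqq : q'.comap (algebraMap B ((A ⧸ p) ⊗[A] B)) = q := by
    ext b
    show χ ((1 : A ⧸ p) ⊗ₜ b) ∈ (⊥ : Ideal (B ⧸ q.asIdeal)) ↔ b ∈ q.asIdeal
    rw [Ideal.mem_bot, Algebra.TensorProduct.productMap_apply_tmul, map_one, one_mul]
    exact Ideal.Quotient.eq_zero_iff_mem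
  have h' := InjFlatBC.baseChange (A := A) (A' := A ⧸ p) (B' := (A ⧸ p) ⊗[A] B) u q' (hqq.symm ▸ h)
  have hone : ∀ {V : Type u} [AddCommGroup V] [Module A V] [Module B V] [IsScalarTower A B V] (v : V),
      (1 : (A ⧸ p) ⊗[A] B) ⊗ₜ[B] v = 0 ↔ v ∈ pB A q • (⊤ : Submodule B V) := by
    intro V _ _ _ _ v
    rw [pB, mem_map_smul_iff, ← (Algebra.IsPushout.cancelBaseChange A (A ⧸ p) B _ V).map_eq_zero_iff,
      Algebra.IsPushout.cancelBaseChange_tmul]
  rintro z ⟨s, hs, hsz⟩
  obtain ⟨t, ht, htz⟩ := h'.1 ((1 : (A ⧸ p) ⊗[A] B) ⊗ₜ[B] (s • z)) (by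
    rw [LinearMap.baseChange_tmul, hone, map_smul]
    exact hsz)
  -- the fibre elements come from `B`
  obtain ⟨b, rfl⟩ : ∃ b : B, algebraMap B ((A ⧸ p) ⊗[A] B) b = t := by
    clear ht htz
    induction t using TensorProduct.induction_on with
    | zero => exact ⟨0, map_zero _⟩
    | add x y hx hy =>
      obtain ⟨a, rfl⟩ := hx
      obtain ⟨b, rfl⟩ := hy
      exact ⟨a + b, map_add _ _ _⟩
    | tmul a b =>
      obtain ⟨a, rfl⟩ := Ideal.Quotient.mk_surjective a
      refine ⟨a • b, ?_⟩
      show (1 : A ⧸ p) ⊗ₜ[A] (a • b) = _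
      rw [TensorProduct.tmul_smul, TensorProduct.smul_tmul', Algebra.smul_def, mul_one]
      rfl
  rw [algebraMap_smul, ← TensorProduct.tmul_smul, hone, ← mul_smul] at htz
  refine ⟨b * s, q.isPrime.mul_notMem ?_ hs, htz⟩
  rw [← hqq]
  exact ht

/-- Tensoring with a field keeps injective maps of modules killed by the kernel injective. -/
theorem lTensor_injective_of_killed {C : Type u} [CommRing C] (p : Ideal C) [p.IsPrime]
    (K : Type u) [Field K] [Algebra C K] (hK : RingHom.ker (algebraMap C K) = p) {X W : Type u}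
    [AddCommGroup X] [Module C X] [AddCommGroup W] [Module C W] (g : X →ₗ[C] W)
    (hg : Function.Injective g) (hW : ∀ c ∈ p, ∀ w : W, c • w = 0) :
    Function.Injective (g.lTensor K) := by
  have hX : ∀ c ∈ p, ∀ x : X, c • x = 0 := fun c hc x => hg (by rw [map_smul, hW c hc, map_zero])
  have tX : Module.IsTorsionBySet C X p := fun x c => hX c.1 c.2 x
  have tW : Module.IsTorsionBySet C W p := fun x c => hW c.1 c.2 x
  letI : Module (C ⧸ p) X := tX.module
  letI : Module (C ⧸ p) W := tW.module
  haveI : IsScalarTower C (C ⧸ p) X := tX.isScalarTower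
  haveI : IsScalarTower C (C ⧸ p) W := tW.isScalarTower
  let γ : C ⧸ p →+* K := Ideal.Quotient.lift p (algebraMap C K) (fun a ha => by rw [← hK] at ha; exact ha)
  letI : Algebra (C ⧸ p) K := γ.toAlgebra
  haveI : IsScalarTower C (C ⧸ p) K := IsScalarTower.of_algebraMap_eq fun _ => rfl
  have hγ : Function.Injective γ :=
    (injective_iff_map_eq_zero _).2 fun a ha => by
      obtain ⟨a, rfl⟩ := Ideal.Quotient.mk_surjective a
      exact Ideal.Quotient.eq_zero_iff_mem.2 (hK ▸ ha)
  let F := FractionRing (C ⧸ p)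
  let δ : F →+* K := IsFractionRing.lift hγ
  letI : Algebra F K := δ.toAlgebra
  haveI : IsScalarTower (C ⧸ p) F K :=
    IsScalarTower.of_algebraMap_eq fun a => (IsFractionRing.lift_algebraMap hγ a).symm
  haveI : Module.Flat (C ⧸ p) F := IsLocalization.flat F (nonZeroDivisors (C ⧸ p))
  haveI : Module.Flat (C ⧸ p) K := Module.Flat.trans (C ⧸ p) F K
  have hs : Function.Surjective (algebraMap C (C ⧸ p)) := Ideal.Quotient.mk_surjective
  let g' : X →ₗ[C ⧸ p] W := g.extendScalarsOfSurjective hs
  have h : Function.Injective (g'.lTensor K) :=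
    Module.Flat.lTensor_preserves_injective_linearMap g' hg
  have cX : CompatibleSMul C (C ⧸ p) K X := ⟨fun a k x => by
    obtain ⟨a, rfl⟩ := hs a
    rw [algebraMap_smul, algebraMap_smul, TensorProduct.smul_tmul]⟩
  have cW : CompatibleSMul C (C ⧸ p) K W := ⟨fun a k x => by
    obtain ⟨a, rfl⟩ := hs a
    rw [algebraMap_smul, algebraMap_smul, TensorProduct.smul_tmul]⟩
  let eX := TensorProduct.equivOfCompatibleSMul C (C ⧸ p) (C ⧸ p) K X
  let eW := TensorProduct.equivOfCompatibleSMul C (C ⧸ p) (C ⧸ p) K W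
  have e : ∀ z, g.lTensor K (eX z) = eW (g'.lTensor K z) := by
    intro z
    induction z using TensorProduct.induction_on with
    | zero => simp
    | add a b ha hb => simp only [map_add, ha, hb]
    | tmul a x => exact LinearMap.lTensor_tmul _ _ _ _
  intro a b hab
  obtain ⟨a, rfl⟩ := eX.surjective a
  obtain ⟨b, rfl⟩ := eX.surjective b
  rw [e, e] at hab
  rw [h (eW.injective hab)]

set_option maxHeartbeats 1000000 in
/-- Vanishing in the fibre descends. -/
theorem descend_mem {C A D P : Type u} [CommRing C] [CommRing A] [CommRing D] [CommRing P]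
    [Algebra C A] [Algebra C D] [Algebra A P] [Algebra D P] [Algebra C P] [IsScalarTower C A P]
    [IsScalarTower C D P] [Algebra.IsPushout C A D P] {V : Type u} [AddCommGroup V] [Module D V]
    (q : PrimeSpectrum P) (z : V)
    (h : ∃ t ∉ q.asIdeal, t • ((1 : P) ⊗ₜ[D] z) ∈ pB A q • (⊤ : Submodule P (P ⊗[D] V))) :
    ∃ t ∉ (q.comap (algebraMap D P)).asIdeal,
      t • z ∈ pB C (q.comap (algebraMap D P)) • (⊤ : Submodule D V) := by
  obtain ⟨t, ht, htz⟩ := h
  by_contra hne
  push Not at hne
  letI : Module C V := Module.compHom V (algebraMap C D)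
  haveI : IsScalarTower C D V := IsScalarTower.of_algebraMap_smul fun _ _ => rfl
  let qD := q.comap (algebraMap D P)
  let Q : Submodule D V := pB C qD • ⊤
  let W := V ⧸ Q
  let θ : D →ₗ[D] W := LinearMap.toSpanSingleton D W (Q.mkQ z)
  let I : Ideal D := LinearMap.ker θ
  have hI : I ≤ qD.asIdeal := fun x hx => by
    by_contra hxq
    refine hne x hxq ((Submodule.Quotient.mk_eq_zero Q).1 ?_)
    exact hx
  let g : (D ⧸ I) →ₗ[C] W := ((LinearMap.ker θ).liftQ θ le_rfl).restrictScalars C
  have hg : Function.Injective g := by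
    rw [← LinearMap.ker_eq_bot]
    show LinearMap.ker (((LinearMap.ker θ).liftQ θ le_rfl).restrictScalars C) = ⊥
    rw [LinearMap.ker_restrictScalars, Submodule.ker_liftQ_eq_bot _ _ _ le_rfl, Submodule.restrictScalars_bot]
  let K := q.asIdeal.ResidueField
  let p : Ideal C := qD.asIdeal.comap (algebraMap C D)
  have hK : RingHom.ker (algebraMap C K) = p := by
    ext c
    rw [RingHom.mem_ker, IsScalarTower.algebraMap_apply C P K,
      Ideal.algebraMap_residueField_eq_zero, IsScalarTower.algebraMap_apply C D P]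
    rfl
  have hW : ∀ c ∈ p, ∀ w : W, c • w = 0 := fun c hc w => by
    obtain ⟨v, rfl⟩ := Submodule.Quotient.mk_surjective Q w
    rw [← algebraMap_smul D c, ← Submodule.Quotient.mk_smul, Submodule.Quotient.mk_eq_zero]
    exact Submodule.smul_mem_smul (Ideal.mem_map_of_mem _ hc) Submodule.mem_top
  have hinj := lTensor_injective_of_killed p K hK g hg hW
  let c := Algebra.IsPushout.cancelBaseChange C A D P V
  let Ψ : P ⊗[D] V →ₗ[A] K ⊗[C] W :=
    (AlgebraTensorModule.map (Algebra.linearMap A K) (Q.mkQ.restrictScalars C)).comp c.toLinearMap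
  let e := Algebra.IsPushout.equiv C A D P
  let Φ : A ⊗[C] D →ₗ[A] K ⊗[C] (D ⧸ I) :=
    AlgebraTensorModule.map (Algebra.linearMap A K)
      ((Submodule.mkQ I).restrictScalars C)
  have key : ∀ w : A ⊗[C] D, g.lTensor K (Φ w) = Ψ (e w • ((1 : P) ⊗ₜ[D] z)) := by
    intro w
    induction w using TensorProduct.induction_on with
    | zero => simp
    | add a b ha hb => simp only [map_add, add_smul, ha, hb]
    | tmul a d =>
      rw [Algebra.IsPushout.equiv_tmul, TensorProduct.smul_tmul', smul_eq_mul, mul_one, mul_comm,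
        ← Algebra.smul_def, TensorProduct.smul_tmul]
      have hc : c (algebraMap A P a ⊗ₜ[D] (d • z)) = a ⊗ₜ[C] (d • z) := by
        rw [← Algebra.IsPushout.cancelBaseChange_symm_tmul C A D P, LinearEquiv.apply_symm_apply]
      show g.lTensor K (Φ (a ⊗ₜ[C] d)) = (AlgebraTensorModule.map (Algebra.linearMap A K)
        (Q.mkQ.restrictScalars C)) (c (algebraMap A P a ⊗ₜ[D] (d • z)))
      rw [hc]
      rfl
  have hzero : ∀ y ∈ pB A q • (⊤ : Submodule P (P ⊗[D] V)), Ψ y = 0 := by
    intro y hy
    rw [pB, ← Submodule.restrictScalars_mem A, Ideal.smul_restrictScalars] at hy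
    refine Submodule.smul_induction_on hy (fun a ha v _ => ?_) fun a b ha hb => by rw [map_add, ha, hb, add_zero]
    have ha0 : algebraMap A K a = 0 := by
      rw [IsScalarTower.algebraMap_apply A P K, Ideal.algebraMap_residueField_eq_zero]
      exact ha
    rw [map_smul, ← algebraMap_smul K a, ha0, zero_smul]
  have hΦ : Φ (e.symm t) = 0 := hinj (by
    rw [map_zero, key, AlgEquiv.apply_symm_apply]
    exact hzero _ htz)
  let χ : (D ⧸ I) →ₗ[C] K := (Submodule.liftQ I (Algebra.linearMap D K) (fun x hx => by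
    show algebraMap D K x = 0
    rw [IsScalarTower.algebraMap_apply D P K, Ideal.algebraMap_residueField_eq_zero]
    exact hI hx)).restrictScalars C
  let π : K ⊗[C] (D ⧸ I) →ₗ[C] K := TensorProduct.lift ((LinearMap.mul C K).compl₂ χ)
  have hπ : ∀ w : A ⊗[C] D, π (Φ w) = algebraMap P K (e w) := by
    intro w
    induction w using TensorProduct.induction_on with
    | zero => simp
    | add a b ha hb => simp only [map_add, ha, hb]
    | tmul a d =>
      rw [Algebra.IsPushout.equiv_tmul, map_mul, ← IsScalarTower.algebraMap_apply A P K,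
        ← IsScalarTower.algebraMap_apply D P K]
      rfl
  have h0 := hπ (e.symm t)
  rw [hΦ, map_zero, AlgEquiv.apply_symm_apply, eq_comm, Ideal.algebraMap_residueField_eq_zero] at h0
  exact ht h0

/-- `FibreInj` only depends on the map up to isomorphism. -/
theorem FibreInj.congr {A B : Type u} [CommRing A] [CommRing B] [Algebra A B] {N M N' M' : Type u}
    [AddCommGroup N] [Module B N] [AddCommGroup M] [Module B M] [AddCommGroup N'] [Module B N']
    [AddCommGroup M'] [Module B M'] (u : N →ₗ[B] M) (u' : N' →ₗ[B] M') (eN : N ≃ₗ[B] N')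
    (eM : M ≃ₗ[B] M') (h : ∀ z, eM (u z) = u' (eN z)) (q : PrimeSpectrum B) (hu : FibreInj A u q) :
    FibreInj A u' q := by
  have key : ∀ {V V' : Type u} [AddCommGroup V] [Module B V] [AddCommGroup V'] [Module B V']
      (e : V →ₗ[B] V') (v : V), v ∈ pB A q • (⊤ : Submodule B V) → e v ∈ pB A q • (⊤ : Submodule B V') := by
    intro V V' _ _ _ _ e v hv
    have h1 := Submodule.mem_map_of_mem (f := e) hv
    rw [Submodule.map_smul''] at h1
    exact Submodule.smul_mono le_rfl le_top h1
  rintro z ⟨s, hs, hsz⟩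
  obtain ⟨z, rfl⟩ := eN.surjective z
  rw [← h, ← map_smul] at hsz
  have h1 := key eM.symm.toLinearMap _ hsz
  rw [LinearEquiv.coe_coe, LinearEquiv.symm_apply_apply] at h1
  obtain ⟨t, ht, htz⟩ := hu z ⟨s, hs, h1⟩
  exact ⟨t, ht, by rw [← map_smul]; exact key eN.toLinearMap _ htz⟩

/-- Injectivity in the fibre descends. -/
theorem FibreInj.descend {C A D P : Type u} [CommRing C] [CommRing A] [CommRing D] [CommRing P]
    [Algebra C A] [Algebra C D] [Algebra A P] [Algebra D P] [Algebra C P] [IsScalarTower C A P]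
    [IsScalarTower C D P] [Algebra.IsPushout C A D P] {N M : Type u} [AddCommGroup N] [Module D N]
    [AddCommGroup M] [Module D M] (u : N →ₗ[D] M) (q : PrimeSpectrum P)
    (h : FibreInj A (u.baseChange P) q) : FibreInj C u (q.comap (algebraMap D P)) := by
  rintro z ⟨s, hs, hsz⟩
  obtain ⟨t, ht, htz⟩ := h ((1 : P) ⊗ₜ[D] z) ⟨algebraMap D P s, hs, by
    rw [LinearMap.baseChange_tmul, algebraMap_smul, ← TensorProduct.tmul_smul]
    refine Submodule.smul_induction_on hsz (fun r hr v _ => ?_) fun a b ha hb => by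
      rw [TensorProduct.tmul_add]; exact add_mem ha hb
    rw [TensorProduct.tmul_smul, ← algebraMap_smul P r]
    refine Submodule.smul_mem_smul ?_ Submodule.mem_top
    refine (show pB C (q.comap (algebraMap D P)) ≤ (pB A q).comap (algebraMap D P) from
      Ideal.map_le_iff_le_comap.2 fun c hc => ?_) hr
    show algebraMap D P (algebraMap C D c) ∈ pB A q
    rw [← IsScalarTower.algebraMap_apply C D P, IsScalarTower.algebraMap_apply C A P]
    refine Ideal.mem_map_of_mem _ ?_
    show algebraMap A P (algebraMap C A c) ∈ q.asIdeal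
    rw [← IsScalarTower.algebraMap_apply C A P, IsScalarTower.algebraMap_apply C D P]
    exact hc⟩
  exact descend_mem (C := C) (A := A) q z ⟨t, ht, htz⟩

/-- `y ∈ I • M_W` comes from `I • M`. -/
theorem exists_of_mem_smul {D : Type u} [CommRing D] (W : Submonoid D) (I : Ideal D) {M M' : Type u}
    [AddCommGroup M] [Module D M] [AddCommGroup M'] [Module D M'] (l : M →ₗ[D] M')
    [IsLocalizedModule W l] {y : M'} (hy : y ∈ I • (⊤ : Submodule D M')) :
    ∃ s ∈ W, ∃ m ∈ I • (⊤ : Submodule D M), s • y = l m := by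
  refine Submodule.smul_induction_on hy (fun r hr x _ => ?_) ?_
  · obtain ⟨⟨m, s⟩, hm⟩ := IsLocalizedModule.surj W l x
    exact ⟨s, s.2, r • m, Submodule.smul_mem_smul hr Submodule.mem_top, by
      rw [map_smul, smul_comm]; exact congrArg (r • ·) hm⟩
  · rintro a b ⟨s, hs, m, hm, e⟩ ⟨s', hs', m', hm', e'⟩
    refine ⟨s' * s, W.mul_mem hs' hs, s' • m + s • m', add_mem (Submodule.smul_mem _ _ hm)
      (Submodule.smul_mem _ _ hm'), ?_⟩
    rw [smul_add, map_add, map_smul, map_smul, mul_smul, e, mul_comm, mul_smul, e']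

set_option maxHeartbeats 1000000 in
/-- Noetherian case. -/
theorem injFlatAt_of_fibreInj {C D : Type u} [CommRing C] [CommRing D] [Algebra C D]
    [IsNoetherianRing D] {N M : Type u} [AddCommGroup N] [Module D N] [Module.Finite D N]
    [AddCommGroup M] [Module C M] [Module D M] [IsScalarTower C D M] (u : N →ₗ[D] M)
    (q : PrimeSpectrum D) (hM : Module.Flat C (LocalizedModule q.asIdeal.primeCompl M))
    (h : FibreInj C u q) : InjFlatAt (A := C) u q := by
  let p : Ideal C := q.asIdeal.comap (algebraMap C D)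
  let R := Localization.AtPrime p
  let S := Localization.AtPrime q.asIdeal
  let W := q.asIdeal.primeCompl
  let φ : R →+* S := Localization.localRingHom p q.asIdeal (algebraMap C D) rfl
  letI : Algebra R S := φ.toAlgebra
  haveI : IsLocalHom (algebraMap R S) :=
    Localization.isLocalHom_localRingHom p q.asIdeal (algebraMap C D) rfl
  haveI : IsScalarTower C R S := IsScalarTower.of_algebraMap_eq fun c => by
    rw [IsScalarTower.algebraMap_apply C D S]
    exact (Localization.localRingHom_to_map p q.asIdeal (algebraMap C D) rfl c).symm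
  letI : Module C N := Module.compHom N (algebraMap C D)
  haveI : IsScalarTower C D N := IsScalarTower.of_algebraMap_smul fun _ _ => rfl
  let lN := LocalizedModule.mkLinearMap W N
  let lM := LocalizedModule.mkLinearMap W M
  let lC := LocalizedModule.mkLinearMap W (M ⧸ LinearMap.range u)
  letI : Module R (LocalizedModule W N) := Module.compHom _ φ
  letI : Module R (LocalizedModule W M) := Module.compHom _ φ
  haveI : IsScalarTower R S (LocalizedModule W N) := IsScalarTower.of_algebraMap_smul fun _ _ => rfl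
  haveI : IsScalarTower R S (LocalizedModule W M) := IsScalarTower.of_algebraMap_smul fun _ _ => rfl
  haveI : IsScalarTower C R (LocalizedModule W N) := IsScalarTower.to₁₂₄ C R S _
  haveI : IsScalarTower C R (LocalizedModule W M) := IsScalarTower.to₁₂₄ C R S _
  haveI : Module.Flat R (LocalizedModule W M) :=
    (Module.flat_iff_of_isLocalization R p.primeCompl (LocalizedModule W M)).2 hM
  have : Module.Finite S (LocalizedModule W N) :=
    Module.Finite.of_isLocalizedModule W lN
  let uS : LocalizedModule W N →ₗ[S] LocalizedModule W M :=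
    IsLocalizedModule.mapExtendScalars W lN lM S u
  let pS : LocalizedModule W M →ₗ[S] LocalizedModule W (M ⧸ LinearMap.range u) :=
    IsLocalizedModule.mapExtendScalars W lM lC S (LinearMap.range u).mkQ
  let uR := uS.restrictScalars R
  -- the map is injective modulo the maximal ideal
  have hmem : ∀ {V : Type u} [AddCommGroup V] [Module C V] [Module D V] [Module R V]
      [IsScalarTower C D V] [IsScalarTower C R V] (v : V),
      (1 : IsLocalRing.ResidueField R) ⊗ₜ[R] v = 0 ↔ v ∈ pB C q • (⊤ : Submodule D V) := by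
    intro V _ _ _ _ _ _ v
    have h1 := mem_map_smul_iff (A := R) (B := R) (IsLocalRing.maximalIdeal R) v
    rw [Algebra.algebraMap_self, Ideal.map_id] at h1
    refine h1.symm.trans ?_
    rw [← Localization.AtPrime.map_eq_maximalIdeal (I := p), pB, ← Submodule.restrictScalars_mem C
      (Ideal.map (algebraMap C R) p • (⊤ : Submodule R V)) v, Ideal.smul_restrictScalars,
      ← Submodule.restrictScalars_mem C (Ideal.map (algebraMap C D) p • (⊤ : Submodule D V)) v,
      Ideal.smul_restrictScalars]
    rfl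
  have hfib : Function.Injective (uR.lTensor (IsLocalRing.ResidueField R)) := by
    rw [injective_iff_map_eq_zero]
    intro w hw
    obtain ⟨v, rfl⟩ : ∃ v, (1 : IsLocalRing.ResidueField R) ⊗ₜ[R] v = w := by
      clear hw
      induction w using TensorProduct.induction_on with
      | zero => exact ⟨0, tmul_zero _ _⟩
      | add x y hx hy =>
        obtain ⟨a, rfl⟩ := hx
        obtain ⟨b, rfl⟩ := hy
        exact ⟨a + b, tmul_add _ _ _⟩
      | tmul a b =>
        obtain ⟨a, rfl⟩ := IsLocalRing.residue_surjective a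
        refine ⟨a • b, ?_⟩
        rw [TensorProduct.tmul_smul, TensorProduct.smul_tmul', Algebra.smul_def, mul_one]
        rfl
    rw [LinearMap.lTensor_tmul, hmem] at hw
    rw [hmem]
    obtain ⟨⟨n, w⟩, hnw⟩ := IsLocalizedModule.surj W lN v
    have h1 : lM (u n) ∈ pB C q • (⊤ : Submodule D (LocalizedModule W M)) := by
      rw [← IsLocalizedModule.map_apply W lN lM, ← hnw, Submonoid.smul_def, map_smul]
      exact Submodule.smul_mem _ _ hw
    obtain ⟨s, hs, m, hm, hsm⟩ := exists_of_mem_smul W (pB C q) lM h1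
    rw [← map_smul, IsLocalizedModule.eq_iff_exists W lM] at hsm
    obtain ⟨s', hs'⟩ := hsm
    obtain ⟨r, hr, hrn⟩ := h n ⟨s'.1 * s, q.isPrime.mul_notMem s'.2 hs, by
      rw [mul_smul]
      have hs'' : s'.1 • s • u n = s'.1 • m := hs'
      rw [hs'']
      exact Submodule.smul_mem _ _ hm⟩
    have hu := (Module.End.isUnit_iff _).1 (IsLocalizedModule.map_units lN ⟨r * w.1, W.mul_mem hr w.2⟩)
    let E := LinearEquiv.ofBijective _ hu
    have h2 : E v ∈ pB C q • (⊤ : Submodule D (LocalizedModule W N)) := by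
      show (r * w.1) • v ∈ _
      rw [mul_smul]
      have hw' : w.1 • v = lN n := hnw
      rw [hw', ← map_smul]
      have := Submodule.mem_map_of_mem (f := lN) hrn
      rw [Submodule.map_smul''] at this
      exact Submodule.smul_mono le_rfl le_top this
    have h3 := Submodule.mem_map_of_mem (f := E.symm.toLinearMap) h2
    rw [Submodule.map_smul'', LinearEquiv.coe_coe, LinearEquiv.symm_apply_apply] at h3
    exact Submodule.smul_mono le_rfl le_top h3
  have hinj := Lib.LocalFlat.InjMod.injective_of_injective_mod uR hfib S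
  have hflat := Lib.LocalFlat.InjMod.flat_coker uR hfib S
  refine ⟨fun z hz => ?_, ?_⟩
  · have h0 : lN z = 0 := hinj (by
      rw [map_zero]
      show uS (lN z) = 0
      rw [IsLocalizedModule.mapExtendScalars_apply_apply, IsLocalizedModule.map_apply, hz, map_zero])
    obtain ⟨w, hw⟩ := (IsLocalizedModule.eq_zero_iff W lN).1 h0
    exact ⟨w, w.2, hw⟩
  · have hp : Function.Surjective pS :=
      IsLocalizedModule.map_surjective W lM lC _ (Submodule.mkQ_surjective _)
    have hexact : Function.Exact uS pS :=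
      IsLocalizedModule.map_exact W lN lM lC u _ (LinearMap.exact_iff.2 (Submodule.ker_mkQ _))
    letI : Module R (LocalizedModule W (M ⧸ LinearMap.range u)) := Module.compHom _ φ
    haveI : IsScalarTower R S (LocalizedModule W (M ⧸ LinearMap.range u)) :=
      IsScalarTower.of_algebraMap_smul fun _ _ => rfl
    haveI : IsScalarTower C R (LocalizedModule W (M ⧸ LinearMap.range u)) :=
      IsScalarTower.to₁₂₄ C R S _
    let e := (Submodule.quotEquivOfEq _ _ (LinearMap.exact_iff.1 hexact).symm).trans
      (pS.quotKerEquivOfSurjective hp)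
    have : Module.Flat R (LocalizedModule W (M ⧸ LinearMap.range u)) := by
      have hr : LinearMap.range uR = (LinearMap.range uS).restrictScalars R := rfl
      have : Module.Flat R (LocalizedModule W M ⧸ LinearMap.range uS) :=
        Module.Flat.of_linearEquiv ((Submodule.quotEquivOfEq _ _ hr).trans
          (Submodule.Quotient.restrictScalarsEquiv R (LinearMap.range uS))).symm
      exact Module.Flat.of_linearEquiv (e.restrictScalars R).symm
    haveI : Module.Flat C R := IsLocalization.flat R p.primeCompl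
    exact Module.Flat.trans C R _

end Groth.Agent.H47.InjFibre
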