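import Groth.Agent.H47.InjModel
import Groth.Agent.H47.InjCokerScheme

/-!
# The fibre criterion on stalks
-/

set_option autoImplicit false
set_option backward.isDefEq.respectTransparency false

universe u

open CategoryTheory CategoryTheory.Limits AlgebraicGeometry Opposite

namespace Groth.Agent.H47.InjFibreScheme

open Groth.Agent.Lib Groth.Agent.H47.InjCoker Groth.Agent.H47.InjFibre

/-- The fibre condition on a localization. -/
theorem fibre_localized_iff {B : Type u} [CommRing B] (W : Submonoid B) (I : Ideal B)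
    {N M N' M' : Type u} [AddCommGroup N] [Module B N] [AddCommGroup M] [Module B M]
    [AddCommGroup N'] [Module B N'] [AddCommGroup M'] [Module B M'] (lN : N →ₗ[B] N')
    [IsLocalizedModule W lN] (lM : M →ₗ[B] M') [IsLocalizedModule W lM] (u : N →ₗ[B] M)
    (u' : N' →ₗ[B] M') (h : ∀ z, u' (lN z) = lM (u z)) :
    (∀ v, u' v ∈ I • (⊤ : Submodule B M') → v ∈ I • (⊤ : Submodule B N')) ↔
      ∀ z, (∃ s ∈ W, s • u z ∈ I • (⊤ : Submodule B M)) → ∃ s ∈ W, s • z ∈ I • (⊤ : Submodule B N) := by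
  have key : ∀ {V V' : Type u} [AddCommGroup V] [Module B V] [AddCommGroup V'] [Module B V']
      (e : V →ₗ[B] V') (v : V), v ∈ I • (⊤ : Submodule B V) → e v ∈ I • (⊤ : Submodule B V') := by
    intro V V' _ _ _ _ e v hv
    have h1 := Submodule.mem_map_of_mem (f := e) hv
    rw [Submodule.map_smul''] at h1
    exact Submodule.smul_mono le_rfl le_top h1
  have unit : ∀ {V V' : Type u} [AddCommGroup V] [Module B V] [AddCommGroup V'] [Module B V']
      (l : V →ₗ[B] V') [IsLocalizedModule W l] (s : B) (_ : s ∈ W) (v : V'),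
      s • v ∈ I • (⊤ : Submodule B V') → v ∈ I • (⊤ : Submodule B V') := by
    intro V V' _ _ _ _ l _ s hs v hv
    let E := LinearEquiv.ofBijective _ ((Module.End.isUnit_iff _).1 (IsLocalizedModule.map_units l ⟨s, hs⟩))
    have h1 := key E.symm.toLinearMap _ (show E v ∈ _ from hv)
    rwa [LinearEquiv.coe_coe, LinearEquiv.symm_apply_apply] at h1
  constructor
  · rintro H z ⟨s, hs, hsz⟩
    have h1 : u' (lN z) ∈ I • (⊤ : Submodule B M') := by
      rw [h]
      exact unit lM s hs _ (by rw [← map_smul]; exact key lM _ hsz)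
    obtain ⟨t, ht, m, hm, htm⟩ := exists_of_mem_smul W I lN (H _ h1)
    rw [← map_smul, IsLocalizedModule.eq_iff_exists W lN] at htm
    obtain ⟨t', ht'⟩ := htm
    refine ⟨t'.1 * t, W.mul_mem t'.2 ht, ?_⟩
    rw [mul_smul]
    have e : t'.1 • t • z = t'.1 • m := ht'
    rw [e]
    exact Submodule.smul_mem _ _ hm
  · intro H v hv
    obtain ⟨⟨z, w⟩, hzw⟩ := IsLocalizedModule.surj W lN v
    have hzw' : w.1 • v = lN z := hzw
    have h1 : lM (u z) ∈ I • (⊤ : Submodule B M') := by
      rw [← h, ← hzw', map_smul]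
      exact Submodule.smul_mem _ _ hv
    obtain ⟨t, ht, m, hm, htm⟩ := exists_of_mem_smul W I lM h1
    rw [← map_smul, IsLocalizedModule.eq_iff_exists W lM] at htm
    obtain ⟨t', ht'⟩ := htm
    obtain ⟨r, hr, hrz⟩ := H z ⟨t'.1 * t, W.mul_mem t'.2 ht, by
      rw [mul_smul]
      have e : t'.1 • t • u z = t'.1 • m := ht'
      rw [e]
      exact Submodule.smul_mem _ _ hm⟩
    refine unit lN w.1 w.2 v ?_
    rw [hzw']
    refine unit lN r hr _ ?_
    rw [← map_smul]
    exact key lN _ hrz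

variable {X Y : Scheme.{u}} (f : X ⟶ Y) {N M : X.Modules} (u : N ⟶ M)
  [N.IsQuasicoherent] [M.IsQuasicoherent]

/-- The fibre condition on the stalks, on an affine chart. -/
theorem fibre_stalk_iff {V : Y.Opens} (hV : IsAffineOpen V) {U : X.Opens} (hU : IsAffineOpen U)
    (hUV : U ≤ f ⁻¹ᵁ V) {x : X} (hx : x ∈ U) :
    letI J : Ideal ↑(X.presheaf.stalk x) :=
      Ideal.map (f.stalkMap x).hom (IsLocalRing.maximalIdeal ↑(Y.presheaf.stalk (f x)))
    letI := (f.appLE V U hUV).hom.toAlgebra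
    ((∀ m : ↑(N.presheaf.stalk x),
        (TopCat.Presheaf.stalkFunctor Ab x).map (Scheme.Modules.Hom.mapPresheaf u) m ∈
          (J • (⊤ : Submodule ↑(X.presheaf.stalk x) ↑(M.presheaf.stalk x))) →
        m ∈ (J • (⊤ : Submodule ↑(X.presheaf.stalk x) ↑(N.presheaf.stalk x)))) ↔
      FibreInj Γ(Y, V) (InjCokerScheme.secMap u U) (hU.primeIdealOf ⟨x, hx⟩)) := by
  letI : Algebra Γ(Y, V) Γ(X, U) := (f.appLE V U hUV).hom.toAlgebra
  letI := TopCat.Presheaf.algebra_section_stalk X.presheaf (⟨x, hx⟩ : U)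
  letI := TopCat.Presheaf.algebra_section_stalk Y.presheaf (⟨f x, hUV hx⟩ : V)
  haveI := hV.isLocalization_stalk ⟨f x, hUV hx⟩
  letI := StalkLoc.Basic.moduleSections N hx
  letI := StalkLoc.Basic.moduleSections M hx
  haveI := StalkLoc.Basic.isScalarTower_sections N hx
  haveI := StalkLoc.Basic.isScalarTower_sections M hx
  have := StalkLoc.Basic.isLocalizedModule_germ (M := N) hU hx
  have := StalkLoc.Basic.isLocalizedModule_germ (M := M) hU hx
  let q := hU.primeIdealOf ⟨x, hx⟩
  have hJ : Ideal.map (f.stalkMap x).hom (IsLocalRing.maximalIdeal ↑(Y.presheaf.stalk (f x))) =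
      (pB Γ(Y, V) q).map (algebraMap Γ(X, U) (X.presheaf.stalk x)) := by
    rw [pB, Ideal.map_map, show q.asIdeal.comap (algebraMap Γ(Y, V) Γ(X, U)) =
        (hV.primeIdealOf ⟨f x, hUV hx⟩).asIdeal from
      congrArg PrimeSpectrum.asIdeal (IsAffineOpen.comap_primeIdealOf_appLE (f := f) V hV U hU hUV hx)]
    rw [← IsLocalization.AtPrime.map_eq_maximalIdeal (hV.primeIdealOf ⟨f x, hUV hx⟩).asIdeal
      (Y.presheaf.stalk (f x)), Ideal.map_map]
    congr 1
    ext a
    exact H19.FlatLocus.Scheme.germ_appLE f hUV hx a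
  let u' : N.presheaf.stalk x →ₗ[Γ(X, U)] M.presheaf.stalk x :=
    (Modules.StalkModule.stalkMapₗ u x).restrictScalars Γ(X, U)
  have hmem : ∀ {L : Type u} [AddCommGroup L] [Module Γ(X, U) L] [Module (X.presheaf.stalk x) L]
      [IsScalarTower Γ(X, U) (X.presheaf.stalk x) L] (v : L),
      v ∈ (Ideal.map (f.stalkMap x).hom (IsLocalRing.maximalIdeal ↑(Y.presheaf.stalk (f x))) •
          (⊤ : Submodule (X.presheaf.stalk x) L)) ↔ v ∈ pB Γ(Y, V) q • (⊤ : Submodule Γ(X, U) L) := by
    intro L _ _ _ _ v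
    rw [hJ, ← Submodule.restrictScalars_mem Γ(X, U), Ideal.smul_restrictScalars,
      Submodule.restrictScalars_top]
  refine (forall_congr' fun m => ?_).trans (fibre_localized_iff q.asIdeal.primeCompl (pB Γ(Y, V) q)
    (StalkLoc.Basic.germₗ N hx) (StalkLoc.Basic.germₗ M hx) (InjCokerScheme.secMap u U) u'
    (fun z => Modules.StalkModule.stalkMapₗ_germ u hx z))
  exact imp_congr (hmem (L := M.presheaf.stalk x) _) (hmem (L := N.presheaf.stalk x) _)

end Groth.Agent.H47.InjFibreScheme
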