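import Groth.Agent.H47.InjFibre
import Groth.Agent.H47.InjCokerStage
import Groth.Agent.H47.SeqModel

/-!
# Injectivity with flat cokernel from injectivity in the fibre
-/

set_option autoImplicit false
set_option backward.isDefEq.respectTransparency false

universe u

open TensorProduct

attribute [local instance] MvPolynomial.algebraMvPolynomial

namespace Groth.Agent.H47.InjModel

open Groth.Agent.H47.InjCoker Groth.Agent.H47.InjFibre

section surjective

variable {A P B : Type u} [CommRing A] [CommRing P] [CommRing B] [Algebra A P] [Algebra A B]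
  [Algebra P B] [IsScalarTower A P B]

theorem flat_localized_of_surjective (hs : Function.Surjective (algebraMap P B)) {V : Type u}
    [AddCommGroup V] [Module A V] [Module P V] [Module B V] [IsScalarTower A B V]
    [IsScalarTower A P V] [IsScalarTower P B V] (q : PrimeSpectrum B) :
    Module.Flat A (LocalizedModule (q.comap (algebraMap P B)).asIdeal.primeCompl V) ↔
      Module.Flat A (LocalizedModule q.asIdeal.primeCompl V) := by
  rw [H19.FlatLocus.flat_iff_killed (q.comap (algebraMap P B)).asIdeal.primeCompl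
      (LocalizedModule.mkLinearMap _ V),
    H19.FlatLocus.flat_iff_killed q.asIdeal.primeCompl (LocalizedModule.mkLinearMap _ V)]
  constructor
  · intro h J y hy
    obtain ⟨s, hs', hsy⟩ := h J y hy
    exact ⟨algebraMap P B s, hs', by rw [algebraMap_smul]; exact hsy⟩
  · intro h J y hy
    obtain ⟨s, hs', hsy⟩ := h J y hy
    obtain ⟨s, rfl⟩ := hs s
    exact ⟨s, hs', by rw [← algebraMap_smul B s]; exact hsy⟩

variable {N M : Type u} [AddCommGroup N] [Module P N] [Module B N] [IsScalarTower P B N]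
  [AddCommGroup M] [Module A M] [Module P M] [Module B M] [IsScalarTower P B M]
  [IsScalarTower A B M] [IsScalarTower A P M] (u : N →ₗ[B] M) (q : PrimeSpectrum B)

theorem injFlatAt_of_restrictScalars (hs : Function.Surjective (algebraMap P B))
    (h : InjFlatAt (A := A) (u.restrictScalars P) (q.comap (algebraMap P B))) :
    InjFlatAt (A := A) u q := by
  refine ⟨fun z hz => ?_, ?_⟩
  · obtain ⟨s, hs', hsz⟩ := h.1 z hz
    exact ⟨algebraMap P B s, hs', by rw [algebraMap_smul]; exact hsz⟩
  · refine (flat_localized_of_surjective hs q).1 ?_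
    exact (InjFlatBC.flat_localized_congr _
      ((Submodule.quotEquivOfEq _ _ (LinearMap.range_restrictScalars u)).trans
        (Submodule.Quotient.restrictScalarsEquiv P (LinearMap.range u)))).1 h.2

theorem fibreInj_restrictScalars (hs : Function.Surjective (algebraMap P B)) (h : FibreInj A u q) :
    FibreInj A (u.restrictScalars P) (q.comap (algebraMap P B)) := by
  have hmap : (pB A (q.comap (algebraMap P B))).map (algebraMap P B) = pB A q := by
    rw [pB, pB, Ideal.map_map, ← IsScalarTower.algebraMap_eq]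
    congr 1
    ext a
    show algebraMap P B (algebraMap A P a) ∈ q.asIdeal ↔ _
    rw [← IsScalarTower.algebraMap_apply]
    rfl
  have key : ∀ {V : Type u} [AddCommGroup V] [Module P V] [Module B V] [IsScalarTower P B V] (v : V),
      v ∈ pB A q • (⊤ : Submodule B V) ↔
        v ∈ pB A (q.comap (algebraMap P B)) • (⊤ : Submodule P V) := by
    intro V _ _ _ _ v
    rw [← hmap, ← Submodule.restrictScalars_mem P, Ideal.smul_restrictScalars,
      Submodule.restrictScalars_top]
  rintro z ⟨s, hs', hsz⟩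
  obtain ⟨t, ht, htz⟩ := h z ⟨algebraMap P B s, hs', by
    rw [algebraMap_smul, key]; exact hsz⟩
  obtain ⟨t, rfl⟩ := hs t
  exact ⟨t, ht, (key _).1 (by rw [← algebraMap_smul B t]; exact htz)⟩

end surjective

set_option maxHeartbeats 1000000 in
/-- The fibre criterion over a base with a Noetherian model. -/
theorem injFlatAt_of_model {R₀ A P₀ P : Type u} [CommRing R₀] [CommRing A] [CommRing P₀] [CommRing P]
    [IsNoetherianRing R₀] [Algebra R₀ A] [Algebra R₀ P₀] [Algebra.FinitePresentation R₀ P₀]
    [Algebra A P] [Algebra P₀ P] [Algebra R₀ P] [IsScalarTower R₀ A P] [IsScalarTower R₀ P₀ P]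
    [Algebra.IsPushout R₀ A P₀ P] {N₀ M₀ : Type u} [AddCommGroup N₀] [Module P₀ N₀]
    [AddCommGroup M₀] [Module P₀ M₀] [Module.Finite P₀ N₀] [Module.Finite P₀ M₀]
    (u₀ : N₀ →ₗ[P₀] M₀) {N M : Type u} [AddCommGroup N] [Module P N] [AddCommGroup M] [Module A M]
    [Module P M] [IsScalarTower A P M] (u : N →ₗ[P] M) (eN : P ⊗[P₀] N₀ ≃ₗ[P] N)
    (eM : P ⊗[P₀] M₀ ≃ₗ[P] M) (hsq : ∀ z, eM (u₀.baseChange P z) = u (eN z)) (q : PrimeSpectrum P)
    (hM : Module.Flat A (LocalizedModule q.asIdeal.primeCompl M)) (h : FibreInj A u q) :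
    InjFlatAt (A := A) u q := by
  have : IsNoetherianRing P₀ := Algebra.FiniteType.isNoetherianRing R₀ P₀
  have : Module.FinitePresentation P₀ M₀ := Module.finitePresentation_of_finite P₀ M₀
  -- flatness of `M` at a stage
  have hM0 : InjFlatAt (A := A) ((0 : PUnit.{u+1} →ₗ[P₀] M₀).baseChange P) q := by
    refine ⟨fun z _ => ⟨1, q.isPrime.ne_top ∘ (Ideal.eq_top_iff_one _).2, ?_⟩, ?_⟩
    · exact Subsingleton.elim _ _
    · exact (InjFlatBC.flat_localized_congr _ ((Submodule.quotEquivOfEqBot _ (by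
        rw [LinearMap.baseChange_zero, LinearMap.range_zero])).trans eM)).2 hM
  obtain ⟨C, _, _, hCfp, φ, hC⟩ := InjCokerStage.exists_stage_at (A₀ := R₀) (B₀ := P₀) (A := A)
    (B := P) (0 : PUnit.{u+1} →ₗ[P₀] M₀) q hM0
  letI : Algebra C A := φ.toRingHom.toAlgebra
  haveI : IsScalarTower R₀ C A := IsScalarTower.of_algebraMap_eq fun r => (φ.commutes r).symm
  letI : Algebra C P := ((algebraMap A P).comp (algebraMap C A)).toAlgebra
  haveI : IsScalarTower C A P := IsScalarTower.of_algebraMap_eq fun _ => rfl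
  letI : Algebra P₀ (C ⊗[R₀] P₀) := Algebra.TensorProduct.rightAlgebra
  letI : Algebra (C ⊗[R₀] P₀) P := (InjCokerStage.ψ (B₀ := P₀) (B := P) φ).toRingHom.toAlgebra
  haveI : IsScalarTower C (C ⊗[R₀] P₀) P :=
    IsScalarTower.of_algebraMap_eq (R := C) (S := C ⊗[R₀] P₀) (A := P) fun z => by
      show algebraMap A P (φ z) = InjCokerStage.ψ (B₀ := P₀) (B := P) φ (z ⊗ₜ 1)
      exact ((Algebra.TensorProduct.productMap_apply_tmul _ _ z 1).trans
        ((congrArg _ (map_one _)).trans (mul_one _))).symm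
  haveI : IsScalarTower P₀ (C ⊗[R₀] P₀) P :=
    IsScalarTower.of_algebraMap_eq (R := P₀) (S := C ⊗[R₀] P₀) (A := P) fun b => by
      show algebraMap P₀ P b = InjCokerStage.ψ (B₀ := P₀) (B := P) φ (1 ⊗ₜ b)
      exact ((Algebra.TensorProduct.productMap_apply_tmul _ _ 1 b).trans
        ((congrArg (· * _) (map_one _)).trans (one_mul _))).symm
  haveI : IsScalarTower R₀ (C ⊗[R₀] P₀) P :=
    IsScalarTower.of_algebraMap_eq (R := R₀) (S := C ⊗[R₀] P₀) (A := P) fun a =>
      ((InjCokerStage.ψ (B₀ := P₀) (B := P) φ).commutes a).symm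
  have hp : Algebra.IsPushout C A (C ⊗[R₀] P₀) P :=
    (Algebra.IsPushout.comp_iff R₀ C P₀ (C ⊗[R₀] P₀)).1 inferInstance
  let qD := q.comap (algebraMap (C ⊗[R₀] P₀) P)
  have hflatD : Module.Flat C (LocalizedModule qD.asIdeal.primeCompl ((C ⊗[R₀] P₀) ⊗[P₀] M₀)) :=
    (InjFlatBC.flat_localized_congr _ (Submodule.quotEquivOfEqBot _ (by
      rw [LinearMap.baseChange_zero, LinearMap.range_zero]))).1 hC.2
  -- transport the fibre condition
  let uD := u₀.baseChange (C ⊗[R₀] P₀)
  let cN := (AlgebraTensorModule.cancelBaseChange P₀ (C ⊗[R₀] P₀) P P N₀).trans eN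
  let cM := (AlgebraTensorModule.cancelBaseChange P₀ (C ⊗[R₀] P₀) P P M₀).trans eM
  have hsqD : ∀ z, cM (uD.baseChange P z) = u (cN z) := by
    intro z
    show eM _ = u (eN _)
    rw [← hsq]
    congr 1
    induction z using TensorProduct.induction_on with
    | zero => simp
    | add a b ha hb => simp only [map_add, ha, hb]
    | tmul a w =>
      induction w using TensorProduct.induction_on with
      | zero => simp
      | add a b ha hb => simp only [tmul_add, map_add, ha, hb]
      | tmul e m =>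
        simp [uD]
  have hP : FibreInj A (uD.baseChange P) q :=
    FibreInj.congr u (uD.baseChange P) cN.symm cM.symm (fun z => by
      rw [LinearEquiv.symm_apply_eq, hsqD, LinearEquiv.apply_symm_apply]) q h
  have : Algebra.FiniteType R₀ C := inferInstance
  have : IsNoetherianRing C := Algebra.FiniteType.isNoetherianRing R₀ C
  have : IsNoetherianRing (C ⊗[R₀] P₀) := Algebra.FiniteType.isNoetherianRing C _
  have hD : InjFlatAt (A := C) uD qD :=
    injFlatAt_of_fibreInj uD qD hflatD (FibreInj.descend uD q hP)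
  exact (InjFlatBC.congr _ u cN cM hsqD q).1
    (InjFlatBC.baseChange (A := C) (A' := A) (B' := P) uD q hD)

set_option maxHeartbeats 1000000 in
set_option backward.isDefEq.respectTransparency true in
theorem injFlatAt_of_fibre_poly {A : Type u} [CommRing A] {n : ℕ} {N M : Type u} [AddCommGroup N]
    [Module (MvPolynomial (Fin n) A) N] [AddCommGroup M] [Module A M]
    [Module (MvPolynomial (Fin n) A) M] [IsScalarTower A (MvPolynomial (Fin n) A) M]
    [Module.FinitePresentation (MvPolynomial (Fin n) A) N]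
    [Module.FinitePresentation (MvPolynomial (Fin n) A) M]
    (u : N →ₗ[MvPolynomial (Fin n) A] M) (q : PrimeSpectrum (MvPolynomial (Fin n) A))
    (hM : Module.Flat A (LocalizedModule q.asIdeal.primeCompl M)) (h : FibreInj A u q) :
    InjFlatAt (A := A) u q := by
  classical
  obtain ⟨aN, bN, fN, gN, hfN, hexN⟩ := Module.FinitePresentation.exists_fin' (MvPolynomial (Fin n) A) N
  obtain ⟨aM, bM, fM, gM, hfM, hexM⟩ := Module.FinitePresentation.exists_fin' (MvPolynomial (Fin n) A) M
  obtain ⟨U, hU⟩ := SeqModel.exists_factor fM (u.comp fN) fun i => hfM _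
  obtain ⟨Cc, hC⟩ := SeqModel.exists_factor gM (U.comp gN) fun i => (hexM _).1 (by
    show fM (U (gN _)) = 0
    rw [← LinearMap.comp_apply fM U, hU, LinearMap.comp_apply, hexN.apply_apply_eq_zero, map_zero])
  obtain ⟨S₁, h₁⟩ := SeqModel.exists_coef gN
  obtain ⟨S₂, h₂⟩ := SeqModel.exists_coef gM
  obtain ⟨S₃, h₃⟩ := SeqModel.exists_coef U
  obtain ⟨S₄, h₄⟩ := SeqModel.exists_coef Cc
  obtain ⟨R₀, hR₀⟩ : ∃ R₀ : Subalgebra ℤ A,
      R₀ = Algebra.adjoin ℤ ((S₁ ∪ S₂ ∪ S₃ ∪ S₄ : Finset A) : Set A) := ⟨_, rfl⟩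
  have hsub : ∀ T : Finset A, T ⊆ S₁ ∪ S₂ ∪ S₃ ∪ S₄ → (T : Set A) ⊆ R₀ := fun T hT x hx =>
    hR₀ ▸ Algebra.subset_adjoin (hT hx)
  obtain ⟨gN₀, egN⟩ := h₁ R₀ (hsub _ (by intro x; simp +contextual))
  obtain ⟨gM₀, egM⟩ := h₂ R₀ (hsub _ (by intro x; simp +contextual))
  obtain ⟨U₀, eU⟩ := h₃ R₀ (hsub _ (by intro x; simp +contextual))
  obtain ⟨C₀, eC⟩ := h₄ R₀ (hsub _ (by intro x; simp +contextual))
  have : Algebra.FiniteType ℤ R₀ := hR₀ ▸ .adjoin_of_finite (Finset.finite_toSet _)
  have : IsNoetherianRing R₀ := Algebra.FiniteType.isNoetherianRing ℤ R₀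
  letI : Module (MvPolynomial (Fin n) R₀) N := Module.compHom N (algebraMap (MvPolynomial (Fin n) R₀) (MvPolynomial (Fin n) A))
  letI : Module (MvPolynomial (Fin n) R₀) M := Module.compHom M (algebraMap (MvPolynomial (Fin n) R₀) (MvPolynomial (Fin n) A))
  have : IsScalarTower (MvPolynomial (Fin n) R₀) (MvPolynomial (Fin n) A) N := IsScalarTower.of_algebraMap_smul fun _ _ => rfl
  have : IsScalarTower (MvPolynomial (Fin n) R₀) (MvPolynomial (Fin n) A) M := IsScalarTower.of_algebraMap_smul fun _ _ => rfl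
  have hUC : ∀ v, U₀ (gN₀ v) = gM₀ (C₀ v) := fun v => SeqModel.mu_injective R₀ _ (by
    rw [eU, egN, egM, eC]
    exact (LinearMap.congr_fun hC _).symm)
  let N₀ := (Fin aN → (MvPolynomial (Fin n) R₀)) ⧸ LinearMap.range gN₀
  let M₀ := (Fin aM → (MvPolynomial (Fin n) R₀)) ⧸ LinearMap.range gM₀
  let u₀ : N₀ →ₗ[(MvPolynomial (Fin n) R₀)] M₀ := (LinearMap.range gN₀).mapQ (LinearMap.range gM₀) U₀ (by
    rintro _ ⟨v, rfl⟩
    exact ⟨C₀ v, (hUC v).symm⟩)
  let eN := (SeqModel.isBaseChange_phi R₀ gN₀ gN egN fN hfN hexN).equiv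
  let eM := (SeqModel.isBaseChange_phi R₀ gM₀ gM egM fM hfM hexM).equiv
  have hsq : ∀ z, eM (u₀.baseChange (MvPolynomial (Fin n) A) z) = u (eN z) := by
    intro z
    induction z using TensorProduct.induction_on with
    | zero => simp
    | add a b ha hb => simp only [map_add, ha, hb]
    | tmul r x =>
      obtain ⟨x, rfl⟩ := Submodule.Quotient.mk_surjective _ x
      rw [LinearMap.baseChange_tmul, IsBaseChange.equiv_tmul, IsBaseChange.equiv_tmul, map_smul]
      congr 1
      rw [SeqModel.phi_mk, show u₀ (Submodule.Quotient.mk x) = Submodule.Quotient.mk (U₀ x) from rfl,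
        SeqModel.phi_mk, eU]
      exact LinearMap.congr_fun hU _
  haveI : Module.Finite (MvPolynomial (Fin n) R₀) N₀ :=
    haveI : Module.Finite (MvPolynomial (Fin n) R₀) (Fin aN → (MvPolynomial (Fin n) R₀)) := Module.Finite.of_basis (Pi.basisFun _ _)
    Module.Finite.of_surjective (LinearMap.range gN₀).mkQ (Submodule.mkQ_surjective _)
  haveI : Module.Finite (MvPolynomial (Fin n) R₀) M₀ :=
    haveI : Module.Finite (MvPolynomial (Fin n) R₀) (Fin aM → (MvPolynomial (Fin n) R₀)) := Module.Finite.of_basis (Pi.basisFun _ _)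
    Module.Finite.of_surjective (LinearMap.range gM₀).mkQ (Submodule.mkQ_surjective _)
  exact injFlatAt_of_model (R₀ := R₀) u₀ u eN eM hsq q hM h

set_option maxHeartbeats 1000000 in
/-- Injective in the fibre with flat target: injective with flat cokernel. -/
theorem injFlatAt_of_fibre {A B : Type u} [CommRing A] [CommRing B] [Algebra A B]
    [Algebra.FinitePresentation A B] {N M : Type u} [AddCommGroup N] [Module B N] [AddCommGroup M]
    [Module A M] [Module B M] [IsScalarTower A B M] [Module.FinitePresentation B N]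
    [Module.FinitePresentation B M] (u : N →ₗ[B] M) (q : PrimeSpectrum B)
    (hM : Module.Flat A (LocalizedModule q.asIdeal.primeCompl M)) (h : FibreInj A u q) :
    InjFlatAt (A := A) u q := by
  obtain ⟨n, π, hπ, hker⟩ := ‹Algebra.FinitePresentation A B›.out
  let P := MvPolynomial (Fin n) A
  letI : Algebra P B := π.toRingHom.toAlgebra
  haveI : IsScalarTower A P B := IsScalarTower.of_algebraMap_eq fun a => (π.commutes a).symm
  letI : Module P N := Module.compHom N π.toRingHom
  letI : Module P M := Module.compHom M π.toRingHom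
  haveI : IsScalarTower P B N := IsScalarTower.of_algebraMap_smul fun _ _ => rfl
  haveI : IsScalarTower P B M := IsScalarTower.of_algebraMap_smul fun _ _ => rfl
  haveI : IsScalarTower A P M := IsScalarTower.to₁₂₄ A P B M
  have : Module.FinitePresentation P B :=
    Module.finitePresentation_of_surjective (Algebra.linearMap P B) hπ hker
  have : Module.FinitePresentation P N := Module.FinitePresentation.trans P N B
  have : Module.FinitePresentation P M := Module.FinitePresentation.trans P M B
  exact injFlatAt_of_restrictScalars u q hπ (injFlatAt_of_fibre_poly _ _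
    ((flat_localized_of_surjective hπ q).2 hM) (fibreInj_restrictScalars u q hπ h))

end Groth.Agent.H47.InjModel
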