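import Groth.Agent.H47.FlatKernelScheme
import Groth.Agent.H47.InjCokerScheme
import Groth.Agent.H47.UnramLocus
import Groth.Agent.Lib.Exchange.HomPullback
import Groth.Agent.Lib.LocalFlat.InjMod
import Groth.Agent.H47.InjFibre
import Groth.Agent.H26.FreeCrit
import Groth.Agent.Lib.Spectral.Basic

/-!
# The locus where a map into a flat module is bijective
-/

set_option autoImplicit false
set_option linter.style.haveILetI false
set_option backward.isDefEq.respectTransparency false

universe u

open CategoryTheory CategoryTheory.Limits AlgebraicGeometry Topology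
open scoped TensorProduct
open Groth.Agent.Lib Groth.Agent.Lib.Modules

namespace Groth.Agent.H47.IsoLocus

namespace StalkLemmas

open ZarCoh.Exchange.HomPullback

-- the two lemmas below are as in `Lib.Exchange.HomLift`, repeated to keep the imports light

noncomputable section

section Stalk

variable {X Z : Scheme.{u}} (i : Z ⟶ X) {M N : X.Modules} (z : Z)

theorem mem_of_pl_eq_zero (hs : Function.Surjective (i.stalkMap z).hom)
    {n : N.presheaf.stalk (i z)} (h : pl i N z n = 0) :
    n ∈ RingHom.ker (i.stalkMap z).hom • (⊤ : Submodule (X.presheaf.stalk (i z)) _) := by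
  letI : Algebra (X.presheaf.stalk (i z)) (Z.presheaf.stalk z) := (i.stalkMap z).hom.toAlgebra
  let e : (X.presheaf.stalk (i z) ⧸ RingHom.ker (i.stalkMap z).hom) ≃ₐ[X.presheaf.stalk (i z)]
      Z.presheaf.stalk z :=
    Ideal.quotientKerAlgEquivOfSurjective (f := Algebra.ofId (X.presheaf.stalk (i z)) (Z.presheaf.stalk z)) hs
  refine LocalFlat.InjMod.mem_smul_of_mkQ_rTensor_eq_zero _ ?_
  have h1 : (1 : Z.presheaf.stalk z) ⊗ₜ[X.presheaf.stalk (i z)] n = 0 := (stalkEquiv i N z).injective
    (by rw [stalkEquiv_tmul, one_smul, h, map_zero])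
  have h2 := congrArg (e.symm.toLinearMap.rTensor (N.presheaf.stalk (i z))) h1
  rw [LinearMap.rTensor_tmul, map_zero] at h2
  rwa [show e.symm.toLinearMap 1 = 1 from map_one e.symm] at h2

theorem surjective_of_bc (hs : Function.Surjective (i.stalkMap z).hom)
    [Module.Finite (X.presheaf.stalk (i z)) (N.presheaf.stalk (i z))]
    (g : RefHull.StalkHom M N (i z)) (hg : Function.Surjective (bc i z g)) :
    Function.Surjective g := by
  letI : Algebra (X.presheaf.stalk (i z)) (Z.presheaf.stalk z) := (i.stalkMap z).hom.toAlgebra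
  rw [← LinearMap.range_eq_top]
  refine top_le_iff.1 (Submodule.le_of_le_smul_of_le_jacobson_bot (I := RingHom.ker (i.stalkMap z).hom)
    Module.Finite.fg_top ?_ ?_)
  · rw [IsLocalRing.jacobson_eq_maximalIdeal ⊥ bot_ne_top]
    exact IsLocalRing.le_maximalIdeal (RingHom.ker_ne_top _)
  · intro n _
    obtain ⟨v, hv⟩ := hg (pl i N z n)
    obtain ⟨t, rfl⟩ := (stalkEquiv i M z).surjective v
    obtain ⟨m, rfl⟩ : ∃ m, t = (1 : Z.presheaf.stalk z) ⊗ₜ[X.presheaf.stalk (i z)] m := by
      clear hv
      induction t using TensorProduct.induction_on with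
      | zero => exact ⟨0, (TensorProduct.tmul_zero _ _).symm⟩
      | add s t hs ht =>
        obtain ⟨a, rfl⟩ := hs
        obtain ⟨b, rfl⟩ := ht
        exact ⟨a + b, (TensorProduct.tmul_add _ _ _).symm⟩
      | tmul c m =>
        obtain ⟨r, rfl⟩ := hs c
        refine ⟨r • m, ?_⟩
        rw [← TensorProduct.smul_tmul, Algebra.smul_def, mul_one]
        rfl
    rw [stalkEquiv_tmul, one_smul, bc_pl] at hv
    have h := mem_of_pl_eq_zero i z hs (n := n - g m) (by rw [map_sub, hv, sub_self])
    rw [← add_sub_cancel (g m) n]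
    exact Submodule.add_mem_sup ⟨m, rfl⟩ h

end Stalk

end

end StalkLemmas

section ring

variable {A B : Type u} [CommRing A] [CommRing B] [Algebra A B] [Algebra.FinitePresentation A B]
  {N M : Type u} [AddCommGroup N] [Module B N] [AddCommGroup M] [Module A M] [Module B M]
  [IsScalarTower A B M] [Module.FinitePresentation B N] [Module.FinitePresentation B M]
  [Module.Flat A M] (v : N →ₗ[B] M)

/-- The primes at which `v` is not bijective. -/
def bad : Set (PrimeSpectrum B) :=
  Module.support B (M ⧸ LinearMap.range v) ∪ Module.support B ↥(LinearMap.ker v)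

variable (A) in
include A in
set_option maxHeartbeats 800000 in
theorem support_ker_inter (h : B) (hh : ∀ q ∈ PrimeSpectrum.basicOpen h,
      q ∉ Module.support B (M ⧸ LinearMap.range v)) :
    ∃ S : Set (PrimeSpectrum (Localization.Away h)), IsClosed S ∧ IsConstructible S ∧
      Module.support B ↥(LinearMap.ker v) ∩ PrimeSpectrum.basicOpen h =
        PrimeSpectrum.comap (algebraMap B (Localization.Away h)) '' S := by
  classical
  let P := Submonoid.powers h
  let L := Localization.Away h
  let g := LocalizedModule.mkLinearMap P N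
  let gM := LocalizedModule.mkLinearMap P M
  let vL : LocalizedModule P N →ₗ[L] LocalizedModule P M :=
    IsLocalizedModule.mapExtendScalars P g gM L v
  have hvL : ∀ z, vL (g z) = gM (v z) := fun z => IsLocalizedModule.map_apply P g gM v z
  have hsurj : Function.Surjective vL := by
    intro y
    obtain ⟨⟨m, s⟩, hm⟩ := IsLocalizedModule.surj P gM y
    have hQ : LocalizedModule.mkLinearMap P (M ⧸ LinearMap.range v) (Submodule.Quotient.mk m) = 0 := by
      have hsub : Module.support L (LocalizedModule P (M ⧸ LinearMap.range v)) = ∅ := by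
        refine Set.eq_empty_of_forall_notMem fun q hq => ?_
        obtain ⟨m', hm'⟩ := Module.mem_support_iff'.mp hq
        obtain ⟨⟨m'', t⟩, e⟩ :=
          IsLocalizedModule.surj P (LocalizedModule.mkLinearMap P (M ⧸ LinearMap.range v)) m'
        let q0 : PrimeSpectrum B := PrimeSpectrum.comap (algebraMap B L) q
        have hq0 : q0 ∈ PrimeSpectrum.basicOpen h := fun hmem =>
          q.isPrime.ne_top (Ideal.eq_top_of_isUnit_mem _ hmem (IsLocalization.Away.algebraMap_isUnit h))
        obtain ⟨r, hr, hr0⟩ : ∃ r ∉ q0.asIdeal, r • m'' = 0 := by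
          have := hh q0 hq0
          rw [Module.mem_support_iff'] at this
          push Not at this
          exact this m''
        refine hm' (algebraMap B L r * algebraMap B L t.1) (fun hc => ?_) ?_
        · rcases q.isPrime.mem_or_mem hc with hc | hc
          · exact hr hc
          · exact q.isPrime.ne_top (Ideal.eq_top_of_isUnit_mem _ hc (IsLocalization.map_units L t))
        · rw [mul_smul, algebraMap_smul, algebraMap_smul]
          rw [show t.1 • m' = LocalizedModule.mkLinearMap P (M ⧸ LinearMap.range v) m'' from e,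
            ← map_smul, hr0, map_zero]
      rw [Module.support_eq_empty_iff] at hsub
      exact Subsingleton.elim _ _
    obtain ⟨t, ht⟩ := (IsLocalizedModule.eq_zero_iff P _).mp hQ
    rw [Submonoid.smul_def, ← Submodule.Quotient.mk_smul, Submodule.Quotient.mk_eq_zero] at ht
    obtain ⟨z, hz⟩ := ht
    obtain ⟨w, hw⟩ := (IsLocalization.map_units L (t * s)).exists_left_inv
    refine ⟨w • g z, ?_⟩
    rw [map_smul, hvL, hz, map_smul, ← hm, Submonoid.smul_def, smul_smul]
    calc w • (t.1 * s.1) • y = (w * algebraMap B L (t.1 * s.1)) • y := by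
          rw [mul_smul w, algebraMap_smul]
      _ = y := by rw [show t.1 * s.1 = (t * s).1 from rfl, hw, one_smul]
  haveI : Algebra.FinitePresentation A L :=
    Algebra.FinitePresentation.trans A B L
  haveI : Algebra.FinitePresentation B L := IsLocalization.Away.finitePresentation h
  haveI : Module.FinitePresentation L (LocalizedModule P N) := inferInstance
  haveI : Module.FinitePresentation L (LocalizedModule P M) := inferInstance
  haveI : Module.Flat A (LocalizedModule P M) :=
    H19.FlatLocus.Model.flat_localized P (LocalizedModule.mkLinearMap P M)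
  let K := LinearMap.ker v
  haveI hKfp : Module.FinitePresentation L ↥(LinearMap.ker vL) :=
    H47.FlatKernel.fp_ker (R := A) vL hsurj
  let gK : ↥K →ₗ[B] ↥(LinearMap.ker vL) := LinearMap.toKerIsLocalized P g gM v
  haveI : IsLocalizedModule P gK := LinearMap.toKerLocalized_isLocalizedModule L P g gM v
  refine ⟨Module.support L ↥(LinearMap.ker vL), ?_, H47.UnramLocus.isConstructible_support _, ?_⟩
  · rw [Module.support_eq_zeroLocus]
    exact PrimeSpectrum.isClosed_zeroLocus _
  ext q
  constructor
  · rintro ⟨hq, hqh⟩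
    obtain ⟨q', rfl⟩ : q ∈ Set.range (PrimeSpectrum.comap (algebraMap B L)) := by
      rw [PrimeSpectrum.localization_away_comap_range L h]
      exact hqh
    obtain ⟨m, hm⟩ := Module.mem_support_iff'.mp hq
    refine ⟨q', Module.mem_support_iff'.mpr ⟨gK m, fun r hr h0 => ?_⟩, rfl⟩
    obtain ⟨⟨a, s⟩, e⟩ := IsLocalization.surj P r
    have h1 : a • gK m = 0 := by
      rw [← algebraMap_smul L a, ← e, mul_comm, mul_smul, h0, smul_zero]
    obtain ⟨t, ht⟩ := (IsLocalizedModule.eq_zero_iff P gK).mp (by rw [map_smul]; exact h1)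
    rw [Submonoid.smul_def, smul_smul] at ht
    refine hm (t.1 * a) (fun hc => ?_) ht
    rcases (PrimeSpectrum.comap (algebraMap B L) q').isPrime.mem_or_mem hc with hc | hc
    · exact q'.isPrime.ne_top (Ideal.eq_top_of_isUnit_mem _ hc (IsLocalization.map_units L t))
    · have hc' : algebraMap B L a ∈ q'.asIdeal := hc
      rw [← e] at hc'
      rcases q'.isPrime.mem_or_mem hc' with hc' | hc'
      · exact hr hc'
      · exact q'.isPrime.ne_top (Ideal.eq_top_of_isUnit_mem _ hc' (IsLocalization.map_units L s))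
  · rintro ⟨q', hq', rfl⟩
    obtain ⟨m', hm'⟩ := Module.mem_support_iff'.mp hq'
    obtain ⟨⟨m, s⟩, e⟩ := IsLocalizedModule.surj P gK m'
    refine ⟨Module.mem_support_iff'.mpr ⟨m, fun r hr h0 => ?_⟩, fun hmem => ?_⟩
    · refine hm' (algebraMap B L r * algebraMap B L s.1) (fun hc => ?_) ?_
      · rcases q'.isPrime.mem_or_mem hc with hc | hc
        · exact hr hc
        · exact q'.isPrime.ne_top (Ideal.eq_top_of_isUnit_mem _ hc (IsLocalization.map_units L s))
      · rw [mul_smul, algebraMap_smul, algebraMap_smul,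
          show s.1 • m' = gK m from e, ← map_smul, h0, map_zero]
    · exact q'.isPrime.ne_top (Ideal.eq_top_of_isUnit_mem _ hmem (IsLocalization.Away.algebraMap_isUnit h))

variable (A) in
include A in
theorem isClosed_and_isConstructible_bad : IsClosed (bad v) ∧ IsConstructible (bad v) := by
  classical
  let C0 := Module.support B (M ⧸ LinearMap.range v)
  haveI : Module.FinitePresentation B (M ⧸ LinearMap.range v) :=
    Module.finitePresentation_of_surjective (LinearMap.range v).mkQ (Submodule.mkQ_surjective _)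
      (by rw [Submodule.ker_mkQ, LinearMap.range_eq_map]; exact Module.Finite.fg_top.map v)
  have hC0 : IsConstructible C0 := H47.UnramLocus.isConstructible_support _
  have hC0c : IsClosed C0 := by
    show IsClosed (Module.support B (M ⧸ LinearMap.range v))
    rw [Module.support_eq_zeroLocus]
    exact PrimeSpectrum.isClosed_zeroLocus _
  have hcomp : IsCompact (C0ᶜ) := Spectral.Basic.isCompact_of_isConstructible hC0.compl
  obtain ⟨t, ht⟩ := hcomp.elim_finite_subcover
    (fun h : {h : B // (PrimeSpectrum.basicOpen h : Set (PrimeSpectrum B)) ⊆ C0ᶜ} =>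
      (PrimeSpectrum.basicOpen h.1 : Set (PrimeSpectrum B)))
    (fun h => (PrimeSpectrum.basicOpen h.1).isOpen) (fun q hq => by
      obtain ⟨_, ⟨h, rfl⟩, hqh, hsub⟩ :=
        PrimeSpectrum.isTopologicalBasis_basic_opens.exists_subset_of_mem_open hq hC0c.isOpen_compl
      exact Set.mem_iUnion.mpr ⟨⟨h, hsub⟩, hqh⟩)
  have key : ∀ h : {h : B // (PrimeSpectrum.basicOpen h : Set (PrimeSpectrum B)) ⊆ C0ᶜ},
      IsConstructible (Module.support B ↥(LinearMap.ker v) ∩ PrimeSpectrum.basicOpen h.1) ∧
      IsOpen ((PrimeSpectrum.basicOpen h.1 : Set (PrimeSpectrum B)) \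
        Module.support B ↥(LinearMap.ker v)) := fun h => by
    obtain ⟨S, hSc, hS, e⟩ := support_ker_inter A v h.1 fun q hq => h.2 hq
    refine ⟨?_, ?_⟩
    · rw [e]
      exact PrimeSpectrum.isConstructible_comap_image
        (RingHom.finitePresentation_algebraMap.mpr (IsLocalization.Away.finitePresentation h.1)) hS
    · have hoe := PrimeSpectrum.localization_away_isOpenEmbedding (Localization.Away h.1) h.1
      have : (PrimeSpectrum.basicOpen h.1 : Set (PrimeSpectrum B)) \
          Module.support B ↥(LinearMap.ker v) =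
          PrimeSpectrum.comap (algebraMap B (Localization.Away h.1)) '' Sᶜ := by
        rw [Set.image_compl_eq_range_diff_image hoe.injective, ← e,
          PrimeSpectrum.localization_away_comap_range (Localization.Away h.1) h.1]
        ext q
        simp only [Set.mem_sdiff, Set.mem_inter_iff]
        tauto
      rw [this]
      exact hoe.isOpenMap _ hSc.isOpen_compl
  have heq : bad v = C0 ∪ ⋃ h ∈ t, Module.support B ↥(LinearMap.ker v) ∩ PrimeSpectrum.basicOpen h.1 := by
    refine Set.Subset.antisymm (fun q hq => ?_) (Set.union_subset Set.subset_union_left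
      (Set.iUnion₂_subset fun h _ => Set.inter_subset_left.trans Set.subset_union_right))
    by_cases hq0 : q ∈ C0
    · exact Or.inl hq0
    · obtain ⟨h, hh, hqh⟩ := Set.mem_iUnion₂.mp (ht hq0)
      exact Or.inr (Set.mem_iUnion₂.mpr ⟨h, hh, hq.resolve_left hq0, hqh⟩)
  refine ⟨?_, ?_⟩
  · rw [← isOpen_compl_iff]
    have : (bad v)ᶜ = ⋃ h ∈ t, (PrimeSpectrum.basicOpen h.1 : Set (PrimeSpectrum B)) \
        Module.support B ↥(LinearMap.ker v) := by
      refine Set.Subset.antisymm (fun q hq => ?_) (Set.iUnion₂_subset fun h _ q hq hqb =>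
        hqb.elim (fun h0 => h.2 hq.1 h0) hq.2)
      obtain ⟨h, hh, hqh⟩ := Set.mem_iUnion₂.mp (ht fun h0 => hq (Or.inl h0))
      exact Set.mem_iUnion₂.mpr ⟨h, hh, hqh, fun h0 => hq (Or.inr h0)⟩
    rw [this]
    exact isOpen_biUnion fun h _ => (key h).2
  · rw [heq]
    exact hC0.union (IsConstructible.biUnion t.finite_toSet fun h _ => (key h).1)

end ring

section scheme

variable {X Y : Scheme.{u}} (f : X ⟶ Y) {F G : X.Modules} [F.IsQuasicoherent] [G.IsQuasicoherent]
  (u : F ⟶ G)

theorem bijective_iff_notMem_bad {U : X.Opens} (hU : IsAffineOpen U) {x : X} (hx : x ∈ U) :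
    Function.Bijective (StalkModule.stalkMapₗ u x) ↔
      hU.primeIdealOf ⟨x, hx⟩ ∉ bad (InjCokerScheme.secMap u U) := by
  letI := StalkLoc.Basic.moduleSections F hx
  letI := StalkLoc.Basic.moduleSections G hx
  haveI := StalkLoc.Basic.isLocalizedModule_germ (M := F) hU hx
  haveI := StalkLoc.Basic.isLocalizedModule_germ (M := G) hU hx
  let q := hU.primeIdealOf ⟨x, hx⟩
  have hgerm : ∀ z, StalkModule.stalkMapₗ u x (F.presheaf.germ U x hx z) =
      G.presheaf.germ U x hx (InjCokerScheme.secMap u U z) :=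
    fun z => StalkModule.stalkMapₗ_germ u hx z
  rw [bad, Set.mem_union, not_or, Function.Bijective, and_comm]
  refine and_congr ?_ ((InjCokerScheme.injective_stalk_iff u hU hx).trans ?_)
  · rw [Module.mem_support_iff']
    push Not
    constructor
    · intro hs m
      obtain ⟨m, rfl⟩ := Submodule.Quotient.mk_surjective _ m
      obtain ⟨y, hy⟩ := hs (G.presheaf.germ U x hx m)
      obtain ⟨⟨z, w⟩, hw⟩ := IsLocalizedModule.surj q.asIdeal.primeCompl (StalkLoc.Basic.germₗ F hx) y
      have h1 : G.presheaf.germ U x hx (InjCokerScheme.secMap u U z) =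
          G.presheaf.germ U x hx (w.1 • m) := by
        rw [StalkModule.germ_smul, ← hy, ← map_smul, ← hgerm]
        exact congrArg _ hw.symm
      obtain ⟨t, ht⟩ := IsLocalizedModule.exists_of_eq (S := q.asIdeal.primeCompl)
        (f := StalkLoc.Basic.germₗ G hx) h1
      refine ⟨t.1 * w.1, (t * w).2, ?_⟩
      rw [← Submodule.Quotient.mk_smul, Submodule.Quotient.mk_eq_zero]
      exact ⟨t.1 • z, by rw [map_smul, mul_smul]; exact ht⟩
    · intro hs y
      obtain ⟨⟨m, w⟩, hw⟩ := IsLocalizedModule.surj q.asIdeal.primeCompl (StalkLoc.Basic.germₗ G hx) y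
      obtain ⟨r, hr, hr0⟩ := hs (Submodule.Quotient.mk m)
      rw [← Submodule.Quotient.mk_smul, Submodule.Quotient.mk_eq_zero] at hr0
      obtain ⟨z, hz⟩ := hr0
      have hu' : IsUnit (X.presheaf.germ U x hx (r * w.1)) := by
        letI := TopCat.Presheaf.algebra_section_stalk X.presheaf (⟨x, hx⟩ : U)
        haveI := hU.isLocalization_stalk ⟨x, hx⟩
        exact IsLocalization.map_units (X.presheaf.stalk x) (⟨r, hr⟩ * w)
      obtain ⟨c, hc⟩ := hu'.exists_left_inv
      refine ⟨c • F.presheaf.germ U x hx z, ?_⟩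
      rw [map_smul, hgerm, hz, StalkModule.germ_smul,
        show G.presheaf.germ U x hx m = X.presheaf.germ U x hx w.1 • y from hw.symm,
        smul_smul, smul_smul, mul_assoc, ← map_mul, hc, one_smul]
  · rw [Module.mem_support_iff']
    push Not
    exact ⟨fun h z => (h z.1 z.2).imp fun s hs => ⟨hs.1, Subtype.ext hs.2⟩,
      fun h z hz => (h ⟨z, hz⟩).imp fun s hs => ⟨hs.1, congrArg Subtype.val hs.2⟩⟩

variable [LocallyOfFinitePresentation f] (hF : CohB1.IsFP F) (hG : CohB1.IsFP G)
  (hflat : FlatMod.IsFlatOver f G)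

/-- The points where the stalk map is not bijective. -/
def nonIso : Set X := {x | ¬ Function.Bijective (StalkModule.stalkMapₗ u x)}

include hF hG hflat in
theorem exists_chart (x : X) : ∃ (U : X.Opens) (hU : IsAffineOpen U), x ∈ U ∧
    IsClosed (bad (InjCokerScheme.secMap u U)) ∧ IsConstructible (bad (InjCokerScheme.secMap u U)) ∧
    ∀ y : U, y.1 ∈ nonIso u ↔ hU.primeIdealOf y ∈ bad (InjCokerScheme.secMap u U) := by
  obtain ⟨V, hV, hxV, -⟩ := exists_isAffineOpen_mem_and_subset (X := Y) (x := f x) (U := ⊤) trivial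
  obtain ⟨U, hU, hxU, hUV, hfpF, hfpG⟩ :=
    FlatKernelScheme.exists_affine_le₂ F G hF hG x (f ⁻¹ᵁ V) hxV
  letI : Algebra Γ(Y, V) Γ(X, U) := (f.appLE V U hUV).hom.toAlgebra
  letI : Module Γ(Y, V) Γ(G, U) := Module.compHom Γ(G, U) (f.appLE V U hUV).hom
  haveI : IsScalarTower Γ(Y, V) Γ(X, U) Γ(G, U) := IsScalarTower.of_algebraMap_smul fun _ _ ↦ rfl
  haveI : Algebra.FinitePresentation Γ(Y, V) Γ(X, U) :=
    HasRingHomProperty.appLE @LocallyOfFinitePresentation f inferInstance ⟨V, hV⟩ ⟨U, hU⟩ hUV
  haveI : Module.Flat Γ(Y, V) Γ(G, U) := FlatKernelScheme.flat_sections f G hV hU hUV hflat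
  obtain ⟨h1, h2⟩ := isClosed_and_isConstructible_bad Γ(Y, V) (InjCokerScheme.secMap u U)
  exact ⟨U, hU, hxU, h1, h2, fun y => by
    rw [nonIso, Set.mem_ofPred_eq, bijective_iff_notMem_bad u hU y.2, not_not]⟩

include hF hG hflat in
theorem isClosed_nonIso : IsClosed (nonIso u) := by
  rw [← isOpen_compl_iff, isOpen_iff_forall_mem_open]
  intro x hx
  obtain ⟨U, hU, hxU, h1, -, hiff⟩ := exists_chart f u hF hG hflat x
  exact H19.FlatLocus.Scheme.exists_nhd_of_chart hU (fun y => y ∈ (nonIso u)ᶜ) _ h1.isOpen_compl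
    (fun y hy => not_congr (hiff ⟨y, hy⟩)) hxU hx

include hF hG hflat in
theorem isLocallyConstructible_nonIso : IsLocallyConstructible (nonIso u) := by
  intro x
  obtain ⟨U, hU, hxU, -, h2, hiff⟩ := exists_chart f u hF hG hflat x
  refine ⟨U, U.2.mem_nhds hxU, U.2, ?_⟩
  haveI : IsAffine U := hU
  have h3 := ConsPreimage.isConstructible_preimage_affine hU.isoSpec.hom h2
  have e : hU.isoSpec.hom ⁻¹' bad (InjCokerScheme.secMap u U) = (Subtype.val ⁻¹' nonIso u : Set U) :=
    Set.ext fun y => (hiff y).symm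
  exact e ▸ h3

include hF hG hflat in
/-- Bijective on the fibre, hence bijective. -/
theorem bijective_of_fibre (y : Y) (z : f.fiber y)
    (h : Function.Bijective (StalkModule.stalkMapₗ ((Scheme.Modules.pullback (f.fiberι y)).map u) z)) :
    Function.Bijective (StalkModule.stalkMapₗ u (f.fiberι y z)) := by
  let x := f.fiberι y z
  let B := X.presheaf.stalk x
  let R := Y.presheaf.stalk (f x)
  obtain ⟨V, hV, hxV, -⟩ := exists_isAffineOpen_mem_and_subset (X := Y) (x := f x) (U := ⊤) trivial
  obtain ⟨U, hU, hxU, hUV, hfpF, hfpG⟩ :=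
    FlatKernelScheme.exists_affine_le₂ F G hF hG x (f ⁻¹ᵁ V) hxV
  haveI : Module.FinitePresentation B (G.presheaf.stalk x) :=
    H26.FreeCrit.finitePresentation_stalk (F := G) hU hxU
  haveI : Module.FinitePresentation B (F.presheaf.stalk x) :=
    H26.FreeCrit.finitePresentation_stalk (F := F) hU hxU
  have hs := (f.fiberι y).stalkMap_surjective z
  rw [← ZarCoh.Exchange.HomPullback.bc_stalkMap] at h
  let g := StalkModule.stalkMapₗ u x
  have hsurj : Function.Surjective g :=
    StalkLemmas.surjective_of_bc (f.fiberι y) z hs g h.2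
  refine ⟨?_, hsurj⟩
  haveI : Module.Finite B ↥(LinearMap.ker g) :=
    Module.Finite.iff_fg.2 (Module.FinitePresentation.fg_ker g hsurj)
  letI : Algebra R B := (f.stalkMap x).hom.toAlgebra
  letI : Module R (F.presheaf.stalk x) := FlatMod.moduleStalkOver f F x
  letI : Module R (G.presheaf.stalk x) := FlatMod.moduleStalkOver f G x
  haveI : IsScalarTower R B (F.presheaf.stalk x) := IsScalarTower.of_algebraMap_smul fun _ _ => rfl
  haveI : IsScalarTower R B (G.presheaf.stalk x) := IsScalarTower.of_algebraMap_smul fun _ _ => rfl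
  haveI : Module.Flat R (G.presheaf.stalk x) := hflat x
  let J : Ideal B := (IsLocalRing.maximalIdeal R).map (algebraMap R B)
  have hk : RingHom.ker ((f.fiberι y).stalkMap z).hom = J :=
    Groth.Agent.H46.FiberStalk.ker_stalkMap_fiberι f y z
  have hJ : J ≤ Ideal.jacobson ⊥ := by
    rw [IsLocalRing.jacobson_eq_maximalIdeal ⊥ bot_ne_top, ← hk]
    exact IsLocalRing.le_maximalIdeal (RingHom.ker_ne_top _)
  have hle : (⊤ : Submodule B ↥(LinearMap.ker g)) ≤ J • ⊤ := by
    intro w _
    have h2 : ZarCoh.Exchange.HomPullback.pl (f.fiberι y) F z w.1 = 0 := h.1 (by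
      rw [map_zero, ZarCoh.Exchange.HomPullback.bc_pl]
      exact (congrArg _ w.2).trans (map_zero _))
    have h3 := StalkLemmas.mem_of_pl_eq_zero (f.fiberι y) z hs h2
    rw [hk] at h3
    let k := R ⧸ IsLocalRing.maximalIdeal R
    have h4 : (1 : k) ⊗ₜ[R] w.1 = 0 := (Groth.Agent.H47.InjFibre.mem_map_smul_iff _ _).1 h3
    let ι := (LinearMap.ker g).subtype.restrictScalars R
    have hinj : Function.Injective (ι.lTensor k) :=
      LinearMap.lTensor_injective_of_exact_of_flat (g.restrictScalars R) hsurj ι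
        (Submodule.subtype_injective _) (fun m => ⟨fun hm => ⟨⟨m, hm⟩, rfl⟩,
          fun ⟨m', hm'⟩ => hm' ▸ m'.2⟩) k
    exact (Groth.Agent.H47.InjFibre.mem_map_smul_iff (B := B) (V := ↥(LinearMap.ker g))
      (IsLocalRing.maximalIdeal R) w).2 (hinj (by rw [map_zero, LinearMap.lTensor_tmul]; exact h4))
  have hbot := Submodule.eq_bot_of_le_smul_of_le_jacobson_bot J
    (⊤ : Submodule B ↥(LinearMap.ker g)) Module.Finite.fg_top hle hJ
  rw [← LinearMap.ker_eq_bot]
  refine (Submodule.eq_bot_iff _).2 fun a ha => ?_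
  have : (⟨a, ha⟩ : ↥(LinearMap.ker g)) ∈ (⊥ : Submodule B ↥(LinearMap.ker g)) :=
    hbot ▸ Submodule.mem_top
  exact congrArg Subtype.val ((Submodule.mem_bot B).mp this)

end scheme

end Groth.Agent.H47.IsoLocus
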