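import Groth.Agent.H19.FlatLocus.Main

/-!
# Openness of flatness localized on the base; finite presentation along a base change
-/

set_option autoImplicit false
set_option backward.isDefEq.respectTransparency false

universe u

open TensorProduct

namespace Groth.Agent.H47.LocusFlat

/-- If `G` localized at a submonoid of the base is flat, one element of the submonoid suffices. -/
theorem exists_flat_of_mem {R S : Type u} [CommRing R] [CommRing S] [Algebra R S]
    [Algebra.FinitePresentation R S] (G : Type u) [AddCommGroup G] [Module R G] [Module S G]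
    [IsScalarTower R S G] [Module.FinitePresentation S G] (W : Submonoid R)
    (h : Module.Flat R (LocalizedModule W G)) :
    ∃ f ∈ W, ∀ W' : Submonoid R, f ∈ W' → Module.Flat R (LocalizedModule W' G) := by
  let U := {Q : PrimeSpectrum S | Module.Flat R (LocalizedModule Q.asIdeal.primeCompl G)}
  have hU : IsOpen U := H19.FlatLocus.isOpen_flat_of_finitePresentation (R := R) (M := G)
  let I : Ideal S := PrimeSpectrum.vanishingIdeal Uᶜ
  have hI : PrimeSpectrum.zeroLocus (I : Set S) = Uᶜ := by
    rw [PrimeSpectrum.zeroLocus_vanishingIdeal_eq_closure, hU.isClosed_compl.closure_eq]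
  have hmem : ∀ Q : PrimeSpectrum S, Q ∉ U → I ≤ Q.asIdeal := fun Q hQ => by
    have : Q ∈ PrimeSpectrum.zeroLocus (I : Set S) := hI.ge hQ
    exact this
  obtain ⟨f, hf, hfI⟩ : ∃ f ∈ W, algebraMap R S f ∈ I := by
    by_contra hne
    push Not at hne
    have hd : Disjoint (I : Set S) (W.map (algebraMap R S) : Set S) :=
      Set.disjoint_left.2 fun x hx ⟨w, hw, e⟩ => hne w hw (e ▸ hx)
    obtain ⟨Q, hQp, hle, hQd⟩ := Ideal.exists_le_prime_disjoint I _ hd
    have hQU : (⟨Q, hQp⟩ : PrimeSpectrum S) ∈ U := by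
      refine (H19.FlatLocus.flat_iff_killed Q.primeCompl
        (LocalizedModule.mkLinearMap Q.primeCompl G)).2 fun a y hy => ?_
      obtain ⟨w, hw, hwy⟩ := (H19.FlatLocus.flat_iff_killed W (LocalizedModule.mkLinearMap W G)).1 h a y hy
      exact ⟨algebraMap R S w, fun hm => (Set.disjoint_left.1 hQd) hm ⟨w, hw, rfl⟩,
        by rw [algebraMap_smul]; exact hwy⟩
    exact (hI.le (show (⟨Q, hQp⟩ : PrimeSpectrum S) ∈ PrimeSpectrum.zeroLocus (I : Set S) from hle)) hQU
  refine ⟨f, hf, fun W' hfW' => (H19.FlatLocus.flat_iff_killed W'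
    (LocalizedModule.mkLinearMap W' G)).2 fun a y hy => ?_⟩
  by_contra hne
  push Not at hne
  let Ann : Ideal S := LinearMap.ker (LinearMap.toSpanSingleton S _ y)
  have hd : Disjoint (Ann : Set S) (W'.map (algebraMap R S) : Set S) :=
    Set.disjoint_left.2 fun x hx ⟨w, hw, e⟩ => hne w hw (by
      have hx' : x • y = 0 := hx
      rw [← e, algebraMap_smul] at hx'
      exact hx')
  obtain ⟨Q, hQp, hle, hQd⟩ := Ideal.exists_le_prime_disjoint Ann _ hd
  have hQU : (⟨Q, hQp⟩ : PrimeSpectrum S) ∈ U := by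
    by_contra hQ
    exact (Set.disjoint_left.1 hQd) (hmem _ hQ hfI) ⟨f, hfW', rfl⟩
  obtain ⟨s, hs, hsy⟩ := (H19.FlatLocus.flat_iff_killed Q.primeCompl
    (LocalizedModule.mkLinearMap Q.primeCompl G)).1 hQU a y hy
  exact hs (hle hsy)

/-- Finite presentation along a base change with a surjective comparison of the rings. -/
theorem fp_of_baseChange {C A S₁ S : Type u} [CommRing C] [CommRing A] [CommRing S₁] [CommRing S]
    [Algebra C A] [Algebra C S₁] [Algebra A S] [Algebra S₁ S] [Algebra C S] [IsScalarTower C A S]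
    [IsScalarTower C S₁ S]
    (hsurj : Function.Surjective
      (Algebra.TensorProduct.productMap (IsScalarTower.toAlgHom C A S) (IsScalarTower.toAlgHom C S₁ S)))
    {G₁ G : Type u} [AddCommGroup G₁] [Module S₁ G₁] [Module C G₁] [IsScalarTower C S₁ G₁]
    [Module.FinitePresentation S₁ G₁] [AddCommGroup G] [Module S G] [Module A G] [IsScalarTower A S G]
    [Module S₁ G] [IsScalarTower S₁ S G] [Module C G] [IsScalarTower C A G] [IsScalarTower C S₁ G]
    (θ : G₁ →ₗ[S₁] G) (hθ : IsBaseChange A (θ.restrictScalars C)) :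
    Module.FinitePresentation S G := by
  let Ψ : S ⊗[S₁] G₁ →ₗ[S] G := LinearMap.liftBaseChange S θ
  let j : G₁ →ₗ[C] S ⊗[S₁] G₁ := (TensorProduct.mk S₁ S G₁ 1).restrictScalars C
  let Φ : A ⊗[C] G₁ →ₗ[A] S ⊗[S₁] G₁ := LinearMap.liftBaseChange A j
  have hΦ : Function.Surjective Φ := by
    intro w
    induction w using TensorProduct.induction_on with
    | zero => exact ⟨0, map_zero _⟩
    | add a b ha hb =>
      obtain ⟨x, rfl⟩ := ha
      obtain ⟨y, rfl⟩ := hb
      exact ⟨x + y, map_add _ _ _⟩
    | tmul s g =>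
      obtain ⟨z, rfl⟩ := hsurj s
      induction z using TensorProduct.induction_on with
      | zero => exact ⟨0, by rw [map_zero, map_zero, TensorProduct.zero_tmul]⟩
      | add a b ha hb =>
        obtain ⟨x, hx⟩ := ha
        obtain ⟨y, hy⟩ := hb
        exact ⟨x + y, by rw [map_add, map_add, hx, hy, TensorProduct.add_tmul]⟩
      | tmul a t =>
        refine ⟨a ⊗ₜ (t • g), ?_⟩
        rw [LinearMap.liftBaseChange_tmul, Algebra.TensorProduct.productMap_apply_tmul]
        show a • ((1 : S) ⊗ₜ[S₁] (t • g)) = _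
        rw [TensorProduct.tmul_smul, TensorProduct.smul_tmul', TensorProduct.smul_tmul']
        simp [Algebra.smul_def]
  have hcomp : ∀ w, Ψ (Φ w) = hθ.equiv w := by
    intro w
    induction w using TensorProduct.induction_on with
    | zero => simp
    | add a b ha hb => simp only [map_add, ha, hb]
    | tmul a g =>
      rw [LinearMap.liftBaseChange_tmul, IsBaseChange.equiv_tmul, ← algebraMap_smul S a (j g), map_smul,
        algebraMap_smul]
      show a • (LinearMap.liftBaseChange S θ) ((1 : S) ⊗ₜ[S₁] g) = a • θ g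
      rw [LinearMap.liftBaseChange_tmul, one_smul]
  have hb : Function.Bijective Ψ := by
    refine ⟨fun x y hxy => ?_, fun y => ⟨Φ (hθ.equiv.symm y), by rw [hcomp, LinearEquiv.apply_symm_apply]⟩⟩
    obtain ⟨x, rfl⟩ := hΦ x
    obtain ⟨y, rfl⟩ := hΦ y
    rw [hcomp, hcomp] at hxy
    rw [hθ.equiv.injective hxy]
  exact Module.FinitePresentation.of_equiv (LinearEquiv.ofBijective Ψ hb)

end Groth.Agent.H47.LocusFlat
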