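import Groth.Agent.H2.Rigid.SubDiagram
import Groth.Agent.Lib.Lim.FPDescend
import Groth.Agent.Lib.Lim.OpenImm
import Groth.Agent.H47.LQFDescend

/-!
# Noetherian models of finitely presented morphisms over an affine base
-/

set_option autoImplicit false
set_option backward.isDefEq.respectTransparency false

noncomputable section

universe u

open CategoryTheory CategoryTheory.Limits AlgebraicGeometry Opposite
open Groth.Agent.Lib.Lim Groth.Agent.Lib.Lim.Basic

namespace Groth.Agent.H47.NoethModel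

/-- A morphism of schemes of finite presentation over an affine base is the base change of one over
a Noetherian affine base. -/
theorem exists_model {A : CommRingCat.{u}} {X Y : Scheme.{u}} (f : X ⟶ Y) (g : Y ⟶ Spec A)
    [LocallyOfFinitePresentation g] [QuasiCompact g] [QuasiSeparated g]
    [LocallyOfFinitePresentation (f ≫ g)] [QuasiCompact (f ≫ g)] [QuasiSeparated (f ≫ g)] :
    ∃ (A₀ : CommRingCat.{u}) (_ : IsNoetherianRing A₀) (b : Spec A ⟶ Spec A₀) (X₀ Y₀ : Scheme.{u})
      (f₀ : X₀ ⟶ Y₀) (g₀ : Y₀ ⟶ Spec A₀) (qY : Y ⟶ Y₀) (qX : X ⟶ X₀),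
      LocallyOfFinitePresentation g₀ ∧ QuasiCompact g₀ ∧ QuasiSeparated g₀ ∧
      LocallyOfFinitePresentation (f₀ ≫ g₀) ∧ QuasiCompact (f₀ ≫ g₀) ∧
      QuasiSeparated (f₀ ≫ g₀) ∧ IsPullback qY g g₀ b ∧ IsPullback qX f f₀ qY := by
  let D := Groth.Agent.H2.Rigid.SubDiagram.diagram A
  let c := Groth.Agent.H2.Rigid.SubDiagram.cone A
  have hc : IsLimit c := Groth.Agent.H2.Rigid.SubDiagram.isLimitCone A
  have : ∀ {i j : (Finset A)ᵒᵖ} (g : i ⟶ j), IsAffineHom (D.map g) := fun g => inferInstance
  have : ∀ i, IsAffine (D.obj i) := fun i => inferInstance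
  have : LocallyOfFinitePresentation f := Groth.Agent.Lib.Lim.OpenImm.lfp_of_comp f g
  have : QuasiCompact f := QuasiCompact.of_comp f g
  have : CompactSpace Y := QuasiCompact.compactSpace_of_compactSpace g
  have : QuasiSeparatedSpace Y := quasiSeparatedSpace_of_quasiSeparated g
  have : CompactSpace X := QuasiCompact.compactSpace_of_compactSpace (f ≫ g)
  have : QuasiSeparatedSpace X := quasiSeparatedSpace_of_quasiSeparated (f ≫ g)
  obtain ⟨i, Yi, gi, qi, hYc, hYq, hgi, hi⟩ := FPDescend.exists_descent (D := D) hc (c := c) g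
  have := fun j => compactSpace_bcDiagram D gi j
  have := fun j => quasiSeparatedSpace_bcDiagram D gi j
  have : ∀ {j k : Over i} (φ : j ⟶ k), IsAffineHom ((bcDiagram D gi).map φ) := fun φ =>
    bcDiagram_map_prop D gi @IsAffineHom (fun f => inferInstance) φ
  let cY := bcCone (D := D) (a := gi) hi.w
  obtain ⟨j, Xj, fj, qj, hXc, hXq, hfj, hj⟩ :=
    FPDescend.exists_descent (D := bcDiagram D gi) (c := cY) (isLimitBcCone hc hi) f
  let A₀ : CommRingCat.{u} := (Groth.Agent.H2.Rigid.SubDiagram.ringDiagram A).obj j.left.unop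
  have hA₀ : IsNoetherianRing A₀ := by
    have := Groth.Agent.H2.Rigid.SubDiagram.isLocallyNoetherian_obj A j.left
    exact (isLocallyNoetherian_Spec (R := A₀)).1 this
  let g₀ : (bcDiagram D gi).obj j ⟶ Spec A₀ := pullback.snd gi (D.map j.hom)
  have hY0 : IsPullback (cY.π.app j) g g₀ (c.π.app j.left) := isPullback_bcCone_π hi j
  have hg₀ : LocallyOfFinitePresentation g₀ :=
    MorphismProperty.pullback_snd (P := @LocallyOfFinitePresentation) gi (D.map j.hom) hgi
  have : CompactSpace (Spec A₀) := inferInstance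
  have hqc : QuasiCompact g₀ := (quasiCompact_iff_compactSpace _).2 inferInstance
  have hqs : QuasiSeparated g₀ := (quasiSeparated_iff_quasiSeparatedSpace _).2 inferInstance
  have : LocallyOfFinitePresentation fj := hfj
  have hqc' : QuasiCompact (fj ≫ g₀) := (quasiCompact_iff_compactSpace _).2 hXc
  have hqs' : QuasiSeparated (fj ≫ g₀) := (quasiSeparated_iff_quasiSeparatedSpace _).2 inferInstance
  exact ⟨A₀, hA₀, c.π.app j.left, Xj, (bcDiagram D gi).obj j, fj, g₀, cY.π.app j, qj,
    hg₀, hqc, hqs, inferInstance, hqc', hqs', hY0, hj⟩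

end Groth.Agent.H47.NoethModel
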