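import Groth.Agent.H47.GrSum
import Groth.Agent.H47.GrBasic
import Mathlib.RingTheory.Localization.BaseChange
import Mathlib.RingTheory.Flat.Basic

/-!
# The graded pieces over `B ⧸ J` as a localization of the sum of the `J ^ k M`
-/

set_option autoImplicit false

universe u

open TensorProduct DirectSum

namespace Groth.Agent.H47.NormFlat

open Groth.Agent.H47.GrSum

variable {r : ℕ} {B : Type u} [CommRing B] (jv : Fin r → B) (M : Type u) [AddCommGroup M] [Module B M]

/-- `B ⧸ J` -/
local notation "J₀" => Ideal.span (Set.range jv)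

/-- the graded piece -/
abbrev Pc (k : ℕ) : Type u := ↥(F jv M k) ⧸ Submodule.comap (F jv M k).subtype (F jv M (k + 1))

theorem mem_smul_top (k : ℕ) (x : ↥(F jv M k)) (hx : (x : M) ∈ F jv M (k + 1)) :
    x ∈ Ideal.span (Set.range jv) • (⊤ : Submodule B ↥(F jv M k)) := by
  have h : F jv M (k + 1) ≤
      (Ideal.span (Set.range jv) • (⊤ : Submodule B ↥(F jv M k))).map (F jv M k).subtype := by
    rw [Submodule.map_smul'', Submodule.map_top, Submodule.range_subtype]
    unfold F
    rw [← mul_smul, ← pow_succ']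
  obtain ⟨y, hy, hxy⟩ := h hx
  rwa [← Subtype.ext hxy]

set_option maxHeartbeats 1000000 in
/-- tensored with `B ⧸ J` and `T`, `J ^ k M` is the graded piece -/
theorem bijective_mkQ (T : Type u) [AddCommGroup T] [Module B T] (k : ℕ) :
    Function.Bijective (AlgebraTensorModule.lTensor (B ⧸ Ideal.span (Set.range jv))
      (B ⧸ Ideal.span (Set.range jv))
      ((Submodule.comap (F jv M k).subtype (F jv M (k + 1))).mkQ.lTensor T)) := by
  let K := Submodule.comap (F jv M k).subtype (F jv M (k + 1))
  let f := K.subtype.lTensor T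
  let g := K.mkQ.lTensor T
  have hgs : Function.Surjective g := LinearMap.lTensor_surjective T (Submodule.mkQ_surjective K)
  have hex : Function.Exact f g := lTensor_exact T (LinearMap.exact_subtype_mkQ K)
    (Submodule.mkQ_surjective K)
  have h2 : Function.Exact (f.lTensor (B ⧸ J₀)) (g.lTensor (B ⧸ J₀)) := lTensor_exact _ hex hgs
  have hz : f.lTensor (B ⧸ J₀) = 0 := by
    refine TensorProduct.ext' fun a w => ?_
    induction w using TensorProduct.induction_on with
    | zero => simp
    | add u v hu hv => simp only [tmul_add, map_add, hu, hv]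
    | tmul t x =>
      simp only [f, LinearMap.lTensor_tmul, LinearMap.zero_apply, Submodule.coe_subtype]
      refine Submodule.smul_induction_on (mem_smul_top jv M k x.1 x.2) (fun b hb y _ => ?_) ?_
      · rw [tmul_smul, tmul_smul, TensorProduct.smul_tmul',
          show b • a = 0 by
            rw [Algebra.smul_def, show algebraMap B (B ⧸ J₀) b = 0 from
              Ideal.Quotient.eq_zero_iff_mem.2 hb, zero_mul],
          TensorProduct.zero_tmul]
      · intro u v hu hv
        rw [tmul_add, tmul_add, hu, hv, add_zero]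
  refine ⟨(injective_iff_map_eq_zero _).2 fun z hz' => ?_,
    fun y => LinearMap.lTensor_surjective _ hgs y⟩
  obtain ⟨w, hw⟩ := (h2 z).1 hz'
  rw [← hw, hz, LinearMap.zero_apply]

set_option maxHeartbeats 2000000 in
theorem flat_iff (p : Submonoid B) :
    (∀ k, Module.Flat (B ⧸ J₀) ((B ⧸ J₀) ⊗[B] LocalizedModule p (Pc jv M k))) ↔
      Module.Flat (B ⧸ J₀) (LocalizedModule (Algebra.algebraMapSubmonoid (B ⧸ J₀) p)
        ((B ⧸ J₀) ⊗[B] V jv M)) := by
  classical
  -- the localization of the sum
  let g : (B ⧸ J₀) ⊗[B] V jv M →ₗ[B ⧸ J₀] (B ⧸ J₀) ⊗[B] (Localization p ⊗[B] V jv M) :=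
    AlgebraTensorModule.lTensor (B ⧸ J₀) (B ⧸ J₀) (TensorProduct.mk B (Localization p) (V jv M) 1)
  haveI : IsLocalizedModule p (g.restrictScalars B) := by
    have e : g.restrictScalars B =
        (TensorProduct.leftComm B (Localization p) (B ⧸ J₀) (V jv M)).toLinearMap ∘ₗ
          TensorProduct.mk B (Localization p) ((B ⧸ J₀) ⊗[B] V jv M) 1 :=
      TensorProduct.ext' fun a v => rfl
    rw [e]
    exact IsLocalizedModule.of_linearEquiv p _ _
  have hg : IsLocalizedModule (Algebra.algebraMapSubmonoid (B ⧸ J₀) p) g :=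
    IsLocalizedModule.of_restrictScalars p g
  let e₁ := IsLocalizedModule.iso (Algebra.algebraMapSubmonoid (B ⧸ J₀) p) g
  let e₂ := AlgebraTensorModule.congr (LinearEquiv.refl (B ⧸ J₀) (B ⧸ J₀))
    (TensorProduct.directSumRight B B (Localization p) fun k => ↥(F jv M k))
  let e₃ := TensorProduct.directSumRight B (B ⧸ J₀) (B ⧸ J₀)
    fun k => Localization p ⊗[B] ↥(F jv M k)
  let e₄ := fun k => LinearEquiv.ofBijective _ (bijective_mkQ jv M (Localization p) k)
  let e₅ := fun k => (e₄ k).trans (AlgebraTensorModule.congr (LinearEquiv.refl (B ⧸ J₀) (B ⧸ J₀))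
    ((LocalizedModule.equivTensorProduct p (Pc jv M k)).symm.restrictScalars B))
  let e := ((e₁.trans e₂).trans e₃).trans (DirectSum.congrLinearEquiv e₅)
  exact Module.Flat.directSum_iff.symm.trans (Module.Flat.equiv_iff e).symm

end Groth.Agent.H47.NormFlat
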