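import Groth.Agent.H20.PDDepth
import Groth.Agent.Lib.StalkLoc.Basic
import Groth.Agent.Lib.RefHull.LocFree

/-!
# Openness of the locus of bounded projective dimension of a coherent module
-/

set_option autoImplicit false
set_option linter.style.haveILetI false

universe u

open CategoryTheory AlgebraicGeometry TopologicalSpace
open Groth.Agent.Lib Groth.Agent.Lib.Regular.PD

namespace Groth.Agent.H47.PDOpen

/-- Projective dimension does not change along an isomorphism of rings. -/
theorem pdle_of_ringEquiv {A B : Type u} [CommRing A] [CommRing B] [IsNoetherianRing A]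
    (e : A ≃+* B) (N : Type u) [AddCommGroup N] [Module A N] [Module B N] [Module.Finite A N]
    (h : ∀ (a : A) (n : N), e a • n = a • n) {c : ℕ} (hN : PDle A N c) : PDle B N c := by
  letI := e.toRingHom.toAlgebra
  haveI : IsScalarTower A B N := ⟨fun a b n => by
    rw [show a • b = e a * b from rfl, mul_smul, h]⟩
  haveI : IsLocalization (⊥ : Submonoid A) A := IsLocalization.self bot_le
  haveI : IsLocalization (⊥ : Submonoid A) B :=
    IsLocalization.isLocalization_of_algEquiv (⊥ : Submonoid A)
      (AlgEquiv.ofRingEquiv (f := e) (fun _ => rfl) : A ≃ₐ[A] B)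
  haveI : IsLocalizedModule (⊥ : Submonoid A) (LinearMap.id : N →ₗ[A] N) := by
    refine ⟨fun s => ?_, fun y => ⟨⟨y, 1⟩, by simp⟩, fun h' => ⟨1, by simpa using h'⟩⟩
    have hs : (s : A) = 1 := Submonoid.mem_bot.mp s.2
    rw [hs, map_one]
    exact isUnit_one
  exact pdle_localization (⊥ : Submonoid A) B c (LinearMap.id : N →ₗ[A] N) hN

variable {X : Scheme.{u}} [IsLocallyNoetherian X] {F : X.Modules}

theorem finite_sections (hF : Coh.IsCoh F) {U : X.Opens} (hU : IsAffineOpen U) :
    Module.Finite Γ(X, U) Γ(F, U) :=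
  CohBasics.Closure.finite_sections hF hU

theorem pdle_stalk_iff (hF : Coh.IsCoh F) {U : X.Opens} (hU : IsAffineOpen U) (y : U) (c : ℕ) :
    PDle (X.presheaf.stalk y.1) (F.presheaf.stalk y.1) c ↔
      PDle (Localization.AtPrime (hU.primeIdealOf y).asIdeal)
        (LocalizedModule (hU.primeIdealOf y).asIdeal.primeCompl Γ(F, U)) c := by
  haveI := hF.1
  haveI : IsNoetherianRing Γ(X, U) := IsLocallyNoetherian.component_noetherian ⟨U, hU⟩
  haveI := finite_sections hF hU
  haveI := RefHull.LocFree.finite_stalk hF y.1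
  let S := (hU.primeIdealOf y).asIdeal.primeCompl
  letI := TopCat.Presheaf.algebra_section_stalk X.presheaf y
  haveI hloc : IsLocalization S (X.presheaf.stalk y.1) := hU.isLocalization_stalk y
  letI := StalkLoc.Basic.moduleSections F y.2
  haveI hg := StalkLoc.Basic.isLocalizedModule_germ (M := F) hU y.2
  haveI := StalkLoc.Basic.isScalarTower_sections F y.2
  let e : Localization S ≃ₐ[Γ(X, U)] X.presheaf.stalk y.1 :=
    IsLocalization.algEquiv S (Localization S) (X.presheaf.stalk y.1)
  letI : Module (Localization S) (F.presheaf.stalk y.1) := Module.compHom _ e.toRingHom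
  haveI : IsScalarTower Γ(X, U) (Localization S) (F.presheaf.stalk y.1) := ⟨fun r a n => by
    change e (r • a) • n = r • (e a • n)
    rw [map_smul, smul_assoc]⟩
  let l : LocalizedModule S Γ(F, U) ≃ₗ[Localization S] F.presheaf.stalk y.1 :=
    (IsLocalizedModule.iso S (StalkLoc.Basic.germₗ F y.2)).extendScalarsOfIsLocalization S _
  haveI : IsNoetherianRing (Localization S) := IsLocalization.isNoetherianRing S _ inferInstance
  haveI : IsNoetherianRing (X.presheaf.stalk y.1) :=
    IsLocalization.isNoetherianRing S _ inferInstance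
  haveI : Module.Finite (Localization S) (F.presheaf.stalk y.1) := Module.Finite.equiv l
  constructor
  · intro h
    exact pdle_of_equiv l.symm (pdle_of_ringEquiv e.toRingEquiv.symm (F.presheaf.stalk y.1)
      (fun a n => show e (e.symm a) • n = a • n by rw [AlgEquiv.apply_symm_apply]) h)
  · intro h
    exact pdle_of_ringEquiv e.toRingEquiv (F.presheaf.stalk y.1) (fun _ _ => rfl)
      (pdle_of_equiv l h)

theorem subsingleton_stalk_iff (hF : Coh.IsCoh F) {U : X.Opens} (hU : IsAffineOpen U) (y : U) :
    Subsingleton (F.presheaf.stalk y.1) ↔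
      hU.primeIdealOf y ∉ Module.support Γ(X, U) Γ(F, U) := by
  haveI := hF.1
  letI := StalkLoc.Basic.moduleSections F y.2
  haveI hg := StalkLoc.Basic.isLocalizedModule_germ (M := F) hU y.2
  rw [Module.notMem_support_iff]
  exact ((IsLocalizedModule.iso (hU.primeIdealOf y).asIdeal.primeCompl
    (StalkLoc.Basic.germₗ F y.2)).toEquiv.subsingleton_congr).symm

omit [IsLocallyNoetherian X] in
/-- A set which is open on each affine open, read in the spectrum, is open. -/
theorem isOpen_of_affine (P : X → Prop)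
    (h : ∀ (U : X.Opens) (hU : IsAffineOpen U), ∃ W : Set (PrimeSpectrum Γ(X, U)),
      IsOpen W ∧ ∀ y : U, P y.1 ↔ hU.primeIdealOf y ∈ W) : IsOpen {x | P x} := by
  refine isOpen_iff_forall_mem_open.mpr fun x hx => ?_
  obtain ⟨U, hU, hxU, -⟩ := exists_isAffineOpen_mem_and_subset (X := X) (x := x) (U := ⊤) trivial
  obtain ⟨W, hW, hiff⟩ := h U hU
  have hc : Continuous (fun y : U => hU.primeIdealOf y) := hU.isoSpec.hom.continuous
  refine ⟨Subtype.val '' {y : U | hU.primeIdealOf y ∈ W}, ?_,
    U.isOpen.isOpenMap_subtype_val _ (hW.preimage hc), ⟨⟨x, hxU⟩, (hiff _).mp hx, rfl⟩⟩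
  rintro _ ⟨y, hy, rfl⟩
  exact (hiff y).mpr hy

theorem isOpen_setOf_pdle (hF : Coh.IsCoh F) (c : ℕ) :
    IsOpen {x : X | PDle (X.presheaf.stalk x) (F.presheaf.stalk x) c} :=
  isOpen_of_affine _ fun U hU => by
    haveI : IsNoetherianRing Γ(X, U) := IsLocallyNoetherian.component_noetherian ⟨U, hU⟩
    haveI := finite_sections hF hU
    exact ⟨_, H20.PDDepth.isOpen_setOf_pdle c Γ(F, U), fun y => pdle_stalk_iff hF hU y c⟩

theorem isOpen_setOf_subsingleton (hF : Coh.IsCoh F) :
    IsOpen {x : X | Subsingleton (F.presheaf.stalk x)} :=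
  isOpen_of_affine _ fun U hU => by
    haveI := finite_sections hF hU
    refine ⟨(Module.support Γ(X, U) Γ(F, U))ᶜ, ?_, fun y => subsingleton_stalk_iff hF hU y⟩
    rw [Module.support_eq_zeroLocus]
    exact (PrimeSpectrum.isClosed_zeroLocus _).isOpen_compl

end Groth.Agent.H47.PDOpen
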