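import Groth.Agent.H47.SpecLimit
import Groth.Agent.H47.ConsBasic
import Groth.Agent.Lib.Lim.Descend
import Groth.Prelude
import Mathlib.AlgebraicGeometry.ResidueField
import Mathlib.AlgebraicGeometry.Noetherian
import Mathlib.RingTheory.Adjoin.FG

/-!
# Ind-constructible properties of pairs: existence, after an extension of the field, of a morphism
having a property that descends along limits
-/

set_option autoImplicit false
set_option linter.unusedVariables false
set_option backward.isDefEq.respectTransparency false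

noncomputable section

universe u

open CategoryTheory CategoryTheory.Limits AlgebraicGeometry Groth.Agent.Lib.Lim.Basic
  Groth.Agent.Lib.Lim.Descend

namespace Groth.Agent.H47.PairProp

variable (Pr : MorphismProperty Scheme.{u})

/-- after base change along `a` there is a morphism over the base with the property -/
def Has {X Y S T : Scheme.{u}} (u : X ⟶ S) (v : Y ⟶ S) (a : T ⟶ S) : Prop :=
  ∃ g : pullback u a ⟶ pullback v a, g ≫ pullback.snd v a = pullback.snd u a ∧ Pr g

/-- the relation on pairs -/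
def Rel ⦃X Y T : Scheme.{u}⦄ (gX : X ⟶ T) (gY : Y ⟶ T) : Prop :=
  ∃ (T' X' Y' : Scheme.{u}) (h : T' ⟶ T) (gX' : X' ⟶ T') (gY' : Y' ⟶ T')
    (eX : X' ⟶ X) (eY : Y' ⟶ Y), IsIntegral T' ∧ Subsingleton ↥T' ∧
      IsPullback eX gX' gX h ∧ IsPullback eY gY' gY h ∧
        ∃ g : X' ⟶ Y', g ≫ gY' = gX' ∧ Pr g

variable {Pr}

instance {K : Type u} [Field K] : IsIntegral (Spec (CommRingCat.of K)) := inferInstance

instance {K : Type u} [Field K] : Subsingleton ↥(Spec (CommRingCat.of K)) :=
  inferInstanceAs (Subsingleton (PrimeSpectrum K))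

section
variable [Pr.RespectsIso]

theorem has_iff_of_squares {X Y S T X' Y' : Scheme.{u}} {u : X ⟶ S} {v : Y ⟶ S} {a : T ⟶ S}
    {eX : X' ⟶ X} {gX' : X' ⟶ T} (hX : IsPullback eX gX' u a)
    {eY : Y' ⟶ Y} {gY' : Y' ⟶ T} (hY : IsPullback eY gY' v a) :
    Has Pr u v a ↔ ∃ g : X' ⟶ Y', g ≫ gY' = gX' ∧ Pr g := by
  constructor
  · rintro ⟨g, hg, hP⟩
    refine ⟨hX.isoPullback.hom ≫ g ≫ hY.isoPullback.inv, ?_, ?_⟩
    · simp only [Category.assoc, IsPullback.isoPullback_inv_snd, hg, IsPullback.isoPullback_hom_snd]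
    · rwa [Pr.cancel_left_of_respectsIso, Pr.cancel_right_of_respectsIso]
  · rintro ⟨g, hg, hP⟩
    refine ⟨hX.isoPullback.inv ≫ g ≫ hY.isoPullback.hom, ?_, ?_⟩
    · simp only [Category.assoc, IsPullback.isoPullback_hom_snd, hg, IsPullback.isoPullback_inv_snd]
    · rwa [Pr.cancel_left_of_respectsIso, Pr.cancel_right_of_respectsIso]

theorem has_iff_has {X Y S T T' X' Y' : Scheme.{u}} {u : X ⟶ S} {v : Y ⟶ S} {b : T ⟶ S}
    {eX : X' ⟶ X} {gX' : X' ⟶ T} (hX : IsPullback eX gX' u b)
    {eY : Y' ⟶ Y} {gY' : Y' ⟶ T} (hY : IsPullback eY gY' v b) (m : T' ⟶ T) :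
    Has Pr gX' gY' m ↔ Has Pr u v (m ≫ b) :=
  (has_iff_of_squares ((IsPullback.of_hasPullback gX' m).paste_horiz hX)
    ((IsPullback.of_hasPullback gY' m).paste_horiz hY)).symm

theorem rel_iff {X Y T : Scheme.{u}} (gX : X ⟶ T) (gY : Y ⟶ T) :
    Rel Pr gX gY ↔ ∃ (T' : Scheme.{u}) (h : T' ⟶ T),
      IsIntegral T' ∧ Subsingleton ↥T' ∧ Has Pr gX gY h := by
  constructor
  · rintro ⟨T', X', Y', h, gX', gY', eX, eY, h1, h2, h3, h4, h5⟩
    exact ⟨T', h, h1, h2, (has_iff_of_squares h3 h4).2 h5⟩
  · rintro ⟨T', h, h1, h2, g, hg, hP⟩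
    exact ⟨T', _, _, h, _, _, _, _, h1, h2, IsPullback.of_hasPullback gX h,
      IsPullback.of_hasPullback gY h, g, hg, hP⟩

end

variable [Pr.IsStableUnderBaseChange]

theorem has_of_comp {X Y S T T' : Scheme.{u}} {u : X ⟶ S} {v : Y ⟶ S} {a : T ⟶ S} {a' : T' ⟶ S}
    (m : T' ⟶ T) (e : m ≫ a = a') (h : Has Pr u v a) : Has Pr u v a' := by
  subst e
  obtain ⟨g, hg, hP⟩ := h
  refine (has_iff_of_squares (eX := pullback.fst (pullback.snd u a) m ≫ pullback.fst u a)
    ((IsPullback.of_hasPullback (pullback.snd u a) m).paste_horiz (IsPullback.of_hasPullback u a))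
    (eY := pullback.fst (pullback.snd v a) m ≫ pullback.fst v a)
    ((IsPullback.of_hasPullback (pullback.snd v a) m).paste_horiz
      (IsPullback.of_hasPullback v a))).2 ?_
  let g' : pullback (pullback.snd u a) m ⟶ pullback (pullback.snd v a) m :=
    pullback.lift (pullback.fst _ _ ≫ g) (pullback.snd _ _)
      (by rw [Category.assoc, hg, pullback.condition])
  have sq : IsPullback (pullback.fst (pullback.snd u a) m) g' g
      (pullback.fst (pullback.snd v a) m) := by
    refine IsPullback.of_bot ?_ (pullback.lift_fst _ _ _).symm (IsPullback.of_hasPullback _ m)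
    rw [hg, pullback.lift_snd]
    exact IsPullback.of_hasPullback _ _
  exact ⟨g', pullback.lift_snd _ _ _, Pr.of_isPullback sq hP⟩

theorem isFieldStablePair_rel : ConsPropPair.IsFieldStablePair (Rel Pr) := by
  intro X X' Y Y' T T' gX gY gX' gY' eX eY h _ _ _ _ _ _ _ _ hX hY
  rw [rel_iff, rel_iff]
  constructor
  · rintro ⟨T₂, h₂, hi, hs, hh⟩
    have : Surjective h₂ := Groth.Agent.H47.ConsBasic.surjective_of_subsingleton h₂
    have : Surjective (pullback.snd h₂ h) := MorphismProperty.pullback_snd _ _ inferInstance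
    obtain ⟨z, -⟩ := (pullback.snd h₂ h).surjective (Classical.arbitrary T')
    refine ⟨_, (pullback h₂ h).fromSpecResidueField z ≫ pullback.snd h₂ h, inferInstance,
      inferInstance, (has_iff_has hX hY _).2 ?_⟩
    rw [Category.assoc, ← pullback.condition, ← Category.assoc]
    exact has_of_comp _ rfl hh
  · rintro ⟨T₂, h₂, hi, hs, hh⟩
    exact ⟨T₂, h₂ ≫ h, hi, hs, (has_iff_has hX hY h₂).1 hh⟩

/-! ### the system of finitely generated subalgebras -/

variable (R : Type u) [CommRing R] (K : Type u) [CommRing K] [Algebra R K]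

/-- finitely generated subalgebras -/
abbrev FGSub : Type u := {A : Subalgebra R K // A.FG}

instance : Nonempty (FGSub R K) := ⟨⟨⊥, Subalgebra.fg_bot⟩⟩

instance : IsDirectedOrder (FGSub R K) :=
  ⟨fun A B => ⟨⟨A.1 ⊔ B.1, A.2.sup B.2⟩, (le_sup_left : A.1 ≤ A.1 ⊔ B.1), (le_sup_right : B.1 ≤ A.1 ⊔ B.1)⟩⟩

/-- the diagram -/
def subs : FGSub R K ⥤ CommRingCat.{u} where
  obj A := .of A.1
  map {A B} h := CommRingCat.ofHom (Subalgebra.inclusion (show A.1 ≤ B.1 from h.le)).toRingHom

/-- the cocone -/
def subsCocone : Cocone (subs R K) where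
  pt := .of K
  ι := { app A := CommRingCat.ofHom A.1.val.toRingHom }

theorem nonempty_isColimit_subsCocone : Nonempty (IsColimit (subsCocone R K)) := by
  refine SpecLimit.nonempty_isColimit _ _ (fun a => ?_) (fun A x hx => ?_)
  · classical
    exact ⟨⟨Algebra.adjoin R {a}, ⟨{a}, by simp⟩⟩, ⟨a, Algebra.subset_adjoin rfl⟩, rfl⟩
  · refine ⟨A, 𝟙 A, ?_⟩
    have : x = 0 := Subtype.ext hx
    rw [this]
    exact map_zero _

/-! ### the main theorem -/

variable {Q : MorphismProperty Scheme.{u}} [Q.RespectsIso] (H : Descends Pr Q)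
  (hQ : ∀ {X Y : Scheme.{u}} (f : X ⟶ Y) [LocallyOfFinitePresentation f] [QuasiCompact f]
    [QuasiSeparated f], Q f)

include H hQ

theorem isIndConsPair_rel : ConsPropPair.IsIndConsPair (Rel Pr) := by
  refine ⟨isFieldStablePair_rel, ?_⟩
  intro X Y S u v _ _ _ _ _ _ hη
  let η := genericPoint S
  have hη' : Rel Pr (pullback.snd u (S.fromSpecResidueField η))
      (pullback.snd v (S.fromSpecResidueField η)) := hη
  obtain ⟨T₁, h₁, hT₁, hT₁', hh⟩ := (rel_iff _ _).1 hη'
  replace hh : Has Pr u v (h₁ ≫ S.fromSpecResidueField η) :=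
    (has_iff_has (IsPullback.of_hasPullback u _) (IsPullback.of_hasPullback v _) h₁).1 hh
  let x₁ : T₁ := Classical.arbitrary T₁
  let K₁ := T₁.residueField x₁
  let w : Spec K₁ ⟶ S := T₁.fromSpecResidueField x₁ ≫ h₁ ≫ S.fromSpecResidueField η
  obtain ⟨g, hg, hgP⟩ := has_of_comp (T₁.fromSpecResidueField x₁) (a' := w) rfl hh
  obtain ⟨U, hU, hηU, -⟩ := exists_isAffineOpen_mem_and_subset (X := S) (x := η) (U := ⊤) trivial
  have hw : ∀ y, w y = η := fun y => by
    simp only [w, Scheme.Hom.comp_apply, Scheme.fromSpecResidueField_apply]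
  obtain ⟨m, hm⟩ : ∃ m : Spec K₁ ⟶ Spec Γ(S, U), m ≫ hU.fromSpec = w := by
    refine ⟨IsOpenImmersion.lift hU.fromSpec w ?_, IsOpenImmersion.lift_fac _ _ _⟩
    rw [hU.range_fromSpec]
    rintro _ ⟨y, rfl⟩
    rw [hw]
    exact hηU
  obtain ⟨ψ, rfl⟩ := Spec.map_surjective m
  letI : Algebra Γ(S, U) K₁ := ψ.hom.toAlgebra
  have : IsNoetherianRing Γ(S, U) := IsLocallyNoetherian.component_noetherian ⟨U, hU⟩
  let R := Γ(S, U)
  let D := SpecLimit.diagram (subs R K₁)
  let c := SpecLimit.cone (subs R K₁) (subsCocone R K₁)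
  have hlim : IsLimit c := SpecLimit.isLimitCone _ _ (nonempty_isColimit_subsCocone R K₁).some
  let j : ∀ A : FGSub R K₁, Spec (.of A.1) ⟶ S := fun A =>
    Spec.map (CommRingCat.ofHom (algebraMap R A.1)) ≫ hU.fromSpec
  have hj : ∀ {A B : FGSub R K₁} (φ : A ⟶ B), Spec.map ((subs R K₁).map φ) ≫ j A = j B := by
    intro A B φ
    rw [← Category.assoc, ← Spec.map_comp]
    rfl
  have hwj : ∀ A, Spec.map ((subsCocone R K₁).ι.app A) ≫ j A = w := by
    intro A
    rw [← hm, ← Category.assoc, ← Spec.map_comp]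
    rfl
  have hAft : ∀ A : FGSub R K₁, Algebra.FiniteType R A.1 := fun A =>
    A.1.fg_iff_finiteType.1 A.2
  have hNoeth : ∀ A : FGSub R K₁, IsNoetherianRing (CommRingCat.of A.1) := fun A =>
    have := hAft A
    Algebra.FiniteType.isNoetherianRing R A.1
  have : QuasiSeparated v := by
    have : IsLocallyNoetherian Y := LocallyOfFiniteType.isLocallyNoetherian v
    infer_instance
  have : QuasiSeparated u := by
    have : IsLocallyNoetherian X := LocallyOfFiniteType.isLocallyNoetherian u
    infer_instance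
  obtain ⟨A₀⟩ : Nonempty (FGSub R K₁) := inferInstance
  let u₀ := pullback.snd u (j A₀)
  have : CompactSpace ↥(pullback u (j A₀)) := QuasiCompact.compactSpace_of_compactSpace u₀
  have : QuasiSeparatedSpace ↥(pullback u (j A₀)) := quasiSeparatedSpace_of_quasiSeparated u₀
  let qX : pullback u w ⟶ pullback u (j A₀) :=
    pullback.lift (pullback.fst u w) (pullback.snd u w ≫ Spec.map ((subsCocone R K₁).ι.app A₀))
      (by rw [Category.assoc, hwj, pullback.condition])
  have hX : IsPullback qX (pullback.snd u w) u₀ (c.π.app (.op A₀)) := by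
    refine IsPullback.of_right ?_ (pullback.lift_snd _ _ _) (IsPullback.of_hasPullback u (j A₀))
    rw [pullback.lift_fst]
    change IsPullback (pullback.fst u w) (pullback.snd u w) u
      (Spec.map ((subsCocone R K₁).ι.app A₀) ≫ j A₀)
    rw [hwj]
    exact IsPullback.of_hasPullback u w
  let t : bcDiagram D u₀ ⟶ (Functor.const _).obj S :=
    { app k := pullback.fst u₀ (D.map k.hom) ≫ u₀ ≫ j A₀
      naturality k l φ := by
        simp [bcDiagram_map_fst_assoc] }
  have hcs : ∀ k, CompactSpace ((bcDiagram D u₀).obj k) := fun k => compactSpace_bcDiagram D u₀ k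
  have hqs : ∀ k, QuasiSeparatedSpace ((bcDiagram D u₀).obj k) := fun k =>
    quasiSeparatedSpace_bcDiagram D u₀ k
  have : LocallyOfFinitePresentation v :=
    LocallyOfFinitePresentation.iff_locallyOfFiniteType.2 inferInstance
  obtain ⟨k, hk, hk1, hk2⟩ := Scheme.exists_π_app_comp_eq_of_locallyOfFinitePresentation
    (bcDiagram D u₀) t v (bcCone hX.w) (isLimitBcCone hlim hX) (g ≫ pullback.fst v w) (by
      ext k
      simp only [NatTrans.comp_app, Functor.const_map_app, t]
      rw [bcCone_π_fst_assoc, Category.assoc, pullback.condition, ← Category.assoc g, hg]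
      refine ((Category.assoc _ _ _).symm.trans ?_)
      rw [show qX ≫ u₀ = pullback.snd u w ≫ Spec.map ((subsCocone R K₁).ι.app A₀) from
        pullback.lift_snd _ _ _, Category.assoc, hwj A₀])
  -- the morphism at the stage `i`
  let i : FGSub R K₁ := k.left.unop
  let φ : k.left ⟶ Opposite.op A₀ := k.hom
  have hji : D.map φ ≫ j A₀ = j i := hj φ.unop
  let mX : pullback u (j i) ⟶ (bcDiagram D u₀).obj k :=
    pullback.lift (pullback.lift (pullback.fst u (j i)) (pullback.snd u (j i) ≫ D.map φ)
        (by rw [Category.assoc]; exact (pullback.condition).trans (congrArg _ hji.symm)))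
      (pullback.snd u (j i)) (pullback.lift_snd _ _ _)
  have hmX : mX ≫ hk ≫ v = pullback.snd u (j i) ≫ j i := by
    have hk2' : hk ≫ v = pullback.fst u₀ (D.map k.hom) ≫ u₀ ≫ j A₀ := hk2
    rw [hk2']
    calc mX ≫ pullback.fst u₀ (D.map k.hom) ≫ u₀ ≫ j A₀
        = pullback.snd u (j i) ≫ D.map φ ≫ j A₀ := by
          simp only [mX, u₀, pullback.lift_fst_assoc, pullback.lift_snd_assoc]
          exact Category.assoc _ _ _
      _ = pullback.snd u (j i) ≫ j i := congrArg _ hji
  let gi : pullback u (j i) ⟶ pullback v (j i) :=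
    pullback.lift (mX ≫ hk) (pullback.snd u (j i)) (by rw [Category.assoc, hmX])
  let qX' : pullback u w ⟶ pullback u (j i) :=
    pullback.lift (pullback.fst u w) (pullback.snd u w ≫ Spec.map ((subsCocone R K₁).ι.app i))
      (by rw [Category.assoc, hwj, pullback.condition])
  have hX' : IsPullback qX' (pullback.snd u w) (pullback.snd u (j i)) (c.π.app k.left) := by
    refine IsPullback.of_right ?_ (pullback.lift_snd _ _ _) (IsPullback.of_hasPullback u (j i))
    rw [pullback.lift_fst]
    change IsPullback (pullback.fst u w) (pullback.snd u w) u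
      (Spec.map ((subsCocone R K₁).ι.app i) ≫ j i)
    rw [hwj]
    exact IsPullback.of_hasPullback u w
  let qY' : pullback v w ⟶ pullback v (j i) :=
    pullback.lift (pullback.fst v w) (pullback.snd v w ≫ Spec.map ((subsCocone R K₁).ι.app i))
      (by rw [Category.assoc, hwj, pullback.condition])
  have hY' : IsPullback qY' (pullback.snd v w) (pullback.snd v (j i)) (c.π.app k.left) := by
    refine IsPullback.of_right ?_ (pullback.lift_snd _ _ _) (IsPullback.of_hasPullback v (j i))
    rw [pullback.lift_fst]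
    change IsPullback (pullback.fst v w) (pullback.snd v w) v
      (Spec.map ((subsCocone R K₁).ι.app i) ≫ j i)
    rw [hwj]
    exact IsPullback.of_hasPullback v w
  have hπ : qX' ≫ mX = (bcCone hX.w).π.app k := by
    apply pullback.hom_ext
    · rw [bcCone_π_fst]
      apply pullback.hom_ext
      · simp [mX, qX, qX']
      · simp only [mX, qX, qX', Category.assoc, pullback.lift_fst, pullback.lift_snd,
          pullback.lift_snd_assoc]
        exact congrArg _ (c.w k.hom)
    · rw [bcCone_π_snd]
      simp [mX, qX', c, SpecLimit.cone, i]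
  have hgg : g ≫ qY' = qX' ≫ gi := by
    apply pullback.hom_ext
    · simp only [qY', gi, Category.assoc, pullback.lift_fst]
      rw [← Category.assoc qX', hπ]
      exact hk1.symm
    · simp only [qY', gi, qX', Category.assoc, pullback.lift_snd, pullback.lift_snd_assoc]
      rw [← Category.assoc, hg]
  have hsq : IsPullback qX' g gi qY' := by
    refine IsPullback.of_bot ?_ hgg.symm hY'
    rw [hg, show gi ≫ pullback.snd v (j i) = pullback.snd u (j i) from pullback.lift_snd _ _ _]
    exact hX'
  -- finiteness of the stage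
  have : LocallyOfFiniteType (pullback.snd u (j i)) :=
    MorphismProperty.pullback_snd (P := @LocallyOfFiniteType) _ _ inferInstance
  have : LocallyOfFiniteType (pullback.snd v (j i)) :=
    MorphismProperty.pullback_snd (P := @LocallyOfFiniteType) _ _ inferInstance
  have := hNoeth i
  have : IsLocallyNoetherian (pullback v (j i)) :=
    LocallyOfFiniteType.isLocallyNoetherian (pullback.snd v (j i))
  have : IsLocallyNoetherian (pullback u (j i)) :=
    LocallyOfFiniteType.isLocallyNoetherian (pullback.snd u (j i))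
  have : QuasiCompact (pullback.snd u (j i)) := MorphismProperty.pullback_snd _ _ inferInstance
  have : QuasiCompact (pullback.snd v (j i)) := MorphismProperty.pullback_snd _ _ inferInstance
  have : CompactSpace ↥(pullback u (j i)) :=
    QuasiCompact.compactSpace_of_compactSpace (pullback.snd u (j i))
  have : CompactSpace ↥(pullback v (j i)) :=
    QuasiCompact.compactSpace_of_compactSpace (pullback.snd v (j i))
  have : QuasiSeparatedSpace ↥(pullback u (j i)) := inferInstance
  have : QuasiSeparatedSpace ↥(pullback v (j i)) := inferInstance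
  have : LocallyOfFiniteType (gi ≫ pullback.snd v (j i)) := by
    rw [pullback.lift_snd]; infer_instance
  have : LocallyOfFiniteType gi := locallyOfFiniteType_of_comp gi (pullback.snd v (j i))
  have hQgi : Q gi := hQ gi
  obtain ⟨l, ψl, Xl, Yl, fl, gl, pY, pX, hYl, hXl, hP⟩ :=
    descend_over H D c hlim k.left gi (pullback.snd v (j i)) g (pullback.snd v w) qY' qX' hY' hsq
      hQgi hgP
  have hA : Has Pr u v (j l.unop) := by
    have hjl : D.map ψl ≫ j i = j l.unop := hj ψl.unop
    rw [← hjl]
    refine (has_iff_of_squares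
      (eX := pX ≫ pullback.fst u (j i)) (gX' := fl ≫ gl) ?_
      (hYl.paste_horiz (IsPullback.of_hasPullback v (j i)))).2 ⟨fl, rfl, hP⟩
    have := hXl.paste_vert hYl
    rw [pullback.lift_snd] at this
    exact this.paste_horiz (IsPullback.of_hasPullback u (j i))
  -- the image of the stage
  have := hNoeth l.unop
  have : LocallyOfFiniteType (j l.unop) := by
    have : LocallyOfFiniteType (Spec.map (CommRingCat.ofHom (algebraMap R l.unop.1))) :=
      (HasRingHomProperty.Spec_iff (P := @LocallyOfFiniteType)).2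
        (RingHom.finiteType_algebraMap.2 (hAft _))
    infer_instance
  have : LocallyOfFinitePresentation (j l.unop) :=
    LocallyOfFinitePresentation.iff_locallyOfFiniteType.2 inferInstance
  have hc := (j l.unop).isLocallyConstructible_image
    (Topology.IsLocallyConstructible.univ (X := Spec (CommRingCat.of l.unop.1)))
  have hcI := (ConsBasic.mem_interior_of_isConstructible (genericPoint_spec S)
    (Topology.IsLocallyConstructible.isConstructible hc)).1 (by
      refine ⟨Spec.map ((subsCocone R K₁).ι.app l.unop) (Classical.arbitrary ↥(Spec K₁)), trivial, ?_⟩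
      refine (Scheme.Hom.comp_apply _ (j l.unop) _).symm.trans ?_
      rw [hwj]
      exact hw _)
  refine ⟨η, interior_mono ?_ hcI⟩
  rintro t ⟨z, -, rfl⟩
  refine (rel_iff _ _).2 ⟨_, Spec.map ((j l.unop).residueFieldMap z), inferInstance, inferInstance,
    ?_⟩
  refine (has_iff_has (IsPullback.of_hasPullback u _) (IsPullback.of_hasPullback v _) _).2 ?_
  exact has_of_comp _ (Scheme.Hom.SpecMap_residueFieldMap_fromSpecResidueField _ z).symm hA

end Groth.Agent.H47.PairProp
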