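import Groth.Prelude.Def_MoreMor
import Groth.Prelude.Def_Mor2
import Groth.Agent.H54.IndQAff
import Groth.Agent.Lib.Lim.Descend
import Mathlib.AlgebraicGeometry.AffineTransitionLimit

/-!
# Quasi-affine morphisms as a morphism property; descent along limits
-/

set_option autoImplicit false
set_option backward.isDefEq.respectTransparency false

noncomputable section

universe u

open CategoryTheory CategoryTheory.Limits AlgebraicGeometry Groth.Agent.Lib.Lim.Basic
  Groth.Agent.Lib.Lim.Descend

namespace Groth.Agent.H47.QuasiAffineHom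

/-- the source is quasi-affine -/
abbrev QASource : AffineTargetMorphismProperty := fun X _ _ _ => X.IsQuasiAffine

/-- quasi-affine morphisms, as a morphism property -/
def QA : MorphismProperty Scheme.{u} := targetAffineLocally QASource

instance isLocal : (QASource : AffineTargetMorphismProperty.{u}).IsLocal := by
  constructor
  · apply AffineTargetMorphismProperty.respectsIso_mk
    · rintro X Y Z e _ _ H
      have : Y.IsQuasiAffine := H
      exact Scheme.IsQuasiAffine.of_isAffineHom e.hom
    · exact fun _ _ _ ↦ id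
  · intro X Y _ f r H
    have : X.IsQuasiAffine := H
    have : CompactSpace (f ⁻¹ᵁ Y.basicOpen r : Scheme.{u}) := by
      have h := X.toSpecΓ.isCompact_preimage (PrimeSpectrum.isCompact_basicOpen (f.appTop r))
      rw [show (f ⁻¹ᵁ Y.basicOpen r) = X.toSpecΓ ⁻¹ᵁ PrimeSpectrum.basicOpen (f.appTop r) from
        (Scheme.preimage_basicOpen_top f r).trans (Scheme.toSpecΓ_preimage_basicOpen _ _).symm]
      exact isCompact_iff_compactSpace.1 h
    exact Scheme.IsQuasiAffine.of_isImmersion (f ⁻¹ᵁ Y.basicOpen r).ι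
  · intro X Y _ f s hs hs'
    have hcov : ⨆ i : s, Y.basicOpen i.1 = ⊤ :=
      (isAffineOpen_top Y).iSup_basicOpen_eq_self_iff.2 hs
    have hcov' : ∀ x : X, ∃ i : s, f x ∈ Y.basicOpen i.1 := fun x =>
      TopologicalSpace.Opens.mem_iSup.1 (hcov.ge (Set.mem_univ (f x)))
    have hq : ∀ i : s, (f ⁻¹ᵁ Y.basicOpen i.1 : Scheme.{u}).IsQuasiAffine := hs'
    have : CompactSpace X := by
      constructor
      have e : (Set.univ : Set X) = ⋃ i : s, (f ⁻¹ᵁ Y.basicOpen i.1 : Set X) := by
        exact (Set.iUnion_eq_univ_iff.2 hcov').symm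
      rw [e]
      exact isCompact_iUnion fun i => isCompact_iff_compactSpace.2 (hq i).toCompactSpace
    have : QuasiSeparated f := by
      refine IsZariskiLocalAtTarget.of_iSup_eq_top (P := @QuasiSeparated) _ hcov fun i => ?_
      have := hq i
      infer_instance
    have : QuasiSeparatedSpace X := quasiSeparatedSpace_of_quasiSeparated f
    refine H54.IndQAff.isQuasiAffine_of_basicOpens X fun x => ?_
    obtain ⟨i, hi⟩ := hcov' x
    refine ⟨f.appTop i.1, ?_, ?_⟩
    · rw [← Scheme.preimage_basicOpen_top]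
      exact hi
    · rw [← Scheme.preimage_basicOpen_top]
      exact hq i

instance : HasAffineProperty QA.{u} QASource where
  isLocal_affineProperty := isLocal
  eq_targetAffineLocally' := rfl

instance : QA.{u}.IsStableUnderBaseChange := by
  apply HasAffineProperty.isStableUnderBaseChange
  apply AffineTargetMorphismProperty.IsStableUnderBaseChange.mk
  intro X Y S _ _ f g H
  have : Scheme.IsQuasiAffine _ := H
  have : IsAffineHom (pullback.snd f g) := MorphismProperty.pullback_snd _ _ inferInstance
  exact Scheme.IsQuasiAffine.of_isAffineHom (pullback.snd f g)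

theorem qa_iff {X Y : Scheme.{u}} (f : X ⟶ Y) :
    QA f ↔ MoreMor.IsQuasiAffineHom f := by
  refine ⟨fun h => ⟨?_, fun V hV => h ⟨V, hV⟩⟩, fun h U => h.2 U.1 U.2⟩
  rw [quasiCompact_iff_forall_isAffineOpen]
  exact fun V hV => isCompact_iff_compactSpace.2 (h ⟨V, hV⟩).toCompactSpace

theorem qa_iff' {X Y : Scheme.{u}} (f : X ⟶ Y) : QA f ↔ Mor2.IsQuasiAffine f := qa_iff f

theorem descends : Descends.{u} QA ⊤ := by
  refine descends_of_affine fun {I} _ _ D c hc hA hD i₀ => ?_
  intro X₀ f₀ hcX hqX _ X f qX hX hP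
  have : IsAffine (D.obj i₀) := hA i₀
  have : ∀ {i j : I} (g : i ⟶ j), IsAffineHom (D.map g) := fun g => hD _ _ g
  have : ∀ i, IsAffine (D.obj i) := hA
  have : IsAffine c.pt := Scheme.isAffine_of_isLimit c hc
  have : X.IsQuasiAffine := (HasAffineProperty.iff_of_isAffine (P := QA)).1 hP
  have : ∀ k, CompactSpace ((bcDiagram D f₀).obj k) := fun k => compactSpace_bcDiagram D f₀ k
  have : ∀ k, QuasiSeparatedSpace ((bcDiagram D f₀).obj k) := fun k =>
    quasiSeparatedSpace_bcDiagram D f₀ k
  have : (bcCone hX.w).pt.IsQuasiAffine := (inferInstance : X.IsQuasiAffine)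
  obtain ⟨k, hk⟩ := Scheme.exists_isQuasiAffine_of_isLimit (bcDiagram D f₀) (bcCone hX.w)
    (isLimitBcCone hc hX)
  exact ⟨k.left, k.hom, (HasAffineProperty.iff_of_isAffine (P := QA)).2 hk⟩

end Groth.Agent.H47.QuasiAffineHom
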