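import Mathlib.Topology.Constructible
import Mathlib.Topology.JacobsonSpace
import Mathlib.Topology.NoetherianSpace
import Mathlib.Topology.Sets.Opens

/-!
# Finite unions of locally closed sets, very dense subsets and quasi-homeomorphisms
-/

namespace Groth.Agent.H47.QuasiHomeo

open Set Topology

universe u v

variable {X : Type u} {Y : Type v} [TopologicalSpace X] [TopologicalSpace Y]

/-- finite union of locally closed sets -/
def FU (Z : Set X) : Prop := ∃ T : Set (Set X), T.Finite ∧ (∀ t ∈ T, IsLocallyClosed t) ∧ Z = ⋃₀ T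

/-- locally finite union of locally closed sets -/
def LF (Z : Set X) : Prop := ∀ x : X, ∃ U : Set X, IsOpen U ∧ x ∈ U ∧
  ∃ T : Set (Set X), T.Finite ∧ (∀ t ∈ T, IsLocallyClosed t) ∧ U ∩ Z = ⋃₀ T

lemma lf_iff {Z : Set X} : LF Z ↔ ∀ x : X, ∃ U : Set X, IsOpen U ∧ x ∈ U ∧ FU (U ∩ Z) := Iff.rfl

lemma isLocallyClosed_compl_subset {t : Set X} (ht : IsLocallyClosed t) :
    ∃ a b : Set X, IsLocallyClosed a ∧ IsLocallyClosed b ∧ tᶜ = a ∪ b := by
  obtain ⟨U, F, hU, hF, rfl⟩ := ht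
  exact ⟨Uᶜ, Fᶜ, hU.isClosed_compl.isLocallyClosed, hF.isOpen_compl.isLocallyClosed, compl_inter U F⟩

lemma FU.of_lc {t : Set X} (ht : IsLocallyClosed t) : FU t :=
  ⟨{t}, finite_singleton t, by simpa using ht, by simp⟩

lemma FU.union {s t : Set X} (hs : FU s) (ht : FU t) : FU (s ∪ t) := by
  obtain ⟨T, hT, hT', rfl⟩ := hs
  obtain ⟨T', hT₁, hT₂, rfl⟩ := ht
  exact ⟨T ∪ T', hT.union hT₁, fun t h ↦ h.elim (hT' t) (hT₂ t), (sUnion_union T T').symm⟩

lemma FU.inter {s t : Set X} (hs : FU s) (ht : FU t) : FU (s ∩ t) := by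
  obtain ⟨T, hT, hT', rfl⟩ := hs
  obtain ⟨T', hT₁, hT₂, rfl⟩ := ht
  refine ⟨image2 (· ∩ ·) T T', hT.image2 _ hT₁, ?_, ?_⟩
  · rintro _ ⟨a, ha, b, hb, rfl⟩
    exact (hT' a ha).inter (hT₂ b hb)
  · rw [sUnion_inter_sUnion]
    ext x
    simp only [mem_iUnion, mem_sUnion, mem_image2, mem_inter_iff, mem_prod]
    constructor
    · rintro ⟨⟨a, b⟩, ⟨ha, hb⟩, hx⟩; exact ⟨a ∩ b, ⟨a, ha, b, hb, rfl⟩, hx⟩
    · rintro ⟨_, ⟨a, ha, b, hb, rfl⟩, hx⟩; exact ⟨(a, b), ⟨ha, hb⟩, hx⟩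

lemma FU.compl {s : Set X} (hs : FU s) : FU sᶜ := by
  obtain ⟨T, hT, hT', rfl⟩ := hs
  induction T, hT using Set.Finite.induction_on with
  | empty => exact .of_lc (by simpa using isOpen_univ.isLocallyClosed)
  | @insert a S _ _ ih =>
    rw [sUnion_insert, compl_union]
    obtain ⟨p, q, hp, hq, h⟩ := isLocallyClosed_compl_subset (hT' a (mem_insert a S))
    rw [h]
    exact ((FU.of_lc hp).union (.of_lc hq)).inter (ih fun t ht ↦ hT' t (mem_insert_of_mem a ht))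

lemma FU.lf {s : Set X} (hs : FU s) : LF s := fun x ↦
  ⟨univ, isOpen_univ, mem_univ x, by show FU _; rwa [univ_inter]⟩

lemma LF.of_lc {t : Set X} (ht : IsLocallyClosed t) : LF t := (FU.of_lc ht).lf

lemma LF.inter {s t : Set X} (hs : LF s) (ht : LF t) : LF (s ∩ t) := fun x ↦ by
  obtain ⟨U, hU, hxU, hT⟩ := lf_iff.1 hs x
  obtain ⟨V, hV, hxV, hT'⟩ := lf_iff.1 ht x
  refine ⟨U ∩ V, hU.inter hV, ⟨hxU, hxV⟩, ?_⟩
  rw [← inter_inter_inter_comm U s V t]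
  exact FU.inter hT hT'

lemma LF.compl {s : Set X} (hs : LF s) : LF sᶜ := fun x ↦ by
  obtain ⟨U, hU, hxU, hT⟩ := lf_iff.1 hs x
  refine ⟨U, hU, hxU, ?_⟩
  have h : U ∩ sᶜ = U ∩ (U ∩ s)ᶜ := by ext; simp; tauto
  rw [h]
  exact (FU.of_lc hU.isLocallyClosed).inter (FU.compl hT)

lemma LF.diff {s t : Set X} (hs : LF s) (ht : LF t) : LF (s \ t) := hs.inter ht.compl

lemma LF.exists_lc_subset {s : Set X} (hs : LF s) {x : X} (hx : x ∈ s) :
    ∃ t, IsLocallyClosed t ∧ x ∈ t ∧ t ⊆ s := by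
  obtain ⟨U, _, hxU, T, _, hT, h⟩ := hs x
  obtain ⟨t, htT, hxt⟩ := mem_sUnion.1 (h.le (⟨hxU, hx⟩ : x ∈ U ∩ s))
  exact ⟨t, hT t htT, hxt, ((subset_sUnion_of_mem htT).trans h.ge).trans inter_subset_right⟩

lemma FU.preimage {f : X → Y} (hf : Continuous f) {s : Set Y} (hs : FU s) : FU (f ⁻¹' s) := by
  obtain ⟨T, hT, hT', rfl⟩ := hs
  refine ⟨(f ⁻¹' ·) '' T, hT.image _, ?_, ?_⟩
  · rintro _ ⟨t, ht, rfl⟩; exact (hT' t ht).preimage hf
  · ext x; simp

lemma LF.preimage {f : X → Y} (hf : Continuous f) {s : Set Y} (hs : LF s) : LF (f ⁻¹' s) := fun x ↦ by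
  obtain ⟨U, hU, hxU, hT⟩ := lf_iff.1 hs (f x)
  exact ⟨f ⁻¹' U, hU.preimage hf, hxU, by rw [← preimage_inter]; exact FU.preimage hf hT⟩

lemma FU.image_val {V : Set X} (hV : IsOpen V) {s : Set V} (hs : FU s) : FU (Subtype.val '' s) := by
  obtain ⟨T, hT, hT', rfl⟩ := hs
  refine ⟨(Subtype.val '' ·) '' T, hT.image _, ?_, ?_⟩
  · rintro _ ⟨t, ht, rfl⟩
    obtain ⟨U, F, hU, hF, rfl⟩ := hT' t ht
    obtain ⟨F', hF', rfl⟩ := isClosed_induced_iff.1 hF
    refine ⟨Subtype.val '' U, F', hV.isOpenMap_subtype_val _ hU, hF', ?_⟩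
    exact image_inter_preimage _ _ _
  · rw [image_sUnion]

lemma lf_iff_subtype {Z : Set X} : LF Z ↔
    ∀ x : X, ∃ V : Set X, IsOpen V ∧ x ∈ V ∧
      ∃ T : Set (Set V), T.Finite ∧ (∀ t ∈ T, IsLocallyClosed t) ∧
        (Subtype.val ⁻¹' Z : Set V) = ⋃₀ T := by
  constructor
  · intro h x
    obtain ⟨U, hU, hxU, hT⟩ := lf_iff.1 h x
    refine ⟨U, hU, hxU, ?_⟩
    obtain ⟨T, hT1, hT2, hT3⟩ : FU (Subtype.val ⁻¹' (U ∩ Z) : Set U) :=
      FU.preimage continuous_subtype_val hT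
    exact ⟨T, hT1, hT2, by rw [← hT3]; ext y; simp⟩
  · intro h x
    obtain ⟨V, hV, hxV, hT⟩ := h x
    refine ⟨V, hV, hxV, ?_⟩
    show FU (V ∩ Z)
    rw [← Subtype.image_preimage_coe]
    exact FU.image_val hV hT

/-! ### quasi-homeomorphisms -/

/-- `f` induces a bijection on open sets -/
def QH (f : X → Y) : Prop :=
  (∀ U₁ U₂ : Set Y, IsOpen U₁ → IsOpen U₂ → f ⁻¹' U₁ = f ⁻¹' U₂ → U₁ = U₂) ∧
    ∀ V : Set X, IsOpen V → ∃ U : Set Y, IsOpen U ∧ f ⁻¹' U = V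

lemma qh_iff_bijective {f : X → Y} (hf : Continuous f) :
    QH f ↔ Function.Bijective (fun U : TopologicalSpace.Opens Y =>
      (⟨f ⁻¹' (U : Set Y), U.isOpen.preimage hf⟩ : TopologicalSpace.Opens X)) := by
  constructor
  · rintro ⟨h1, h2⟩
    refine ⟨fun U V h ↦ TopologicalSpace.Opens.ext (h1 U V U.isOpen V.isOpen (congrArg SetLike.coe h)),
      fun V ↦ ?_⟩
    obtain ⟨U, hU, h⟩ := h2 V V.isOpen
    exact ⟨⟨U, hU⟩, TopologicalSpace.Opens.ext h⟩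
  · rintro ⟨h1, h2⟩
    refine ⟨fun U V hU hV h ↦ congrArg SetLike.coe
      (@h1 ⟨U, hU⟩ ⟨V, hV⟩ (TopologicalSpace.Opens.ext h)), fun V hV ↦ ?_⟩
    obtain ⟨U, hU⟩ := h2 ⟨V, hV⟩
    exact ⟨U, U.isOpen, congrArg SetLike.coe hU⟩

variable {f : X → Y}

lemma QH.lc_nonempty (hf : QH f) {Z : Set Y} (hZ : IsLocallyClosed Z) (hne : Z.Nonempty) :
    (f ⁻¹' Z).Nonempty := by
  obtain ⟨U, F, hU, hF, rfl⟩ := hZ
  by_contra h
  rw [not_nonempty_iff_eq_empty] at h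
  have : U = U ∩ Fᶜ := hf.1 _ _ hU (hU.inter hF.isOpen_compl) (by
    ext x
    have := Set.eq_empty_iff_forall_notMem.1 h x
    simp at this ⊢
    tauto)
  obtain ⟨y, hy1, hy2⟩ := hne
  exact (this ▸ hy1).2 hy2

lemma QH.lf_nonempty (hf : QH f) {Z : Set Y} (hZ : LF Z) (hne : Z.Nonempty) :
    (f ⁻¹' Z).Nonempty := by
  obtain ⟨y, hy⟩ := hne
  obtain ⟨t, ht, hyt, hts⟩ := hZ.exists_lc_subset hy
  exact (hf.lc_nonempty ht ⟨y, hyt⟩).mono (preimage_mono hts)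

lemma QH.lf_subset (hf : QH f) {Z Z' : Set Y} (hZ : LF Z) (hZ' : LF Z')
    (h : f ⁻¹' Z ⊆ f ⁻¹' Z') : Z ⊆ Z' := by
  by_contra hne
  obtain ⟨x, hx, hx'⟩ := hf.lf_nonempty (hZ.diff hZ') (not_subset_iff_exists_mem_notMem.1 hne)
  exact hx' (h hx)

lemma QH.lf_ext (hf : QH f) {Z Z' : Set Y} (hZ : LF Z) (hZ' : LF Z')
    (h : f ⁻¹' Z = f ⁻¹' Z') : Z = Z' :=
  (hf.lf_subset hZ hZ' h.le).antisymm (hf.lf_subset hZ' hZ h.ge)

lemma QH.surj_closed (hf : QH f) {F : Set X} (hF : IsClosed F) : ∃ G, IsClosed G ∧ f ⁻¹' G = F := by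
  obtain ⟨U, hU, h⟩ := hf.2 Fᶜ hF.isOpen_compl
  exact ⟨Uᶜ, hU.isClosed_compl, by rw [preimage_compl, h, compl_compl]⟩

lemma QH.surj_lc (hf : QH f) {t : Set X} (ht : IsLocallyClosed t) :
    ∃ s, IsLocallyClosed s ∧ f ⁻¹' s = t := by
  obtain ⟨V, F, hV, hF, rfl⟩ := ht
  obtain ⟨U, hU, rfl⟩ := hf.2 V hV
  obtain ⟨G, hG, rfl⟩ := hf.surj_closed hF
  exact ⟨U ∩ G, ⟨U, G, hU, hG, rfl⟩, preimage_inter⟩

lemma QH.surj_FU (hf : QH f) {s : Set X} (hs : FU s) : ∃ Z, FU Z ∧ f ⁻¹' Z = s := by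
  obtain ⟨T, hT, hT', rfl⟩ := hs
  choose g hg1 hg2 using fun t : T ↦ hf.surj_lc (hT' t t.2)
  have := hT.to_subtype
  refine ⟨⋃₀ range g, ⟨range g, finite_range g, by rintro _ ⟨t, rfl⟩; exact hg1 t, rfl⟩, ?_⟩
  ext x
  simp only [sUnion_range, preimage_iUnion, hg2, mem_iUnion, mem_sUnion]
  exact ⟨fun ⟨t, h⟩ ↦ ⟨t, t.2, h⟩, fun ⟨t, h1, h2⟩ ↦ ⟨⟨t, h1⟩, h2⟩⟩

lemma QH.iUnion_eq_univ (hf : QH f) {ι : Sort*} {U : ι → Set Y} (hU : ∀ i, IsOpen (U i))
    (h : ∀ x, ∃ i, f x ∈ U i) : ⋃ i, U i = univ :=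
  hf.1 _ _ (isOpen_iUnion hU) isOpen_univ (by ext x; simpa using h x)

lemma QH.surj_LF (hf : QH f) {s : Set X} (hs : LF s) : ∃ Z, LF Z ∧ f ⁻¹' Z = s := by
  choose V hV hxV hFU using lf_iff.1 hs
  choose U hU hUV using fun x ↦ hf.2 (V x) (hV x)
  choose Z hZ hZV using fun x ↦ hf.surj_FU (hFU x)
  have hsub : ∀ x, Z x ⊆ U x := fun x ↦ hf.lf_subset (hZ x).lf (.of_lc (hU x).isLocallyClosed)
    (by rw [hZV, hUV]; exact inter_subset_left)
  have hcov := hf.iUnion_eq_univ hU fun x ↦ ⟨x, show x ∈ f ⁻¹' U x by rw [hUV]; exact hxV x⟩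
  have hagree : ∀ a b, U b ∩ Z a ⊆ Z b := fun a b ↦
    hf.lf_subset ((LF.of_lc (hU b).isLocallyClosed).inter (hZ a).lf) (hZ b).lf (by
      rw [preimage_inter, hUV, hZV, hZV]; exact fun x hx ↦ ⟨hx.1, hx.2.2⟩)
  refine ⟨⋃ a, Z a, fun y ↦ ?_, ?_⟩
  · obtain ⟨b, hb⟩ := mem_iUnion.1 (hcov.ge (mem_univ y))
    refine ⟨U b, hU b, hb, ?_⟩
    have : U b ∩ ⋃ a, Z a = Z b := by
      refine subset_antisymm ?_ fun z hz ↦ ⟨hsub b hz, mem_iUnion.2 ⟨b, hz⟩⟩
      rw [inter_iUnion]; exact iUnion_subset fun a ↦ hagree a b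
    rw [this]; exact hZ b
  · rw [preimage_iUnion]
    simp only [hZV]
    ext x
    simp only [mem_iUnion, mem_inter_iff]
    exact ⟨fun ⟨_, h⟩ ↦ h.2, fun h ↦ ⟨x, hxV x, h⟩⟩

lemma QH.restrict (hf : QH f) {W : Set Y} (hW : LF W) : QH (W.restrictPreimage f) := by
  constructor
  · intro U₁ U₂ h1 h2 h
    obtain ⟨A, hA, rfl⟩ := isOpen_induced_iff.1 h1
    obtain ⟨B, hB, rfl⟩ := isOpen_induced_iff.1 h2
    rw [Subtype.preimage_coe_eq_preimage_coe_iff]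
    refine hf.lf_ext (hW.inter (.of_lc hA.isLocallyClosed)) (hW.inter (.of_lc hB.isLocallyClosed)) ?_
    ext x
    simp only [mem_preimage, mem_inter_iff]
    exact and_congr_right fun hx ↦ (Set.ext_iff.1 h ⟨x, hx⟩)
  · intro V hV
    obtain ⟨A, hA, rfl⟩ := isOpen_induced_iff.1 hV
    obtain ⟨B, hB, rfl⟩ := hf.2 A hA
    exact ⟨Subtype.val ⁻¹' B, hB.preimage continuous_subtype_val, rfl⟩

lemma QH.of_cover {ι : Type*} {W : ι → Set Y} (hf : Continuous f) (hWo : ∀ i, IsOpen (W i))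
    (hWc : ⋃ i, W i = univ) (h : ∀ i, QH ((W i).restrictPreimage f)) : QH f := by
  constructor
  · intro U₁ U₂ h1 h2 he
    ext y
    obtain ⟨i, hi⟩ := mem_iUnion.1 (hWc.ge (mem_univ y))
    exact Set.ext_iff.1 ((h i).1 (Subtype.val ⁻¹' U₁) (Subtype.val ⁻¹' U₂)
      (h1.preimage continuous_subtype_val) (h2.preimage continuous_subtype_val)
      (by ext x; exact Set.ext_iff.1 he x.1)) ⟨y, hi⟩
  · intro V hV
    choose U hU hUV using fun i ↦ (h i).2 (Subtype.val ⁻¹' V) (hV.preimage continuous_subtype_val)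
    refine ⟨⋃ i, Subtype.val '' U i, isOpen_iUnion fun i ↦ (hWo i).isOpenMap_subtype_val _ (hU i), ?_⟩
    ext x
    simp only [mem_preimage, mem_iUnion, mem_image, Subtype.exists, exists_and_right, exists_eq_right]
    constructor
    · rintro ⟨i, hi, hx⟩
      exact (Set.ext_iff.1 (hUV i) ⟨x, hi⟩).1 hx
    · intro hx
      obtain ⟨i, hi⟩ := mem_iUnion.1 (hWc.ge (mem_univ (f x)))
      exact ⟨i, hi, (Set.ext_iff.1 (hUV i) ⟨x, hi⟩).2 hx⟩

lemma QH.isCompact_iff (hf : QH f) (hfc : Continuous f) {Z : Set Y} (hZ : LF Z) :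
    IsCompact Z ↔ IsCompact (f ⁻¹' Z) := by
  constructor
  · intro hc
    refine isCompact_of_finite_subcover fun {ι} V hV hcov ↦ ?_
    choose U hU hUV using fun i ↦ hf.2 (V i) (hV i)
    have hsub : Z ⊆ ⋃ i, U i := hf.lf_subset hZ (.of_lc (isOpen_iUnion hU).isLocallyClosed)
      (by rwa [preimage_iUnion, iUnion_congr hUV])
    obtain ⟨s, hs⟩ := hc.elim_finite_subcover U hU hsub
    refine ⟨s, fun x hx ↦ ?_⟩
    simpa [← hUV] using hs hx
  · intro hc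
    refine isCompact_of_finite_subcover fun {ι} U hU hcov ↦ ?_
    obtain ⟨s, hs⟩ := hc.elim_finite_subcover (fun i ↦ f ⁻¹' U i) (fun i ↦ (hU i).preimage hfc)
      (by rw [← preimage_iUnion]; exact preimage_mono hcov)
    exact ⟨s, hf.lf_subset hZ (.of_lc (isOpen_biUnion fun i _ ↦ hU i).isLocallyClosed)
      (by simpa [preimage_iUnion] using hs)⟩

lemma noetherianSpace_iff_inter_open {Z : Set X} :
    TopologicalSpace.NoetherianSpace Z ↔ ∀ U : Set X, IsOpen U → IsCompact (Z ∩ U) := by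
  rw [TopologicalSpace.noetherianSpace_iff_opens]
  constructor
  · intro h U hU
    rw [← Subtype.image_preimage_coe]
    exact (h ⟨_, hU.preimage continuous_subtype_val⟩).image continuous_subtype_val
  · intro h s
    obtain ⟨U, hU, hs⟩ := isOpen_induced_iff.1 s.isOpen
    rw [Topology.IsEmbedding.subtypeVal.isCompact_iff, ← hs, Subtype.image_preimage_coe]
    exact h U hU

lemma QH.noetherianSpace_iff (hf : QH f) (hfc : Continuous f) {Z : Set Y} (hZ : LF Z) :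
    TopologicalSpace.NoetherianSpace Z ↔ TopologicalSpace.NoetherianSpace (f ⁻¹' Z) := by
  rw [noetherianSpace_iff_inter_open, noetherianSpace_iff_inter_open]
  constructor
  · intro h V hV
    obtain ⟨U, hU, rfl⟩ := hf.2 V hV
    rw [← preimage_inter]
    exact (hf.isCompact_iff hfc (hZ.inter (.of_lc hU.isLocallyClosed))).1 (h U hU)
  · intro h U hU
    rw [hf.isCompact_iff hfc (hZ.inter (.of_lc hU.isLocallyClosed)), preimage_inter]
    exact h _ (hU.preimage hfc)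

lemma QH.compactOpens_iff (hf : QH f) (hfc : Continuous f) {Z : Set Y} (hZ : LF Z) :
    (∀ U : Set Y, IsOpen U → IsCompact U → IsCompact (U ∩ Z)) ↔
      ∀ V : Set X, IsOpen V → IsCompact V → IsCompact (V ∩ f ⁻¹' Z) := by
  constructor
  · intro h V hV hc
    obtain ⟨U, hU, rfl⟩ := hf.2 V hV
    rw [← preimage_inter]
    exact (hf.isCompact_iff hfc ((LF.of_lc hU.isLocallyClosed).inter hZ)).1
      (h U hU ((hf.isCompact_iff hfc (.of_lc hU.isLocallyClosed)).2 hc))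
  · intro h U hU hc
    rw [hf.isCompact_iff hfc ((LF.of_lc hU.isLocallyClosed).inter hZ), preimage_inter]
    exact h _ (hU.preimage hfc) ((hf.isCompact_iff hfc (.of_lc hU.isLocallyClosed)).1 hc)

lemma isRetrocompact_iff' {Z : Set X} :
    IsRetrocompact Z ↔ ∀ U : Set X, IsOpen U → IsCompact U → IsCompact (U ∩ Z) :=
  ⟨fun h U hU hc ↦ inter_comm Z U ▸ h hc hU, fun h U hc hU ↦ inter_comm U Z ▸ h U hU hc⟩

lemma constructible_FU {s : Set X} (hs : IsConstructible s) : FU s := by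
  induction hs using IsConstructible.empty_union_induction with
  | open_retrocompact U hU _ => exact .of_lc hU.isLocallyClosed
  | union s _ t _ h1 h2 => exact h1.union h2
  | compl s _ h1 => exact h1.compl

lemma QH.constructible_preimage (hf : QH f) (hfc : Continuous f) {s : Set Y} (hs : IsConstructible s) :
    IsConstructible (f ⁻¹' s) := by
  induction hs using IsConstructible.empty_union_induction with
  | open_retrocompact U hU hc =>
    exact BooleanSubalgebra.subset_closure ⟨hU.preimage hfc, isRetrocompact_iff'.2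
      ((hf.compactOpens_iff hfc (.of_lc hU.isLocallyClosed)).1 (isRetrocompact_iff'.1 hc))⟩
  | union s _ t _ h1 h2 => exact h1.union h2
  | compl s _ h1 => exact h1.compl

lemma QH.constructible_surj (hf : QH f) (hfc : Continuous f) {s : Set X} (hs : IsConstructible s) :
    ∃ Z, IsConstructible Z ∧ f ⁻¹' Z = s := by
  induction hs using IsConstructible.empty_union_induction with
  | open_retrocompact U hU hc =>
    obtain ⟨W, hW, rfl⟩ := hf.2 U hU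
    exact ⟨W, BooleanSubalgebra.subset_closure ⟨hW, isRetrocompact_iff'.2
      ((hf.compactOpens_iff hfc (.of_lc hW.isLocallyClosed)).2 (isRetrocompact_iff'.1 hc))⟩, rfl⟩
  | union s _ t _ h1 h2 =>
    obtain ⟨a, ha, rfl⟩ := h1
    obtain ⟨b, hb, rfl⟩ := h2
    exact ⟨a ∪ b, ha.union hb, rfl⟩
  | compl s _ h1 =>
    obtain ⟨a, ha, rfl⟩ := h1
    exact ⟨aᶜ, ha.compl, rfl⟩

lemma locallyConstructible_LF {s : Set X} (hs : IsLocallyConstructible s) : LF s := by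
  rw [lf_iff_subtype]
  intro x
  obtain ⟨U, hxU, hU, hc⟩ := hs x
  exact ⟨U, hU, mem_of_mem_nhds hxU, constructible_FU hc⟩

lemma QH.locallyConstructible_preimage (hf : QH f) (hfc : Continuous f) {s : Set Y}
    (hs : IsLocallyConstructible s) : IsLocallyConstructible (f ⁻¹' s) := by
  intro x
  obtain ⟨U, hxU, hU, hc⟩ := hs (f x)
  exact ⟨f ⁻¹' U, hfc.continuousAt.preimage_mem_nhds hxU, hU.preimage hfc,
    (hf.restrict (.of_lc hU.isLocallyClosed)).constructible_preimage hfc.restrictPreimage hc⟩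

lemma QH.locallyConstructible_surj (hf : QH f) (hfc : Continuous f) {s : Set X}
    (hs : IsLocallyConstructible s) : ∃ Z, IsLocallyConstructible Z ∧ f ⁻¹' Z = s := by
  obtain ⟨Z, hZ, hZs⟩ := hf.surj_LF (locallyConstructible_LF hs)
  refine ⟨Z, fun y ↦ ?_, hZs⟩
  choose V hxV hV hc using hs
  choose U hU hUV using fun x ↦ hf.2 (V x) (hV x)
  have hcov := hf.iUnion_eq_univ hU fun x ↦
    ⟨x, show x ∈ f ⁻¹' U x by rw [hUV]; exact mem_of_mem_nhds (hxV x)⟩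
  obtain ⟨b, hb⟩ := mem_iUnion.1 (hcov.ge (mem_univ y))
  refine ⟨U b, (hU b).mem_nhds hb, hU b, ?_⟩
  have hr := hf.restrict (.of_lc (hU b).isLocallyClosed)
  have hc' : IsConstructible (Subtype.val ⁻¹' s : Set ↥(f ⁻¹' U b)) := by
    rw [hUV b]; exact hc b
  obtain ⟨C, hC, hCs⟩ := hr.constructible_surj hfc.restrictPreimage hc'
  have : C = (Subtype.val ⁻¹' Z : Set (U b)) := hr.lf_ext (constructible_FU hC).lf
    (hZ.preimage continuous_subtype_val) (by rw [hCs, ← hZs]; rfl)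
  rw [← this]; exact hC

/-! ### very dense subsets -/

/-- every nonempty locally closed subset meets `X₀` -/
def VD (X₀ : Set X) : Prop := ∀ Z : Set X, IsLocallyClosed Z → Z.Nonempty → (Z ∩ X₀).Nonempty

lemma qh_val_iff_vd {X₀ : Set X} : QH (Subtype.val : X₀ → X) ↔ VD X₀ := by
  constructor
  · intro h Z hZ hne
    obtain ⟨x, hx⟩ := h.lc_nonempty hZ hne
    exact ⟨x, hx, x.2⟩
  · intro h
    refine ⟨fun U V hU hV he ↦ ?_, fun V hV ↦ isOpen_induced_iff.1 hV⟩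
    have key : ∀ A B : Set X, IsOpen A → IsOpen B →
        (Subtype.val ⁻¹' A : Set X₀) = Subtype.val ⁻¹' B → A ⊆ B := fun A B hA hB e ↦ by
      by_contra hne
      obtain ⟨x, ⟨hxA, hxB⟩, hx⟩ := h _ ⟨A, Bᶜ, hA, hB.isClosed_compl, rfl⟩
        (not_subset_iff_exists_mem_notMem.1 hne)
      exact hxB ((Set.ext_iff.1 e ⟨x, hx⟩).1 hxA)
    exact (key U V hU hV he).antisymm (key V U hV hU he.symm)

end Groth.Agent.H47.QuasiHomeo
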