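import Groth.Agent.H47.PDOpen

/-!
# Rectified depth on a regular biequidimensional scheme
-/

set_option autoImplicit false
set_option linter.style.haveILetI false

universe u

open CategoryTheory AlgebraicGeometry IsLocalRing
open Groth.Agent.Lib Groth.Agent.Lib.Regular.PD Groth.Agent.Lib.Depth

namespace Groth.Agent.H47.RegBiequi

variable {X : Scheme.{u}}

theorem topologicalKrullDim_generizations (x : X) :
    topologicalKrullDim ↥{t : X | t ⤳ x} = ringKrullDim (X.presheaf.stalk x) := by
  rw [← PrimeSpectrum.topologicalKrullDim_eq_ringKrullDim, ← Scheme.range_fromSpecStalk]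
  exact ((X.fromSpecStalk x).isEmbedding.toHomeomorph.isHomeomorph.topologicalKrullDim_eq _).symm

/-- `dim cl{x} + dim O_x = dim X`. -/
theorem dim_closure_add_dim_stalk [IsLocallyNoetherian X] (x : X)
    (hreg : IsRegularLocalRing ↑(X.presheaf.stalk x))
    (hcomp : ∀ C ∈ irreducibleComponents (X : Type u),
      topologicalKrullDim ↥C = topologicalKrullDim X)
    (hchain : ∀ (y : X) (T : Set X), IsClosed T → IsIrreducible T → y ∈ T →
      topologicalKrullDim ↥T = topologicalKrullDim ↥(closure ({y} : Set X)) +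
        topologicalKrullDim ↥{t : X | t ∈ T ∧ t ⤳ y}) :
    topologicalKrullDim ↥(closure ({x} : Set X)) + ringKrullDim (X.presheaf.stalk x) =
      topologicalKrullDim X := by
  haveI := hreg
  haveI : IsDomain (X.presheaf.stalk x) := Regular.Quotient.isDomain _
  haveI : IrreducibleSpace ↥(Spec (X.presheaf.stalk x)) :=
    (inferInstance : IrreducibleSpace (PrimeSpectrum (X.presheaf.stalk x)))
  have hirr : IsIrreducible (Set.range (X.fromSpecStalk x)) := by
    rw [← Set.image_univ]
    exact (IrreducibleSpace.isIrreducible_univ _).image _ (X.fromSpecStalk x).continuous.continuousOn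
  obtain ⟨C, hC, hsub⟩ :=
    exists_mem_irreducibleComponents_subset_of_isIrreducible _ hirr
  have hgen : ∀ t : X, t ⤳ x → t ∈ C := fun t ht => hsub (by rw [Scheme.range_fromSpecStalk]; exact ht)
  have hset : {t : X | t ∈ C ∧ t ⤳ x} = {t : X | t ⤳ x} :=
    Set.ext fun t => ⟨fun h => h.2, fun h => ⟨hgen t h, h⟩⟩
  rw [← topologicalKrullDim_generizations, ← hset,
    ← hchain x C (isClosed_of_mem_irreducibleComponents C hC) hC.1 (hgen x specializes_rfl)]
  exact hcomp C hC

/-- The invariants at a point of the support, as natural numbers. -/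
theorem exists_nat [IsNoetherian X] (x : X)
    (hreg : IsRegularLocalRing ↑(X.presheaf.stalk x))
    (hfin : topologicalKrullDim X < ⊤)
    (hcomp : ∀ C ∈ irreducibleComponents (X : Type u),
      topologicalKrullDim ↥C = topologicalKrullDim X)
    (hchain : ∀ (y : X) (T : Set X), IsClosed T → IsIrreducible T → y ∈ T →
      topologicalKrullDim ↥T = topologicalKrullDim ↥(closure ({y} : Set X)) +
        topologicalKrullDim ↥{t : X | t ∈ T ∧ t ⤳ y})
    {F : X.Modules} (hF : Coh.IsCoh F) (hx : ¬ Subsingleton (F.presheaf.stalk x)) :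
    ∃ a j p : ℕ, topologicalKrullDim ↥(closure ({x} : Set X)) = ((a : ℕ∞) : WithBot ℕ∞) ∧
      LocCoh.depth ↑(X.presheaf.stalk x) ↑(F.presheaf.stalk x) = j ∧
      topologicalKrullDim X = (((a + j + p : ℕ) : ℕ∞) : WithBot ℕ∞) ∧
      ∀ c : ℕ, PDle (X.presheaf.stalk x) (F.presheaf.stalk x) c ↔ p ≤ c := by
  haveI := hreg
  haveI := RefHull.LocFree.finite_stalk hF x
  haveI : Nontrivial (F.presheaf.stalk x) := not_subsingleton_iff_nontrivial.mp hx
  have hd := IsRegularLocalRing.spanFinrank_maximalIdeal (R := X.presheaf.stalk x)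
  have hsum := dim_closure_add_dim_stalk x hreg hcomp hchain
  obtain ⟨j, hj⟩ := ENat.ne_top_iff_exists.mp
    (Assoc.depth_ne_top (R := X.presheaf.stalk x) (F.presheaf.stalk x))
  have hjd := Assoc.depth_le_ringKrullDim (R := X.presheaf.stalk x) (F.presheaf.stalk x)
  rw [← hd, ← hj] at hjd
  replace hjd : j ≤ (maximalIdeal (X.presheaf.stalk x)).spanFinrank := by exact_mod_cast hjd
  haveI : Nonempty ↥(closure ({x} : Set X)) := ⟨⟨x, subset_closure rfl⟩⟩
  haveI : Nonempty (TopologicalSpace.IrreducibleCloseds ↥(closure ({x} : Set X))) :=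
    ⟨⟨closure {⟨x, subset_closure rfl⟩}, isIrreducible_singleton.closure, isClosed_closure⟩⟩
  have hb : topologicalKrullDim ↥(closure ({x} : Set X)) ≠ ⊥ := Order.krullDim_ne_bot_iff.mpr ‹_›
  obtain ⟨a', ha'⟩ := WithBot.ne_bot_iff_exists.mp hb
  have hat : a' ≠ ⊤ := fun h => by
    have h1 : topologicalKrullDim ↥(closure ({x} : Set X)) ≤ topologicalKrullDim X :=
      Topology.IsEmbedding.subtypeVal.isInducing.topologicalKrullDim_le
    rw [← ha', h] at h1
    exact (lt_of_le_of_lt h1 hfin).ne rfl
  obtain ⟨a, rfl⟩ := ENat.ne_top_iff_exists.mp hat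
  refine ⟨a, j, (maximalIdeal (X.presheaf.stalk x)).spanFinrank - j, ha'.symm, hj.symm, ?_, fun c => ?_⟩
  · rw [← hsum, ← ha', ← hd, add_assoc, Nat.add_sub_of_le hjd]
    norm_cast
  · rw [H20.PDDepth.pdle_iff_le_depth_add, ← hj]
    constructor
    · intro h
      have : (maximalIdeal (X.presheaf.stalk x)).spanFinrank ≤ j + c := by exact_mod_cast h
      omega
    · intro h
      exact_mod_cast (show (maximalIdeal (X.presheaf.stalk x)).spanFinrank ≤ j + c by omega)

end Groth.Agent.H47.RegBiequi
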