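import Groth.Agent.H47.GDomain
import Mathlib.RingTheory.Jacobson.Ring
import Mathlib.RingTheory.Localization.Away.Basic
import Mathlib.RingTheory.FiniteType
import Mathlib.RingTheory.Algebraic.Integral

/-!
# Semi-local domains of dimension one, Goldman domains
-/

namespace Groth.Agent.H47.SemiLocal

open Set

universe u

variable {B : Type u} [CommRing B] [IsDomain B]

lemma dim_le_one (h : ∀ P Q : Ideal B, P.IsPrime → Q.IsPrime → P ≠ ⊥ → P ≤ Q → P = Q) :
    Ring.KrullDimLE 1 B :=
  Ring.KrullDimLE.mk₁' fun I hI hIp ↦ by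
    obtain ⟨M, hM, hle⟩ := Ideal.exists_le_maximal I hIp.ne_top
    exact h I M hIp hM.isPrime hI hle ▸ hM

lemma dim_eq_one [h1 : Ring.KrullDimLE 1 B] (hnf : ¬ IsField B) : ringKrullDim B = 1 := by
  refine le_antisymm (Ring.krullDimLE_iff.1 h1) ?_
  by_contra hc
  have : ringKrullDim B ≤ 0 := by
    rcases hb : ringKrullDim B with _ | a
    · exact bot_le
    · rw [hb] at hc
      norm_cast at hc ⊢
      exact WithBot.coe_le_coe.2 (Order.lt_one_iff.1 (not_le.1 fun h ↦ hc (WithBot.coe_le_coe.2 h))).le
  have h0 : Ring.KrullDimLE 0 B := Ring.krullDimLE_iff.2 this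
  exact hnf (Ring.isField_iff_maximal_bot.2 (Ideal.isMaximal_of_isPrime ⊥))

lemma not_semilocal_dim_one [IsJacobsonRing B] [Finite (MaximalSpectrum B)] : ringKrullDim B ≠ 1 := by
  classical
  intro h1
  have := Fintype.ofFinite (MaximalSpectrum B)
  have hprod : ∏ m : MaximalSpectrum B, m.asIdeal ≤ ⊥ := by
    have hj : (⊥ : Ideal B).jacobson = ⊥ := isJacobsonRing_iff_prime_eq.1 ‹_› ⊥ Ideal.isPrime_bot
    refine le_trans ?_ hj.le
    refine le_sInf fun m hm ↦ ?_
    exact Ideal.prod_le_inf.trans (Finset.inf_le (Finset.mem_univ (⟨m, hm.2⟩ : MaximalSpectrum B)))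
  obtain ⟨m, -, hm⟩ := (Ideal.IsPrime.prod_le Ideal.isPrime_bot).1 hprod
  have hf : IsField B := Ring.isField_iff_maximal_bot.2 (le_bot_iff.1 hm ▸ m.isMaximal)
  have : Ring.KrullDimLE 0 B := Ring.KrullDimLE.mk₀ fun I hI ↦ by
    let := hf.toField
    obtain rfl : I = ⊥ := (Ideal.eq_bot_or_top I).resolve_right hI.ne_top
    exact Ring.isField_iff_maximal_bot.1 hf
  exact absurd (h1 ▸ Ring.krullDimLE_iff.1 this) (by norm_num)

lemma isField_away_iff {f : B} (hf : f ≠ 0) :
    IsField (Localization.Away f) ↔ ∀ P : Ideal B, P.IsPrime → P ≠ ⊥ → f ∈ P := by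
  have : IsDomain (Localization.Away f) :=
    IsLocalization.isDomain_localization (powers_le_nonZeroDivisors_of_noZeroDivisors hf)
  have hinj : Function.Injective (algebraMap B (Localization.Away f)) :=
    IsLocalization.injective _ (powers_le_nonZeroDivisors_of_noZeroDivisors hf)
  constructor
  · intro h P hP hPb
    by_contra hfP
    obtain ⟨x, hxP, hx⟩ := Submodule.exists_mem_ne_zero_of_ne_bot hPb
    obtain ⟨y, hy⟩ := h.mul_inv_cancel ((map_ne_zero_iff _ hinj).2 hx)
    obtain ⟨a, ⟨_, n, rfl⟩, rfl⟩ := IsLocalization.exists_mk'_eq (Submonoid.powers f) y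
    rw [IsLocalization.mul_mk'_eq_mk'_of_mul, IsLocalization.mk'_eq_iff_eq_mul, one_mul] at hy
    have : x * a = f ^ n := hinj hy
    exact hfP (hP.mem_of_pow_mem n (this ▸ P.mul_mem_right a hxP))
  · intro h
    refine Ring.isField_iff_maximal_bot.2 ?_
    obtain ⟨M, hM⟩ := Ideal.exists_maximal (Localization.Away f)
    suffices M = ⊥ by rwa [← this]
    have hd := ((IsLocalization.isPrime_iff_isPrime_disjoint (Submonoid.powers f) _ M).1 hM.isPrime)
    by_contra hMb
    have hne : M.comap (algebraMap B (Localization.Away f)) ≠ ⊥ := fun e ↦ hMb (by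
      rw [← IsLocalization.map_under (Submonoid.powers f) _ M]; simp [Ideal.under, e])
    exact Set.disjoint_left.1 hd.2 (Submonoid.mem_powers f) (h _ hd.1 hne)

lemma isOpen_generic_iff :
    IsOpen ({⟨⊥, Ideal.isPrime_bot⟩} : Set (PrimeSpectrum B)) ↔
      ∃ f : B, f ≠ 0 ∧ IsField (Localization.Away f) := by
  constructor
  · intro h
    obtain ⟨_, ⟨f, rfl⟩, hf, hfU⟩ :=
      PrimeSpectrum.isTopologicalBasis_basic_opens.exists_subset_of_mem_open (mem_singleton _) h
    have hf0 : f ≠ 0 := fun e ↦ hf (by simp [e])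
    refine ⟨f, hf0, (isField_away_iff hf0).2 fun P hP hPb ↦ by_contra fun hfP ↦ ?_⟩
    exact hPb (congrArg PrimeSpectrum.asIdeal (hfU (show (⟨P, hP⟩ : PrimeSpectrum B) ∈ _ from hfP)))
  · rintro ⟨f, hf, h⟩
    convert (PrimeSpectrum.basicOpen f).isOpen
    ext P
    refine ⟨fun e ↦ ?_, fun hP ↦ PrimeSpectrum.ext (by_contra fun hne ↦ hP ((isField_away_iff hf).1 h _ P.2 hne))⟩
    rw [mem_singleton_iff.1 e]
    exact fun h0 ↦ hf (Ideal.mem_bot.1 h0)

lemma exists_isField_away_of_finiteType {K : Type*} [Field K] [Algebra B K]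
    (hinj : Function.Injective (algebraMap B K)) [Algebra.FiniteType B K] :
    ∃ f : B, f ≠ 0 ∧ IsField (Localization.Away f) := by
  classical
  obtain ⟨s, hs⟩ := Algebra.FiniteType.out (R := B) (A := K)
  let F := FractionRing B
  let : Algebra F K := (IsFractionRing.lift (K := F) hinj).toAlgebra
  have : IsScalarTower B F K := IsScalarTower.of_algebraMap_eq fun x ↦
    (IsFractionRing.lift_algebraMap hinj x).symm
  have : Algebra.FiniteType F K := Algebra.FiniteType.of_restrictScalars_finiteType B F K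
  have : Module.Finite F K := finite_of_finite_type_of_isJacobsonRing F K
  have halg : ∀ x : K, IsAlgebraic B x := fun x ↦
    (IsFractionRing.isAlgebraic_iff B F K).2 (Algebra.IsAlgebraic.isAlgebraic x)
  choose y hy hint using fun x ↦ (halg x).exists_integral_multiple
  let f := ∏ x ∈ s, y x
  have hf : f ≠ 0 := Finset.prod_ne_zero_iff.2 fun x _ ↦ hy x
  refine ⟨f, hf, ?_⟩
  have hunit : IsUnit (algebraMap B K f) := ((map_ne_zero_iff _ hinj).2 hf).isUnit
  let : Algebra (Localization.Away f) K :=
    (IsLocalization.Away.lift f hunit : Localization.Away f →+* K).toAlgebra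
  have : IsScalarTower B (Localization.Away f) K := IsScalarTower.of_algebraMap_eq fun x ↦
    (IsLocalization.Away.lift_eq f hunit x).symm
  have : IsDomain (Localization.Away f) :=
    IsLocalization.isDomain_localization (powers_le_nonZeroDivisors_of_noZeroDivisors hf)
  have hinj' : Function.Injective (algebraMap (Localization.Away f) K) := by
    refine (IsLocalization.lift_injective_iff (M := Submonoid.powers f) _).2 fun a b ↦ ?_
    rw [(IsLocalization.injective (Localization.Away f)
      (powers_le_nonZeroDivisors_of_noZeroDivisors hf)).eq_iff, hinj.eq_iff]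
  have : Algebra.IsIntegral (Localization.Away f) K := by
    refine ⟨fun x ↦ ?_⟩
    have hle : Algebra.adjoin B (s : Set K) ≤ (integralClosure (Localization.Away f) K).restrictScalars B := by
      refine Algebra.adjoin_le fun z hz ↦ ?_
      have h1 : IsIntegral (Localization.Away f) (y z • z) := (hint z).tower_top
      obtain ⟨u, hu⟩ : IsUnit (algebraMap B (Localization.Away f) (y z)) :=
        isUnit_of_dvd_unit (map_dvd _ (Finset.dvd_prod_of_mem y hz))
          (IsLocalization.Away.algebraMap_isUnit f)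
      have h2 : z = algebraMap (Localization.Away f) K ↑u⁻¹ * (y z • z) := by
        rw [Algebra.smul_def, IsScalarTower.algebraMap_apply B (Localization.Away f) K, ← hu, ← mul_assoc, ← map_mul]
        simp
      show IsIntegral _ _
      rw [h2]
      exact isIntegral_algebraMap.mul h1
    exact hle (hs ▸ Algebra.mem_top)
  exact isField_of_isIntegral_of_isField hinj' (Field.toIsField K)

end Groth.Agent.H47.SemiLocal
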