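import Mathlib.AlgebraicGeometry.GammaSpecAdjunction
import Mathlib.Algebra.Category.Ring.FilteredColimits
import Mathlib.CategoryTheory.Limits.Types.Filtered
import Mathlib.CategoryTheory.Limits.Preserves.Filtered
import Mathlib.AlgebraicGeometry.Morphisms.Affine

/-!
# The spectrum of a directed union of rings is the limit of the spectra
-/

noncomputable section

universe u

open CategoryTheory CategoryTheory.Limits AlgebraicGeometry Opposite

namespace Groth.Agent.H47.SpecLimit

variable {ι : Type u} [Preorder ι] [IsDirectedOrder ι] [Nonempty ι] (F : ι ⥤ CommRingCat.{u})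
  (s : Cocone F)

theorem nonempty_isColimit (hsurj : ∀ a : s.pt, ∃ i, ∃ x : F.obj i, s.ι.app i x = a)
    (hzero : ∀ i, ∀ x : F.obj i, s.ι.app i x = 0 → ∃ j, ∃ f : i ⟶ j, F.map f x = 0) :
    Nonempty (IsColimit s) := by
  haveI : ReflectsColimit F (forget CommRingCat.{u}) :=
    reflectsColimit_of_reflectsIsomorphisms F (forget CommRingCat.{u})
  refine ⟨isColimitOfReflects (forget CommRingCat) (Types.FilteredColimit.isColimitOf _ _ ?_ ?_)⟩
  · intro a
    obtain ⟨i, x, h⟩ := hsurj a
    exact ⟨i, x, h.symm⟩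
  · intro i j x y h
    obtain ⟨k, hik, hjk⟩ := exists_ge_ge i j
    have h' : s.ι.app i x = s.ι.app j y := h
    have hz : s.ι.app k (F.map (homOfLE hik) x - F.map (homOfLE hjk) y) = 0 := by
      rw [map_sub, ← CommRingCat.comp_apply, ← CommRingCat.comp_apply, s.w, s.w, h', sub_self]
    obtain ⟨l, f, hl⟩ := hzero k _ hz
    refine ⟨l, homOfLE hik ≫ f, homOfLE hjk ≫ f, ?_⟩
    show F.map (homOfLE hik ≫ f) x = F.map (homOfLE hjk ≫ f) y
    rw [map_sub, sub_eq_zero] at hl
    rw [F.map_comp, F.map_comp, CommRingCat.comp_apply, CommRingCat.comp_apply, hl]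

/-- the diagram of spectra -/
def diagram : ιᵒᵖ ⥤ Scheme.{u} := F.op ⋙ Scheme.Spec

instance isAffineHom_diagram_map {i j : ιᵒᵖ} (f : i ⟶ j) : IsAffineHom ((diagram F).map f) :=
  inferInstanceAs (IsAffineHom (Spec.map (F.map f.unop)))

instance isAffine_diagram_obj (i : ιᵒᵖ) : IsAffine ((diagram F).obj i) :=
  inferInstanceAs (IsAffine (Spec (F.obj i.unop)))

/-- the cone of spectra -/
def cone : Cone (diagram F) := Scheme.Spec.mapCone s.op

def isLimitCone (h : IsColimit s) : IsLimit (cone F s) :=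
  isLimitOfPreserves Scheme.Spec h.op

end Groth.Agent.H47.SpecLimit
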